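import Cfsg.Agent.Lib.PGroup.NormalAbelian
import Cfsg.Agent.Lib.PGroup.Critical
import Cfsg.Agent.Lib.Cores.Basic
import Cfsg.Agent.Lib.Solvable.Fitting
import Cfsg.Agent.Lib.Coprime.Basic
import Cfsg.Agent.Lib.Signalizer.PAction

/-!
A solvable group of odd order and `p`-rank at most 2 has `O_{p',p}` of index prime to `p`.
* `normal_sylow_of_action` : an odd order group acting faithfully on an abelian group of exponent
  `p` and order at most `p ^ 2` has a normal Sylow `p`-subgroup (counting lines: `p + 1` is even)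
* `index_pPrimePCore_coprime_of_rank_two`
-/

set_option autoImplicit false

namespace Cfsg.Agent.RankTwoPLength

open scoped Pointwise commutatorElement

variable {p : ℕ} [hp : Fact p.Prime]

/-! ### Odd order groups acting on a group of order `p ^ 2` -/

theorem exists_fixed {V Y : Type*} [Group V] [Finite V] [Group Y] (hY : IsPGroup p Y)
    (hV : IsPGroup p V) (φ : Y →* MulAut V) (D : Subgroup V) (hD : ∀ y, ∀ d ∈ D, φ y d ∈ D)
    (hD1 : D ≠ ⊥) : ∃ d ∈ D, d ≠ 1 ∧ ∀ y, φ y d = d := by
  let act : MulAction Y D :=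
    { smul := fun y d => ⟨φ y d, hD y d d.2⟩
      one_smul := fun d => Subtype.ext (by show φ 1 (d : V) = d; simp)
      mul_smul := fun a b d => Subtype.ext (by show φ (a * b) (d : V) = φ a (φ b d); simp) }
  have : Nontrivial D := (Subgroup.nontrivial_iff_ne_bot D).2 hD1
  have hdvd : p ∣ Nat.card D := by
    obtain ⟨n, hn, hc⟩ := (hV.to_subgroup D).nontrivial_iff_card.1 inferInstance
    exact hc ▸ dvd_pow_self p (Nat.pos_iff_ne_zero.1 hn)
  have h1 : (1 : D) ∈ MulAction.fixedPoints Y D := fun y => Subtype.ext (map_one (φ y))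
  obtain ⟨d, hd, hne⟩ := hY.exists_fixed_point_of_prime_dvd_card_of_fixed_point D hdvd h1
  exact ⟨d, d.2, fun h => hne (Subtype.ext h.symm), fun y => congrArg Subtype.val (hd y)⟩

theorem normal_sylow_of_action {V Y : Type*} [CommGroup V] [Finite V] [Group Y] [Finite Y]
    (hexp : ∀ v : V, v ^ p = 1) (hcard : Nat.card V ≤ p ^ 2) (hodd : Odd (Nat.card Y))
    (φ : Y →* MulAut V) (hφ : Function.Injective φ) (hp2 : p ≠ 2) (P : Sylow p Y) :
    (P : Subgroup Y).Normal := by
  classical
  have hV : IsPGroup p V := fun v => ⟨1, by rw [pow_one]; exact hexp v⟩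
  by_cases hP1 : (P : Subgroup Y) = ⊥
  · rw [hP1]; infer_instance
  let Line := {L : Subgroup V // Nat.card L = p}
  -- the stabiliser of a chain `1 ≤ L ≤ V`
  let U : Line → Subgroup Y := fun L =>
    { carrier := {y | (∀ z ∈ L.1, φ y z = z) ∧ ∀ v, φ y v * v⁻¹ ∈ L.1}
      one_mem' := ⟨fun z _ => by simp, fun v => by simp⟩
      mul_mem' := by
        rintro a b ⟨ha, ha'⟩ ⟨hb, hb'⟩
        refine ⟨fun z hz => ?_, fun v => ?_⟩
        · rw [map_mul, MulAut.mul_apply, hb z hz, ha z hz]
        · have h := mul_mem (ha' (φ b v)) (hb' v)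
          rw [map_mul, MulAut.mul_apply]
          rwa [mul_assoc, inv_mul_cancel_left] at h
      inv_mem' := by
        rintro a ⟨ha, ha'⟩
        have h1 : ∀ w, φ a (φ a⁻¹ w) = w := fun w => by
          rw [← MulAut.mul_apply, ← map_mul, mul_inv_cancel, map_one, MulAut.one_apply]
        refine ⟨fun z hz => ?_, fun v => ?_⟩
        · conv_lhs => rw [← ha z hz]
          rw [← MulAut.mul_apply, ← map_mul, inv_mul_cancel, map_one, MulAut.one_apply]
        · have h := inv_mem (ha' (φ a⁻¹ v))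
          rwa [h1, mul_inv_rev, inv_inv] at h }
  have hU : ∀ L, IsPGroup p (U L) := by
    rintro L ⟨y, hy, hy'⟩
    refine ⟨1, Subtype.ext (hφ ?_)⟩
    have key : ∀ (n : ℕ) (v : V), φ (y ^ n) v = (φ y v * v⁻¹) ^ n * v := by
      intro n
      induction n with
      | zero => intro v; simp
      | succ n ih =>
        intro v
        rw [pow_succ', map_mul, MulAut.mul_apply, ih, map_mul, map_pow, hy _ (hy' v), pow_succ,
          mul_assoc, inv_mul_cancel_right]
    ext v
    rw [pow_one, OneMemClass.coe_one, map_one, MulAut.one_apply, SubgroupClass.coe_pow, key,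
      hexp, one_mul]
  have hex : ∀ S : Sylow p Y, ∃ L : Line, (S : Subgroup Y) = U L := by
    intro S
    obtain ⟨s, hs, hs1⟩ := (Subgroup.bot_or_exists_ne_one (S : Subgroup Y)).resolve_left (by
      intro h
      apply hP1
      rw [← Subgroup.card_eq_one, P.card_eq_multiplicity, ← S.card_eq_multiplicity,
        Subgroup.card_eq_one]
      exact h)
    have hVnt : Nontrivial V := by
      by_contra h
      rw [not_nontrivial_iff_subsingleton] at h
      exact hs1 (hφ (by ext v; exact Subsingleton.elim _ _))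
    obtain ⟨z, -, hz1, hz⟩ := exists_fixed S.2 hV (φ.comp (S : Subgroup Y).subtype) ⊤
      (fun _ _ _ => Subgroup.mem_top _) top_ne_bot
    have hzc : Nat.card (Subgroup.zpowers z) = p := by
      rw [Nat.card_zpowers]; exact orderOf_eq_prime (hexp z) hz1
    refine ⟨⟨Subgroup.zpowers z, hzc⟩, (S.3 (hU _) fun y hy => ?_).symm⟩
    have hfix : φ y z = z := hz ⟨y, hy⟩
    refine ⟨fun w hw => ?_, fun v => ?_⟩
    · obtain ⟨i, rfl⟩ := hw
      rw [map_zpow, hfix]
    · let f : V →* V := MonoidHom.mk' (fun v => φ y v * v⁻¹) (fun a b => by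
        rw [map_mul, mul_inv]; ac_rfl)
      change f v ∈ Subgroup.zpowers z
      by_cases hy1 : f = 1
      · rw [hy1]; exact one_mem _
      have hkerz : Subgroup.zpowers z ≤ f.ker := by
        rw [Subgroup.zpowers_le, MonoidHom.mem_ker]
        show φ y z * z⁻¹ = 1
        rw [hfix, mul_inv_cancel]
      have hrange1 : f.range ≠ ⊥ := fun h => hy1 (MonoidHom.range_eq_bot_iff.1 h)
      obtain ⟨d, hd, hd1, hdfix⟩ := exists_fixed
        ((S.2.to_le (Subgroup.zpowers_le.2 hy) : IsPGroup p (Subgroup.zpowers y))) hV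
        (φ.comp (Subgroup.zpowers y).subtype) f.range (by
          rintro ⟨w, i, rfl⟩ _ ⟨v, rfl⟩
          refine ⟨φ (y ^ i) v, ?_⟩
          show φ y (φ (y ^ i) v) * (φ (y ^ i) v)⁻¹ = φ (y ^ i) (φ y v * v⁻¹)
          rw [map_mul, map_inv, ← MulAut.mul_apply, ← map_mul, ← MulAut.mul_apply, ← map_mul,
            (Commute.self_zpow y i).eq])
        hrange1
      have hdker : d ∈ f.ker := by
        rw [MonoidHom.mem_ker]
        show φ y d * d⁻¹ = 1
        rw [show φ y d = d from hdfix ⟨y, Subgroup.mem_zpowers y⟩, mul_inv_cancel]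
      have hcf : Nat.card f.range * Nat.card f.ker = Nat.card V := by
        rw [← Subgroup.index_ker, mul_comm]; exact Subgroup.card_mul_index _
      obtain ⟨a, ha⟩ := (hV.to_subgroup f.range).exists_card_eq
      obtain ⟨b, hb⟩ := (hV.to_subgroup f.ker).exists_card_eq
      have hb1 : p ≤ Nat.card f.ker := hzc ▸ Subgroup.card_le_of_le hkerz
      have ha1 : 1 < Nat.card f.range :=
        Finite.one_lt_card_iff_nontrivial.2 ((Subgroup.nontrivial_iff_ne_bot _).2 hrange1)
      rw [ha] at ha1 hcf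
      rw [hb] at hb1 hcf
      have hab : a + b ≤ 2 := (Nat.pow_le_pow_iff_right hp.out.one_lt).1 (by
        rw [pow_add, hcf]; exact hcard)
      have ha0 : a ≠ 0 := by rintro rfl; simp at ha1
      have hb0 : b ≠ 0 := by
        rintro rfl
        simp only [pow_zero] at hb1
        exact absurd hb1 (not_le_of_gt hp.out.one_lt)
      have hker : Subgroup.zpowers z = f.ker := Subgroup.eq_of_le_of_card_ge hkerz (by
        rw [hb, hzc, show b = 1 by omega, pow_one])
      have hrz : Subgroup.zpowers d = f.range := Subgroup.eq_of_le_of_card_ge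
        (Subgroup.zpowers_le.2 hd) (by
          rw [ha, Nat.card_zpowers, orderOf_eq_prime (hexp d) hd1, show a = 1 by omega, pow_one])
      have hdz : f.range ≤ Subgroup.zpowers z := by
        rw [← hrz, Subgroup.zpowers_le, hker]; exact hdker
      exact hdz ⟨v, rfl⟩
  choose line hline using hex
  have hinj : Function.Injective line := fun S S' h => Sylow.ext (by rw [hline, hline, h])
  -- there are at most `p + 1` lines
  have hlines : Nat.card Line * (p - 1) + 1 ≤ p ^ 2 := by
    refine le_trans ?_ hcard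
    let F : (Σ L : Line, {v : L.1 // v ≠ 1}) → {v : V // v ≠ 1} := fun w =>
      ⟨(w.2.1 : V), fun h => w.2.2 (Subtype.ext h)⟩
    have hF : Function.Injective F := by
      rintro ⟨L, v, hv⟩ ⟨L', v', hv'⟩ h
      have hvv : (v : V) = v' := congrArg (fun w : {v : V // v ≠ 1} => (w : V)) h
      have gen : ∀ (M : Line) (w : M.1), w ≠ 1 → Subgroup.zpowers (w : V) = M.1 := fun M w hw =>
        Subgroup.eq_of_le_of_card_ge (Subgroup.zpowers_le.2 w.2) (by
          rw [M.2, Nat.card_zpowers,
            orderOf_eq_prime (hexp (w : V)) (fun h => hw (Subtype.ext h))])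
      obtain rfl : L = L' := Subtype.ext (by rw [← gen L v hv, ← gen L' v' hv', hvv])
      obtain rfl : v = v' := Subtype.ext hvv
      rfl
    have h1 := Nat.card_le_card_of_injective F hF
    have h2 : Nat.card (Σ L : Line, {v : L.1 // v ≠ 1}) = Nat.card Line * (p - 1) := by
      have hline' : ∀ L : Line, Nat.card {v : L.1 // v ≠ 1} = p - 1 := fun L => by
        have := Fintype.ofFinite L.1
        rw [Nat.card_eq_fintype_card, Fintype.card_subtype_compl, Fintype.card_subtype_eq,
          ← Nat.card_eq_fintype_card, L.2]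
      have := Fintype.ofFinite Line
      rw [Nat.card_sigma, Finset.sum_congr rfl fun L _ => hline' L, Finset.sum_const, smul_eq_mul,
        Finset.card_univ, Nat.card_eq_fintype_card]
    have h3 : Nat.card {v : V // v ≠ 1} + 1 = Nat.card V := by
      have := Fintype.ofFinite V
      rw [Nat.card_eq_fintype_card, Nat.card_eq_fintype_card, Fintype.card_subtype_compl,
        Fintype.card_subtype_eq]
      exact Nat.sub_add_cancel (Fintype.card_pos)
    omega
  have hn : Nat.card (Sylow p Y) ≤ Nat.card Line := Nat.card_le_card_of_injective line hinj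
  have hnodd : Odd (Nat.card (Sylow p Y)) :=
    hodd.of_dvd_nat (P.card_dvd_index.trans (Subgroup.index_dvd_card _))
  have hn1 : Nat.card (Sylow p Y) = 1 := by
    have h2p := hp.out.two_le
    obtain ⟨k, hk⟩ : p ∣ Nat.card (Sylow p Y) - 1 :=
      (Nat.modEq_iff_dvd' Nat.card_pos).1 (card_sylow_modEq_one p Y).symm
    have hpos : 0 < Nat.card (Sylow p Y) := Nat.card_pos
    obtain ⟨j, hj⟩ := hp.out.odd_of_ne_two hp2
    obtain ⟨i, hi⟩ := hnodd
    have hsq : p ^ 2 = (p - 1) * (p + 1) + 1 := by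
      obtain ⟨m, rfl⟩ : ∃ m, p = m + 1 := ⟨p - 1, by omega⟩
      simp only [Nat.add_sub_cancel]; ring
    have hle : Nat.card Line ≤ p + 1 := by
      have : Nat.card Line * (p - 1) ≤ (p + 1) * (p - 1) := by
        rw [Nat.mul_comm (p + 1)]; omega
      exact Nat.le_of_mul_le_mul_right this (by omega)
    rcases Nat.lt_or_ge k 2 with hk2 | hk2
    · interval_cases k
      · omega
      · omega
    · have : p * 2 ≤ p * k := Nat.mul_le_mul_left p hk2
      omega
  have : Subsingleton (Sylow p Y) := (Nat.card_eq_one_iff_unique.1 hn1).1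
  exact P.normal_of_subsingleton

/-! ### The structure of `Q / O_p(Q)` -/

variable {Q : Type*} [Group Q] [Finite Q]

theorem exists_normal_of_normal_sq (hodd : Odd (Nat.card Q)) (hp2 : p ≠ 2) (V : Subgroup Q)
    [V.Normal] (hVc : ∀ a ∈ V, ∀ b ∈ V, a * b = b * a) (hexp : ∀ v ∈ V, v ^ p = 1)
    (hcard : Nat.card V ≤ p ^ 2)
    (hC : IsPGroup p (Subgroup.centralizer (V : Set Q))) :
    ∃ J : Subgroup Q, J.Normal ∧ IsPGroup p J ∧ ¬ p ∣ J.index := by
  let _ : CommGroup V :=
    { (inferInstance : Group V) with mul_comm := fun a b => Subtype.ext (hVc _ a.2 _ b.2) }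
  set φ : Q →* MulAut V := MulAut.conjNormal with hφ
  have hker : φ.ker ≤ Subgroup.centralizer (V : Set Q) := by
    intro q hq
    refine Subgroup.mem_centralizer_iff.2 fun v hv => ?_
    have h := congrArg (fun e : MulAut V => ((e ⟨v, hv⟩ : V) : Q)) (MonoidHom.mem_ker.1 hq)
    simp only [hφ, MulAut.conjNormal_apply, MulAut.one_apply] at h
    rw [mul_inv_eq_iff_eq_mul] at h
    exact h.symm
  obtain ⟨P⟩ := (inferInstance : Nonempty (Sylow p φ.range))
  have hPn := normal_sylow_of_action (V := V) (fun v => Subtype.ext (hexp v v.2)) hcard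
    (hodd.of_dvd_nat (Subgroup.card_range_dvd φ)) φ.range.subtype φ.range.subtype_injective hp2 P
  refine ⟨(P : Subgroup φ.range).comap φ.rangeRestrict, hPn.comap _,
    P.2.comap_of_ker_isPGroup _ ?_, ?_⟩
  · rw [MonoidHom.ker_rangeRestrict]
    exact hC.to_le hker
  · rw [Subgroup.index_comap_of_surjective _ φ.rangeRestrict_surjective]
    exact P.not_dvd_index

/-- A `p`-group all of whose abelian subgroups of exponent `p` have order `≤ p ^ 2`, and which has
exponent `p`, has order `≤ p ^ 3`. -/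
theorem card_le_cube {R : Type*} [Group R] [Finite R] (hR : IsPGroup p R) (hexp : ∀ x : R, x ^ p = 1)
    (hr : Cfsg.PRankLE p 2 R) : Nat.card R ≤ p ^ 3 := by
  obtain ⟨A, -, hmax⟩ := Finite.exists_le_maximal (α := Subgroup R)
    (p := fun A => A.Normal ∧ ∀ a ∈ A, ∀ b ∈ A, a * b = b * a) (a := ⊥)
    ⟨inferInstance, fun a ha b hb => by
      rw [Subgroup.mem_bot.1 ha, Subgroup.mem_bot.1 hb]⟩
  have := hmax.prop.1
  have hC := PGroup.centralizer_eq_of_maximal_normal_abelian hR hmax.prop.2
    fun B h1 h2 hAB => le_antisymm (hmax.2 ⟨h1, h2⟩ hAB) hAB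
  obtain ⟨a, ha⟩ := (hR.to_subgroup A).exists_card_eq
  have hA2 : Nat.card A ≤ p ^ 2 :=
    hr A ⟨⟨fun x y => Subtype.ext (hmax.prop.2 _ x.2 _ y.2)⟩⟩ fun x _ => hexp x
  have ha2 : a ≤ 2 := by
    rw [ha] at hA2; exact (Nat.pow_le_pow_iff_right hp.out.one_lt).1 hA2
  have hidx := PGroup.index_centralizer_le hR a A inferInstance ha
  rw [hC] at hidx
  have ha1 : a.choose 2 ≤ 1 := by interval_cases a <;> decide
  calc Nat.card R = Nat.card A * A.index := (Subgroup.card_mul_index A).symm
    _ ≤ p ^ 2 * p ^ 1 := Nat.mul_le_mul hA2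
        (hidx.trans (Nat.pow_le_pow_right hp.out.pos (by interval_cases a <;> decide)))
    _ = p ^ 3 := by rw [← pow_add]

theorem index_pCore_coprime [Group.IsSolvable Q] (hodd : Odd (Nat.card Q)) (hp2 : p ≠ 2)
    (hr : Cfsg.PRankLE p 2 Q) (h1 : Cfsg.pPrimeCore p Q = ⊥) :
    ¬ p ∣ (Cfsg.pCore p Q).index := by
  set R := Cfsg.pCore p Q with hRdef
  have hRn : R.Normal := Subgroup.sSup_normal _ fun _ h => h.1
  have hRp : IsPGroup p R := Cores.isPGroup_pCore p Q
  have hC : Subgroup.centralizer (R : Set Q) ≤ R :=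
    Solvable.centralizer_pCore_le_of_isSolvable h1
  obtain ⟨H, hH⟩ := PGroup.exists_critical hRp
  have := hH.char
  have hHn : (H.map R.subtype).Normal := Cores.map_subtype_normal_of_characteristic R H
  have hHc : ∀ a ∈ H.map R.subtype, ∀ b ∈ H.map R.subtype, ∀ c ∈ H.map R.subtype,
      Commute ⁅a, b⁆ c := by
    rintro _ ⟨a, ha, rfl⟩ _ ⟨b, hb, rfl⟩ _ ⟨c, hc, rfl⟩
    have h := Subgroup.mem_centralizer_iff.1 (hH.comm_mem a ha b).2 c hc
    rw [← map_commutatorElement]
    exact ((show Commute ⁅a, b⁆ c from h.symm).map R.subtype)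
  have hmul : ∀ x ∈ H.map R.subtype, ∀ y ∈ H.map R.subtype, x ^ p = 1 → y ^ p = 1 →
      (x * y) ^ p = 1 := by
    intro x hx y hy hxp hyp
    have h := PGroup.mul_pow_classTwo (G := H.map R.subtype) hp.out hp2
      (fun a b => Subgroup.mem_center_iff.2 fun c =>
        Subtype.ext (by
          simpa [commutatorElement_def] using (hHc _ a.2 _ b.2 _ c.2).eq.symm))
      (x := ⟨x, hx⟩) (y := ⟨y, hy⟩) (by
        rw [show (⟨y, hy⟩ : H.map R.subtype) ^ p = 1 from Subtype.ext hyp]; exact one_mem _)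
    rw [show (⟨y, hy⟩ : H.map R.subtype) ^ p = 1 from Subtype.ext hyp,
      show (⟨x, hx⟩ : H.map R.subtype) ^ p = 1 from Subtype.ext hxp, one_mul] at h
    exact congrArg Subtype.val h
  let Ω : Subgroup Q :=
    { carrier := {x | x ∈ H.map R.subtype ∧ x ^ p = 1}
      one_mem' := ⟨one_mem _, one_pow _⟩
      mul_mem' := fun ha hb => ⟨mul_mem ha.1 hb.1, hmul _ ha.1 _ hb.1 ha.2 hb.2⟩
      inv_mem' := fun ha => ⟨inv_mem ha.1, by rw [inv_pow, ha.2, inv_one]⟩ }
  have hΩn : Ω.Normal := ⟨fun x hx g => ⟨hHn.conj_mem x hx.1 g, by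
    rw [conj_pow, hx.2, mul_one, mul_inv_cancel]⟩⟩
  -- every element of prime order `≠ p` acts nontrivially on `Ω`
  have hK : ∀ k ∈ Subgroup.centralizer (Ω : Set Q), (orderOf k).Coprime p → k = 1 := by
    intro k hk hko
    have ha : MulAut.conjNormal (H := R) k = 1 := by
      refine PGroup.aut_eq_one_of_fix_omega_critical hp2 hRp
        (hko.coprime_dvd_left (orderOf_map_dvd (MulAut.conjNormal (H := R)) k)) hH
        fun x hx hxp => Subtype.ext ?_
      have hxΩ : (x : Q) ∈ Ω := ⟨⟨x, hx, rfl⟩, by rw [← SubgroupClass.coe_pow, hxp]; rfl⟩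
      rw [MulAut.conjNormal_apply, ← Subgroup.mem_centralizer_iff.1 hk _ hxΩ,
        mul_inv_cancel_right]
    have hkR : k ∈ R := hC (Subgroup.mem_centralizer_iff.2 fun v hv => by
      have h := congrArg (fun e : MulAut R => ((e ⟨v, hv⟩ : R) : Q)) ha
      simp only [MulAut.conjNormal_apply, MulAut.one_apply] at h
      rw [mul_inv_eq_iff_eq_mul] at h
      exact h.symm)
    obtain ⟨n, hn⟩ := hRp ⟨k, hkR⟩
    have hd : orderOf k ∣ p ^ n := orderOf_dvd_of_pow_eq_one (by
      simpa using congrArg Subtype.val hn)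
    exact orderOf_eq_one_iff.1 (Nat.eq_one_of_dvd_coprimes (hko.pow_right n) dvd_rfl hd)
  have hJ : ∀ {T : Subgroup Q}, (∀ x ∈ T, (orderOf x).Prime → orderOf x = p) → IsPGroup p T := by
    intro T hT
    refine IsPGroup.iff_orderOf.2 fun x => ⟨_, Nat.eq_prime_pow_of_unique_prime_dvd
      (orderOf_pos x).ne' fun {d} hd hdvd => ?_⟩
    obtain ⟨y, hy⟩ : ∃ y : T, orderOf y = d :=
      ⟨x ^ (orderOf x / d), orderOf_pow_orderOf_div (orderOf_pos x).ne' hdvd⟩
    have := hT y y.2
    rw [Subgroup.orderOf_coe, hy] at this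
    exact this hd
  suffices ∃ J : Subgroup Q, J.Normal ∧ IsPGroup p J ∧ ¬ p ∣ J.index by
    obtain ⟨J, hJn, hJp, hJi⟩ := this
    exact fun h => hJi (h.trans (Subgroup.index_dvd_of_le (Cores.le_pCore hJn hJp)))
  have hΩr : Cfsg.PRankLE p 2 Ω := fun A hA hA' => by
    have h := hr (A.map Ω.subtype) inferInstance (by
      rintro _ ⟨a, ha, rfl⟩
      rw [← map_pow, hA' a ha, map_one])
    rwa [Cores.card_map_subtype] at h
  have hΩp : IsPGroup p Ω := fun x => ⟨1, Subtype.ext (by rw [pow_one]; exact x.2.2)⟩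
  have hΩ3 : Nat.card Ω ≤ p ^ 3 := card_le_cube hΩp (fun x => Subtype.ext x.2.2) hΩr
  by_cases hab : ∀ a ∈ Ω, ∀ b ∈ Ω, a * b = b * a
  · refine exists_normal_of_normal_sq hodd hp2 Ω hab (fun v hv => hv.2) ?_ (hJ fun x hx hpr => ?_)
    · have h := hΩr ⊤ ⟨⟨fun x y => Subtype.ext (Subtype.ext (hab _ x.1.2 _ y.1.2))⟩⟩
        fun a _ => Subtype.ext a.2.2
      rwa [Nat.card_congr Subgroup.topEquiv.toEquiv] at h
    · by_contra hne
      have h1 := hK x hx ((Nat.coprime_primes hpr hp.out).2 hne)
      rw [h1, orderOf_one] at hpr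
      exact Nat.not_prime_one hpr
  push Not at hab
  obtain ⟨a, ha, b, hb, hab⟩ := hab
  set Z := Ω ⊓ Subgroup.centralizer (Ω : Set Q) with hZdef
  have hZn : Z.Normal := inferInstance
  set c := ⁅a, b⁆ with hcdef
  have hcne : c ≠ 1 := fun h => hab (commutatorElement_eq_one_iff_mul_comm.1 h)
  have hcZ : c ∈ Z := by
    refine ⟨?_, Subgroup.mem_centralizer_iff.2 fun w hw => (hHc a ha.1 b hb.1 w hw.1).eq.symm⟩
    rw [hcdef, commutatorElement_def]
    exact Ω.mul_mem (Ω.mul_mem (Ω.mul_mem ha hb) (Ω.inv_mem ha)) (Ω.inv_mem hb)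
  have hZp : Nat.card Z = p := by
    have hcp : Nat.card (Subgroup.zpowers c) = p := by
      rw [Nat.card_zpowers]; exact orderOf_eq_prime hcZ.1.2 hcne
    obtain ⟨k, hk⟩ := (hΩp.to_le (inf_le_left : Z ≤ Ω)).exists_card_eq
    rw [hk]
    have hk1 : k ≠ 0 := by
      rintro rfl
      have h := Subgroup.card_le_of_le (Subgroup.zpowers_le.2 hcZ)
      rw [hcp, hk, pow_zero] at h
      exact absurd h (not_le_of_gt hp.out.one_lt)
    by_contra hne
    have hk2 : 2 ≤ k := by
      rcases Nat.lt_or_ge k 2 with h | h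
      · exact absurd (by rw [show k = 1 by omega, pow_one]) hne
      · exact h
    obtain ⟨x, hx, hxZ⟩ : ∃ x ∈ Ω, x ∉ Z := by
      by_contra hcon
      push Not at hcon
      exact hab (Subgroup.mem_centralizer_iff.1 (hcon b hb).2 a ha)
    have hZΩ : (Z.subgroupOf Ω).Normal := hZn.comap _
    have hsup := PGroup.eq_sup_zpowers_of_card hΩp (A := Z.subgroupOf Ω) (K := ⊤) le_top (by
      rw [Nat.card_congr Subgroup.topEquiv.toEquiv, Cores.card_subgroupOf inf_le_left, hk]
      calc Nat.card Ω ≤ p ^ 3 := hΩ3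
        _ = p * p ^ 2 := pow_succ' p 2
        _ ≤ p * p ^ k := Nat.mul_le_mul_left p (Nat.pow_le_pow_right hp.out.pos hk2))
      (x := ⟨x, hx⟩) (Subgroup.mem_top _) hxZ
    have hcomm := PGroup.sup_zpowers_comm (A := Z.subgroupOf Ω)
      (fun u hu v _ => Subtype.ext (Subgroup.mem_centralizer_iff.1 hu.2 v v.2).symm)
      (x := ⟨x, hx⟩) (Subgroup.mem_centralizer_iff.2 fun u hu =>
        Subtype.ext (Subgroup.mem_centralizer_iff.1 hu.2 x hx).symm)
    rw [hsup] at hcomm
    exact hab (congrArg Subtype.val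
      (hcomm (⟨a, ha⟩ : Ω) (Subgroup.mem_top _) ⟨b, hb⟩ (Subgroup.mem_top _)))
  -- pass to `Q / Z`
  set f := QuotientGroup.mk' Z with hf
  have hsurj : Function.Surjective f := QuotientGroup.mk'_surjective Z
  have hcZ' : Subgroup.zpowers c = Z := Subgroup.eq_of_le_of_card_ge (Subgroup.zpowers_le.2 hcZ)
    (by rw [hZp, Nat.card_zpowers, orderOf_eq_prime hcZ.1.2 hcne])
  have hVn : (Ω.map f).Normal := hΩn.map f hsurj
  obtain ⟨J, hJn, hJp, hJi⟩ := exists_normal_of_normal_sq (Q := Q ⧸ Z)
    (hodd.of_dvd_nat (Subgroup.card_quotient_dvd_card Z)) hp2 (Ω.map f)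
    (by
      rintro _ ⟨u, hu, rfl⟩ _ ⟨v, hv, rfl⟩
      have hmem : ⁅u, v⁆ ∈ Z := by
        refine ⟨?_, Subgroup.mem_centralizer_iff.2 fun w hw => (hHc u hu.1 v hv.1 w hw.1).eq.symm⟩
        rw [commutatorElement_def]
        exact Ω.mul_mem (Ω.mul_mem (Ω.mul_mem hu hv) (Ω.inv_mem hu)) (Ω.inv_mem hv)
      have h := (QuotientGroup.eq_one_iff _).2 hmem
      rw [← QuotientGroup.mk'_apply Z, map_commutatorElement] at h
      exact commutatorElement_eq_one_iff_mul_comm.1 h)
    (by
      rintro _ ⟨u, hu, rfl⟩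
      rw [← map_pow, hu.2, map_one])
    (by
      have h1 : Nat.card ↥(Ω.map f) * Nat.card Z = Nat.card Ω := by
        rw [mul_comm]
        exact (Cores.card_map_mul_ker f Ω (by rw [QuotientGroup.ker_mk']; exact inf_le_left)) |>
          fun h => by rw [QuotientGroup.ker_mk'] at h; linarith
      rw [hZp] at h1
      refine Nat.le_of_mul_le_mul_right ?_ hp.out.pos
      rw [h1, ← pow_succ]
      exact hΩ3)
    (by
      -- the centraliser of `Ω / Z`
      set C2 := (Subgroup.centralizer (Ω.map f : Set (Q ⧸ Z))).comap f with hC2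
      have hC2p : IsPGroup p C2 := hJ fun x hx hpr => by
        by_contra hne
        have hxp : IsPGroup (orderOf x) (Subgroup.zpowers x) :=
          IsPGroup.of_card (n := 1) (by rw [Nat.card_zpowers, pow_one])
        have : Fact (orderOf x).Prime := ⟨hpr⟩
        have hZne : ¬ orderOf x ∣ Nat.card Z := by
          rw [hZp]; exact fun h => hne ((Nat.prime_dvd_prime_iff_eq hpr hp.out).1 h)
        have hdec : ∀ u ∈ Ω, ∃ n ∈ Z, n * u ∈ Subgroup.centralizer (Subgroup.zpowers x : Set Q) := by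
          intro u hu
          refine Signalizer.exists_fixed_in_coset hxp
            (by rw [Subgroup.normalizer_eq_top_iff.2 hZn]; exact le_top) hZne u fun w hw => ?_
          have hwC : w ∈ C2 := Subgroup.zpowers_le.2 hx hw
          rw [← QuotientGroup.eq_one_iff, ← QuotientGroup.mk'_apply Z, map_mul, map_mul, map_mul,
            map_inv, map_inv, ← Subgroup.mem_centralizer_iff.1 hwC (f u) ⟨u, hu, rfl⟩,
            mul_inv_cancel_right, mul_inv_cancel]
        obtain ⟨n, hn, hna⟩ := hdec a ha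
        obtain ⟨m, hm, hmb⟩ := hdec b hb
        have hc' : c ∈ Subgroup.centralizer (Subgroup.zpowers x : Set Q) := by
          have h : ⁅n * a, m * b⁆ = c := by
            have e1 : Commute n a := (Subgroup.mem_centralizer_iff.1 hn.2 a ha).symm
            have e2 : Commute n b := (Subgroup.mem_centralizer_iff.1 hn.2 b hb).symm
            have e3 : Commute m a := (Subgroup.mem_centralizer_iff.1 hm.2 a ha).symm
            have e4 : Commute m b := (Subgroup.mem_centralizer_iff.1 hm.2 b hb).symm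
            have e5 : Commute n m := (Subgroup.mem_centralizer_iff.1 hn.2 m hm.1).symm
            calc ⁅n * a, m * b⁆ = n * (a * m) * b * a⁻¹ * n⁻¹ * b⁻¹ * m⁻¹ := by
                  rw [commutatorElement_def]; group
              _ = (n * m) * a * b * a⁻¹ * (n⁻¹ * b⁻¹) * m⁻¹ := by
                  rw [← e3.eq]; group
              _ = (m * n) * a * b * a⁻¹ * (b⁻¹ * n⁻¹) * m⁻¹ := by
                  rw [e5.eq, (e2.inv_inv).eq]
              _ = m * (n * (a * b * a⁻¹ * b⁻¹) * n⁻¹) * m⁻¹ := by group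
              _ = c := by
                  have hc1 : Commute n c := (Subgroup.mem_centralizer_iff.1 hn.2 c hcZ.1).symm
                  have hc2 : Commute m c := (Subgroup.mem_centralizer_iff.1 hm.2 c hcZ.1).symm
                  rw [← commutatorElement_def, ← hcdef, hc1.eq, mul_inv_cancel_right, hc2.eq,
                    mul_inv_cancel_right]
          rw [← h, commutatorElement_def]
          exact Subgroup.mul_mem _ (Subgroup.mul_mem _ (Subgroup.mul_mem _ hna hmb)
            (Subgroup.inv_mem _ hna)) (Subgroup.inv_mem _ hmb)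
        have hxK : x ∈ Subgroup.centralizer (Ω : Set Q) := by
          refine Subgroup.mem_centralizer_iff.2 fun u hu => ?_
          obtain ⟨n', hn', hnu⟩ := hdec u hu
          have hn'C : n' ∈ Subgroup.centralizer (Subgroup.zpowers x : Set Q) := by
            have h6 : Z ≤ Subgroup.centralizer (Subgroup.zpowers x : Set Q) := by
              rw [← hcZ']; exact Subgroup.zpowers_le.2 hc'
            exact h6 hn'
          have := Subgroup.mul_mem _ (Subgroup.inv_mem _ hn'C) hnu
          rw [inv_mul_cancel_left] at this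
          exact (Subgroup.mem_centralizer_iff.1 this x (Subgroup.mem_zpowers x)).symm
        have h1' := hK x hxK ((Nat.coprime_primes hpr hp.out).2 hne)
        rw [h1', orderOf_one] at hpr
        exact Nat.not_prime_one hpr
      have h5 : C2.map f = Subgroup.centralizer (Ω.map f : Set (Q ⧸ Z)) :=
        Subgroup.map_comap_eq_self_of_surjective hsurj _
      rw [← h5]
      exact hC2p.map f)
  refine ⟨J.comap f, hJn.comap f, hJp.comap_of_ker_isPGroup f ?_, ?_⟩
  · rw [QuotientGroup.ker_mk']; exact hΩp.to_le inf_le_left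
  · rw [Subgroup.index_comap_of_surjective _ hsurj]; exact hJi

theorem pRankLE_quotient_pPrimeCore {X : Type*} [Group X] [Finite X] {k : ℕ}
    (hr : Cfsg.PRankLE p k X) (N : Subgroup X) [N.Normal] (hN : ¬ p ∣ Nat.card N) :
    Cfsg.PRankLE p k (X ⧸ N) := by
  intro E hEc hEe
  set f := QuotientGroup.mk' N with hf
  let g : ↥(E.comap f) →* E := (f.comp (E.comap f).subtype).codRestrict E fun x => x.2
  have hg : Function.Surjective g := by
    rintro ⟨e, he⟩
    obtain ⟨x, rfl⟩ := QuotientGroup.mk'_surjective N e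
    exact ⟨⟨x, he⟩, rfl⟩
  have hEp : IsPGroup p E := fun e => ⟨1, Subtype.ext (by rw [pow_one]; exact hEe e e.2)⟩
  obtain ⟨P⟩ := (inferInstance : Nonempty (Sylow p ↥(E.comap f)))
  have htop : (P : Subgroup ↥(E.comap f)).map g = ⊤ := by
    rw [← Sylow.coe_mapSurjective hg]
    exact ((P.mapSurjective hg).3 (hEp.to_subgroup ⊤) le_top).symm
  set PG := (P : Subgroup ↥(E.comap f)).map (E.comap f).subtype with hPG
  have hPGp : IsPGroup p PG := P.2.map _
  have htriv : ∀ x ∈ PG, f x = 1 → x = 1 := by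
    intro x hx hfx
    have hxN : x ∈ N := (QuotientGroup.eq_one_iff x).1 hfx
    obtain ⟨n, hn⟩ := IsPGroup.iff_card.1 hPGp
    refine Coprime.eq_one_of_mem_of_mem ?_ hx hxN
    rw [hn]
    exact ((hp.out.coprime_iff_not_dvd).2 hN).pow_left n
  have hfE : ∀ x ∈ PG, f x ∈ E := by
    rintro _ ⟨x, _, rfl⟩
    exact x.2
  have hc : IsMulCommutative PG := ⟨⟨fun a b => Subtype.ext
    (commutatorElement_eq_one_iff_mul_comm.1 (htriv _ (by
      rw [commutatorElement_def]
      exact mul_mem (mul_mem (mul_mem a.2 b.2) (inv_mem a.2)) (inv_mem b.2)) (by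
      rw [map_commutatorElement, commutatorElement_eq_one_iff_mul_comm]
      exact congrArg Subtype.val
        (hEc.is_comm.comm (⟨f a, hfE _ a.2⟩ : E) ⟨f b, hfE _ b.2⟩))))⟩⟩
  have h := hr PG hc fun a ha => htriv _ (pow_mem ha p) (by
    rw [map_pow]; exact hEe _ (hfE a ha))
  refine le_trans ?_ h
  have h2 : Nat.card ↥((P : Subgroup ↥(E.comap f)).map g) = Nat.card E := by
    rw [htop, Nat.card_congr Subgroup.topEquiv.toEquiv]
  rw [← h2, hPG, Cores.card_map_subtype]
  exact Nat.le_of_dvd Nat.card_pos (Subgroup.card_map_dvd _ _)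

/-- **Solvable groups of odd order and `p`-rank at most 2 have `p`-length 1.** -/
theorem index_pPrimePCore_coprime_of_rank_two {X : Type*} [Group X] [Finite X]
    [Group.IsSolvable X] (hodd : Odd (Nat.card X)) (hr : Cfsg.PRankLE p 2 X) :
    (Cfsg.pPrimePCore p X).index.Coprime p := by
  rw [Nat.coprime_comm, hp.out.coprime_iff_not_dvd]
  by_cases hp2 : p = 2
  · subst hp2
    exact fun h => (Nat.not_even_iff_odd.2 hodd) (even_iff_two_dvd.2
      (h.trans (Subgroup.index_dvd_card _)))
  set f := QuotientGroup.mk' (Cfsg.pPrimeCore p X) with hf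
  have hsurj : Function.Surjective f := QuotientGroup.mk'_surjective _
  have : Group.IsSolvable (X ⧸ Cfsg.pPrimeCore p X) := Group.isSolvable_of_surjective hsurj
  rw [Cfsg.pPrimePCore, Subgroup.index_comap_of_surjective _ hsurj]
  exact index_pCore_coprime (hodd.of_dvd_nat (Subgroup.card_quotient_dvd_card _)) hp2
    (pRankLE_quotient_pPrimeCore hr _ Cores.not_dvd_card_pPrimeCore)
    (Cores.pPrimeCore_quotient_self p)

end Cfsg.Agent.RankTwoPLength
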