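import Cfsg.Agent.Lib.OddOrder.Transitivity
import Cfsg.Agent.Lib.Cores.Fitting
import Cfsg.Agent.Lib.Cores.Subnormal
import Cfsg.Agent.Lib.Solvable.Fitting

/-!
Basic facts for the uniqueness theorem (Bender-Glauberman sections 8-9):
maximal subgroups of a non-abelian simple group, the Fitting subgroup of a maximal subgroup,
the elementary part `zc r F` of the centre of `F`, and
`le_pPrimeCore_of_sylow_le_normalizer` (a `p'`-subgroup of a solvable group normalised by a
Sylow `p`-subgroup lies in the `p'`-core).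
-/

set_option autoImplicit false

namespace Cfsg.Agent.OddUniq

open scoped Pointwise commutatorElement
open OddTrans

variable {G : Type*} [Group G]

/-! ### Maximal subgroups -/

theorem exists_coatom_ge [Finite G] {X : Subgroup G} (hX : X ≠ ⊤) :
    ∃ M : Subgroup G, IsCoatom M ∧ X ≤ M :=
  (eq_top_or_exists_le_coatom X).resolve_left hX

theorem coatom_ne_bot (hna : ¬ IsMulCommutative G) {M : Subgroup G} (hM : IsCoatom M) : M ≠ ⊥ := by
  rintro rfl
  apply hna
  rcases subsingleton_or_nontrivial G with h | h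
  · exact ⟨⟨fun a b => Subsingleton.elim _ _⟩⟩
  obtain ⟨x, hx⟩ := exists_ne (1 : G)
  have h1 : Subgroup.zpowers x = ⊤ := hM.2 _ (bot_lt_iff_ne_bot.2 fun h =>
    hx (Subgroup.mem_bot.1 (h ▸ Subgroup.mem_zpowers x)))
  refine ⟨⟨fun a b => ?_⟩⟩
  obtain ⟨i, rfl⟩ := (h1.symm ▸ Subgroup.mem_top a : a ∈ Subgroup.zpowers x)
  obtain ⟨j, rfl⟩ := (h1.symm ▸ Subgroup.mem_top b : b ∈ Subgroup.zpowers x)
  exact zpow_mul_comm x i j

theorem coatom_conj {M : Subgroup G} (hM : IsCoatom M) (g : G) :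
    IsCoatom (MulAut.conj g • M) :=
  ((MulEquiv.mapSubgroup (MulAut.conj g)).isCoatom_iff M).2 hM

theorem normalizer_eq_of_coatom [Finite G] (hs : IsSimpleGroup G) {M T : Subgroup G}
    (hM : IsCoatom M) (hT : T ≠ ⊥) (hTM : T ≤ M) (hn : M ≤ Subgroup.normalizer (T : Set G)) :
    Subgroup.normalizer (T : Set G) = M :=
  (hM.le_iff.1 hn).resolve_left (normalizer_ne_top hs hT fun h => hM.1 (top_le_iff.1 (h ▸ hTM)))

/-! ### Uniqueness subgroups -/

section InUniqueMaximal

variable {X Y : Subgroup G}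

theorem unique_eq (hX : InUniqueMaximal X) {M L : Subgroup G} (hM : IsCoatom M) (hXM : X ≤ M)
    (hL : IsCoatom L) (hXL : X ≤ L) : M = L :=
  hX.unique ⟨hM, hXM⟩ ⟨hL, hXL⟩

theorem unique_intro {M : Subgroup G} (hM : IsCoatom M) (hXM : X ≤ M)
    (h : ∀ L : Subgroup G, IsCoatom L → X ≤ L → L = M) : InUniqueMaximal X :=
  ⟨M, ⟨hM, hXM⟩, fun L hL => h L hL.1 hL.2⟩

theorem unique_ne_top (hX : InUniqueMaximal X) : X ≠ ⊤ := by
  rintro rfl
  obtain ⟨M, ⟨hM, hle⟩, -⟩ := hX
  exact hM.1 (top_le_iff.1 hle)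

theorem unique_mono [Finite G] (hX : InUniqueMaximal X) (hXY : X ≤ Y) (hY : Y ≠ ⊤) :
    InUniqueMaximal Y := by
  obtain ⟨M, hM, hYM⟩ := exists_coatom_ge hY
  exact unique_intro hM hYM fun L hL hYL => unique_eq hX hL (hXY.trans hYL) hM (hXY.trans hYM)

theorem unique_conj (hX : InUniqueMaximal X) (g : G) : InUniqueMaximal (MulAut.conj g • X) := by
  obtain ⟨M, ⟨hM, hXM⟩, hu⟩ := hX
  refine unique_intro (coatom_conj hM g) (Subgroup.pointwise_smul_le_pointwise_smul_iff.2 hXM)
    fun L hL hXL => ?_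
  have h1 : MulAut.conj g⁻¹ • L = M := hu _ ⟨coatom_conj hL _, fun x hx => by
    rw [Coprime.mem_conj, inv_inv]
    exact hXL (Coprime.conj_mem_conj.2 hx)⟩
  rw [← h1, ← mul_smul, ← map_mul, mul_inv_cancel, map_one, one_smul]

theorem unique_ne_bot (hs : IsSimpleGroup G) (hna : ¬ IsMulCommutative G)
    (hX : InUniqueMaximal X) : X ≠ ⊥ := by
  rintro rfl
  obtain ⟨M, ⟨hM, -⟩, hu⟩ := hX
  have hn : M.Normal := ⟨fun x hx g => by
    have h := hu _ ⟨coatom_conj hM g, bot_le⟩
    rw [← h]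
    exact Coprime.conj_mem_conj.2 hx⟩
  exact coatom_ne_bot hna hM ((hs.eq_bot_or_eq_top_of_normal M hn).resolve_right hM.1)

end InUniqueMaximal

/-! ### Normal subgroups of a subgroup, seen in `G` -/

theorem le_normalizer_map_subtype (M : Subgroup G) (N : Subgroup M) [hN : N.Normal] :
    M ≤ Subgroup.normalizer ((N.map M.subtype : Subgroup G) : Set G) := by
  intro m hm
  rw [Subgroup.mem_normalizer_iff]
  intro x
  constructor
  · rintro ⟨y, hy, rfl⟩
    exact ⟨⟨m, hm⟩ * y * ⟨m, hm⟩⁻¹, hN.conj_mem y hy _, by simp⟩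
  · rintro ⟨y, hy, hxy⟩
    refine ⟨⟨m, hm⟩⁻¹ * y * ⟨m, hm⟩, ?_, ?_⟩
    · simpa using hN.conj_mem y hy ⟨m, hm⟩⁻¹
    · simp only [Subgroup.coe_subtype] at hxy
      simp [hxy, mul_assoc]

theorem mem_of_conj_mem_centralizer {F : Subgroup G} {g x : G}
    (hg : g ∈ Subgroup.normalizer (F : Set G)) (hx : x ∈ Subgroup.centralizer (F : Set G)) :
    g * x * g⁻¹ ∈ Subgroup.centralizer (F : Set G) :=
  Signalizer.conj_mem (Signalizer.le_normalizer_centralizer le_rfl) hg hx

/-! ### The Fitting subgroup of a subgroup -/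

section Fitting

variable [Finite G] {M N : Subgroup G}

omit [Finite G] in
theorem fittingOf_le (M : Subgroup G) : fittingOf M ≤ M := Subgroup.map_subtype_le _

theorem le_normalizer_fittingOf (M : Subgroup G) :
    M ≤ Subgroup.normalizer (fittingOf M : Set G) :=
  le_normalizer_map_subtype M _

theorem isNilpotent_fittingOf (M : Subgroup G) : Group.IsNilpotent (fittingOf M) :=
  Cores.isNilpotent_map _ (Cores.isNilpotent_of_le_fittingSubgroup le_rfl)

omit [Finite G] in
theorem le_fittingOf (hNM : N ≤ M) (hn : M ≤ Subgroup.normalizer (N : Set G))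
    (hnil : Group.IsNilpotent N) : N ≤ fittingOf M := by
  intro x hx
  refine ⟨⟨x, hNM hx⟩, ?_, rfl⟩
  exact Cores.le_fittingSubgroup (Subgroup.normal_subgroupOf_of_le_normalizer hn)
    (Group.nilpotent_of_mulEquiv (_h := hnil) (Subgroup.subgroupOfEquivOfLe hNM).symm) hx

theorem inf_centralizer_fittingOf_le (hM : Group.IsSolvable M) :
    M ⊓ Subgroup.centralizer (fittingOf M : Set G) ≤ fittingOf M := by
  rintro x ⟨hx, hxC⟩
  refine ⟨⟨x, hx⟩, ?_, rfl⟩
  have := hM
  refine Solvable.centralizer_fitting_le M (Subgroup.mem_centralizer_iff.2 fun y hy => ?_)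
  exact Subtype.ext (Subgroup.mem_centralizer_iff.1 hxC y ⟨y, hy, rfl⟩)

theorem fittingOf_ne_bot (hM : Group.IsSolvable M) (h : M ≠ ⊥) : fittingOf M ≠ ⊥ := by
  intro h0
  refine h (le_bot_iff.1 (le_trans ?_ h0.le))
  refine le_trans (le_inf le_rfl ?_) (inf_centralizer_fittingOf_le hM)
  rw [h0]
  intro x _
  exact Subgroup.mem_centralizer_iff.2 fun y hy => by
    rw [Subgroup.mem_bot.1 hy, one_mul, mul_one]

theorem isSubnormal_subgroupOf {F A : Subgroup G} (hF : Group.IsNilpotent F) :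
    (A.subgroupOf F).IsSubnormal :=
  have := hF
  Cores.isSubnormal_of_nilpotent _

end Fitting

/-! ### `Ω₁` of the `r`-part of the centre -/

/-- The elements `x` of the centre of `F` with `x ^ r = 1`. -/
def zc (r : ℕ) (F : Subgroup G) : Subgroup G where
  carrier := {x | x ∈ F ∧ x ∈ Subgroup.centralizer (F : Set G) ∧ x ^ r = 1}
  one_mem' := ⟨one_mem _, one_mem _, one_pow _⟩
  mul_mem' := by
    rintro a b ⟨ha, haC, har⟩ ⟨hb, hbC, hbr⟩
    refine ⟨mul_mem ha hb, mul_mem haC hbC, ?_⟩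
    rw [(show Commute a b from Subgroup.mem_centralizer_iff.1 hbC a ha).mul_pow, har, hbr, one_mul]
  inv_mem' := by
    rintro a ⟨ha, haC, har⟩
    exact ⟨inv_mem ha, inv_mem haC, by rw [inv_pow, har, inv_one]⟩

variable {r : ℕ} {F : Subgroup G}

theorem mem_zc {x : G} :
    x ∈ zc r F ↔ x ∈ F ∧ x ∈ Subgroup.centralizer (F : Set G) ∧ x ^ r = 1 := Iff.rfl

theorem zc_le (r : ℕ) (F : Subgroup G) : zc r F ≤ F ⊓ Subgroup.centralizer (F : Set G) :=
  fun _ hx => ⟨hx.1, hx.2.1⟩

theorem zc_elem (r : ℕ) (F : Subgroup G) : IsElementaryAbelian r (zc r F) :=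
  ⟨⟨⟨fun a b => Subtype.ext (Subgroup.mem_centralizer_iff.1 b.2.2.1 a a.2.1)⟩⟩, fun _ h => h.2.2⟩

theorem isPGroup_zc [Fact r.Prime] (F : Subgroup G) : IsPGroup r (zc r F) :=
  Signalizer.isPGroup_of_elemAb (zc_elem r F)

theorem normalizer_le_normalizer_zc [Finite G] (r : ℕ) (F : Subgroup G) :
    Subgroup.normalizer (F : Set G) ≤ Subgroup.normalizer (zc r F : Set G) := fun g hg =>
  Coprime.mem_normalizer_of_forall fun x hx =>
    ⟨(Subgroup.mem_normalizer_iff.1 hg x).1 hx.1, mem_of_conj_mem_centralizer hg hx.2.1,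
      by rw [conj_pow, hx.2.2, mul_one, mul_inv_cancel]⟩

theorem zc_ne_bot [Finite G] [hr : Fact r.Prime] (hF : Group.IsNilpotent F)
    (hd : r ∣ Nat.card F) : zc r F ≠ ⊥ := by
  have := hF
  have S : Sylow r F := default
  have hSn : (S : Subgroup F).Normal := S.normal_of_normalizerCondition
    Group.normalizerCondition_of_isNilpotent
  have hS : (S : Subgroup F) ≠ ⊥ := S.ne_bot_of_dvd_card hd
  obtain ⟨x, hx, hx1⟩ := (Subgroup.bot_or_exists_ne_one _).resolve_left
    (Cores.inf_center_ne_bot (S : Subgroup F) hS)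
  obtain ⟨k, hk⟩ := S.2 ⟨x, hx.1⟩
  have hxo : orderOf x ∣ r ^ k := by
    rw [orderOf_dvd_iff_pow_eq_one]
    simpa using congrArg Subtype.val hk
  obtain ⟨j, -, hj⟩ := (Nat.dvd_prime_pow hr.out).1 hxo
  have hj0 : j ≠ 0 := by
    rintro rfl
    exact hx1 (orderOf_eq_one_iff.1 (by simpa using hj))
  set y := x ^ (r ^ (j - 1)) with hy
  have hyo : orderOf y = r := by
    rw [hy, orderOf_pow' _ (pow_ne_zero _ hr.out.ne_zero), hj,
      Nat.gcd_eq_right (pow_dvd_pow r (Nat.sub_le j 1)), Nat.pow_div (Nat.sub_le j 1) hr.out.pos,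
      show j - (j - 1) = 1 by omega, pow_one]
  intro h
  have hymem : (y : G) ∈ zc r F := by
    refine ⟨y.2, Subgroup.mem_centralizer_iff.2 fun z hz => ?_, ?_⟩
    · exact congrArg Subtype.val
        (Subgroup.mem_center_iff.1 (pow_mem hx.2 _ : y ∈ Subgroup.center F) ⟨z, hz⟩)
    · rw [← Subgroup.orderOf_coe, ← orderOf_dvd_iff_pow_eq_one] at *
      rw [hyo]
  rw [h, Subgroup.mem_bot] at hymem
  rw [← Subgroup.orderOf_coe, hymem, orderOf_one] at hyo
  exact hr.out.one_lt.ne hyo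

theorem centralizer_zc_le [Finite G] (hs : IsSimpleGroup G) {H : Subgroup G} (hH : IsCoatom H)
    [Fact r.Prime] (hd : r ∣ Nat.card (fittingOf H)) :
    Subgroup.centralizer (zc r (fittingOf H) : Set G) ≤ H :=
  (Subgroup.centralizer_le_normalizer _).trans (normalizer_eq_of_coatom hs hH
    (zc_ne_bot (isNilpotent_fittingOf H) hd)
    (((zc_le _ _).trans inf_le_left).trans (fittingOf_le H))
    ((le_normalizer_fittingOf H).trans (normalizer_le_normalizer_zc r _))).le

/-! ### The primary parts of the Fitting subgroup -/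

section PCore

variable [Finite G] {M : Subgroup G}

omit [Finite G] in
theorem pCoreOf_le (q : ℕ) (M : Subgroup G) : pCoreOf q M ≤ M := Subgroup.map_subtype_le _

omit [Finite G] in
theorem le_normalizer_pCoreOf (q : ℕ) (M : Subgroup G) :
    M ≤ Subgroup.normalizer (pCoreOf q M : Set G) :=
  have : (pCore q M).Normal := Subgroup.sSup_normal _ fun _ h => h.1
  le_normalizer_map_subtype M _

theorem isPGroup_pCoreOf (q : ℕ) (M : Subgroup G) : IsPGroup q (pCoreOf q M) :=
  (Cores.isPGroup_pCore q M).map _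

theorem pCoreOf_le_fittingOf (q : ℕ) [Fact q.Prime] (M : Subgroup G) :
    pCoreOf q M ≤ fittingOf M :=
  Subgroup.map_mono (Cores.pCore_le_fittingSubgroup q)

theorem fittingOf_le_of_forall {C : Subgroup G}
    (h : ∀ q : ℕ, q.Prime → pCoreOf q M ≤ C) : fittingOf M ≤ C := by
  rw [fittingOf, Cores.fittingSubgroup_eq_iSup_pCore, Subgroup.map_iSup]
  exact iSup_le fun q => h q q.2

theorem le_pCoreOf_of_le_fittingOf {q : ℕ} {T : Subgroup G} (hT : T ≤ fittingOf M)
    (hq : IsPGroup q T) : T ≤ pCoreOf q M := by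
  intro x hx
  refine ⟨⟨x, fittingOf_le M (hT hx)⟩, Cores.le_pCore_of_isSubnormal
    (Cores.isSubnormal_of_le_fittingSubgroup (H := T.subgroupOf M) fun y hy => ?_)
    hq.comap_subtype hx, rfl⟩
  obtain ⟨z, hz, e⟩ := hT hy
  rwa [← Subtype.ext (show (z : G) = y from e)]

/-- A `q`-subgroup normal in a normal subgroup of `M` lies in the `q`-core of `M`. -/
theorem le_pCoreOf_of_normal_normal {q : ℕ} {T D : Subgroup G} (hTD : T ≤ D) (hDM : D ≤ M)
    (hT : D ≤ Subgroup.normalizer (T : Set G)) (hD : M ≤ Subgroup.normalizer (D : Set G))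
    (hq : IsPGroup q T) : T ≤ pCoreOf q M := by
  have h1 : (T.subgroupOf M).IsSubnormal := by
    refine Subgroup.IsSubnormal.step (T.subgroupOf M) (D.subgroupOf M)
      (fun x hx => hTD hx) (Subgroup.Normal.isSubnormal
        (Subgroup.normal_subgroupOf_of_le_normalizer hD)) ?_
    refine Subgroup.normal_subgroupOf_of_le_normalizer fun d hd => ?_
    exact Coprime.mem_normalizer_of_forall fun x hx =>
      (Subgroup.mem_normalizer_iff.1 (hT hd) _).1 hx
  intro x hx
  exact ⟨⟨x, hDM (hTD hx)⟩, Cores.le_pCore_of_isSubnormal h1 hq.comap_subtype hx, rfl⟩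

theorem pCoreOf_ne_bot {q : ℕ} [Fact q.Prime] (h : q ∣ Nat.card (fittingOf M)) :
    pCoreOf q M ≠ ⊥ := by
  have : Fact q.Prime := inferInstance
  have S : Sylow q (fittingOf M) := default
  refine ne_bot_of_le_ne_bot ?_ (le_pCoreOf_of_le_fittingOf (Subgroup.map_subtype_le _)
    (S.2.map (fittingOf M).subtype))
  rw [Ne, Subgroup.map_eq_bot_iff_of_injective _ (fittingOf M).subtype_injective]
  exact S.ne_bot_of_dvd_card h

theorem pCoreOf_eq_bot {q : ℕ} [hq : Fact q.Prime] (h : ¬ q ∣ Nat.card (fittingOf M)) :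
    pCoreOf q M = ⊥ := by
  refine Subgroup.eq_bot_of_card_eq _ ?_
  obtain ⟨n, hn⟩ := IsPGroup.iff_card.1 (isPGroup_pCoreOf q M)
  rcases Nat.eq_zero_or_pos n with rfl | hpos
  · simpa using hn
  · exact absurd ((dvd_pow_self q hpos.ne').trans
      (hn ▸ Subgroup.card_dvd_of_le (pCoreOf_le_fittingOf q M))) h

theorem dvd_card_of_le {q : ℕ} [hq : Fact q.Prime] {T F : Subgroup G} (hT : T ≠ ⊥)
    (hTq : IsPGroup q T) (hTF : T ≤ F) : q ∣ Nat.card F := by
  obtain ⟨n, hn⟩ := IsPGroup.iff_card.1 hTq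
  rcases Nat.eq_zero_or_pos n with rfl | hpos
  · exact absurd (Subgroup.eq_bot_of_card_eq T (by simpa using hn)) hT
  · exact (dvd_pow_self q hpos.ne').trans (hn ▸ Subgroup.card_dvd_of_le hTF)

end PCore

/-! ### Cores -/

theorem piCore_congr {X : Type*} [Group X] [Finite X] {π σ : Set ℕ}
    (h : ∀ q : ℕ, q.Prime → (q ∈ π ↔ q ∈ σ)) : piCore π X = piCore σ X :=
  le_antisymm
    (Cores.le_piCore (piCore_normal π X) fun q hq hd => (h q hq).1 (Cores.card_piCore π hq hd))
    (Cores.le_piCore (piCore_normal σ X) fun q hq hd => (h q hq).2 (Cores.card_piCore σ hq hd))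

theorem mem_primesNotDvd_prime {p q : ℕ} [hp : Fact p.Prime] :
    q ∈ primesNotDvd p ↔ q.Prime ∧ q ≠ p :=
  and_congr_right fun hq => not_congr (Nat.prime_dvd_prime_iff_eq hq hp.out)

theorem piCoreOf_primesNotDvd_prime [Finite G] (p : ℕ) [Fact p.Prime] (X : Subgroup G) :
    piCoreOf (primesNotDvd p) X = (pPrimeCore p X).map X.subtype := by
  rw [piCoreOf, Cores.pPrimeCore_eq_piCore_ne, piCore_congr (X := X) (σ := {q | q ≠ p})]
  exact fun q hq => mem_primesNotDvd_prime.trans (and_iff_right hq)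

theorem pi'_iff_coprime [Finite G] {p : ℕ} [Fact p.Prime] {Y : Subgroup G} :
    IsPi (primesNotDvd p) Y ↔ (Nat.card Y).Coprime p := by
  constructor
  · intro h
    exact (coprime_of_primesNotDvd h).symm
  · intro h q hq hd
    exact ⟨hq, Cores.coprime_iff_primes.1 h q hq hd⟩

/-- A `p'`-subgroup of a solvable group normalised by a Sylow `p`-subgroup lies in the `p'`-core. -/
theorem le_pPrimeCore_of_sylow_le_normalizer {X : Type*} [Group X] [Finite X] [Group.IsSolvable X]
    {p : ℕ} [Fact p.Prime] (P : Sylow p X) {Y : Subgroup X}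
    (hPY : (P : Subgroup X) ≤ Subgroup.normalizer (Y : Set X)) (hY : (Nat.card Y).Coprime p) :
    Y ≤ pPrimeCore p X := by
  set f := QuotientGroup.mk' (pPrimeCore p X) with hf
  have hsurj : Function.Surjective f := QuotientGroup.mk'_surjective _
  have : Group.IsSolvable (X ⧸ pPrimeCore p X) := Group.isSolvable_of_surjective hsurj
  have hbot := Cores.pPrimeCore_quotient_self (G := X) p
  have hOp : pCore p (X ⧸ pPrimeCore p X) ≤ ((P.mapSurjective hsurj : Sylow p _) : Subgroup _) :=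
    Cores.pCore_le_sylow _
  have hn : pCore p (X ⧸ pPrimeCore p X) ≤ Subgroup.normalizer (Y.map f : Set _) :=
    hOp.trans ((Sylow.coe_mapSurjective hsurj P).le.trans
      ((Subgroup.map_mono hPY).trans (Subgroup.le_normalizer_map f)))
  have hinf : Y.map f ⊓ pCore p (X ⧸ pPrimeCore p X) = ⊥ := by
    refine Coprime.inf_eq_bot ?_
    obtain ⟨n, hn⟩ := IsPGroup.iff_card.1 (Cores.isPGroup_pCore p (X ⧸ pPrimeCore p X))
    rw [hn]
    exact (hY.coprime_dvd_left (Subgroup.card_map_dvd _ _)).pow_right n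
  have hN : (pCore p (X ⧸ pPrimeCore p X)).Normal := Subgroup.sSup_normal _ fun _ h => h.1
  have hc : Y.map f ≤ Subgroup.centralizer (pCore p (X ⧸ pPrimeCore p X) : Set _) := by
    rw [← Subgroup.commutator_eq_bot_iff_le_centralizer, eq_bot_iff, ← hinf]
    exact le_inf (Subgroup.le_normalizer_iff_commutator_le_left.1 hn)
      (Subgroup.commutator_le_right _ _)
  have h0 : Y.map f ≤ (⊥ : Subgroup (X ⧸ pPrimeCore p X)) := by
    rw [← hinf]
    exact le_inf le_rfl (hc.trans (Solvable.centralizer_pCore_le_of_isSolvable hbot))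
  intro y hy
  exact (QuotientGroup.eq_one_iff y).1 (Subgroup.mem_bot.1 (h0 ⟨y, hy, rfl⟩))

/-- The same inside a solvable subgroup. -/
theorem le_piCoreOf_of_sylow_le_normalizer [Finite G] {p : ℕ} [Fact p.Prime] {X Y : Subgroup G}
    (hX : Group.IsSolvable X) (P : Sylow p X)
    (hPY : (P : Subgroup X).map X.subtype ≤ Subgroup.normalizer (Y : Set G)) (hYX : Y ≤ X)
    (hY : (Nat.card Y).Coprime p) : Y ≤ piCoreOf (primesNotDvd p) X := by
  rw [piCoreOf_primesNotDvd_prime]
  have := hX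
  have h := le_pPrimeCore_of_sylow_le_normalizer P (Y := Y.subgroupOf X) (fun x hx => by
    refine Coprime.mem_normalizer_of_forall fun y hy => ?_
    exact (Subgroup.mem_normalizer_iff.1 (hPY ⟨x, hx, rfl⟩) _).1 hy)
    (by rwa [Cores.card_subgroupOf hYX])
  intro y hy
  exact ⟨⟨y, hYX hy⟩, h hy, rfl⟩

end Cfsg.Agent.OddUniq
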