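import Cfsg.Agent.Lib.Coprime.Invariant
import Cfsg.Agent.Lib.Signalizer.PAction
import Cfsg.Agent.Lib.Cores.Basic

/-!
Transitivity of `O_{π'}(C(A))` on the maximal `A`-invariant `q`-subgroups, in a simple group all of
whose proper subgroups are solvable (Bender-Glauberman section 7).
* `exists_conj_of_common_overgroup` (S1392)
* `transitive_of_rank_three` (S1393), `transitive_of_rank_two` (S1394)
* `inherits_to_subnormal`, `normalizer_eq_sup`, `inf_commutator_le` (S1395)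
-/

set_option autoImplicit false

namespace Cfsg.Agent.OddTrans

open scoped Pointwise commutatorElement

variable {G : Type*} [Group G]

/-- All prime divisors of `|Y|` lie in `π`. -/
abbrev IsPi (π : Set ℕ) (Y : Subgroup G) : Prop :=
  ∀ p : ℕ, p.Prime → p ∣ Nat.card Y → p ∈ π

/-- `O_{π(A)'}(C(A))`. -/
abbrev coreK (A : Subgroup G) : Subgroup G :=
  piCoreOf (primesNotDvd (Nat.card A)) (Subgroup.centralizer (A : Set G))

theorem conj_eq_map (k : G) (H : Subgroup G) :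
    H.map (MulAut.conj k).toMonoidHom = MulAut.conj k • H := rfl

theorem piCoreOf_le (π : Set ℕ) (X : Subgroup G) : piCoreOf π X ≤ X := Subgroup.map_subtype_le _

theorem piCoreOf_pi [Finite G] (π : Set ℕ) (X : Subgroup G) : IsPi π (piCoreOf π X) := by
  intro p hp h
  rw [piCoreOf, Subgroup.card_map_of_injective X.subtype_injective] at h
  exact Cores.card_piCore π hp h

theorem le_piCoreOf {π : Set ℕ} {X N : Subgroup G} (hN : N ≤ X)
    (hn : X ≤ Subgroup.normalizer (N : Set G)) (hπ : IsPi π N) : N ≤ piCoreOf π X := by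
  have h : N.subgroupOf X ≤ piCore π X := Cores.le_piCore
    (Subgroup.normal_subgroupOf_of_le_normalizer hn) fun p hp hd => hπ p hp (by
      rwa [Nat.card_congr (Subgroup.subgroupOfEquivOfLe hN).toEquiv] at hd)
  intro x hx
  exact ⟨⟨x, hN hx⟩, h hx, rfl⟩

theorem le_normalizer_piCoreOf (π : Set ℕ) (X : Subgroup G) :
    X ≤ Subgroup.normalizer (piCoreOf π X : Set G) := by
  intro m hm
  rw [Subgroup.mem_normalizer_iff]
  intro x
  constructor
  · rintro ⟨y, hy, rfl⟩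
    exact ⟨⟨m, hm⟩ * y * ⟨m, hm⟩⁻¹, (piCore_normal π X).conj_mem y hy _, by simp⟩
  · rintro ⟨y, hy, hxy⟩
    refine ⟨⟨m, hm⟩⁻¹ * y * ⟨m, hm⟩, ?_, ?_⟩
    · simpa using (piCore_normal π X).conj_mem y hy ⟨m, hm⟩⁻¹
    · simp only [Subgroup.coe_subtype] at hxy
      simp [hxy, mul_assoc]

theorem mem_normalizer_piCoreOf [Finite G] {π : Set ℕ} {X : Subgroup G} {g : G}
    (hg : g ∈ Subgroup.normalizer (X : Set G)) :
    g ∈ Subgroup.normalizer (piCoreOf π X : Set G) := by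
  refine Coprime.mem_normalizer_of_forall fun x hx => ?_
  have hle : MulAut.conj g • piCoreOf π X ≤ piCoreOf π X := by
    refine le_piCoreOf ?_ ?_ fun p hp hd => piCoreOf_pi π X p hp (by rwa [Coprime.card_conj] at hd)
    · intro y hy
      rw [Coprime.mem_conj] at hy
      exact (Subgroup.mem_normalizer_iff''.1 hg y).2 (piCoreOf_le π X hy)
    · intro m hm
      refine Coprime.mem_normalizer_of_forall fun y hy => ?_
      rw [Coprime.mem_conj] at hy ⊢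
      have hm' : g⁻¹ * m * g ∈ X := (Subgroup.mem_normalizer_iff''.1 hg m).1 hm
      have := (Subgroup.mem_normalizer_iff.1 (le_normalizer_piCoreOf π X hm') _).1 hy
      group at this ⊢
      exact this
  exact hle (Coprime.conj_mem_conj.2 hx)

theorem coprime_of_primesNotDvd [Finite G] {Y : Subgroup G} {n : ℕ}
    (hY : IsPi (primesNotDvd n) Y) : n.Coprime (Nat.card Y) :=
  Nat.coprime_of_dvd fun p hp h1 h2 => (hY p hp h2).2 h1

theorem coprime_of_pi [Finite G] {B Y : Subgroup G} {n : ℕ}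
    (hB : ∀ r : ℕ, r.Prime → r ∣ Nat.card B → r ∣ n)
    (hY : IsPi (primesNotDvd n) Y) : (Nat.card B).Coprime (Nat.card Y) :=
  Nat.coprime_of_dvd fun p hp h1 h2 => (hY p hp h2).2 (hB p hp h1)

theorem isPGroup_of_pi [Finite G] {q : ℕ} (hq : q.Prime) {Q : Subgroup G} (h : IsPi {q} Q) :
    IsPGroup q Q := by
  have : Fact q.Prime := ⟨hq⟩
  refine IsPGroup.iff_orderOf.2 fun x => ?_
  exact ⟨_, Nat.eq_prime_pow_of_unique_prime_dvd (orderOf_pos x).ne'
    fun {d} hd hdvd => h d hd (hdvd.trans (orderOf_dvd_natCard x))⟩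

theorem pi_of_isPGroup [Finite G] {q : ℕ} [Fact q.Prime] {Q : Subgroup G} (h : IsPGroup q Q) :
    IsPi {q} Q := by
  intro p hp hd
  obtain ⟨k, hk⟩ := h.exists_card_eq
  rw [hk] at hd
  exact (Nat.prime_dvd_prime_iff_eq hp Fact.out).1 (hp.dvd_of_dvd_pow hd)

/-- Normalisers grow in `p`-groups. -/
theorem lt_inf_normalizer [Finite G] {q : ℕ} [Fact q.Prime] {P T : Subgroup G} (hP : IsPGroup q P)
    (h : T < P) : T < P ⊓ Subgroup.normalizer (T : Set G) := by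
  refine lt_of_le_of_ne (le_inf h.le Subgroup.le_normalizer) fun he => ?_
  have h1 := Group.normalizerCondition_of_isNilpotent (G := P) (h := hP.isNilpotent)
    (T.subgroupOf P) (by
      rw [lt_top_iff_ne_top, Ne, Subgroup.subgroupOf_eq_top]
      exact not_le_of_gt h)
  obtain ⟨r, hr, hrT⟩ := SetLike.exists_of_lt h1
  apply hrT
  rw [Subgroup.mem_subgroupOf, he]
  refine ⟨r.2, Coprime.mem_normalizer_of_forall fun x hx => ?_⟩
  exact (Subgroup.mem_normalizer_iff.1 hr ⟨x, h.le hx⟩).1 hx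

section Simple

variable [Finite G]

theorem normalizer_ne_top (hs : IsSimpleGroup G) {T : Subgroup G} (h1 : T ≠ ⊥) (h2 : T ≠ ⊤) :
    Subgroup.normalizer (T : Set G) ≠ ⊤ := fun h =>
  (hs.eq_bot_or_eq_top_of_normal T (Subgroup.normalizer_eq_top_iff.1 h)).elim h1 h2

theorem center_eq_bot (hs : IsSimpleGroup G) (hna : ¬ IsMulCommutative G) :
    Subgroup.center G = ⊥ := by
  rcases hs.eq_bot_or_eq_top_of_normal (Subgroup.center G) inferInstance with h | h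
  · exact h
  · exact absurd ⟨⟨fun a b => (Subgroup.mem_center_iff.1 (h ▸ Subgroup.mem_top a) b).symm⟩⟩ hna

theorem centralizer_ne_top (hs : IsSimpleGroup G) (hna : ¬ IsMulCommutative G) {S : Set G}
    {b : G} (hb : b ∈ S) (hb1 : b ≠ 1) : Subgroup.centralizer S ≠ ⊤ := by
  intro h
  apply hb1
  have : b ∈ Subgroup.center G := Subgroup.mem_center_iff.2 fun g =>
    (Subgroup.mem_centralizer_iff.1 (h ▸ Subgroup.mem_top g) b hb).symm
  rwa [center_eq_bot hs hna, Subgroup.mem_bot] at this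

variable {A : Subgroup G} {q : ℕ}

theorem mem_inv_top {B Q : Subgroup G} (hQ : Q ∈ maxInvSubgroups ⊤ B {q}) :
    B ≤ Subgroup.normalizer (Q : Set G) := hQ.1.2.2

theorem isPGroup_of_mem (hq : q.Prime) {B Q : Subgroup G} (hQ : Q ∈ maxInvSubgroups ⊤ B {q}) :
    IsPGroup q Q := isPGroup_of_pi hq hQ.1.2.1

theorem exists_max_ge {B U : Subgroup G} (hU : IsPi {q} U)
    (hBU : B ≤ Subgroup.normalizer (U : Set G)) :
    ∃ S ∈ maxInvSubgroups ⊤ B {q}, U ≤ S := by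
  obtain ⟨S, ⟨hS, hUS⟩, hmax⟩ := (Set.toFinite {S | S ∈ invSubgroups ⊤ B {q} ∧ U ≤ S}
    ).exists_maximalFor id _ ⟨U, ⟨le_top, hU, hBU⟩, le_rfl⟩
  exact ⟨S, ⟨hS, fun R hR hle => le_antisymm (hmax ⟨hR, hUS.trans hle⟩ hle) hle⟩, hUS⟩

theorem conj_mem_inv {B Q : Subgroup G} {g : G} (hg : g ∈ Subgroup.normalizer (B : Set G))
    (hQ : Q ∈ invSubgroups ⊤ B {q}) : MulAut.conj g • Q ∈ invSubgroups ⊤ B {q} := by
  refine ⟨le_top, fun p hp hd => hQ.2.1 p hp (by rwa [Coprime.card_conj] at hd), fun b hb => ?_⟩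
  refine Coprime.mem_normalizer_of_forall fun y hy => ?_
  rw [Coprime.mem_conj] at hy ⊢
  have hb' : g⁻¹ * b * g ∈ B := (Subgroup.mem_normalizer_iff''.1 hg b).1 hb
  have := (Subgroup.mem_normalizer_iff.1 (hQ.2.2 hb') _).1 hy
  group at this ⊢
  exact this

theorem conj_mem_max {B Q : Subgroup G} {g : G} (hg : g ∈ Subgroup.normalizer (B : Set G))
    (hQ : Q ∈ maxInvSubgroups ⊤ B {q}) : MulAut.conj g • Q ∈ maxInvSubgroups ⊤ B {q} := by
  refine ⟨conj_mem_inv hg hQ.1, fun R hR hle => ?_⟩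
  have h1 := hQ.2 (MulAut.conj g⁻¹ • R) (conj_mem_inv (inv_mem hg) hR) (fun x hx => ?_)
  · rw [← h1, ← mul_smul, ← map_mul, mul_inv_cancel, map_one, one_smul]
  · have := hle (Coprime.conj_mem_conj.2 hx : g * x * g⁻¹ ∈ MulAut.conj g • Q)
    rw [Coprime.mem_conj, inv_inv]
    exact this

variable (hA : TransitivityHypothesis A)
include hA

theorem ne_top_of_pi {Y : Subgroup G} (hY : IsPi (primesNotDvd (Nat.card A)) Y) : Y ≠ ⊤ := by
  rintro rfl
  exact hA.1 (Subgroup.eq_bot_of_card_eq _ ((coprime_of_primesNotDvd hY).eq_one_of_dvd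
    (Subgroup.card_dvd_of_le le_top)))

theorem le_coreK (hs : IsSimpleGroup G) {Y : Subgroup G}
    (hY : Y ≤ Subgroup.centralizer (A : Set G)) (hπ : IsPi (primesNotDvd (Nat.card A)) Y) :
    Y ≤ coreK A := by
  set N := Subgroup.normalizer (A : Set G) with hN
  set X := piCoreOf (primesNotDvd (Nat.card A)) N with hX
  have h1 : Y ≤ X := by
    rw [hX, ← hA.2.2 N (normalizer_ne_top hs hA.1 hA.2.1) Subgroup.le_normalizer]
    refine le_sSup ⟨hY.trans (Subgroup.centralizer_le_normalizer _), hπ, fun a ha => ?_⟩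
    refine Coprime.mem_normalizer_of_forall fun y hy => ?_
    rw [Subgroup.mem_centralizer_iff.1 (hY hy) a ha, mul_inv_cancel_right]
    exact hy
  refine le_trans (le_inf h1 hY) (le_piCoreOf inf_le_right ?_ ?_)
  · intro c hc
    refine Coprime.mem_normalizer_of_forall fun y hy => ⟨?_, ?_⟩
    · exact (Subgroup.mem_normalizer_iff.1 (le_normalizer_piCoreOf _ N
        (Subgroup.centralizer_le_normalizer _ hc)) y).1 hy.1
    · exact (Subgroup.centralizer (A : Set G)).mul_mem (mul_mem hc hy.2)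
        ((Subgroup.centralizer (A : Set G)).inv_mem hc)
  · exact fun p hp hd => piCoreOf_pi _ _ p hp (hd.trans (Subgroup.card_dvd_of_le inf_le_left))

variable (hsol : ∀ H : Subgroup G, H ≠ ⊤ → Group.IsSolvable H) (hs : IsSimpleGroup G)
  (hq : q.Prime) (hqA : ¬ q ∣ Nat.card A)
include hsol hs hq hqA

omit hA hsol hs in
theorem pi'_of_pi {Q : Subgroup G} (hQ : IsPi {q} Q) : IsPi (primesNotDvd (Nat.card A)) Q := by
  intro p hp hd
  rw [Set.mem_singleton_iff.1 (hQ p hp hd)]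
  exact ⟨hq, hqA⟩

/-- Two invariant `q`-subgroups of a proper overgroup of `A` extend to conjugate maximal ones. -/
theorem link {N U₁ U₂ : Subgroup G} (hN : N ≠ ⊤) (hAN : A ≤ N)
    (h1 : U₁ ∈ invSubgroups N A {q}) (h2 : U₂ ∈ invSubgroups N A {q}) :
    ∃ S ∈ maxInvSubgroups ⊤ A {q}, U₁ ≤ S ∧
      ∃ c ∈ coreK A, U₂ ≤ MulAut.conj c • S ∧ MulAut.conj c • S ∈ maxInvSubgroups ⊤ A {q} := by
  have : Fact q.Prime := ⟨hq⟩
  set X := piCoreOf (primesNotDvd (Nat.card A)) N with hX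
  have hle : ∀ U ∈ invSubgroups N A {q}, U ≤ X := fun U hU => by
    rw [hX, ← hA.2.2 N hN hAN]
    exact le_sSup ⟨hU.1, pi'_of_pi hq hqA hU.2.1, hU.2.2⟩
  have hcop := coprime_of_primesNotDvd (piCoreOf_pi (primesNotDvd (Nat.card A)) N)
  have hsolv : Group.IsSolvable A ∨ Group.IsSolvable X :=
    Or.inr (Coprime.isSolvable_of_le (piCoreOf_le _ _) (hsol N hN))
  have hAX : A ≤ Subgroup.normalizer (X : Set G) := hAN.trans (le_normalizer_piCoreOf _ _)
  obtain ⟨R₁, hR₁, hR₁A⟩ := Coprime.exists_invariant_sylow_ge hAX hcop hsolv (hle _ h1)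
    (isPGroup_of_pi hq h1.2.1) h1.2.2
  obtain ⟨R₂, hR₂, hR₂A⟩ := Coprime.exists_invariant_sylow_ge hAX hcop hsolv (hle _ h2)
    (isPGroup_of_pi hq h2.2.1) h2.2.2
  obtain ⟨c, hc, hcR⟩ := Coprime.invariant_sylow_conj hAX hcop hsolv R₁ R₂ hR₁A hR₂A
  obtain ⟨S, hS, hRS⟩ := exists_max_ge (pi_of_isPGroup (R₁.2.map X.subtype)) hR₁A
  have hcK : (c : G) ∈ coreK A := le_coreK hA hs (Y := X ⊓ Subgroup.centralizer (A : Set G))
    inf_le_right
    (fun p hp hd => piCoreOf_pi _ N p hp (hd.trans (Subgroup.card_dvd_of_le inf_le_left)))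
    ⟨c.2, hc⟩
  refine ⟨S, hS, hR₁.trans hRS, c, hcK, ?_, ?_⟩
  · refine hR₂.trans ?_
    rw [← hcR, Coprime.map_subtype_smul]
    exact Subgroup.pointwise_smul_le_pointwise_smul_iff.2 hRS
  · exact conj_mem_max (Subgroup.centralizer_le_normalizer _ hc) hS

/-- Maximal invariant `q`-subgroups with nontrivial intersection are conjugate under `coreK A`. -/
theorem exists_conj_of_inf_ne_bot {Q₁ Q₂ : Subgroup G} (h₁ : Q₁ ∈ maxInvSubgroups ⊤ A {q})
    (h₂ : Q₂ ∈ maxInvSubgroups ⊤ A {q}) (hne : Q₁ ⊓ Q₂ ≠ ⊥) :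
    ∃ k ∈ coreK A, Q₂ = MulAut.conj k • Q₁ := by
  have : Fact q.Prime := ⟨hq⟩
  generalize hT : Q₁ ⊓ Q₂ = T at hne
  induction T using WellFoundedGT.induction generalizing Q₁ Q₂ with
  | ind T ih =>
    by_cases he : Q₁ = Q₂
    · exact ⟨1, one_mem _, by rw [map_one, one_smul, he]⟩
    have hT1 : T < Q₁ := lt_of_le_of_ne (hT ▸ inf_le_left) fun h =>
      he (h₁.2 Q₂ h₂.1 (h ▸ hT ▸ inf_le_right)).symm
    have hT2 : T < Q₂ := lt_of_le_of_ne (hT ▸ inf_le_right) fun h =>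
      he (h₂.2 Q₁ h₁.1 (h ▸ hT ▸ inf_le_left))
    set N := Subgroup.normalizer (T : Set G) with hN
    have hAN : A ≤ N := by
      rw [hN, ← hT]
      exact Signalizer.le_normalizer_inf (mem_inv_top h₁) (mem_inv_top h₂)
    have hNtop : N ≠ ⊤ := normalizer_ne_top hs hne fun h => by
      rw [h] at hT1
      exact not_top_lt hT1
    have hinv : ∀ {Q}, Q ∈ maxInvSubgroups ⊤ A {q} → Q ⊓ N ∈ invSubgroups N A {q} := fun {Q} hQ =>
      ⟨inf_le_right, fun p hp hd => hQ.1.2.1 p hp (hd.trans (Subgroup.card_dvd_of_le inf_le_left)),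
        Signalizer.le_normalizer_inf (mem_inv_top hQ) (hAN.trans Subgroup.le_normalizer)⟩
    obtain ⟨S, hS, hUS, c, hc, hUS', hS'⟩ := link hA hsol hs hq hqA hNtop hAN (hinv h₁) (hinv h₂)
    have hlt₁ : T < Q₁ ⊓ S := lt_of_lt_of_le (lt_inf_normalizer (isPGroup_of_mem hq h₁) hT1)
      (le_inf inf_le_left hUS)
    have hlt₂ : T < MulAut.conj c • S ⊓ Q₂ :=
      lt_of_lt_of_le (lt_inf_normalizer (isPGroup_of_mem hq h₂) hT2) (le_inf hUS' inf_le_left)
    obtain ⟨k, hk, hkS⟩ := ih _ hlt₁ h₁ hS rfl (ne_bot_of_gt hlt₁)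
    obtain ⟨k', hk', hk'Q⟩ := ih _ hlt₂ hS' h₂ rfl (ne_bot_of_gt hlt₂)
    exact ⟨k' * c * k, mul_mem (mul_mem hk' hc) hk,
      by rw [hk'Q, hkS]; simp only [← mul_smul, ← map_mul, mul_assoc]⟩

theorem exists_conj_of_common_overgroup {Q₁ Q₂ : Subgroup G}
    (h₁ : Q₁ ∈ maxInvSubgroups ⊤ A {q}) (h₂ : Q₂ ∈ maxInvSubgroups ⊤ A {q})
    {H : Subgroup G} (hH : H ≠ ⊤) (hAH : A ≤ H) (hH₁ : H ⊓ Q₁ ≠ ⊥) (hH₂ : H ⊓ Q₂ ≠ ⊥) :
    ∃ k ∈ coreK A, Q₂ = MulAut.conj k • Q₁ := by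
  have hinv : ∀ {Q}, Q ∈ maxInvSubgroups ⊤ A {q} → H ⊓ Q ∈ invSubgroups H A {q} := fun {Q} hQ =>
    ⟨inf_le_left, fun p hp hd => hQ.1.2.1 p hp (hd.trans (Subgroup.card_dvd_of_le inf_le_right)),
      Signalizer.le_normalizer_inf (hAH.trans Subgroup.le_normalizer) (mem_inv_top hQ)⟩
  obtain ⟨S, hS, hUS, c, hc, hUS', hS'⟩ := link hA hsol hs hq hqA hH hAH (hinv h₁) (hinv h₂)
  obtain ⟨k, hk, hkS⟩ := exists_conj_of_inf_ne_bot hA hsol hs hq hqA h₁ hS
    (ne_bot_of_le_ne_bot hH₁ (le_inf inf_le_right hUS))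
  obtain ⟨k', hk', hk'Q⟩ := exists_conj_of_inf_ne_bot hA hsol hs hq hqA hS' h₂
    (ne_bot_of_le_ne_bot hH₂ (le_inf hUS' inf_le_right))
  exact ⟨k' * c * k, mul_mem (mul_mem hk' hc) hk,
    by rw [hk'Q, hkS]; simp only [← mul_smul, ← map_mul, mul_assoc]⟩

omit hA hsol hs in
theorem exists_inf_centralizer_ne_bot {p : ℕ} [Fact p.Prime] {B Q : Subgroup G}
    (hB : IsElementaryAbelian p B) (hpA : p ∣ Nat.card A) (hB2 : p ^ 2 ≤ Nat.card B)
    (hBA : B ≤ A) (hQ : Q ∈ maxInvSubgroups ⊤ A {q}) (hQ1 : Q ≠ ⊥) :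
    ∃ b ∈ B, b ≠ 1 ∧ Q ⊓ Subgroup.centralizer ({b} : Set G) ≠ ⊥ := by
  by_contra hcon
  push Not at hcon
  refine hQ1 (le_bot_iff.1 (Signalizer.le_of_elements hB hB2 ⊥ Q (fun h => ?_)
    (hBA.trans (mem_inv_top hQ)) fun b hb hb1 => (hcon b hb hb1).le))
  exact ((pi'_of_pi hq hqA hQ.1.2.1) p Fact.out h).2 hpA

theorem transitive_of_rank_three (hna : ¬ IsMulCommutative G) {p : ℕ} [Fact p.Prime]
    {E : Subgroup G} (hE : IsElementaryAbelian p E) (hE3 : p ^ 3 ≤ Nat.card E)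
    (hEZ : E ≤ A ⊓ Subgroup.centralizer (A : Set G))
    {Q₁ Q₂ : Subgroup G} (h₁ : Q₁ ∈ maxInvSubgroups ⊤ A {q})
    (h₂ : Q₂ ∈ maxInvSubgroups ⊤ A {q}) : ∃ k ∈ coreK A, Q₂ = MulAut.conj k • Q₁ := by
  have hEA : E ≤ A := hEZ.trans inf_le_left
  have hp := (Fact.out : p.Prime)
  have hpA : p ∣ Nat.card A := by
    obtain ⟨k, hk⟩ := (Signalizer.isPGroup_of_elemAb hE).exists_card_eq
    refine dvd_trans ?_ (Subgroup.card_dvd_of_le hEA)
    rw [hk] at hE3 ⊢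
    exact dvd_pow_self p (by
      have := (Nat.pow_le_pow_iff_right hp.one_lt).1 hE3
      omega)
  by_cases hQ1 : Q₁ = ⊥
  · subst hQ1
    exact ⟨1, one_mem _, by rw [map_one, one_smul]; exact h₁.2 Q₂ h₂.1 bot_le⟩
  have hQ2 : Q₂ ≠ ⊥ := fun h => hQ1 (by subst h; exact h₂.2 Q₁ h₁.1 bot_le)
  obtain ⟨B, hBE, hBi, hB⟩ : ∃ B : Subgroup G, B ≤ E ∧ B.relIndex E = p ∧
      Q₁ ⊓ Subgroup.centralizer (B : Set G) ≠ ⊥ := by
    by_contra hcon
    push Not at hcon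
    refine hQ1 (le_bot_iff.1 (Signalizer.le_of_hyperplanes hE
      (Signalizer.ne_bot_of_pow_le three_ne_zero hE3) ⊥ Q₁ (fun h => ?_)
      (hEA.trans (mem_inv_top h₁)) fun B hB hi => (hcon B hB hi).le))
    exact ((pi'_of_pi hq hqA h₁.1.2.1) p hp h).2 hpA
  have hBe : IsElementaryAbelian p B :=
    ⟨⟨⟨fun a b => Subtype.ext (Signalizer.commute_of_isMulCommutative hE.1 (hBE a.2) (hBE b.2))⟩⟩,
      fun a ha => hE.2 a (hBE ha)⟩
  have hB2 : p ^ 2 ≤ Nat.card B := by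
    have h := Signalizer.card_hyperplane_mul hBE hBi
    rw [← h, pow_succ] at hE3
    exact Nat.le_of_mul_le_mul_right hE3 hp.pos
  obtain ⟨b, hb, hb1, hb2⟩ :=
    exists_inf_centralizer_ne_bot hq hqA hBe hpA hB2 (hBE.trans hEA) h₂ hQ2
  refine exists_conj_of_common_overgroup hA hsol hs hq hqA h₁ h₂
    (centralizer_ne_top hs hna (Set.mem_singleton b) hb1) ?_ ?_ ?_
  · intro a ha
    exact Subgroup.mem_centralizer_singleton_iff.2
      (Subgroup.mem_centralizer_iff.1 (hEZ (hBE hb)).2 a ha)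
  · rw [inf_comm]
    exact ne_bot_of_le_ne_bot hB (inf_le_inf_left _ (Signalizer.centralizer_le_singleton hb))
  · rw [inf_comm]; exact hb2

theorem transitive_of_rank_two (hna : ¬ IsMulCommutative G) {p : ℕ} [Fact p.Prime]
    {B : Subgroup G} (hB : IsElementaryAbelian p B) (hB2 : p ^ 2 ≤ Nat.card B)
    (hBZ : B ≤ A ⊓ Subgroup.centralizer (A : Set G))
    (hqC : q ∣ Nat.card (Subgroup.centralizer (A : Set G)))
    {Q₁ Q₂ : Subgroup G} (h₁ : Q₁ ∈ maxInvSubgroups ⊤ A {q})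
    (h₂ : Q₂ ∈ maxInvSubgroups ⊤ A {q}) : ∃ k ∈ coreK A, Q₂ = MulAut.conj k • Q₁ := by
  have : Fact q.Prime := ⟨hq⟩
  have hBA : B ≤ A := hBZ.trans inf_le_left
  have hp := (Fact.out : p.Prime)
  have hpA : p ∣ Nat.card A := by
    obtain ⟨k, hk⟩ := (Signalizer.isPGroup_of_elemAb hB).exists_card_eq
    refine dvd_trans ?_ (Subgroup.card_dvd_of_le hBA)
    rw [hk] at hB2 ⊢
    exact dvd_pow_self p (by
      have := (Nat.pow_le_pow_iff_right hp.one_lt).1 hB2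
      omega)
  obtain ⟨⟨x, hxC⟩, hx⟩ := exists_prime_orderOf_dvd_card' q hqC
  rw [Subgroup.orderOf_mk] at hx
  have hxQ : IsPi {q} (Subgroup.zpowers x) := by
    intro r hr hd
    rw [Nat.card_zpowers, hx] at hd
    exact (Nat.prime_dvd_prime_iff_eq hr hq).1 hd
  have hxA : A ≤ Subgroup.normalizer (Subgroup.zpowers x : Set G) :=
    Signalizer.le_normalizer_of_commute fun a ha y hy => by
      obtain ⟨i, rfl⟩ := hy
      exact ((show Commute a x from Subgroup.mem_centralizer_iff.1 hxC a ha).zpow_right i).eq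
  obtain ⟨R, hR, hxR⟩ := exists_max_ge hxQ hxA
  have hxR' : x ∈ R := hxR (Subgroup.mem_zpowers x)
  have hx1 : x ≠ 1 := fun h => by rw [h, orderOf_one] at hx; exact hq.one_lt.ne hx
  have key : ∀ {Q}, Q ∈ maxInvSubgroups ⊤ A {q} → ∃ k ∈ coreK A, R = MulAut.conj k • Q := by
    intro Q hQ
    have hQ1 : Q ≠ ⊥ := by
      rintro rfl
      have h := hQ.2 R hR.1 bot_le
      rw [h, Subgroup.mem_bot] at hxR'
      exact hx1 hxR'
    obtain ⟨b, hb, hb1, hb2⟩ := exists_inf_centralizer_ne_bot hq hqA hB hpA hB2 hBA hQ hQ1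
    refine exists_conj_of_common_overgroup hA hsol hs hq hqA hQ hR
      (centralizer_ne_top hs hna (Set.mem_singleton b) hb1) ?_ ?_ ?_
    · intro a ha
      exact Subgroup.mem_centralizer_singleton_iff.2
        (Subgroup.mem_centralizer_iff.1 (hBZ hb).2 a ha)
    · rw [inf_comm]; exact hb2
    · refine fun h => hx1 ((Subgroup.mem_bot).1 (h ▸ ⟨?_, hxR'⟩))
      exact Subgroup.mem_centralizer_singleton_iff.2
        (Subgroup.mem_centralizer_iff.1 hxC b (hBA hb)).symm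
  obtain ⟨k₁, hk₁, e₁⟩ := key h₁
  obtain ⟨k₂, hk₂, e₂⟩ := key h₂
  refine ⟨k₂⁻¹ * k₁, mul_mem (inv_mem hk₂) hk₁, ?_⟩
  rw [map_mul, mul_smul, ← e₁, e₂, ← mul_smul, ← map_mul, inv_mul_cancel, map_one, one_smul]

omit hsol hq hqA in
theorem coreK_inf (B : Subgroup G) (hAB : A ≤ B) :
    coreK A ⊓ Subgroup.centralizer (B : Set G) =
      piCoreOf (primesNotDvd (Nat.card A)) (Subgroup.centralizer (B : Set G)) := by
  refine le_antisymm (le_piCoreOf inf_le_right ?_ ?_) (le_inf (le_coreK hA hs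
    ((piCoreOf_le _ _).trans (Subgroup.centralizer_le hAB)) (piCoreOf_pi _ _)) (piCoreOf_le _ _))
  · refine Signalizer.le_normalizer_inf ?_ Subgroup.le_normalizer
    exact (Subgroup.centralizer_le hAB).trans (le_normalizer_piCoreOf _ _)
  · exact fun p hp hd => piCoreOf_pi _ _ p hp (hd.trans (Subgroup.card_dvd_of_le inf_le_left))

/-- A nontrivial maximal `B`-invariant `q`-subgroup is maximal `A`-invariant. -/
theorem mem_max_of_ne_bot {B : Subgroup G} (hAB : A ≤ B)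
    (hBπ : ∀ r : ℕ, r.Prime → r ∣ Nat.card B → r ∣ Nat.card A)
    {Q : Subgroup G} (hQ : Q ∈ maxInvSubgroups ⊤ B {q}) (hQ1 : Q ≠ ⊥) :
    Q ∈ maxInvSubgroups ⊤ A {q} := by
  have : Fact q.Prime := ⟨hq⟩
  obtain ⟨R, hR, hQR⟩ := exists_max_ge (B := A) hQ.1.2.1 (hAB.trans (mem_inv_top hQ))
  suffices h : Q = R by rw [h]; exact hR
  by_contra hne
  set N := Subgroup.normalizer (Q : Set G) with hN
  have hNtop : N ≠ ⊤ := normalizer_ne_top hs hQ1 (ne_top_of_pi hA (pi'_of_pi hq hqA hQ.1.2.1))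
  set X := piCoreOf (primesNotDvd (Nat.card A)) N with hX
  have hle : ∀ U : Subgroup G, U ≤ N → IsPi {q} U → A ≤ Subgroup.normalizer (U : Set G) → U ≤ X :=
    fun U h1 h2 h3 => by
      rw [hX, ← hA.2.2 N hNtop (hAB.trans (mem_inv_top hQ))]
      exact le_sSup ⟨h1, pi'_of_pi hq hqA h2, h3⟩
  have hQX : Q ≤ X := hle Q Subgroup.le_normalizer hQ.1.2.1 (hAB.trans (mem_inv_top hQ))
  have hBX : B ≤ Subgroup.normalizer (X : Set G) :=
    (mem_inv_top hQ).trans (le_normalizer_piCoreOf _ _)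
  obtain ⟨S, hQS, hSB⟩ := Coprime.exists_invariant_sylow_ge hBX
    (coprime_of_pi hBπ (piCoreOf_pi _ _))
    (Or.inr (Coprime.isSolvable_of_le (piCoreOf_le _ _) (hsol N hNtop))) hQX
    (isPGroup_of_mem hq hQ) (mem_inv_top hQ)
  have hSQ : (S : Subgroup X).map X.subtype = Q :=
    hQ.2 _ ⟨le_top, pi_of_isPGroup (S.2.map X.subtype), hSB⟩ hQS
  have hlt : Q < R ⊓ N := lt_inf_normalizer (isPGroup_of_mem hq hR) (lt_of_le_of_ne hQR hne)
  have hRX : R ⊓ N ≤ X := hle _ inf_le_right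
    (fun p hp hd => hR.1.2.1 p hp (hd.trans (Subgroup.card_dvd_of_le inf_le_left)))
    (Signalizer.le_normalizer_inf (mem_inv_top hR)
      ((hAB.trans (mem_inv_top hQ)).trans Subgroup.le_normalizer))
  have hmax : (R ⊓ N).subgroupOf X = ↑S :=
    S.3 (((isPGroup_of_mem hq hR).to_le inf_le_left).comap_subtype) fun x hx =>
      hlt.le (hSQ ▸ ⟨x, hx, rfl⟩ : (x : G) ∈ Q)
  refine hlt.ne ?_
  rw [← hSQ, ← hmax, Subgroup.map_subgroupOf_eq_of_le hRX]

/-- The property of `B` that is inherited along subnormal chains. -/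
def Inherits (A B : Subgroup G) (q : ℕ) : Prop :=
  maxInvSubgroups ⊤ B {q} ⊆ maxInvSubgroups ⊤ A {q} ∧
    ∀ Q₁ ∈ maxInvSubgroups ⊤ B {q}, ∀ Q₂ ∈ maxInvSubgroups ⊤ B {q},
      ∃ k ∈ piCoreOf (primesNotDvd (Nat.card A)) (Subgroup.centralizer (B : Set G)),
        Q₂ = MulAut.conj k • Q₁

theorem inherits_step (hna : ¬ IsMulCommutative G) {B L : Subgroup G} (hAB : A ≤ B) (hBL : B ≤ L)
    (hn : L ≤ Subgroup.normalizer (B : Set G))
    (hLπ : ∀ r : ℕ, r.Prime → r ∣ Nat.card L → r ∣ Nat.card A) (hB : Inherits A B q) :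
    Inherits A L q := by
  obtain ⟨hsub, htr⟩ := hB
  set K := piCoreOf (primesNotDvd (Nat.card A)) (Subgroup.centralizer (B : Set G)) with hK
  have hLC : L ≤ Subgroup.normalizer (Subgroup.centralizer (B : Set G) : Set G) :=
    Signalizer.le_normalizer_centralizer hn
  have hLK : L ≤ Subgroup.normalizer (K : Set G) := fun l hl => mem_normalizer_piCoreOf (hLC hl)
  have hcop : (Nat.card L).Coprime (Nat.card K) := coprime_of_pi hLπ (piCoreOf_pi _ _)
  obtain ⟨b, hbA, hb1⟩ := (Subgroup.bot_or_exists_ne_one A).resolve_left hA.1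
  have hsolv : Group.IsSolvable L ∨ Group.IsSolvable K := Or.inr
    (Coprime.isSolvable_of_le (piCoreOf_le _ _)
      (hsol _ (centralizer_ne_top hs hna (show b ∈ (B : Set G) from hAB hbA) hb1)))
  let act : MulAction G (Subgroup G) := MulAction.compHom (Subgroup G) (MulAut.conj : G →* MulAut G)
  obtain ⟨Q₀, hQ₀, hQ₀L⟩ : ∃ Q ∈ maxInvSubgroups ⊤ B {q}, L ≤ Subgroup.normalizer (Q : Set G) := by
    obtain ⟨S, hS, -⟩ := exists_max_ge (q := q) (B := B) (U := ⊥)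
      (fun p hp hd => absurd (by simpa using hd) hp.ne_one)
      (fun b _ => Coprime.mem_normalizer_of_forall fun x hx => by
        rw [Subgroup.mem_bot] at hx ⊢; simp [hx])
    obtain ⟨Q, hQ, hfix⟩ := Coprime.exists_fixed_point hLK hcop hsolv
      (X := Subgroup G) (maxInvSubgroups ⊤ B {q}) ⟨S, hS⟩
      (fun l hl x hx => conj_mem_max (hn hl) hx)
      (fun k hk x hx => conj_mem_max
        (Subgroup.centralizer_le_normalizer _ (piCoreOf_le _ _ hk)) hx)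
      (fun x hx y hy => by
        obtain ⟨k, hk, e⟩ := htr x hx y hy
        exact ⟨k, hk, e.symm⟩)
    exact ⟨Q, hQ, fun l hl => Coprime.mem_normalizer_of_conj_eq (hfix l hl)⟩
  have hLB : ∀ Q ∈ maxInvSubgroups ⊤ L {q}, Q ∈ maxInvSubgroups ⊤ B {q} := by
    intro Q hQ
    by_cases hQ1 : Q = ⊥
    · subst hQ1
      rw [← hQ.2 Q₀ ⟨le_top, hQ₀.1.2.1, hQ₀L⟩ bot_le]
      exact hQ₀
    · have h := mem_max_of_ne_bot hA hsol hs hq hqA (hAB.trans hBL) hLπ hQ hQ1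
      exact ⟨⟨le_top, hQ.1.2.1, hBL.trans (mem_inv_top hQ)⟩, fun R hR hle =>
        h.2 R ⟨le_top, hR.2.1, hAB.trans hR.2.2⟩ hle⟩
  refine ⟨fun Q hQ => hsub (hLB Q hQ), fun Q₁ h₁ Q₂ h₂ => ?_⟩
  obtain ⟨k, hk, e⟩ := htr Q₁ (hLB _ h₁) Q₂ (hLB _ h₂)
  obtain ⟨c, hc, hce⟩ := Coprime.exists_mem_centralizer_conj hLK hcop hsolv hk (mem_inv_top h₁)
    (e ▸ mem_inv_top h₂)
  refine ⟨c, ?_, by rw [e, hce]⟩
  rw [← coreK_inf hA hs L (hAB.trans hBL)]
  refine ⟨?_, hc.2⟩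
  have h3 := coreK_inf hA hs B hAB
  exact (h3.ge hc.1).1

theorem inherits_of_subnormal (hna : ¬ IsMulCommutative G) {P : Subgroup G} (hAP : A ≤ P)
    (hPπ : ∀ r : ℕ, r.Prime → r ∣ Nat.card P → r ∣ Nat.card A)
    (hsn : (A.subgroupOf P).IsSubnormal) (htr : Inherits A A q) : Inherits A P q := by
  suffices h : ∀ H : Subgroup P, H.IsSubnormal → A.subgroupOf P ≤ H →
      Inherits A (H.map P.subtype) q → Inherits A P q by
    refine h _ hsn le_rfl ?_
    rwa [Subgroup.map_subgroupOf_eq_of_le hAP]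
  intro H hH
  induction hH with
  | top =>
    intro _ h
    rwa [← MonoidHom.range_eq_map, Subgroup.range_subtype] at h
  | step H K hle _ hN ih =>
    intro hAH h
    refine ih (hAH.trans hle) (inherits_step hA hsol hs hq hqA hna ?_ (Subgroup.map_mono hle) ?_ ?_ h)
    · rw [← Subgroup.map_subgroupOf_eq_of_le hAP]
      exact Subgroup.map_mono hAH
    · rintro _ ⟨k, hk, rfl⟩
      refine Coprime.mem_normalizer_of_forall ?_
      rintro _ ⟨x, hx, rfl⟩
      exact ⟨k * x * k⁻¹, hN.conj_mem ⟨x, hle hx⟩ hx ⟨k, hk⟩, by simp⟩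
    · exact fun r hr hd => hPπ r hr (hd.trans (Subgroup.card_dvd_of_le (Subgroup.map_subtype_le _)))

omit hA hsol hs hq hqA in
theorem normalizer_eq_sup {P : Subgroup G}
    (h : ∀ Q₁ ∈ maxInvSubgroups ⊤ P {q}, ∀ Q₂ ∈ maxInvSubgroups ⊤ P {q},
      ∃ k ∈ piCoreOf (primesNotDvd (Nat.card A)) (Subgroup.centralizer (P : Set G)),
        Q₂ = MulAut.conj k • Q₁)
    {Q : Subgroup G} (hQ : Q ∈ maxInvSubgroups ⊤ P {q}) :
    Subgroup.normalizer (P : Set G) =
      piCoreOf (primesNotDvd (Nat.card A)) (Subgroup.centralizer (P : Set G)) ⊔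
        (Subgroup.normalizer (P : Set G) ⊓ Subgroup.normalizer (Q : Set G)) := by
  refine le_antisymm (fun g hg => ?_)
    (sup_le ((piCoreOf_le _ _).trans (Subgroup.centralizer_le_normalizer _)) inf_le_left)
  obtain ⟨k, hk, e⟩ := h Q hQ _ (conj_mem_max hg hQ)
  have h1 : k⁻¹ * g ∈ Subgroup.normalizer (P : Set G) ⊓ Subgroup.normalizer (Q : Set G) := by
    refine ⟨Subgroup.mul_mem _ (Subgroup.inv_mem _ (Subgroup.centralizer_le_normalizer _ (piCoreOf_le _ _ hk))) hg,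
      Coprime.mem_normalizer_of_conj_eq ?_⟩
    rw [map_mul, mul_smul, e, ← mul_smul, ← map_mul, inv_mul_cancel, map_one, one_smul]
  simpa using mul_mem (Subgroup.mem_sup_left hk) (Subgroup.mem_sup_right h1)

omit hA hsol hs hq hqA in
/-- If `N = K M` with `K` normal and `P ≤ M` of order prime to `|K|`, then `P ∩ N' ≤ M'`. -/
theorem inf_commutator_le {N K M P : Subgroup G} (hKM : N = K ⊔ M)
    (hN : N ≤ Subgroup.normalizer (K : Set G)) (hP : P ≤ M)
    (hcop : (Nat.card P).Coprime (Nat.card K)) : P ⊓ ⁅N, N⁆ ≤ ⁅M, M⁆ := by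
  have hKN : K ≤ N := hKM ▸ le_sup_left
  have hMN : M ≤ N := hKM ▸ le_sup_right
  have hMK : M ≤ Subgroup.normalizer (K : Set G) := hMN.trans hN
  have hn : (K.subgroupOf N).Normal := Subgroup.normal_subgroupOf_of_le_normalizer hN
  have h1 : ⁅N, N⁆ ≤ K ⊔ ⁅M, M⁆ := by
    rw [Subgroup.commutator_le]
    intro a ha b hb
    obtain ⟨k, hk, m, hm, rfl⟩ := (Coprime.mem_sup_iff hMK).1 (hKM ▸ ha)
    obtain ⟨l, hl, n, hn', rfl⟩ := (Coprime.mem_sup_iff hMK).1 (hKM ▸ hb)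
    let f := QuotientGroup.mk' (K.subgroupOf N)
    have hk1 : f ⟨k, hKN hk⟩ = 1 := (QuotientGroup.eq_one_iff _).2 hk
    have hl1 : f ⟨l, hKN hl⟩ = 1 := (QuotientGroup.eq_one_iff _).2 hl
    have h2 : f ⁅(⟨k, hKN hk⟩ : N) * ⟨m, hMN hm⟩, (⟨l, hKN hl⟩ : N) * ⟨n, hMN hn'⟩⁆ =
        f ⁅(⟨m, hMN hm⟩ : N), (⟨n, hMN hn'⟩ : N)⁆ := by
      simp only [map_commutatorElement, map_mul, hk1, hl1, one_mul]
    have h3 : ⁅k * m, l * n⁆ * ⁅m, n⁆⁻¹ ∈ K := by
      have h4 := (QuotientGroup.eq_iff_div_mem.1 h2)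
      rw [div_eq_mul_inv] at h4
      exact h4
    have := mul_mem (Subgroup.mem_sup_left h3) (Subgroup.mem_sup_right
      (Subgroup.commutator_mem_commutator hm hn') : ⁅m, n⁆ ∈ K ⊔ ⁅M, M⁆)
    rwa [inv_mul_cancel_right] at this
  intro x hx
  have hcomm : ⁅M, M⁆ ≤ M := Subgroup.commutator_le_self M
  obtain ⟨k, hk, y, hy, hxy⟩ := (Coprime.mem_sup_iff (hcomm.trans hMK)).1 (h1 hx.2)
  have hkM : k ∈ M := by
    have : k = x * y⁻¹ := by rw [← hxy]; group
    rw [this]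
    exact mul_mem (hP hx.1) (inv_mem (hcomm hy))
  have hD : (⁅M, M⁆.subgroupOf M).Normal := by
    rw [← Subgroup.map_subtype_commutator, Subgroup.subgroupOf,
      Subgroup.comap_map_eq_self_of_injective M.subtype_injective]
    infer_instance
  let g := QuotientGroup.mk' (⁅M, M⁆.subgroupOf M)
  have hgx : g ⟨x, hP hx.1⟩ = g ⟨k, hkM⟩ := by
    refine QuotientGroup.eq.2 ?_
    show x⁻¹ * k ∈ ⁅M, M⁆
    have : x⁻¹ * k = y⁻¹ := by rw [← hxy]; group
    rw [this]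
    exact inv_mem hy
  have h3 : orderOf (g ⟨x, hP hx.1⟩) ∣ Nat.card P := by
    refine (orderOf_map_dvd g _).trans ?_
    rw [Subgroup.orderOf_mk]
    have := orderOf_dvd_natCard (⟨x, hx.1⟩ : P)
    rwa [Subgroup.orderOf_mk] at this
  have h4 : orderOf (g ⟨x, hP hx.1⟩) ∣ Nat.card K := by
    rw [hgx]
    refine (orderOf_map_dvd g _).trans ?_
    rw [Subgroup.orderOf_mk]
    have := orderOf_dvd_natCard (⟨k, hk⟩ : K)
    rwa [Subgroup.orderOf_mk] at this
  have h5 := orderOf_eq_one_iff.1 (Nat.eq_one_of_dvd_coprimes hcop h3 h4)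
  exact (QuotientGroup.eq_one_iff (N := ⁅M, M⁆.subgroupOf M) (⟨x, hP hx.1⟩ : M)).1 h5

end Simple

/-- A witness for `¬ RankLE k` of a subgroup. -/
theorem exists_elementary_of_not_rankLE [Finite G] {k : ℕ} {Z : Subgroup G} (h : ¬ RankLE k ↥Z) :
    ∃ (p : ℕ) (E : Subgroup G), p.Prime ∧ IsElementaryAbelian p E ∧ E ≤ Z ∧
      p ^ (k + 1) ≤ Nat.card E := by
  simp only [RankLE, PRankLE, not_forall, not_le] at h
  obtain ⟨p, hp, A, hA, hA', hcard⟩ := h
  have : Fact p.Prime := ⟨hp⟩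
  have hE : IsElementaryAbelian p (A.map Z.subtype) := by
    refine ⟨⟨⟨?_⟩⟩, ?_⟩
    · rintro ⟨_, a, ha, rfl⟩ ⟨_, b, hb, rfl⟩
      exact Subtype.ext (congrArg (fun x : A => ((x : Z) : G)) (mul_comm' (⟨a, ha⟩ : A) ⟨b, hb⟩))
    · rintro _ ⟨a, ha, rfl⟩
      rw [← map_pow, hA' a ha, map_one]
  refine ⟨p, _, hp, hE, Subgroup.map_subtype_le _, ?_⟩
  obtain ⟨j, hj⟩ := (Signalizer.isPGroup_of_elemAb hE).exists_card_eq
  rw [Subgroup.card_map_of_injective Z.subtype_injective] at hj ⊢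
  rw [hj] at hcard ⊢
  exact Nat.pow_le_pow_right hp.pos ((Nat.pow_lt_pow_iff_right hp.one_lt).1 hcard)

end Cfsg.Agent.OddTrans
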