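import Cfsg.Agent.EqLemmas

/-!
Elementary facts about type-P data (no minimal-simplicity hypothesis):
* `fittingHall_coprime`: the join `fittingHall M` is a Hall subgroup;
* `card_complement_coprime`: in type-P data, `U` has order prime to that of `M_F`;
* `centralizes_of_mem_sup`: elements of `U` inside `M_F C_M(M_F)` centralise `M_F`.
-/

set_option autoImplicit false

namespace Cfsg.Agent.OddTypeP

variable {G : Type*} [Group G]

/-- The join of two subgroups, one normal, with order coprime to index, again has this property. -/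
theorem coprime_index_sup [Finite G] {N K : Subgroup G} [K.Normal]
    (hN : (Nat.card N).Coprime N.index) (hK : (Nat.card K).Coprime K.index) :
    (Nat.card ↥(N ⊔ K)).Coprime (N ⊔ K).index := by
  have h1 : Nat.card ↥(N ⊔ K) = K.relIndex N * Nat.card K := by
    rw [← Subgroup.relIndex_sup_right (H := N), mul_comm]
    have := Subgroup.card_mul_index (K.subgroupOf (N ⊔ K))
    rw [Nat.card_congr (Subgroup.subgroupOfEquivOfLe le_sup_right).toEquiv] at this
    exact this.symm
  have h2 : K.relIndex N ∣ Nat.card N := Subgroup.index_dvd_card _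
  apply Nat.coprime_of_dvd
  intro p hp hpc hpi
  rw [h1] at hpc
  rcases (Nat.Prime.dvd_mul hp).1 hpc with h | h
  · exact hp.not_dvd_one (hN ▸ Nat.dvd_gcd (h.trans h2)
      (hpi.trans (Subgroup.index_dvd_of_le le_sup_left)))
  · exact hp.not_dvd_one (hK ▸ Nat.dvd_gcd h
      (hpi.trans (Subgroup.index_dvd_of_le le_sup_right)))

/-- `fittingHall M` has order coprime to its index. -/
theorem fittingHall_coprime (M : Type*) [Group M] [Finite M] :
    (Nat.card (fittingHall M)).Coprime (fittingHall M).index := by
  unfold fittingHall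
  set S := {N : Subgroup M | N.Normal ∧ Group.IsNilpotent N ∧ (Nat.card N).Coprime N.index}
  suffices h : ∀ T : Set (Subgroup M), T ⊆ S →
      (sSup T).Normal ∧ (Nat.card ↥(sSup T)).Coprime (sSup T).index from (h S subset_rfl).2
  intro T hT
  induction T, T.toFinite using Set.Finite.induction_on with
  | empty =>
    rw [sSup_empty]
    exact ⟨inferInstance, by simp⟩
  | @insert a s _ _ ih =>
    obtain ⟨i1, i2⟩ := ih ((Set.subset_insert a s).trans hT)
    obtain ⟨a1, -, a3⟩ := hT (Set.mem_insert a s)
    rw [sSup_insert]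
    have := i1
    have := a1
    exact ⟨Subgroup.sup_normal a (sSup s), coprime_index_sup a3 i2⟩

theorem normal_of_map (M : Subgroup G) : M ≤ Subgroup.normalizer (fittingHallOf M : Set G) := by
  intro m hm
  rw [Subgroup.mem_normalizer_iff]
  intro x
  constructor
  · rintro ⟨y, hy, rfl⟩
    exact ⟨⟨m, hm⟩ * y * ⟨m, hm⟩⁻¹, (fittingHall_normal M).conj_mem y hy _, by simp⟩
  · rintro ⟨y, hy, hxy⟩
    refine ⟨⟨m, hm⟩⁻¹ * y * ⟨m, hm⟩, ?_, ?_⟩
    · simpa using (fittingHall_normal M).conj_mem y hy ⟨m, hm⟩⁻¹
    · simp only [Subgroup.coe_subtype] at hxy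
      simp [hxy, mul_assoc]

theorem fittingHallOf_le (M : Subgroup G) : fittingHallOf M ≤ M := Subgroup.map_subtype_le _

/-- A subgroup of `M` meeting `fittingHallOf M` trivially has order coprime to it. -/
theorem card_complement_coprime [Finite G] {M U : Subgroup G} (hU : U ≤ M)
    (hd : fittingHallOf M ⊓ U = ⊥) :
    (Nat.card (fittingHallOf M)).Coprime (Nat.card U) := by
  have hc : Nat.card (fittingHallOf M) = Nat.card (fittingHall M) :=
    Subgroup.card_map_of_injective M.subtype_injective
  have hdiv : Nat.card U ∣ (fittingHall M).index := by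
    have h1 : (fittingHall M).relIndex (U.subgroupOf M) = Nat.card (U.subgroupOf M) := by
      have : (fittingHall M) ⊓ U.subgroupOf M = ⊥ := by
        rw [eq_bot_iff]
        intro x hx
        rw [Subgroup.mem_bot]
        apply Subtype.ext
        have : (x : G) ∈ fittingHallOf M ⊓ U := ⟨⟨x, hx.1, rfl⟩, hx.2⟩
        rw [hd, Subgroup.mem_bot] at this
        simpa using this
      rw [← Subgroup.inf_relIndex_right, this, Subgroup.relIndex_bot_left]
    rw [← Nat.card_congr (Subgroup.subgroupOfEquivOfLe hU).toEquiv, ← h1]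
    exact Subgroup.relIndex_dvd_index_of_normal _ _
  rw [hc]
  exact Nat.Coprime.of_dvd_right hdiv (fittingHall_coprime M)

/-- An element of order prime to `|H|` in `H C(H)` centralises `H`. -/
theorem centralizes_of_mem_sup [Finite G] {H C : Subgroup G}
    (hC : C ≤ Subgroup.centralizer (H : Set G))
    {u : G} (hu : u ∈ H ⊔ C) (ho : (orderOf u).Coprime (Nat.card H)) :
    u ∈ Subgroup.centralizer (H : Set G) := by
  have hn : C ≤ Subgroup.normalizer (H : Set G) :=
    hC.trans (Subgroup.centralizer_le_normalizer _)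
  rw [← SetLike.mem_coe, Subgroup.coe_mul_of_right_le_normalizer_left H C hn] at hu
  obtain ⟨h, hh, c, hc, rfl⟩ := Set.mem_mul.1 hu
  have hcomm : Commute h c := Subgroup.mem_centralizer_iff.1 (hC hc) h hh
  have hpow : (h * c) ^ Nat.card H ∈ Subgroup.centralizer (H : Set G) := by
    rw [hcomm.mul_pow]
    have : h ^ Nat.card H = 1 := by
      have := congrArg Subtype.val (pow_card_eq_one' (x := (⟨h, hh⟩ : H)))
      rwa [Subgroup.coe_pow, Subgroup.coe_one] at this
    rw [this, one_mul]
    exact Subgroup.pow_mem _ (hC hc) _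
  obtain ⟨k, hk⟩ := exists_pow_eq_self_of_coprime ho.symm
  rw [← hk]
  exact Subgroup.pow_mem _ hpow k

theorem mem_centralizer_of_mem_sup_centralizer [Finite G] {M U : Subgroup G}
    (hUM : U ≤ M) (hd : fittingHallOf M ⊓ U = ⊥) {u : G} (hu : u ∈ U)
    (h : u ∈ fittingHallOf M ⊔ (M ⊓ Subgroup.centralizer (fittingHallOf M : Set G))) :
    u ∈ Subgroup.centralizer (fittingHallOf M : Set G) := by
  refine centralizes_of_mem_sup inf_le_right h ?_
  refine Nat.Coprime.of_dvd_left ?_ (card_complement_coprime hUM hd).symm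
  have := orderOf_dvd_natCard (⟨u, hu⟩ : U)
  rwa [Subgroup.orderOf_mk] at this

end Cfsg.Agent.OddTypeP
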