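import Cfsg.Agent.Lib.OddOrder.SigmaBasic
import Cfsg.Agent.Lib.OddOrder.Transitivity
import Cfsg.Agent.Lib.OddOrder.TypeP
import Cfsg.Agent.Lib.Cores.Fitting

/-!
Maximal subgroups of a minimal simple group of odd order: facts on `M_σ`, `M_F`, `F(M)` that need
only the definitions (preparation for Bender-Glauberman sections 14-16).
* `normalizer_eq`, `commutator_lt`
* `sigmaCore_le`, `le_normalizer_sigmaCore`, `sigmaCore_pi`, `le_sigmaCore`
* `fittingHallOf_le_sigmaCore`, `le_fittingHallOf`, `fittingHallOf_coprime_index`,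
  `fittingHallOf_eq_of_nilpotent`
* `mem_sigma_iff`, conjugation: `sigma_conj`, `sigmaCore_conj`, `fittingHallOf_conj`
-/

set_option autoImplicit false

namespace Cfsg.Agent.OddMax

open scoped Pointwise

variable {G : Type*} [Group G]

section Local

variable {M X Y : Subgroup G} {π : Set ℕ}

theorem le_normalizer_map_of_normal (N : Subgroup M) [N.Normal] :
    M ≤ Subgroup.normalizer (N.map M.subtype : Set G) := by
  have h := Subgroup.le_normalizer_map (H := N) M.subtype
  rwa [Subgroup.normalizer_eq_top, ← MonoidHom.range_eq_map, Subgroup.range_subtype] at h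

theorem sigmaCore_eq (M : Subgroup G) : sigmaCore M = piCoreOf (sigma M) M := rfl

theorem sigmaCore_le (M : Subgroup G) : sigmaCore M ≤ M := Subgroup.map_subtype_le _

theorem le_normalizer_sigmaCore (M : Subgroup G) :
    M ≤ Subgroup.normalizer (sigmaCore M : Set G) :=
  OddTrans.le_normalizer_piCoreOf _ _

theorem sigmaCore_pi [Finite G] (M : Subgroup G) :
    Solvable.IsPiNum (sigma M) (Nat.card (sigmaCore M)) :=
  OddTrans.piCoreOf_pi _ _

theorem le_sigmaCore {N : Subgroup G} (hN : N ≤ M) (hn : M ≤ Subgroup.normalizer (N : Set G))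
    (hπ : Solvable.IsPiNum (sigma M) (Nat.card N)) : N ≤ sigmaCore M :=
  OddTrans.le_piCoreOf hN hn hπ

theorem fittingOf_le (M : Subgroup G) : fittingOf M ≤ M := Subgroup.map_subtype_le _

theorem le_normalizer_fittingOf (M : Subgroup G) : M ≤ Subgroup.normalizer (fittingOf M : Set G) :=
  le_normalizer_map_of_normal _

theorem fittingOf_nilpotent [Finite G] (M : Subgroup G) : Group.IsNilpotent (fittingOf M) :=
  Cores.isNilpotent_map M.subtype (Cores.fittingSubgroup_isNilpotent (G := M))

theorem le_fittingOf {N : Subgroup G} (hN : N ≤ M) (hn : M ≤ Subgroup.normalizer (N : Set G))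
    (hnil : Group.IsNilpotent N) : N ≤ fittingOf M := by
  have := hnil
  have h : N.subgroupOf M ≤ fittingSubgroup M := Cores.le_fittingSubgroup
    (Subgroup.normal_subgroupOf_of_le_normalizer hn)
    (Group.nilpotent_of_mulEquiv (Subgroup.subgroupOfEquivOfLe hN).symm)
  intro x hx
  exact ⟨⟨x, hN hx⟩, h hx, rfl⟩

theorem relIndex_eq_index (H : Subgroup G) (K : Subgroup H) :
    (K.map H.subtype).relIndex H = K.index := by
  rw [Subgroup.relIndex, Subgroup.subgroupOf, Subgroup.comap_map_eq_self_of_injective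
    H.subtype_injective]

theorem fittingHall_le_fittingSubgroup (M : Subgroup G) :
    fittingHall M ≤ fittingSubgroup M :=
  sSup_le fun _ h => le_sSup ⟨h.1, h.2.1⟩

theorem fittingHallOf_le_fittingOf (M : Subgroup G) : fittingHallOf M ≤ fittingOf M :=
  Subgroup.map_mono (fittingHall_le_fittingSubgroup M)

theorem le_normalizer_fittingHallOf (M : Subgroup G) :
    M ≤ Subgroup.normalizer (fittingHallOf M : Set G) :=
  OddTypeP.normal_of_map M

theorem fittingHallOf_nilpotent [Finite G] (M : Subgroup G) : Group.IsNilpotent (fittingHallOf M) :=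
  Cores.isNilpotent_of_le (fittingHallOf_le_fittingOf M) (fittingOf_nilpotent M)

/-- `M_F` is a Hall subgroup of `M`. -/
theorem fittingHallOf_coprime [Finite G] (M : Subgroup G) :
    (Nat.card (fittingHallOf M)).Coprime ((fittingHallOf M).relIndex M) := by
  rw [show fittingHallOf M = (fittingHall M).map M.subtype from rfl, relIndex_eq_index,
    Subgroup.card_map_of_injective M.subtype_injective]
  exact OddTypeP.fittingHall_coprime M

theorem le_fittingHallOf {N : Subgroup G} (hN : N ≤ M) (hn : M ≤ Subgroup.normalizer (N : Set G))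
    (hnil : Group.IsNilpotent N) (hcop : (Nat.card N).Coprime (N.relIndex M)) :
    N ≤ fittingHallOf M := by
  have := hnil
  have h : N.subgroupOf M ≤ fittingHall M := le_sSup
    ⟨Subgroup.normal_subgroupOf_of_le_normalizer hn,
      Group.nilpotent_of_mulEquiv (Subgroup.subgroupOfEquivOfLe hN).symm,
      by rw [Cores.card_subgroupOf hN]; exact hcop⟩
  intro x hx
  exact ⟨⟨x, hN hx⟩, h hx, rfl⟩

/-- A Sylow subgroup of a nilpotent subgroup is normalised by the normaliser of that subgroup. -/
theorem normalizer_le_normalizer_sylow [Finite G] {H : Subgroup G} (hH : Group.IsNilpotent H)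
    {p : ℕ} [Fact p.Prime] (S : Sylow p H) :
    Subgroup.normalizer (H : Set G) ≤
      Subgroup.normalizer ((S : Subgroup H).map H.subtype : Set G) := by
  have hn : (S : Subgroup H).Normal :=
    (Group.isNilpotent_of_finite_tfae.out 0 3 rfl rfl).1 hH p ‹_› S
  have := Sylow.characteristic_of_normal S hn
  exact Cores.normalizer_le_normalizer_map (S : Subgroup H)

/-- A `p`-subgroup of `M` of `p'`-index is the image of a Sylow subgroup of `M`. -/
theorem exists_sylow_eq [Finite G] {p : ℕ} [Fact p.Prime] {S : Subgroup G} (hS : IsPGroup p S)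
    (hSM : S ≤ M) (hi : ¬ p ∣ S.relIndex M) :
    ∃ P : Sylow p M, (P : Subgroup M).map M.subtype = S := by
  refine ⟨(hS.comap_of_injective M.subtype M.subtype_injective).toSylow hi, ?_⟩
  exact Subgroup.map_subgroupOf_eq_of_le hSM

theorem sylow_relIndex [Finite G] {p : ℕ} [Fact p.Prime] (P : Sylow p M) :
    ¬ p ∣ ((P : Subgroup M).map M.subtype).relIndex M := by
  rw [relIndex_eq_index]
  exact P.not_dvd_index

/-- Characterisation of `σ(M)` by `p`-subgroups of `p'`-index. -/
theorem mem_sigma_iff [Finite G] {p : ℕ} [Fact p.Prime] :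
    p ∈ sigma M ↔ p ∣ Nat.card M ∧ ∃ S ≤ M, IsPGroup p S ∧ ¬ p ∣ S.relIndex M ∧
      Subgroup.normalizer (S : Set G) ≤ M := by
  constructor
  · rintro ⟨-, hd, P, hP⟩
    exact ⟨hd, _, Subgroup.map_subtype_le _, P.2.map _, sylow_relIndex P, hP⟩
  · rintro ⟨hd, S, hSM, hS, hi, hN⟩
    obtain ⟨P, hP⟩ := exists_sylow_eq hS hSM hi
    exact ⟨Fact.out, hd, P, by rwa [hP]⟩

theorem normalizer_le_of_mem_sigma [Finite G] {p : ℕ} [Fact p.Prime] (hp : p ∈ sigma M)
    {S : Subgroup G} (hS : IsPGroup p S) (hSM : S ≤ M) (hi : ¬ p ∣ S.relIndex M) :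
    Subgroup.normalizer (S : Set G) ≤ M := by
  obtain ⟨P, hP⟩ := exists_sylow_eq hS hSM hi
  exact hP ▸ OddSigma.sigma_normalizer_le hp P

/-- For `p ∈ σ(M)` the index of `M` is prime to `p`. -/
theorem not_dvd_index_of_mem_sigma [Finite G] {p : ℕ} (hp : p ∈ sigma M) : ¬ p ∣ M.index := by
  obtain ⟨P⟩ : Nonempty (Sylow p M) := inferInstance
  exact fun h => OddSigma.sylow_index_of_sigma hp P
    (h.trans (Subgroup.index_dvd_of_le (Subgroup.map_subtype_le _)))

theorem sigma_dvd {p : ℕ} (hp : p ∈ sigma M) : p ∣ Nat.card M := hp.2.1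

theorem coprime_index_of_pi [Finite G] (h : Solvable.IsPiNum (sigma M) (Nat.card X)) :
    (Nat.card X).Coprime M.index :=
  Nat.coprime_of_dvd fun p hp h1 h2 => not_dvd_index_of_mem_sigma (h p hp h1) h2

end Local

section Conj
set_option linter.unusedSectionVars false

variable [Finite G] (g : G) (M : Subgroup G)

theorem normalizer_conj (H : Subgroup G) :
    Subgroup.normalizer ((MulAut.conj g • H : Subgroup G) : Set G) =
      MulAut.conj g • Subgroup.normalizer (H : Set G) :=
  (Subgroup.map_equiv_normalizer_eq H (MulAut.conj g)).symm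

theorem relIndex_conj (H K : Subgroup G) :
    (MulAut.conj g • H).relIndex (MulAut.conj g • K) = H.relIndex K :=
  Subgroup.relIndex_map_map_of_injective H K (MulAut.conj g).injective

theorem isPGroup_conj {p : ℕ} {H : Subgroup G} (h : IsPGroup p H) :
    IsPGroup p ↥(MulAut.conj g • H) := h.map _

theorem conj_le_conj {H K : Subgroup G} : MulAut.conj g • H ≤ MulAut.conj g • K ↔ H ≤ K :=
  Subgroup.pointwise_smul_le_pointwise_smul_iff

theorem sigma_conj : sigma (MulAut.conj g • M) = sigma M := by
  have key : ∀ (a : G) (H : Subgroup G), sigma H ⊆ sigma (MulAut.conj a • H) := by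
    intro a H p hp
    have : Fact p.Prime := ⟨hp.1⟩
    rw [mem_sigma_iff] at hp ⊢
    obtain ⟨hd, S, hSM, hS, hi, hN⟩ := hp
    exact ⟨by rwa [Solvable.card_conj], _, (conj_le_conj a).2 hSM, isPGroup_conj a hS,
      by rwa [relIndex_conj], by rw [normalizer_conj]; exact (conj_le_conj a).2 hN⟩
  refine subset_antisymm ?_ (key g M)
  have h := key g⁻¹ (MulAut.conj g • M)
  rwa [Solvable.conj_inv_smul] at h

theorem piCoreOf_conj (π : Set ℕ) :
    piCoreOf π (MulAut.conj g • M) = MulAut.conj g • piCoreOf π M := by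
  have key : ∀ (a : G) (H : Subgroup G),
      MulAut.conj a • piCoreOf π H ≤ piCoreOf π (MulAut.conj a • H) := by
    intro a H
    refine OddTrans.le_piCoreOf ((conj_le_conj a).2 (OddTrans.piCoreOf_le _ _)) ?_ ?_
    · rw [normalizer_conj]
      exact (conj_le_conj a).2 (OddTrans.le_normalizer_piCoreOf _ _)
    · intro p hp hd
      exact OddTrans.piCoreOf_pi π H p hp (by rwa [Solvable.card_conj] at hd)
  refine le_antisymm ?_ (key g M)
  have h := (conj_le_conj g).2 (key g⁻¹ (MulAut.conj g • M))
  rwa [Solvable.conj_inv_smul, Solvable.conj_conj, mul_inv_cancel, Solvable.conj_one_smul] at h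

theorem sigmaCore_conj : sigmaCore (MulAut.conj g • M) = MulAut.conj g • sigmaCore M := by
  rw [sigmaCore_eq, sigma_conj, piCoreOf_conj, sigmaCore_eq]

theorem fittingHallOf_conj :
    fittingHallOf (MulAut.conj g • M) = MulAut.conj g • fittingHallOf M := by
  have key : ∀ (a : G) (H : Subgroup G),
      MulAut.conj a • fittingHallOf H ≤ fittingHallOf (MulAut.conj a • H) := by
    intro a H
    refine le_fittingHallOf ((conj_le_conj a).2 (OddTypeP.fittingHallOf_le _)) ?_
      (Cores.isNilpotent_map _ (fittingHallOf_nilpotent H)) ?_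
    · rw [normalizer_conj]
      exact (conj_le_conj a).2 (le_normalizer_fittingHallOf H)
    · rw [relIndex_conj, Solvable.card_conj]
      exact fittingHallOf_coprime H
  refine le_antisymm ?_ (key g M)
  have h := (conj_le_conj g).2 (key g⁻¹ (MulAut.conj g • M))
  rwa [Solvable.conj_inv_smul, Solvable.conj_conj, mul_inv_cancel, Solvable.conj_one_smul] at h

end Conj

section MinSimple

variable [Finite G] (hG : IsMinSimpleOddOrder G) {M : Subgroup G} (hM : IsCoatom M)
include hG hM

/-- A maximal subgroup is the normaliser of each of its nontrivial normal subgroups. -/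
theorem normalizer_eq {X : Subgroup G} (hX1 : X ≠ ⊥) (hXM : X ≤ M)
    (hn : M ≤ Subgroup.normalizer (X : Set G)) : Subgroup.normalizer (X : Set G) = M :=
  (hn.eq_or_lt).elim Eq.symm fun h => absurd (hM.2 _ h)
    (OddSigma.normalizer_ne_top hG hX1 fun ht => hM.1 (top_le_iff.1 (ht ▸ hXM)))

theorem commutator_lt : ⁅M, M⁆ < M := by
  have := OddSigma.proper_solvable hG hM.1
  exact Solvable.commutator_lt_of_solvable (OddSigma.coatom_ne_bot hG hM)

/-- The primes of `M_F` belong to `σ(M)`. -/
theorem mem_sigma_of_dvd_fittingHallOf {p : ℕ} [Fact p.Prime]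
    (h : p ∣ Nat.card (fittingHallOf M)) : p ∈ sigma M := by
  obtain ⟨S⟩ : Nonempty (Sylow p (fittingHallOf M)) := inferInstance
  set T := (S : Subgroup (fittingHallOf M)).map (fittingHallOf M).subtype with hT
  have hTle : T ≤ fittingHallOf M := Subgroup.map_subtype_le _
  have hTM : T ≤ M := hTle.trans (OddTypeP.fittingHallOf_le M)
  have hMT : M ≤ Subgroup.normalizer (T : Set G) := (le_normalizer_fittingHallOf M).trans
    (normalizer_le_normalizer_sylow (fittingHallOf_nilpotent M) S)
  have hT1 : T ≠ ⊥ := by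
    intro h1
    have h2 := congrArg (fun H : Subgroup G => Nat.card H) h1
    simp only [hT, Subgroup.card_map_of_injective (fittingHallOf M).subtype_injective,
      Subgroup.card_bot, S.card_eq_multiplicity] at h2
    exact (Fact.out : p.Prime).one_lt.ne' ((Nat.pow_eq_one.1 h2).resolve_right
      ((Fact.out : p.Prime).factorization_pos_of_dvd Nat.card_pos.ne' h).ne')
  refine mem_sigma_iff.2 ⟨h.trans (Subgroup.card_dvd_of_le (OddTypeP.fittingHallOf_le M)),
    T, hTM, S.2.map _, ?_, (normalizer_eq hG hM hT1 hTM hMT).le⟩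
  intro hd
  rw [← Subgroup.relIndex_mul_relIndex T (fittingHallOf M) M hTle
    (OddTypeP.fittingHallOf_le M)] at hd
  rcases (Fact.out : p.Prime).dvd_mul.1 hd with hd | hd
  · exact sylow_relIndex S hd
  · exact (Fact.out : p.Prime).not_dvd_one
      ((fittingHallOf_coprime M) ▸ Nat.dvd_gcd h hd)

theorem fittingHallOf_pi : Solvable.IsPiNum (sigma M) (Nat.card (fittingHallOf M)) :=
  fun p hp hd => have := Fact.mk hp; mem_sigma_of_dvd_fittingHallOf hG hM hd

theorem fittingHallOf_le_sigmaCore : fittingHallOf M ≤ sigmaCore M :=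
  le_sigmaCore (OddTypeP.fittingHallOf_le M) (le_normalizer_fittingHallOf M)
    (fittingHallOf_pi hG hM)

/-- `M_F` is a Hall subgroup of `G`. -/
theorem fittingHallOf_coprime_index :
    (Nat.card (fittingHallOf M)).Coprime (fittingHallOf M).index := by
  rw [← Subgroup.relIndex_mul_index (OddTypeP.fittingHallOf_le M)]
  exact Nat.Coprime.mul_right (fittingHallOf_coprime M)
    (coprime_index_of_pi (fittingHallOf_pi hG hM))

theorem fittingHallOf_eq_of_nilpotent (hH : IsPiHallOf (sigma M) (sigmaCore M) M)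
    (hn : Group.IsNilpotent (sigmaCore M)) : fittingHallOf M = sigmaCore M :=
  le_antisymm (fittingHallOf_le_sigmaCore hG hM)
    (le_fittingHallOf (sigmaCore_le M) (le_normalizer_sigmaCore M) hn
      (Nat.coprime_of_dvd fun p hp h1 h2 => hH.2.2 p hp (hH.2.1 p hp h1) h2))

end MinSimple

end Cfsg.Agent.OddMax
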