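/-
Groups of `p`-length at most one.
Main results (namespace `Cfsg.Agent.PLengthOne`): `le_pPrimePCore`, `pLengthLE_one_iff`
(`p` does not divide the index of `O_{p',p}`), `of_normal_pair`, `subgroup` (heredity),
`of_le` (heredity inside an ambient group).
-/
import Cfsg.Agent.Lib.PSeries.Basic

set_option autoImplicit false

open Subgroup

namespace Cfsg.Agent.PLengthOne

variable {G : Type*} [Group G] {p : ℕ}

theorem pPrimeCore_le : pPrimeCore p G ≤ pPrimePCore p G :=
  (QuotientGroup.ker_mk' _).ge.trans (MonoidHom.ker_le_comap _ _)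

/-- `|O_{p',p} : O_{p'}|` is a power of `p`. -/
theorem relIndex_eq_pow [Finite G] [Fact p.Prime] :
    ∃ j, (pPrimeCore p G).relIndex (pPrimePCore p G) = p ^ j := by
  set f := QuotientGroup.mk' (pPrimeCore p G) with hf
  obtain ⟨j, hj⟩ := (Cores.isPGroup_pCore p (G ⧸ pPrimeCore p G)).exists_card_eq
  refine ⟨j, ?_⟩
  have h := Subgroup.relIndex_ker f (K := pPrimePCore p G)
  rw [hf, QuotientGroup.ker_mk'] at h
  rw [h, ← hj, pPrimePCore, Subgroup.map_comap_eq_self_of_surjective (QuotientGroup.mk'_surjective _)]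

/-- A normal `p'`-by-`p` subgroup lies in `O_{p',p}`. -/
theorem le_pPrimePCore [Finite G] [hp : Fact p.Prime] {N K : Subgroup G} [N.Normal] [hK : K.Normal]
    (hN : (Nat.card N).Coprime p) {j : ℕ} (hj : N.relIndex K = p ^ j) : K ≤ pPrimePCore p G := by
  rw [pPrimePCore, ← Subgroup.map_le_iff_le_comap]
  refine Cores.le_pCore (hK.map _ (QuotientGroup.mk'_surjective _)) ?_
  have h : Nat.card (K.map (QuotientGroup.mk' (pPrimeCore p G))) ∣ p ^ j := by
    rw [← hj, ← Subgroup.relIndex_ker, QuotientGroup.ker_mk']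
    exact relIndex_dvd_of_le_left K (Cores.le_pPrimeCore inferInstance hN)
  obtain ⟨i, -, hi⟩ := (Nat.dvd_prime_pow hp.out).mp h
  exact IsPGroup.of_card hi

theorem pLengthLE_one_iff [Finite G] [hp : Fact p.Prime] :
    PLengthLE p 1 G ↔ ((pPrimePCore p G).index).Coprime p := by
  have := (upperPSeries p G 2).2
  have h3 := PSeries.upperPSeries_succ_even (p := p) (G := G) even_two (QuotientGroup.mk' (upperPSeries p G 2).1)
    (QuotientGroup.mk'_surjective _) (QuotientGroup.ker_mk' _)
  show (upperPSeries p G (2 * 1 + 1)).1 = ⊤ ↔ _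
  rw [show 2 * 1 + 1 = 2 + 1 from rfl, h3, ← PSeries.upperPSeries_two]
  constructor
  · intro h
    have htop : pPrimeCore p (G ⧸ (upperPSeries p G 2).1) = ⊤ :=
      Subgroup.comap_injective (QuotientGroup.mk'_surjective _) (h.trans (Subgroup.comap_top _).symm)
    have := Cores.coprime_card_pPrimeCore (G := G ⧸ (upperPSeries p G 2).1) p
    rwa [htop, Subgroup.card_top] at this
  · intro h
    have htop : pPrimeCore p (G ⧸ (upperPSeries p G 2).1) = ⊤ :=
      top_le_iff.mp (Cores.le_pPrimeCore inferInstance (by rwa [Subgroup.card_top]))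
    rw [htop, Subgroup.comap_top]

/-- A normal `p'`-by-`p` subgroup of index prime to `p` gives `p`-length one. -/
theorem of_normal_pair [Finite G] [hp : Fact p.Prime] {N K : Subgroup G} [N.Normal] [K.Normal]
    (hN : (Nat.card N).Coprime p) {j : ℕ} (hj : N.relIndex K = p ^ j) (hK : (K.index).Coprime p) :
    PLengthLE p 1 G :=
  pLengthLE_one_iff.mpr (hK.coprime_dvd_left (index_dvd_of_le (le_pPrimePCore hN hj)))

/-- A group of order prime to `p` has `p`-length one. -/
theorem of_not_dvd [Finite G] [hp : Fact p.Prime] (h : ¬ p ∣ Nat.card G) : PLengthLE p 1 G :=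
  pLengthLE_one_iff.mpr ((Nat.Coprime.symm (hp.out.coprime_iff_not_dvd.mpr h)).coprime_dvd_left
    (Subgroup.index_dvd_card _))

/-- `p`-length one is inherited by subgroups. -/
theorem subgroup [Finite G] [hp : Fact p.Prime] (h : PLengthLE p 1 G) (H : Subgroup G) : PLengthLE p 1 H := by
  set N := pPrimeCore p G with hN
  set K := pPrimePCore p G with hK
  have hKn : K.Normal := inferInstanceAs ((pCore p (G ⧸ N)).comap (QuotientGroup.mk' N)).Normal
  obtain ⟨j, hj⟩ := relIndex_eq_pow (p := p) (G := G)
  have hcard : (Nat.card (N.subgroupOf H)).Coprime p := by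
    refine (Cores.coprime_card_pPrimeCore (G := G) p).coprime_dvd_left ?_
    rw [← Cores.card_map_subtype, Subgroup.subgroupOf_map_subtype]
    exact Subgroup.card_dvd_of_le inf_le_left
  have hdvd : (N.subgroupOf H).relIndex (K.subgroupOf H) ∣ p ^ j := by
    rw [← hj, Subgroup.subgroupOf, Subgroup.relIndex_comap, Subgroup.subgroupOf_map_subtype]
    rw [show N.relIndex (K ⊓ H) = (N.subgroupOf K).relIndex ((K ⊓ H).subgroupOf K) from
      (Subgroup.relIndex_subgroupOf inf_le_left).symm]
    exact Subgroup.relIndex_dvd_index_of_normal _ _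
  obtain ⟨i, -, hi⟩ := (Nat.dvd_prime_pow hp.out).mp hdvd
  exact of_normal_pair hcard hi ((pLengthLE_one_iff.mp h).coprime_dvd_left
    (Subgroup.relIndex_dvd_index_of_normal K H))

/-- `p`-length one goes along injective homomorphisms. -/
theorem of_injective {H : Type*} [Group H] [Finite G] [Finite H] [hp : Fact p.Prime] (f : H →* G)
    (hf : Function.Injective f) (h : PLengthLE p 1 G) : PLengthLE p 1 H := by
  have h1 := pLengthLE_one_iff.mp (subgroup h f.range)
  set e : H ≃* f.range := MonoidHom.ofInjective hf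
  obtain ⟨j, hj⟩ := relIndex_eq_pow (p := p) (G := f.range)
  have hKn : (pPrimePCore p f.range).Normal :=
    inferInstanceAs ((pCore p (f.range ⧸ pPrimeCore p f.range)).comap (QuotientGroup.mk' (pPrimeCore p f.range))).Normal
  refine of_normal_pair (N := (pPrimeCore p f.range).comap e.toMonoidHom)
    (K := (pPrimePCore p f.range).comap e.toMonoidHom) (hN := ?_) (j := j) ?_ ?_ (hp := hp)
  · rw [← Subgroup.card_map_of_injective (f := e.toMonoidHom) e.injective,
      Subgroup.map_comap_eq_self_of_surjective (f := e.toMonoidHom) e.surjective]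
    exact Cores.coprime_card_pPrimeCore p
  · rw [Subgroup.relIndex_comap, Subgroup.map_comap_eq_self_of_surjective (f := e.toMonoidHom) e.surjective, hj]
  · rwa [Subgroup.index_comap_of_surjective _ (f := e.toMonoidHom) e.surjective]

/-- `p`-length one is inherited inside an ambient group. -/
theorem of_le [Finite G] [Fact p.Prime] {H M : Subgroup G} (hle : H ≤ M) (h : PLengthLE p 1 M) :
    PLengthLE p 1 H :=
  of_injective (Subgroup.inclusion hle) (Subgroup.inclusion_injective hle) h

end Cfsg.Agent.PLengthOne
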