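/-
Basic facts on maximal subgroups of a minimal simple group of odd order and on `σ(M)`, `α(M)`
(elementary part of Bender-Glauberman, section 10).
Main results: `proper_solvable`, `normalizer_coatom`, `InUniqueMaximal` calculus
(`unique_mono`, `normalizer_le_of_unique`), `sigma_normalizer_le`, `sylow_index_of_sigma`,
`prankLE_*` and `rankLE_*` transfer lemmas, `exists_elementary`.
-/
import Cfsg.Agent.Lib.Solvable.Hall
import Cfsg.Agent.Lib.Cores.Basic
import Cfsg.Agent.Lib.Signalizer.PAction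

set_option linter.unusedSectionVars false

open Subgroup
open scoped Pointwise

namespace Cfsg.Agent.OddSigma

open Cfsg.Agent.Solvable

section Ranks

variable {G : Type*} [Group G]

theorem elem_comm {p : ℕ} {A : Subgroup G} (hA : IsElementaryAbelian p A) {a b : G} (ha : a ∈ A) (hb : b ∈ A) :
    a * b = b * a :=
  congrArg Subtype.val (hA.1.is_comm.comm (⟨a, ha⟩ : A) ⟨b, hb⟩)

/-- An abelian subgroup of exponent `p` witnessing `¬ PRankLE p k`. -/
theorem exists_elementary [Finite G] {p k : ℕ} [hp : Fact p.Prime] {H : Subgroup G} (h : ¬ PRankLE p k ↥H) :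
    ∃ E : Subgroup G, E ≤ H ∧ IsElementaryAbelian p E ∧ p ^ (k + 1) ≤ Nat.card E := by
  simp only [PRankLE, not_forall, not_le] at h
  obtain ⟨A, hA, hA', hcard⟩ := h
  have hE : IsElementaryAbelian p (A.map H.subtype) := by
    refine ⟨⟨⟨?_⟩⟩, ?_⟩
    · rintro ⟨_, a, ha, rfl⟩ ⟨_, b, hb, rfl⟩
      exact Subtype.ext (congrArg (fun x : A => ((x : H) : G)) (mul_comm' (⟨a, ha⟩ : A) ⟨b, hb⟩))
    · rintro _ ⟨a, ha, rfl⟩
      rw [← map_pow, hA' a ha, map_one]
  refine ⟨_, Subgroup.map_subtype_le _, hE, ?_⟩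
  obtain ⟨j, hj⟩ := (Signalizer.isPGroup_of_elemAb hE).exists_card_eq
  rw [Subgroup.card_map_of_injective H.subtype_injective] at hj ⊢
  rw [hj] at hcard ⊢
  exact Nat.pow_le_pow_right hp.out.pos ((Nat.pow_lt_pow_iff_right hp.out.one_lt).1 hcard)

theorem prankLE_mono {p k : ℕ} {H K : Subgroup G} [Finite G] (hle : H ≤ K) (h : PRankLE p k ↥K) :
    PRankLE p k ↥H := by
  intro A hA hA'
  have hc : Nat.card ↥(A.map (Subgroup.inclusion hle)) = Nat.card A :=
    Subgroup.card_map_of_injective (Subgroup.inclusion_injective hle)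
  rw [← hc]
  refine h _ ⟨⟨?_⟩⟩ ?_
  · rintro ⟨_, a, ha, rfl⟩ ⟨_, b, hb, rfl⟩
    exact Subtype.ext (congrArg (fun x : A => Subgroup.inclusion hle (x : H)) (mul_comm' (⟨a, ha⟩ : A) ⟨b, hb⟩))
  · rintro _ ⟨a, ha, rfl⟩
    rw [← map_pow, hA' a ha, map_one]

theorem not_prankLE_of_le {p k : ℕ} {H : Subgroup G} [Finite G] {E : Subgroup G} (hEH : E ≤ H)
    (hE : IsElementaryAbelian p E) (hcard : p ^ k < Nat.card E) : ¬ PRankLE p k ↥H := by
  intro h
  have := h (E.subgroupOf H) ⟨⟨fun a b => Subtype.ext (Subtype.ext (elem_comm hE a.2 b.2))⟩⟩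
    (fun a ha => Subtype.ext (hE.2 _ ha))
  rw [Cores.card_subgroupOf hEH] at this
  omega

theorem prankLE_le {p k l : ℕ} (hp : p.Prime) {H : Type*} [Group H] (hkl : k ≤ l) (h : PRankLE p k H) :
    PRankLE p l H := fun A hA hA' => (h A hA hA').trans (Nat.pow_le_pow_right hp.pos hkl)

theorem not_rankLE_of_prank {p k : ℕ} (hp : p.Prime) {H : Type*} [Group H] (h : ¬ PRankLE p k H) :
    ¬ RankLE k H := fun hr => h (hr p hp)

theorem rankLE_mono {k : ℕ} [Finite G] {H K : Subgroup G} (hle : H ≤ K) (h : RankLE k ↥K) : RankLE k ↥H :=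
  fun p hp => prankLE_mono hle (h p hp)

theorem exists_elementary_rank [Finite G] {k : ℕ} {H : Subgroup G} (h : ¬ RankLE k ↥H) :
    ∃ (p : ℕ) (E : Subgroup G), p.Prime ∧ E ≤ H ∧ IsElementaryAbelian p E ∧ p ^ (k + 1) ≤ Nat.card E := by
  simp only [RankLE, not_forall] at h
  obtain ⟨p, hp, h⟩ := h
  have := Fact.mk hp
  obtain ⟨E, h1, h2, h3⟩ := exists_elementary h
  exact ⟨p, E, hp, h1, h2, h3⟩

/-- The rank of a finite group is visible in any Sylow subgroup. -/
theorem prankLE_of_sylow [Finite G] {p k : ℕ} [Fact p.Prime] {H : Subgroup G} (P : Sylow p H)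
    (h : PRankLE p k ↥((P : Subgroup H).map H.subtype)) : PRankLE p k ↥H := by
  by_contra hH
  obtain ⟨E, hEH, hE, hcard⟩ := exists_elementary hH
  obtain ⟨R, hR⟩ := ((Signalizer.isPGroup_of_elemAb hE).comap_of_injective H.subtype H.subtype_injective).exists_le_sylow
  obtain ⟨x, hx⟩ := MulAction.exists_smul_eq H R P
  have hE' : (MulAut.conj (x : G) • E) ≤ (P : Subgroup H).map H.subtype := by
    rintro _ ⟨e, he, rfl⟩
    refine ⟨x * ⟨e, hEH he⟩ * x⁻¹, ?_, by simp⟩
    rw [← hx]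
    exact ⟨⟨e, hEH he⟩, hR he, by simp⟩
  have hE2 : IsElementaryAbelian p (MulAut.conj (x : G) • E) := by
    refine ⟨⟨⟨?_⟩⟩, ?_⟩
    · rintro ⟨_, a, ha, rfl⟩ ⟨_, b, hb, rfl⟩
      apply Subtype.ext
      show MulAut.conj (x : G) a * MulAut.conj (x : G) b = MulAut.conj (x : G) b * MulAut.conj (x : G) a
      rw [← map_mul, ← map_mul, elem_comm hE ha hb]
    · rintro _ ⟨a, ha, rfl⟩
      show (MulAut.conj (x : G) a) ^ p = 1
      rw [← map_pow, hE.2 a ha, map_one]
  refine not_prankLE_of_le hE' hE2 ?_ h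
  rw [card_conj]
  exact lt_of_lt_of_le (Nat.pow_lt_pow_right (Fact.out : p.Prime).one_lt (Nat.lt_succ_self k)) hcard

theorem isElementary_mono {p : ℕ} {A B : Subgroup G} (hA : IsElementaryAbelian p A) (h : B ≤ A) :
    IsElementaryAbelian p B :=
  ⟨⟨⟨fun a b => Subtype.ext (elem_comm hA (h a.2) (h b.2))⟩⟩, fun a ha => hA.2 a (h ha)⟩

theorem elementary_le_centralizer {p : ℕ} {A B : Subgroup G} (hA : IsElementaryAbelian p A) (h : B ≤ A) :
    A ≤ Subgroup.centralizer (B : Set G) := fun a ha b hb =>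
  elem_comm hA (h hb) ha

theorem elementary_zpowers {p : ℕ} {x : G} (hx : x ^ p = 1) : IsElementaryAbelian p (Subgroup.zpowers x) := by
  refine ⟨inferInstance, ?_⟩
  rintro _ ⟨n, rfl⟩
  show (x ^ n) ^ p = 1
  rw [← zpow_natCast, ← zpow_mul, mul_comm, zpow_mul, zpow_natCast, hx, one_zpow]

theorem elementary_sup_zpowers {p : ℕ} {E : Subgroup G} (hE : IsElementaryAbelian p E) {x : G}
    (hx : x ^ p = 1) (hxE : x ∈ Subgroup.centralizer (E : Set G)) :
    IsElementaryAbelian p (E ⊔ Subgroup.zpowers x) := by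
  have hgen : E ⊔ Subgroup.zpowers x = Subgroup.closure ((E : Set G) ∪ {x}) := by
    rw [Subgroup.closure_union, Subgroup.closure_eq, Subgroup.zpowers_eq_closure]
  have hcomm : IsMulCommutative ↥(Subgroup.closure ((E : Set G) ∪ {x})) := by
    apply Subgroup.isMulCommutative_closure
    rintro a ha b hb
    rcases ha with ha | ha <;> rcases hb with hb | hb
    · exact elem_comm hE ha hb
    · rw [Set.mem_singleton_iff.mp hb]; exact hxE a ha
    · rw [Set.mem_singleton_iff.mp ha]; exact (hxE b hb).symm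
    · rw [Set.mem_singleton_iff.mp ha, Set.mem_singleton_iff.mp hb]
  rw [hgen]
  refine ⟨hcomm, fun a ha => ?_⟩
  induction ha using Subgroup.closure_induction with
  | mem y hy =>
    rcases hy with hy | hy
    · exact hE.2 y hy
    · rw [Set.mem_singleton_iff.mp hy]; exact hx
  | one => exact one_pow p
  | mul a b ha hb h1 h2 =>
    have : Commute a b := congrArg Subtype.val
      (hcomm.is_comm.comm (⟨a, ha⟩ : Subgroup.closure ((E : Set G) ∪ {x})) ⟨b, hb⟩)
    rw [this.mul_pow, h1, h2, one_mul]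
  | inv a _ h => rw [inv_pow, h, inv_one]

end Ranks

section Maximal

variable {G : Type*} [Group G] [Finite G] (hG : IsMinSimpleOddOrder G)
include hG

theorem odd_card (H : Subgroup G) : Odd (Nat.card H) := hG.1.of_dvd_nat (Subgroup.card_subgroup_dvd_card H)

theorem prime_ne_two {p : ℕ} {H : Subgroup G} (h : p ∣ Nat.card H) : p ≠ 2 := by
  rintro rfl
  exact Nat.not_even_iff_odd.mpr (odd_card hG H) (even_iff_two_dvd.mpr h)

theorem proper_solvable {H : Subgroup G} (h : H ≠ ⊤) : Group.IsSolvable H := hG.2.2.2 H h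

theorem normalizer_ne_top {H : Subgroup G} (h1 : H ≠ ⊥) (h2 : H ≠ ⊤) :
    Subgroup.normalizer (H : Set G) ≠ ⊤ := by
  intro h
  have := hG.2.1
  rcases (Subgroup.normalizer_eq_top_iff.mp h).eq_bot_or_eq_top with h | h
  · exact h1 h
  · exact h2 h

theorem commutator_eq_top : commutator G = ⊤ := by
  have := hG.2.1
  rcases (inferInstance : (commutator G).Normal).eq_bot_or_eq_top with h | h
  · exact absurd ⟨⟨fun a b => commutatorElement_eq_one_iff_mul_comm.mp
      (Subgroup.mem_bot.mp (h ▸ Subgroup.commutator_mem_commutator (Subgroup.mem_top a) (Subgroup.mem_top b)))⟩⟩ hG.2.2.1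
  · exact h

theorem top_not_pGroup {p : ℕ} [Fact p.Prime] {P : Subgroup G} (hP : IsPGroup p P) : P ≠ ⊤ := by
  rintro rfl
  have hG' : IsPGroup p G := hP.of_equiv Subgroup.topEquiv
  have := hG.2.1
  have := hG'.isNilpotent
  have hlt : commutator G < ⊤ := Group.IsSolvable.commutator_lt_top_of_nontrivial G
  exact hlt.ne (commutator_eq_top hG)

theorem coatom_ne_bot {M : Subgroup G} (hM : IsCoatom M) : M ≠ ⊥ := by
  rintro rfl
  apply hG.2.2.1
  have := hG.2.1
  obtain ⟨p, hp, hpd⟩ := Nat.exists_prime_and_dvd (n := Nat.card G) (by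
    have := Finite.one_lt_card (α := G)
    omega)
  have := Fact.mk hp
  obtain ⟨x, hx⟩ := exists_prime_orderOf_dvd_card' p hpd
  have htop : Subgroup.zpowers x = ⊤ := hM.2 _ (bot_lt_iff_ne_bot.mpr (fun h => by
    rw [Subgroup.zpowers_eq_bot.mp h, orderOf_one] at hx
    exact hp.one_lt.ne hx))
  refine ⟨⟨fun a b => ?_⟩⟩
  obtain ⟨i, rfl⟩ : a ∈ Subgroup.zpowers x := htop ▸ Subgroup.mem_top a
  obtain ⟨j, rfl⟩ : b ∈ Subgroup.zpowers x := htop ▸ Subgroup.mem_top b
  exact ((Commute.refl x).zpow_zpow i j).eq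

theorem normalizer_coatom {M : Subgroup G} (hM : IsCoatom M) : Subgroup.normalizer (M : Set G) = M := by
  refine ((Subgroup.le_normalizer).eq_or_lt).elim Eq.symm fun h => ?_
  exact absurd (hM.2 _ h) (normalizer_ne_top hG (coatom_ne_bot hG hM) hM.1)

theorem mem_of_conj_eq {M : Subgroup G} (hM : IsCoatom M) {g : G} (h : MulAut.conj g • M = M) : g ∈ M := by
  rw [← normalizer_coatom hG hM]
  exact mem_normalizer_iff_conj.mpr h

omit hG in
theorem isCoatom_conj {M : Subgroup G} (hM : IsCoatom M) (g : G) : IsCoatom (MulAut.conj g • M) := by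
  refine ⟨fun h => hM.1 ?_, fun L hL => ?_⟩
  · rw [← Subgroup.card_eq_iff_eq_top, ← card_conj g, h, Subgroup.card_top]
  · have : M < MulAut.conj g⁻¹ • L := by
      have h2 := conj_mono g⁻¹ hL.le
      rw [conj_inv_smul] at h2
      refine lt_of_le_of_ne h2 fun he => hL.ne ?_
      rw [he, conj_conj, mul_inv_cancel, conj_one_smul]
    have h3 := hM.2 _ this
    rw [← Subgroup.card_eq_iff_eq_top, ← card_conj g⁻¹, h3, Subgroup.card_top]

omit hG in
theorem exists_coatom {H : Subgroup G} (h : H ≠ ⊤) : ∃ M : Subgroup G, IsCoatom M ∧ H ≤ M :=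
  (eq_top_or_exists_le_coatom H).resolve_left h

theorem unique_mono {K L : Subgroup G} (hK : InUniqueMaximal K) (hle : K ≤ L) (hL : L ≠ ⊤) :
    InUniqueMaximal L := by
  obtain ⟨M, hM, hu⟩ := hK
  obtain ⟨N, hN, hLN⟩ := exists_coatom hL
  exact ⟨N, ⟨hN, hLN⟩, fun N' hN' => (hu N' ⟨hN'.1, hle.trans hN'.2⟩).trans (hu N ⟨hN, hle.trans hLN⟩).symm⟩

omit hG in
theorem le_of_unique {K L M : Subgroup G} (hK : InUniqueMaximal K) (hM : IsCoatom M) (hKM : K ≤ M)
    (hle : K ≤ L) (hL : L ≠ ⊤) : L ≤ M := by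
  obtain ⟨N, hN, hLN⟩ := exists_coatom hL
  obtain ⟨M₀, -, hu⟩ := hK
  rw [hu M ⟨hM, hKM⟩, ← hu N ⟨hN, hle.trans hLN⟩]
  exact hLN

theorem mem_of_unique_conj {K M : Subgroup G} (hK : InUniqueMaximal K) (hM : IsCoatom M) (hKM : K ≤ M)
    {g : G} (hg : K ≤ MulAut.conj g • M) : g ∈ M := by
  obtain ⟨M₀, -, hu⟩ := hK
  exact mem_of_conj_eq hG hM ((hu _ ⟨isCoatom_conj hM g, hg⟩).trans (hu M ⟨hM, hKM⟩).symm)

theorem normalizer_le_of_unique {K M : Subgroup G} (hK : InUniqueMaximal K) (hM : IsCoatom M) (hKM : K ≤ M) :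
    Subgroup.normalizer (K : Set G) ≤ M := fun g hg => mem_of_unique_conj hG hK hM hKM (by
  calc K = MulAut.conj g • K := (mem_normalizer_iff_conj.mp hg).symm
    _ ≤ _ := conj_mono g hKM)

omit hG in
/-- `σ(M)` does not depend on the choice of the Sylow subgroup. -/
theorem sigma_normalizer_le {M : Subgroup G} {p : ℕ} (hp : p ∈ sigma M) (P : Sylow p M) :
    Subgroup.normalizer (((P : Subgroup M).map M.subtype : Subgroup G) : Set G) ≤ M := by
  obtain ⟨hp, -, Q, hQ⟩ := hp
  have := Fact.mk hp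
  obtain ⟨m, hm⟩ := MulAction.exists_smul_eq M Q P
  intro g hg
  have hPQ : ((P : Subgroup M).map M.subtype) = MulAut.conj (m : G) • ((Q : Subgroup M).map M.subtype) := by
    rw [← hm, Sylow.coe_subgroup_smul, map_conj]
    rfl
  rw [mem_normalizer_iff_conj, hPQ, conj_conj] at hg
  have h2 : (m : G)⁻¹ * g * m ∈ Subgroup.normalizer (((Q : Subgroup M).map M.subtype : Subgroup G) : Set G) := by
    have := congrArg (fun S : Subgroup G => MulAut.conj (m : G)⁻¹ • S) hg
    simp only [conj_conj, inv_mul_cancel, conj_one_smul, ← mul_assoc] at this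
    exact mem_normalizer_iff_conj.mpr this
  have h3 := M.mul_mem (M.mul_mem m.2 (hQ h2)) (M.inv_mem m.2)
  simpa [mul_assoc] using h3

omit hG in
/-- A Sylow `p`-subgroup of `M`, `p ∈ σ(M)`, is a Sylow subgroup of `G`. -/
theorem sylow_index_of_sigma {M : Subgroup G} {p : ℕ} (hp : p ∈ sigma M) (P : Sylow p M) :
    ¬ p ∣ ((P : Subgroup M).map M.subtype).index := by
  have hle := sigma_normalizer_le hp P
  have := Fact.mk hp.1
  intro hd
  set Q := (P : Subgroup M).map M.subtype with hQ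
  have hQcard : Nat.card Q = p ^ (Nat.card M).factorization p := by
    rw [hQ, Subgroup.card_map_of_injective M.subtype_injective, P.card_eq_multiplicity]
  have hdvd : p ^ ((Nat.card M).factorization p + 1) ∣ Nat.card G := by
    rw [← Q.card_mul_index, pow_succ, hQcard]
    exact mul_dvd_mul_left _ hd
  have h1 := (Sylow.prime_pow_dvd_card_normalizer hdvd hQcard).trans (Subgroup.card_dvd_of_le hle)
  have h2 := (hp.1.pow_dvd_iff_le_factorization Nat.card_pos.ne').mp h1
  omega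

omit hG in
/-- For `p ∈ σ(M)`, every `p`-subgroup of `G` lies in a conjugate of `M`. -/
theorem exists_conj_le_of_sigma {M : Subgroup G} {p : ℕ} [Fact p.Prime] (hp : p ∈ sigma M) {R : Subgroup G}
    (hR : IsPGroup p R) : ∃ g : G, R ≤ MulAut.conj g • M := by
  obtain ⟨P⟩ : Nonempty (Sylow p M) := inferInstance
  set Q := (P : Subgroup M).map M.subtype with hQ
  let S : Sylow p G := (P.isPGroup'.map M.subtype).toSylow (sylow_index_of_sigma hp P)
  obtain ⟨R', hR'⟩ := hR.exists_le_sylow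
  obtain ⟨g, hg⟩ := MulAction.exists_smul_eq G S R'
  refine ⟨g, hR'.trans ?_⟩
  rw [← hg, Sylow.coe_subgroup_smul]
  exact conj_mono g (Subgroup.map_subtype_le _)

omit hG in
theorem sigma_of_sylow {M : Subgroup G} {p : ℕ} (hp : p.Prime) (hpM : p ∣ Nat.card M) (P : Sylow p M)
    (h : Subgroup.normalizer (((P : Subgroup M).map M.subtype : Subgroup G) : Set G) ≤ M) : p ∈ sigma M :=
  ⟨hp, hpM, P, h⟩

omit hG in
theorem alpha_dvd {M : Subgroup G} {p : ℕ} (hp : p ∈ alpha M) : p ∣ Nat.card M := by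
  have := Fact.mk hp.1
  obtain ⟨E, hEM, hE, hcard⟩ := exists_elementary hp.2
  obtain ⟨j, hj⟩ := (Signalizer.isPGroup_of_elemAb hE).exists_card_eq
  rw [hj] at hcard
  have : 3 ≤ j := (Nat.pow_le_pow_iff_right hp.1.one_lt).mp hcard
  exact (dvd_pow_self p (by omega : j ≠ 0)).trans (hj ▸ Subgroup.card_dvd_of_le hEM)

end Maximal

end Cfsg.Agent.OddSigma
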