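import Cfsg.Agent.Lib.OddOrder.Signalizer

/-!
The subgroups `R(x)` (`Cfsg.supportR`) and the element decompositions used in Bender-Glauberman
14.5-14.6 and 16.
* `exists_pi_parts`: the `π`-part and the `π'`-part of an element
* `supportR_le_centralizer`, `supportR_existsUnique`, `supportR_conj`, `supportR_indep`
-/

set_option autoImplicit false

namespace Cfsg.Agent.OddMax

open scoped Pointwise

variable {G : Type*} [Group G] [Finite G]

/-- An element is the product of a power that is a `π`-element and a power that is a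
`π'`-element. -/
theorem exists_pi_parts (π : Set ℕ) (g : G) : ∃ a b : G, a ∈ Subgroup.zpowers g ∧
    b ∈ Subgroup.zpowers g ∧ a * b = g ∧ Solvable.IsPiNum π (orderOf a) ∧
    Solvable.IsPiNum πᶜ (orderOf b) := by
  have := Cores.isNilpotent_of_isMulCommutative (Subgroup.zpowers g)
  have : Group.IsSolvable (Subgroup.zpowers g) := inferInstance
  obtain ⟨H, hH⟩ := Solvable.exists_piHall_of_solvable (G := Subgroup.zpowers g) π
  obtain ⟨K, hK⟩ := Solvable.exists_piHall_of_solvable (G := Subgroup.zpowers g) πᶜ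
  rw [Solvable.isPiHall_iff] at hH hK
  have htop : H ⊔ K = ⊤ := Subgroup.index_eq_one.1 (Solvable.IsPiNum.eq_one (π := π)
    (by have := hK.2; rw [compl_compl] at this; exact this.of_dvd (Subgroup.index_dvd_of_le le_sup_right))
    (hH.2.of_dvd (Subgroup.index_dvd_of_le le_sup_left)))
  have hn : K ≤ Subgroup.normalizer (H : Set (Subgroup.zpowers g)) := by
    intro k _
    refine Coprime.mem_normalizer_of_forall fun h hh => ?_
    rwa [mul_comm' k h, mul_inv_cancel_right]
  obtain ⟨a, ha, b, hb, hab⟩ := (Coprime.mem_sup_iff hn).1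
    (show (⟨g, Subgroup.mem_zpowers g⟩ : Subgroup.zpowers g) ∈ H ⊔ K from htop ▸ Subgroup.mem_top _)
  refine ⟨a, b, a.2, b.2, congrArg Subtype.val hab, ?_, ?_⟩
  · rw [Subgroup.orderOf_coe]
    exact hH.1.of_dvd (by
      have := orderOf_dvd_natCard (⟨a, ha⟩ : H); rwa [Subgroup.orderOf_mk] at this)
  · rw [Subgroup.orderOf_coe]
    exact hK.1.of_dvd (by
      have := orderOf_dvd_natCard (⟨b, hb⟩ : K); rwa [Subgroup.orderOf_mk] at this)

theorem pi_orderOf_of_mem {π : Set ℕ} {H : Subgroup G} (h : Solvable.IsPiNum π (Nat.card H))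
    {x : G} (hx : x ∈ H) : Solvable.IsPiNum π (orderOf x) := by
  refine h.of_dvd ?_
  have := orderOf_dvd_natCard (⟨x, hx⟩ : H)
  rwa [Subgroup.orderOf_mk] at this

theorem mem_centralizer_self (x : G) : x ∈ Subgroup.centralizer ({x} : Set G) :=
  Subgroup.mem_centralizer_singleton_iff.2 rfl

theorem centralizer_conj (y x : G) :
    Subgroup.centralizer ({y * x * y⁻¹} : Set G) =
      MulAut.conj y • Subgroup.centralizer ({x} : Set G) := by
  ext c
  rw [Coprime.mem_conj, Subgroup.mem_centralizer_singleton_iff,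
    Subgroup.mem_centralizer_singleton_iff]
  constructor <;> intro h
  · calc y⁻¹ * c * y * x = y⁻¹ * (c * (y * x * y⁻¹)) * y := by group
      _ = y⁻¹ * (y * x * y⁻¹ * c) * y := by rw [h]
      _ = x * (y⁻¹ * c * y) := by group
  · calc c * (y * x * y⁻¹) = y * (y⁻¹ * c * y * x) * y⁻¹ := by group
      _ = y * (x * (y⁻¹ * c * y)) * y⁻¹ := by rw [h]
      _ = y * x * y⁻¹ * c := by group

theorem supportR_le_centralizer (M : Subgroup G) (x : G) :
    supportR M x ≤ Subgroup.centralizer ({x} : Set G) := by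
  unfold supportR
  split
  · exact inf_le_right
  · exact bot_le

theorem supportR_eq_bot {M : Subgroup G} {x : G}
    (h : Subgroup.centralizer ({x} : Set G) ≤ M) : supportR M x = ⊥ := by
  unfold supportR
  rw [dif_neg fun h' => h'.1 h]

section

variable (hG : IsMinSimpleOddOrder G) (F : SigFacts G) {M : Subgroup G} (hM : IsCoatom M)
  {x : G} (hx : x ∈ sigmaCore M) (hx1 : x ≠ 1)
include hG F hM hx hx1

theorem isComplIn_supportR :
    IsComplIn (M ⊓ Subgroup.centralizer ({x} : Set G)) (supportR M x)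
      (Subgroup.centralizer ({x} : Set G)) := by
  by_cases hxM : Subgroup.centralizer ({x} : Set G) ≤ M
  · rw [supportR_eq_bot hxM]
    exact ⟨inf_le_right, bot_le, inf_bot_eq _,
      fun c hc => ⟨c, ⟨hxM hc, hc⟩, 1, one_mem _, (mul_one c).symm⟩⟩
  · obtain ⟨N, hN⟩ := exists_signalizer hG F hM hx hx1 hxM
    rw [supportR_eq hG F hM hx hx1 hN hxM]
    exact hN.compl_centralizer

theorem supportR_existsUnique {g : G} (hg : x ∈ MulAut.conj g • M) :
    ∃! r : G, r ∈ supportR M x ∧ MulAut.conj r • M = MulAut.conj g • M :=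
  existsUnique_of_compl hG F hM hx hx1 (isComplIn_supportR hG F hM hx hx1) hg

theorem mem_of_centralizer_le (hxM : Subgroup.centralizer ({x} : Set G) ≤ M) {g : G}
    (hg : x ∈ MulAut.conj g • M) : g ∈ M := by
  obtain ⟨c, hc, h⟩ := exists_conj_eq hG F hM hx hx1 hg
  rw [Solvable.conj_eq_self (hxM hc)] at h
  exact OddSigma.mem_of_conj_eq hG hM h

theorem supportR_conj (y : G) :
    supportR (MulAut.conj y • M) (y * x * y⁻¹) = MulAut.conj y • supportR M x := by
  by_cases hxM : Subgroup.centralizer ({x} : Set G) ≤ M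
  · rw [supportR_eq_bot hxM, supportR_eq_bot]
    · rw [Coprime.conj_eq_of_mem_normalizer (Subgroup.normalizer_eq_top_iff.2
        (inferInstance : (⊥ : Subgroup G).Normal) ▸ Subgroup.mem_top y)]
    · rw [centralizer_conj]; exact (conj_le_conj y).2 hxM
  · obtain ⟨N, hN⟩ := exists_signalizer hG F hM hx hx1 hxM
    rw [supportR_eq hG F hM hx hx1 hN hxM]
    have hM' := OddSigma.isCoatom_conj hM y
    have hx' : y * x * y⁻¹ ∈ sigmaCore (MulAut.conj y • M) := by
      rw [sigmaCore_conj]; exact Coprime.conj_mem_conj.2 hx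
    have hx1' : y * x * y⁻¹ ≠ 1 := fun h => hx1 (by simpa using conj_eq_one_iff.1 h)
    have hxM' : ¬ Subgroup.centralizer ({y * x * y⁻¹} : Set G) ≤ MulAut.conj y • M := by
      rw [centralizer_conj, conj_le_conj]; exact hxM
    obtain ⟨N', hN'⟩ := exists_signalizer hG F hM' hx' hx1' hxM'
    have hNe : N' = MulAut.conj y • N := (hN'.unique _ (OddSigma.isCoatom_conj hN.coatom y)
      (by rw [centralizer_conj]; exact (conj_le_conj y).2 hN.le)).symm
    rw [supportR_eq hG F hM' hx' hx1' hN' hxM', hNe, sigmaCore_conj, centralizer_conj,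
      Subgroup.smul_inf]

/-- `R(x)` does not depend on the conjugate of `M` whose core contains `x`. -/
theorem supportR_indep {g : G} (hg : x ∈ sigmaCore (MulAut.conj g • M)) :
    supportR (MulAut.conj g • M) x = supportR M x := by
  have hg' : x ∈ MulAut.conj g • M := sigmaCore_le _ hg
  by_cases hxM : Subgroup.centralizer ({x} : Set G) ≤ M
  · rw [Solvable.conj_eq_self (mem_of_centralizer_le hG F hM hx hx1 hxM hg')]
  · obtain ⟨N, hN⟩ := exists_signalizer hG F hM hx hx1 hxM
    rw [supportR_eq hG F hM hx hx1 hN hxM]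
    have hM' := OddSigma.isCoatom_conj hM g
    have hxM' : ¬ Subgroup.centralizer ({x} : Set G) ≤ MulAut.conj g • M := fun h =>
      hN.not_conj g (hN.unique _ hM' h).symm
    obtain ⟨N', hN'⟩ := exists_signalizer hG F hM' hg hx1 hxM'
    rw [supportR_eq hG F hM' hg hx1 hN' hxM', hN.unique _ hN'.coatom hN'.le]

end

end Cfsg.Agent.OddMax
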