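import Cfsg.Agent.Lib.OddOrder.Decomp
import Cfsg.Agent.Lib.OddOrder.SupportR
import Cfsg.Agent.Lib.Isolated.RankOne
import Mathlib.GroupTheory.Transfer

/-!
General lemmas for the classification of maximal subgroups into types (Bender-Glauberman 16).
* `le_commutator_of_cyclic`: a cyclic `r`-subgroup over `O_r(M')` lies in `M'`
* `exists_invariant_compl`: invariant complement of a normal Hall subgroup
* `isOfTypeF_mk`, `isCyclic_of_inf_eq_bot`, `isCyclic_of_sylows`
* `decomposition_conj`, `fittingHallOf_commutator_invariant`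
-/

set_option autoImplicit false

namespace Cfsg.Agent.OddMax

open scoped Pointwise commutatorElement IsMulCommutative

section Transfer

/-- A central element of an abelian Sylow subgroup lying in the derived group is trivial. -/
theorem eq_one_of_central_commutator {X : Type*} [Group X] [Finite X] {r : ℕ} [Fact r.Prime]
    (S : Sylow r X) [IsMulCommutative (S : Subgroup X)] {z : X} (hzS : z ∈ (S : Subgroup X))
    (hzc : z ∈ Subgroup.center X) (hz : z ∈ commutator X) : z = 1 := by
  set φ : (S : Subgroup X) →* (S : Subgroup X) := MonoidHom.id _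
  have h1 : MonoidHom.transfer φ z = 1 :=
    Abelianization.commutator_subset_ker (MonoidHom.transfer φ) hz
  have key : ∀ (k : ℕ) (g₀ : X), g₀⁻¹ * z ^ k * g₀ ∈ (S : Subgroup X) →
      g₀⁻¹ * z ^ k * g₀ = z ^ k := by
    intro k g₀ _
    rw [mul_assoc, ← Subgroup.mem_center_iff.1 (Subgroup.pow_mem _ hzc k) g₀, inv_mul_cancel_left]
  rw [MonoidHom.transfer_eq_pow φ z key] at h1
  have h2 : z ^ (S : Subgroup X).index = 1 := congrArg Subtype.val h1
  refine orderOf_eq_one_iff.1 (Nat.eq_one_of_dvd_coprimes ?_ (dvd_refl (orderOf z))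
    (orderOf_dvd_of_pow_eq_one h2))
  obtain ⟨n, hn⟩ := S.2.exists_card_eq
  exact ((Fact.out : r.Prime).coprime_iff_not_dvd.2 S.not_dvd_index).pow_left n
    |>.coprime_dvd_left (hn ▸ Subgroup.orderOf_dvd_natCard _ hzS)

end Transfer

variable {G : Type*} [Group G] [Finite G]

theorem pow_of_unique_prime {n r : ℕ} (hn : n ≠ 0)
    (h : ∀ p : ℕ, p.Prime → p ∣ n → p ∈ ({r} : Set ℕ)) : n = r ^ n.primeFactorsList.length :=
  Nat.eq_prime_pow_of_unique_prime_dvd hn fun {d} hp hd => h d hp hd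

theorem isPGroup_zpowers {r : ℕ} [Fact r.Prime] {y : G} {S : Subgroup G} (hS : IsPGroup r S)
    (hy : y ∈ S) : IsPGroup r (Subgroup.zpowers y) :=
  hS.to_le (Subgroup.zpowers_le.2 hy)

/-- A subgroup of a cyclic group meeting another one trivially: one of them is trivial
(prime power order). -/
theorem eq_bot_or_eq_bot_of_cyclic {r : ℕ} [hr : Fact r.Prime] {U A B : Subgroup G}
    (hUc : IsCyclic U) (hUp : IsPGroup r U) (hA : A ≤ U) (hB : B ≤ U) (hAB : A ⊓ B = ⊥) :
    A = ⊥ ∨ B = ⊥ := by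
  by_contra h
  push Not at h
  have aux : ∀ C ≤ U, C ≠ ⊥ → ∃ c ∈ C, orderOf c = r := by
    intro C hC hC1
    obtain ⟨n, hn⟩ := (hUp.to_le hC).exists_card_eq
    have hd : r ∣ Nat.card C := by
      rcases n with _ | n
      · exact absurd (Subgroup.card_eq_one.1 (by simpa using hn)) hC1
      · exact hn ▸ dvd_pow_self r n.succ_ne_zero
    obtain ⟨c, hc⟩ := exists_prime_orderOf_dvd_card' r hd
    exact ⟨c, c.2, by rw [Subgroup.orderOf_coe, hc]⟩
  obtain ⟨a, ha, hao⟩ := aux A hA h.1
  obtain ⟨b, hb, hbo⟩ := aux B hB h.2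
  -- the elements of exponent `r` in `U` form a subgroup of order at most `r`
  have : IsCyclic U := hUc
  have hfin : Fintype U := Fintype.ofFinite U
  classical
  have hle := IsCyclic.card_pow_eq_one_le (α := U) hr.out.pos
  have hsub : ((Subgroup.zpowers a).subgroupOf U : Set U).toFinset ⊆
      Finset.univ.filter fun z : U => z ^ r = 1 := by
    intro z hz
    rw [Set.mem_toFinset] at hz
    refine Finset.mem_filter.2 ⟨Finset.mem_univ _, Subtype.ext ?_⟩
    obtain ⟨i, hi⟩ := Subgroup.mem_zpowers_iff.1 hz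
    replace hi : a ^ i = (z : G) := hi
    show (z : G) ^ r = 1
    rw [← hi, ← zpow_natCast, ← zpow_mul, mul_comm, zpow_mul, zpow_natCast,
      ← hao, pow_orderOf_eq_one, one_zpow]
  have hcard : ((Subgroup.zpowers a).subgroupOf U : Set U).toFinset.card = r := by
    rw [Set.toFinset_card, ← Nat.card_eq_fintype_card]
    exact (Cores.card_subgroupOf (Subgroup.zpowers_le.2 (hA ha))).trans
      (by rw [Nat.card_zpowers, hao])
  have heq := Finset.eq_of_subset_of_card_le hsub (hle.trans hcard.ge)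
  have hbm : (⟨b, hB hb⟩ : U) ∈ Finset.univ.filter fun z : U => z ^ r = 1 :=
    Finset.mem_filter.2 ⟨Finset.mem_univ _, Subtype.ext (by
      show b ^ r = 1
      rw [← hbo, pow_orderOf_eq_one])⟩
  rw [← heq, Set.mem_toFinset] at hbm
  have hbA : b ∈ A ⊓ B := ⟨Subgroup.zpowers_le.2 ha hbm, hb⟩
  rw [hAB, Subgroup.mem_bot] at hbA
  rw [hbA, orderOf_one] at hbo
  exact hr.out.one_lt.ne hbo

/-- With `M'` nilpotent and the Sylow `r`-subgroups of `M` abelian, a cyclic `r`-subgroup
containing the `r`-elements of `M'` lies in `M'`, if there are such elements besides `1`. -/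
theorem le_commutator_of_cyclic {M U : Subgroup G} {r : ℕ} [hr : Fact r.Prime]
    (hn : Group.IsNilpotent ↥⁅M, M⁆) (hab : ∀ P : Sylow r M, IsMulCommutative (P : Subgroup M))
    (hU : U ≤ M) (hUp : IsPGroup r U) (hUc : IsCyclic U)
    (hUF : ∀ y ∈ ⁅M, M⁆, IsPGroup r (Subgroup.zpowers y) → y ∈ U)
    (hne : ∃ z ∈ ⁅M, M⁆, z ≠ 1 ∧ IsPGroup r (Subgroup.zpowers z)) : U ≤ ⁅M, M⁆ := by
  by_contra hUnot
  obtain ⟨z, hzF, hz1, hzp⟩ := hne
  set F := ⁅M, M⁆ with hF
  have hFM : F ≤ M := Subgroup.commutator_le.2 fun a ha b hb =>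
    M.mul_mem (M.mul_mem (M.mul_mem ha hb) (M.inv_mem ha)) (M.inv_mem hb)
  have hMF : M ≤ Subgroup.normalizer (F : Set G) := Subgroup.normalizer_commutator_ge_right M M
  have hzU := hUF z hzF hzp
  set V := U ⊔ F with hV
  have hVM : V ≤ M := sup_le hU hFM
  have hUN : U ≤ Subgroup.normalizer (F : Set G) := hU.trans hMF
  have hMV : M ≤ Subgroup.normalizer (V : Set G) := fun m hm =>
    Coprime.mem_normalizer_of_forall fun v hv => by
      rw [show m * v * m⁻¹ = ⁅m, v⁆ * v by rw [commutatorElement_def]; group]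
      exact V.mul_mem (Subgroup.mem_sup_right (Subgroup.commutator_mem_commutator hm (hVM hv))) hv
  -- `U` is a Sylow subgroup of `V`
  obtain ⟨P, hP⟩ := (hUp.comap_of_injective V.subtype V.subtype_injective).exists_le_sylow
  have hPU : (P : Subgroup V).map V.subtype = U := by
    refine le_antisymm ?_ fun y hy => ⟨⟨y, Subgroup.mem_sup_left hy⟩, hP hy, rfl⟩
    rintro _ ⟨y, hy, rfl⟩
    have hy' : (y : G) ∈ F ⊔ U := sup_comm U F ▸ y.2
    obtain ⟨f, hf, u, hu, e⟩ := (Coprime.mem_sup_iff hUN).1 hy'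
    have hfP : f ∈ (P : Subgroup V).map V.subtype := by
      have h1 := (Subgroup.mem_map_of_mem V.subtype hy : _ ∈ (P : Subgroup V).map V.subtype)
      have h2 : u ∈ (P : Subgroup V).map V.subtype :=
        ⟨⟨u, Subgroup.mem_sup_left hu⟩, hP hu, rfl⟩
      have h3 : f = V.subtype y * u⁻¹ := by
        show f = (y : G) * u⁻¹
        rw [← e, mul_inv_cancel_right]
      rw [h3]
      exact mul_mem h1 (inv_mem h2)
    show (y : G) ∈ U
    rw [← e]
    exact U.mul_mem (hUF f hf (isPGroup_zpowers (P.2.map V.subtype) hfP)) hu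
  have : IsMulCommutative U := ⟨⟨IsCyclic.commGroup.mul_comm⟩⟩
  -- `z` commutes with the normaliser of `U`
  have hNz : ∀ y ∈ M, y ∈ Subgroup.normalizer (U : Set G) → y * z = z * y := by
    intro y hy hyN
    obtain ⟨a, b, ha, hb, hab', haπ, hbπ⟩ := exists_pi_parts {r} y
    have haM := Subgroup.zpowers_le.2 hy ha
    have hbM := Subgroup.zpowers_le.2 hy hb
    have hbN := Subgroup.zpowers_le.2 hyN hb
    have haN := Subgroup.zpowers_le.2 hyN ha
    have hcomm_a : a * z = z * a := by
      -- `U ⟨a⟩` is an `r`-subgroup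
      have hap : IsPGroup r (Subgroup.zpowers a) := by
        refine IsPGroup.of_card (n := (orderOf a).primeFactorsList.length) ?_
        rw [Nat.card_zpowers]
        exact pow_of_unique_prime (orderOf_pos a).ne' (fun p hp hd => haπ p hp hd)
      have hT : IsPGroup r ↥(U ⊔ Subgroup.zpowers a) :=
        hUp.to_sup_of_normal_left' hap (Subgroup.zpowers_le.2 haN)
      have hTM : U ⊔ Subgroup.zpowers a ≤ M := sup_le hU (Subgroup.zpowers_le.2 haM)
      obtain ⟨Q, hQ⟩ := (hT.comap_of_injective M.subtype M.subtype_injective).exists_le_sylow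
      have := hab Q
      have h1 := congrArg Subtype.val (mul_comm'
        (⟨⟨a, haM⟩, hQ (Subgroup.mem_sup_right (Subgroup.mem_zpowers a))⟩ : (Q : Subgroup M))
        ⟨⟨z, hU hzU⟩, hQ (Subgroup.mem_sup_left hzU)⟩)
      exact congrArg Subtype.val h1
    have hcomm_b : b * z = z * b := by
      have hA : Subgroup.zpowers b ≤ Subgroup.normalizer (U : Set G) := Subgroup.zpowers_le.2 hbN
      have hcop : (Nat.card (Subgroup.zpowers b)).Coprime (Nat.card U) := by
        obtain ⟨n, hn'⟩ := hUp.exists_card_eq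
        rw [Nat.card_zpowers, hn']
        exact (Nat.coprime_of_dvd fun p hp h1 h2 => hbπ p hp h1
          ((Nat.prime_dvd_prime_iff_eq hp hr.out).1 (hp.dvd_of_dvd_pow h2)))
      rcases eq_bot_or_eq_bot_of_cyclic hUc hUp
          (inf_le_left : U ⊓ Subgroup.centralizer (Subgroup.zpowers b : Set G) ≤ U)
          (Subgroup.le_normalizer_iff_commutator_le_left.1 hA)
          (Coprime.abelian_inf_eq_bot hA hcop) with h | h
      · have h1 := Coprime.abelian_sup_eq hA hcop
        rw [h, bot_sup_eq] at h1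
        refine absurd (h1.symm.le.trans ?_) hUnot
        exact Subgroup.commutator_mono hU (Subgroup.zpowers_le.2 hbM)
      · exact (Subgroup.mem_centralizer_iff.1
          (Subgroup.commutator_eq_bot_iff_le_centralizer.1 h hzU) b (Subgroup.mem_zpowers b))
    rw [← hab']
    exact ((show Commute a z from hcomm_a).mul_left hcomm_b).eq
  -- `z` commutes with `M'`
  have hFz : ∀ f ∈ F, f * z = z * f := by
    intro f hf
    obtain ⟨a, b, ha, hb, hab', haπ, hbπ⟩ := exists_pi_parts {r} f
    have hap : IsPGroup r (Subgroup.zpowers a) := by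
      refine IsPGroup.of_card (n := (orderOf a).primeFactorsList.length) ?_
      rw [Nat.card_zpowers]
      exact pow_of_unique_prime (orderOf_pos a).ne' (fun p hp hd => haπ p hp hd)
    have h1 : a * z = z * a := congrArg Subtype.val
      (mul_comm' (⟨a, hUF a (Subgroup.zpowers_le.2 hf ha) hap⟩ : U) ⟨z, hzU⟩)
    have h2 : b * z = z * b := by
      refine OddSigma.commute_in_nilpotent hn (Subgroup.zpowers_le.2 hf hb) hzF
        (Nat.coprime_of_dvd fun p hp h3 h4 => hbπ p hp h3 ?_)
      obtain ⟨n, hn'⟩ := hzp.exists_card_eq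
      rw [Nat.card_zpowers] at hn'
      exact (Nat.prime_dvd_prime_iff_eq hp hr.out).1 (hp.dvd_of_dvd_pow (hn' ▸ h4))
    rw [← hab']
    exact ((show Commute a z from h1).mul_left h2).eq
  -- so `z` is central in `M`
  have hzc : ∀ m ∈ M, m * z = z * m := by
    intro m hm
    obtain ⟨Q, hQ⟩ := Coprime.exists_sylow_conj_eq (hMV hm) P
    obtain ⟨v, hv⟩ := MulAction.exists_smul_eq V Q P
    have he : MulAut.conj ((v : G) * m) • U = U := by
      rw [← Solvable.conj_conj, ← hPU, ← hQ, ← Coprime.map_subtype_smul, hv]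
    have hN : (v : G) * m ∈ Subgroup.normalizer (U : Set G) := Coprime.mem_normalizer_of_conj_eq he
    have h1 := hNz _ (M.mul_mem (hVM v.2) hm) hN
    have hv' : (v : G) ∈ F ⊔ U := sup_comm U F ▸ v.2
    obtain ⟨f, hf, u, hu, e⟩ := (Coprime.mem_sup_iff hUN).1 hv'
    have h2 : (v : G) * z = z * (v : G) := by
      rw [← e]
      exact ((show Commute f z from hFz f hf).mul_left
        (congrArg Subtype.val (mul_comm' (⟨u, hu⟩ : U) ⟨z, hzU⟩) : u * z = z * u)).eq
    have h3 : Commute ((v : G)⁻¹ * ((v : G) * m)) z :=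
      (show Commute (v : G) z from h2).inv_left.mul_left h1
    rwa [inv_mul_cancel_left] at h3
  obtain ⟨S, hS⟩ := (hUp.comap_of_injective M.subtype M.subtype_injective).exists_le_sylow
  have := hab S
  have hzc' : (⟨z, hU hzU⟩ : M) ∈ Subgroup.center M :=
    Subgroup.mem_center_iff.2 fun m => Subtype.ext (hzc m m.2)
  have hz' : (⟨z, hU hzU⟩ : M) ∈ commutator M := by
    have h := hzF
    rw [hF, ← Subgroup.map_subtype_commutator] at h
    obtain ⟨y, hy, e⟩ := h
    obtain rfl : y = ⟨z, hU hzU⟩ := Subtype.ext e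
    exact hy
  exact hz1 (congrArg Subtype.val (eq_one_of_central_commutator S (hS hzU) hzc' hz'))

/-- An invariant complement of a normal Hall subgroup. -/
theorem exists_invariant_compl {A L N : Subgroup G} (hNL : N ≤ L)
    (hLN : L ≤ Subgroup.normalizer (N : Set G))
    (hAL : A ≤ Subgroup.normalizer (L : Set G)) (hcopN : (Nat.card N).Coprime (N.relIndex L))
    (hcopA : (Nat.card A).Coprime (Nat.card L)) (hsol : Group.IsSolvable L) :
    ∃ D : Subgroup G, IsComplIn D N L ∧ A ≤ Subgroup.normalizer (D : Set G) := by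
  obtain ⟨D₀, hD₀⟩ := exists_compl hNL hLN hcopN
  have hcop₀ : (Nat.card D₀).Coprime (Nat.card N) := by
    rw [← compl_relIndex_left hD₀]; exact hcopN.symm
  obtain ⟨n, hn, hnA⟩ := Coprime.exists_invariant_conj (A := A) (K := L) hAL hcopA (Or.inr hsol)
    (P := D₀) fun a ha => by
      obtain ⟨m, hm, hme⟩ := Coprime.exists_conj_eq_of_le_sup (N := N) (H := D₀)
        (L := MulAut.conj a • D₀) (hD₀.1.trans hLN) hcop₀
        (Or.inl (Coprime.isSolvable_of_le hD₀.1 hsol))
        (by
          rw [sup_comm, compl_eq_sup hD₀, ← Coprime.conj_eq_of_mem_normalizer (hAL ha)]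
          exact (conj_le_conj a).2 hD₀.1)
        (Coprime.card_conj a D₀)
      exact ⟨m, hNL hm, hme.symm⟩
  refine ⟨MulAut.conj n • D₀, isComplIn_of_card hNL ?_ hcopN hLN ?_, hnA⟩
  · rw [← Solvable.conj_eq_self hn]
    exact (conj_le_conj n).2 hD₀.1
  · rw [Coprime.card_conj, compl_relIndex_left hD₀]

/-- Complements in `L` as complements in the group `L`. -/
theorem isComplement'_subgroupOf {H U L : Subgroup G} (h : IsComplIn H U L) :
    Subgroup.IsComplement' (H.subgroupOf L) (U.subgroupOf L) := by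
  refine Subgroup.isComplement'_of_card_mul_and_disjoint ?_ ?_
  · rw [Cores.card_subgroupOf h.1, Cores.card_subgroupOf h.2.1, compl_card h]
  · refine Subgroup.disjoint_def.2 fun {y} hy hy' => Subtype.ext ?_
    have h1 : (y : G) ∈ H ⊓ U := ⟨hy, hy'⟩
    rwa [h.2.2.1, Subgroup.mem_bot] at h1

theorem fittingHall_eq_subgroupOf {L H : Subgroup G} (hH : fittingHallOf L = H) :
    fittingHall L = H.subgroupOf L := by
  rw [← hH]
  exact (Subgroup.comap_map_eq_self_of_injective L.subtype_injective _).symm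

/-- Recognition of Frobenius type. -/
theorem isOfTypeF_mk {L H U U₁ U₀ : Subgroup G} (hsol : Group.IsSolvable L)
    (hodd : Odd (Nat.card L)) (hH : fittingHallOf L = H) (hH1 : H ≠ ⊥) (hU1 : U ≠ ⊥)
    (hc : IsComplIn H U L) (hU₁ : U₁ ≤ U) (hn : U ≤ Subgroup.normalizer (U₁ : Set G))
    (hab : IsMulCommutative U₁)
    (hcen : ∀ x ∈ H, x ≠ 1 → U ⊓ Subgroup.centralizer ({x} : Set G) ≤ U₁)
    (hU₀ : U₀ ≤ U) (hexp : Monoid.exponent U₀ = Monoid.exponent U)
    (hfpf : ∀ u ∈ U₀, u ≠ 1 → ∀ x ∈ H, u * x = x * u → x = 1) : IsOfTypeF L := by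
  have hHeq := fittingHall_eq_subgroupOf hH
  have hUL := hc.2.1
  refine ⟨hsol, hodd, ?_, ?_, U.subgroupOf L, ?_, hHeq ▸ isComplement'_subgroupOf hc,
    ⟨U₁.subgroupOf L, Subgroup.comap_mono hU₁, ?_, ?_, fun x hx hx1 => ?_⟩,
    U₀.subgroupOf L, Subgroup.comap_mono hU₀, ?_, fun u hu hu1 x hx hcomm => ?_⟩
  · rw [hHeq, ne_eq, Subgroup.subgroupOf_eq_bot]
    exact fun h => hH1 (le_bot_iff.1 (h le_rfl hc.1))
  · rw [hHeq, ne_eq, Subgroup.subgroupOf_eq_top]
    intro h
    refine hU1 (le_bot_iff.1 ?_)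
    rw [← hc.2.2.1]
    exact le_inf (hUL.trans h) le_rfl
  · rw [ne_eq, Subgroup.subgroupOf_eq_bot]
    exact fun h => hU1 (le_bot_iff.1 (h le_rfl hUL))
  · intro u hu
    refine Coprime.mem_normalizer_of_forall fun y hy => ?_
    exact (Subgroup.mem_normalizer_iff.1 (hn hu) _).1 hy
  · exact ⟨⟨fun a b => Subtype.ext (Subtype.ext
      (congrArg (fun z : U₁ => (z : G)) (mul_comm' (⟨_, a.2⟩ : U₁) ⟨_, b.2⟩)))⟩⟩
  · rintro u ⟨hu, hux⟩
    refine hcen x (show x ∈ H.subgroupOf L from hHeq ▸ hx) (fun e => hx1 (Subtype.ext e)) ⟨hu, ?_⟩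
    exact Subgroup.mem_centralizer_singleton_iff.2
      (congrArg Subtype.val (Subgroup.mem_centralizer_singleton_iff.1 hux))
  · rw [Monoid.exponent_eq_of_mulEquiv (Subgroup.subgroupOfEquivOfLe (hU₀.trans hUL)), hexp,
      Monoid.exponent_eq_of_mulEquiv (Subgroup.subgroupOfEquivOfLe hUL)]
  · exact Subtype.ext (hfpf u hu (fun e => hu1 (Subtype.ext e)) x
      (show x ∈ H.subgroupOf L from hHeq ▸ hx)
      (congrArg Subtype.val hcomm))

/-- A nilpotent group all of whose Sylow subgroups are cyclic is cyclic. -/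
theorem isCyclic_of_sylows {L : Subgroup G} (hn : Group.IsNilpotent L)
    (h : ∀ p : ℕ, p.Prime → ∀ S : Subgroup G, S ≤ L → IsPGroup p S → IsCyclic S) : IsCyclic L := by
  have hZ : IsZGroup L := ⟨fun p hp P => by
    have h1 := h p hp _ (Subgroup.map_subtype_le (P : Subgroup L)) (P.2.map L.subtype)
    exact (Subgroup.equivMapOfInjective _ L.subtype L.subtype_injective).isCyclic.2 h1⟩
  infer_instance

/-- A subgroup of `N X` meeting the normal subgroup `N` trivially is cyclic if `X` is. -/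
theorem isCyclic_of_inf_eq_bot {T N X : Subgroup G} (hX : IsCyclic X)
    (hXN : X ≤ Subgroup.normalizer (N : Set G)) (hT : T ≤ N ⊔ X) (hTN : T ⊓ N = ⊥) :
    IsCyclic T := by
  set L := N ⊔ X with hL
  have : (N.subgroupOf L).Normal := Subgroup.normal_subgroupOf_of_le_normalizer
    (sup_le Subgroup.le_normalizer hXN)
  set f := (QuotientGroup.mk' (N.subgroupOf L)).comp (Subgroup.inclusion hT) with hf
  set g := (QuotientGroup.mk' (N.subgroupOf L)).comp (Subgroup.inclusion (le_sup_right : X ≤ L))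
    with hg
  have := hX
  have hrange : IsCyclic g.range := isCyclic_of_surjective g.rangeRestrict g.rangeRestrict_surjective
  have hle : ∀ t : T, f t ∈ g.range := by
    intro t
    obtain ⟨n, hn, x, hx, e⟩ := (Coprime.mem_sup_iff hXN).1 (hT t.2)
    refine ⟨⟨x, hx⟩, ?_⟩
    show _ = f t
    rw [hf, hg, MonoidHom.comp_apply, MonoidHom.comp_apply]
    refine QuotientGroup.eq.2 ?_
    show x⁻¹ * (t : G) ∈ N
    rw [← e, ← mul_assoc]
    exact (Subgroup.mem_normalizer_iff''.1 (hXN hx) n).1 hn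
  refine isCyclic_of_injective (f.codRestrict g.range hle) ((MonoidHom.ker_eq_bot_iff _).1 ?_)
  rw [Subgroup.eq_bot_iff_forall]
  intro t ht
  have h1 : (t : G) ∈ T ⊓ N := ⟨t.2, (QuotientGroup.eq_one_iff (N := N.subgroupOf L) _).1
    (congrArg Subtype.val (MonoidHom.mem_ker.1 ht))⟩
  rw [hTN, Subgroup.mem_bot] at h1
  exact Subtype.ext h1

theorem isPiHallOf_conj {π : Set ℕ} {H L : Subgroup G} (h : IsPiHallOf π H L) (g : G) :
    IsPiHallOf π (MulAut.conj g • H) (MulAut.conj g • L) :=
  ⟨(conj_le_conj g).2 h.1, by rw [Coprime.card_conj]; exact h.2.1,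
    by rw [relIndex_conj]; exact h.2.2⟩

theorem isComplIn_conj {A B L : Subgroup G} (h : IsComplIn A B L) (g : G) :
    IsComplIn (MulAut.conj g • A) (MulAut.conj g • B) (MulAut.conj g • L) := by
  refine ⟨(conj_le_conj g).2 h.1, (conj_le_conj g).2 h.2.1, ?_, fun m hm => ?_⟩
  · rw [← Subgroup.smul_inf, h.2.2.1]
    exact Subgroup.map_bot _
  · obtain ⟨a, ha, b, hb, e⟩ := h.2.2.2 _ (Coprime.mem_conj.1 hm)
    refine ⟨g * a * g⁻¹, Coprime.conj_mem_conj.2 ha, g * b * g⁻¹, Coprime.conj_mem_conj.2 hb, ?_⟩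
    rw [show g * a * g⁻¹ * (g * b * g⁻¹) = g * (a * b) * g⁻¹ by group, ← e]
    group

/-- A conjugate in `M` of a standard factorisation is one. -/
theorem decomposition_conj {M K U : Subgroup G} (h : IsSigmaDecomposition M K U) {m : G}
    (hm : m ∈ M) : IsSigmaDecomposition M (MulAut.conj m • K) (MulAut.conj m • U) := by
  have hM : MulAut.conj m • M = M := Solvable.conj_eq_self hm
  have hs : MulAut.conj m • sigmaCore M = sigmaCore M :=
    Coprime.conj_eq_of_mem_normalizer (le_normalizer_sigmaCore M hm)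
  refine ⟨(Subgroup.equivSMul (MulAut.conj m) K).isCyclic.1 h.cyclic, ?_, ?_, ?_⟩
  · have h1 := isPiHallOf_conj h.hall m
    rwa [hM] at h1
  · have h1 := isComplIn_conj h.compl m
    rwa [hM, Subgroup.smul_sup, hs] at h1
  · rw [normalizer_conj]
    exact (conj_le_conj m).2 h.normal

theorem le_normalizer_commutator_self (M : Subgroup G) :
    M ≤ Subgroup.normalizer ((⁅M, M⁆ : Subgroup G) : Set G) :=
  Subgroup.normalizer_commutator_ge_right M M

/-- `(M')_F` is normal in `M`. -/
theorem fittingHallOf_commutator_invariant (M : Subgroup G) :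
    M ≤ Subgroup.normalizer (fittingHallOf ⁅M, M⁆ : Set G) := fun m hm =>
  Coprime.mem_normalizer_of_conj_eq (by
    rw [← fittingHallOf_conj,
      Coprime.conj_eq_of_mem_normalizer (le_normalizer_commutator_self M hm)])

end Cfsg.Agent.OddMax
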