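import Cfsg.Agent.Lib.OddOrder.MaxBasic

/-!
Complements inside a subgroup (`Cfsg.IsComplIn A B M`: `M = A B`, `A ∩ B = 1`).
* `compl_card`, `compl_relIndex_left/right`, `compl_eq_sup`, `compl_unique`, `compl_symm`
* `exists_compl`, `exists_compl_ge`: complements of a normal Hall subgroup of a solvable group
* `commute_parts`, `mem_of_coprime_relIndex`
-/

set_option autoImplicit false

namespace Cfsg.Agent.OddMax

open scoped Pointwise

variable {G : Type*} [Group G] {A B M : Subgroup G}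

theorem compl_unique (h : IsComplIn A B M) {a a' b b' : G} (ha : a ∈ A) (ha' : a' ∈ A) (hb : b ∈ B)
    (hb' : b' ∈ B) (e : a * b = a' * b') : a = a' ∧ b = b' := by
  have h1 := Subgroup.mul_injective_of_disjoint (disjoint_iff.2 h.2.2.1)
    (a₁ := (⟨a, ha⟩, ⟨b, hb⟩)) (a₂ := (⟨a', ha'⟩, ⟨b', hb'⟩)) e
  simpa using h1

theorem compl_symm (h : IsComplIn A B M) : IsComplIn B A M := by
  refine ⟨h.2.1, h.1, by rw [inf_comm]; exact h.2.2.1, fun m hm => ?_⟩
  obtain ⟨a, ha, b, hb, e⟩ := h.2.2.2 m⁻¹ (M.inv_mem hm)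
  exact ⟨b⁻¹, B.inv_mem hb, a⁻¹, A.inv_mem ha, by rw [← mul_inv_rev, ← e, inv_inv]⟩

theorem compl_eq_sup (h : IsComplIn A B M) : A ⊔ B = M := by
  refine le_antisymm (sup_le h.1 h.2.1) fun m hm => ?_
  obtain ⟨a, ha, b, hb, rfl⟩ := h.2.2.2 m hm
  exact Subgroup.mul_mem_sup ha hb

theorem compl_card (h : IsComplIn A B M) : Nat.card A * Nat.card B = Nat.card M := by
  rw [← Nat.card_prod]
  refine Nat.card_congr (Equiv.ofBijective
    (fun p : A × B => (⟨p.1 * p.2, M.mul_mem (h.1 p.1.2) (h.2.1 p.2.2)⟩ : M)) ⟨?_, ?_⟩)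
  · intro p q e
    exact Subgroup.mul_injective_of_disjoint (disjoint_iff.2 h.2.2.1) (congrArg Subtype.val e)
  · rintro ⟨m, hm⟩
    obtain ⟨a, ha, b, hb, rfl⟩ := h.2.2.2 m hm
    exact ⟨(⟨a, ha⟩, ⟨b, hb⟩), rfl⟩

theorem card_mul_relIndex {H K : Subgroup G} (h : H ≤ K) :
    Nat.card H * H.relIndex K = Nat.card K := by
  rw [← Cores.card_subgroupOf h]
  exact Subgroup.card_mul_index _

theorem compl_relIndex_left [Finite G] (h : IsComplIn A B M) : B.relIndex M = Nat.card A :=
  Nat.eq_of_mul_eq_mul_left Nat.card_pos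
    ((card_mul_relIndex h.2.1).trans ((compl_card h).symm.trans (mul_comm _ _)))

theorem compl_relIndex_right [Finite G] (h : IsComplIn A B M) : A.relIndex M = Nat.card B :=
  compl_relIndex_left (compl_symm h)

/-- A subgroup of `M` of the order of the index of a normal Hall subgroup is a complement. -/
theorem isComplIn_of_card [Finite G] {N E : Subgroup G} (hN : N ≤ M) (hE : E ≤ M)
    (hcop : (Nat.card N).Coprime (N.relIndex M)) (hn : M ≤ Subgroup.normalizer (N : Set G))
    (hc : Nat.card E = N.relIndex M) : IsComplIn E N M := by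
  have hcop' : (Nat.card N).Coprime (Nat.card E) := hc ▸ hcop
  have hEN : E ≤ Subgroup.normalizer (N : Set G) := hE.trans hn
  have hsup : N ⊔ E = M := by
    refine Subgroup.eq_of_le_of_card_ge (sup_le hN hE) ?_
    rw [Coprime.card_sup_of_coprime hEN hcop', hc, card_mul_relIndex hN]
  refine ⟨hE, hN, Coprime.inf_eq_bot hcop'.symm, fun m hm => ?_⟩
  rw [← hsup, Coprime.mem_sup_iff hEN] at hm
  obtain ⟨n, hn', e, he, rfl⟩ := hm
  exact ⟨e, he, e⁻¹ * n * e, (Subgroup.mem_normalizer_iff''.1 (hEN he) n).1 hn', by group⟩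

/-- A normal Hall subgroup of a solvable group has a complement over any subgroup of coprime
order. -/
theorem exists_compl_ge [Finite G] [Group.IsSolvable M] {N X : Subgroup G} (hN : N ≤ M)
    (hn : M ≤ Subgroup.normalizer (N : Set G)) (hcop : (Nat.card N).Coprime (N.relIndex M))
    (hX : X ≤ M) (hXN : (Nat.card X).Coprime (Nat.card N)) :
    ∃ E : Subgroup G, IsComplIn E N M ∧ X ≤ E := by
  obtain ⟨E, hE, hXE⟩ := Solvable.exists_card_eq_ge_of_solvable (G := M) (m := N.relIndex M)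
    (n := Nat.card N) (by rw [mul_comm]; exact (card_mul_relIndex hN).symm) hcop.symm
    (K := X.subgroupOf M) (by rwa [Cores.card_subgroupOf hX])
  refine ⟨E.map M.subtype, isComplIn_of_card hN (Subgroup.map_subtype_le _) hcop hn ?_, ?_⟩
  · rw [Subgroup.card_map_of_injective M.subtype_injective, hE]
  · intro x hx
    exact ⟨⟨x, hX hx⟩, hXE hx, rfl⟩

theorem exists_compl [Finite G] [Group.IsSolvable M] {N : Subgroup G} (hN : N ≤ M)
    (hn : M ≤ Subgroup.normalizer (N : Set G)) (hcop : (Nat.card N).Coprime (N.relIndex M)) :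
    ∃ E : Subgroup G, IsComplIn E N M :=
  (exists_compl_ge hN hn hcop (X := ⊥) bot_le (by simp)).imp fun _ h => h.1

/-- If `x ∈ A` commutes with `a b`, it commutes with both factors (`B` normalised by `A`). -/
theorem commute_parts (h : IsComplIn A B M) (hn : A ≤ Subgroup.normalizer (B : Set G))
    {x a b : G} (hx : x ∈ A) (ha : a ∈ A) (hb : b ∈ B) (e : x * (a * b) = a * b * x) :
    x * a = a * x ∧ x * b = b * x := by
  have h1 : (x * a) * b = (a * x) * (x⁻¹ * b * x) := by
    rw [mul_assoc, e]; group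
  obtain ⟨e1, e2⟩ := compl_unique h (A.mul_mem hx ha) (A.mul_mem ha hx) hb
    ((Subgroup.mem_normalizer_iff''.1 (hn hx) b).1 hb) h1
  refine ⟨e1, ?_⟩
  conv_lhs => rw [e2]
  group

/-- An element of `M` of order prime to the index of a normal subgroup lies in that subgroup. -/
theorem mem_of_coprime_relIndex [Finite G] {N : Subgroup G}
    (hn : M ≤ Subgroup.normalizer (N : Set G)) {x : G} (hx : x ∈ M)
    (hcop : (orderOf x).Coprime (N.relIndex M)) : x ∈ N := by
  have := Subgroup.normal_subgroupOf_of_le_normalizer hn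
  have h1 : QuotientGroup.mk' (N.subgroupOf M) ⟨x, hx⟩ = 1 := by
    refine orderOf_eq_one_iff.1 (Nat.eq_one_of_dvd_coprimes hcop ?_ ?_)
    · refine (orderOf_map_dvd _ _).trans ?_
      rw [Subgroup.orderOf_mk]
    · exact orderOf_dvd_natCard _
  exact (QuotientGroup.eq_one_iff (N := N.subgroupOf M) ⟨x, hx⟩).1 h1

end Cfsg.Agent.OddMax
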