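/-
Bender-Glauberman Theorem 10.1: for `p ∈ σ(M)` and a non-trivial `p`-subgroup `X`, `C(X)` is transitive
on the conjugates of `M` that contain `X`.
The inputs from sections 4 and 9 are the hypotheses `UniqHyp` (Theorem 9.6) and `RankTwoHyp` (Theorem 4.18).
Main results: `exists_centralizer_conj`, `conj_decomp`, `normalizer_eq_sup`, `exists_element_conj`.
-/
import Cfsg.Agent.Lib.OddOrder.SigmaBasic

set_option linter.unusedSectionVars false

open Subgroup
open scoped Pointwise

namespace Cfsg.Agent.OddSigma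

open Cfsg.Agent.Solvable

/-- The Uniqueness Theorem (Bender-Glauberman 9.6) for `G`. -/
def UniqHyp (G : Type*) [Group G] : Prop :=
  ∀ K : Subgroup G, K ≠ ⊤ → ¬ RankLE 1 K →
    (¬ RankLE 2 K ∨ ¬ RankLE 2 (Subgroup.centralizer (K : Set G))) → InUniqueMaximal K

/-- Bender-Glauberman 4.18 for the proper subgroups of `G`. -/
def RankTwoHyp (G : Type*) [Group G] : Prop :=
  ∀ H : Subgroup G, H ≠ ⊤ → ∀ p : ℕ, p.Prime → p ∣ Nat.card H → PRankLE p 2 ↥H →
    (∀ q : ℕ, q.Prime → q ∣ (pPrimeCore p ↥H).index → q ≤ p) ∧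
      HasNormalPComplement p ↥(commutator ↥H) ∧
      commutator ↥H ≤ pPrimePCore p ↥H ∧ ((pPrimePCore p ↥H).index).Coprime p

section General

variable {H : Type*} [Group H] [Finite H]

instance pPrimePCore_normal_inst (p : ℕ) : (pPrimePCore p H).Normal :=
  inferInstanceAs ((pCore p (H ⧸ pPrimeCore p H)).comap (QuotientGroup.mk' (pPrimeCore p H))).Normal

/-- If `p` does not divide the index of `O_{p',p}`, then `O_{p',p} = O_{p'} R` for a Sylow subgroup `R`. -/
theorem pPrimePCore_eq_sup {p : ℕ} [hp : Fact p.Prime] (h : ((pPrimePCore p H).index).Coprime p) (R : Sylow p H) :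
    pPrimePCore p H = pPrimeCore p H ⊔ (R : Subgroup H) := by
  set N := pPrimeCore p H with hN
  set K := pPrimePCore p H with hK
  have hNK : N ≤ K := (QuotientGroup.ker_mk' N).ge.trans (MonoidHom.ker_le_comap _ _)
  have hRK : (R : Subgroup H) ≤ K := by
    intro x hx
    obtain ⟨k, hk⟩ := IsPGroup.iff_orderOf.mp R.isPGroup' ⟨x, hx⟩
    rw [← Subgroup.orderOf_coe] at hk
    rw [← QuotientGroup.eq_one_iff (N := K)]
    have hdvd : orderOf (x : H ⧸ K) ∣ p ^ k := hk ▸ orderOf_map_dvd (QuotientGroup.mk' K) x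
    exact orderOf_eq_one_iff.mp (Nat.eq_one_of_dvd_coprimes (h.pow_right k)
      (orderOf_dvd_natCard (x : H ⧸ K)) hdvd)
  refine le_antisymm ?_ (sup_le hNK hRK)
  refine Subgroup.relIndex_eq_one.mp ?_
  have h1 : (N ⊔ (R : Subgroup H)).relIndex K ∣ N.relIndex K := relIndex_dvd_of_le_left K le_sup_left
  have h2 : (N ⊔ (R : Subgroup H)).relIndex K ∣ (R : Subgroup H).index := by
    refine (Dvd.intro _ (Subgroup.relIndex_mul_index (sup_le hNK hRK))).trans ?_
    exact Subgroup.index_dvd_of_le le_sup_right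
  obtain ⟨j, hj⟩ : ∃ j, N.relIndex K = p ^ j := by
    obtain ⟨j, hj⟩ := (Cores.isPGroup_pCore p (H ⧸ N)).exists_card_eq
    refine ⟨j, ?_⟩
    rw [← hj, hK]
    show N.relIndex ((pCore p (H ⧸ N)).comap (QuotientGroup.mk' N)) = _
    have := Subgroup.relIndex_comap (⊥ : Subgroup (H ⧸ N)) (QuotientGroup.mk' N) ((pCore p (H ⧸ N)).comap (QuotientGroup.mk' N))
    rw [MonoidHom.comap_bot, QuotientGroup.ker_mk', Subgroup.map_comap_eq_self_of_surjective (QuotientGroup.mk'_surjective N)] at this
    rw [this, Subgroup.relIndex_bot_left]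
  exact Nat.eq_one_of_dvd_coprimes ((hp.out.coprime_iff_not_dvd.mpr R.not_dvd_index).pow_left j)
    (hj ▸ h1) h2

theorem disjoint_pPrimeCore {p : ℕ} [hp : Fact p.Prime] {X : Subgroup H} (hX : IsPGroup p X) :
    Disjoint X (pPrimeCore p H) := by
  obtain ⟨j, hj⟩ := hX.exists_card_eq
  exact disjoint_iff.mpr (Solvable.inf_eq_bot_of_coprime (hj ▸ (Cores.coprime_card_pPrimeCore p).symm.pow_left j))

end General

variable {G : Type*} [Group G] [Finite G]

/-- `A` and `B` differ by an element of `C(X)`. -/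
def CRel (X A B : Subgroup G) : Prop :=
  ∃ c ∈ Subgroup.centralizer (X : Set G), MulAut.conj c • A = B

theorem CRel.symm {X A B : Subgroup G} (h : CRel X A B) : CRel X B A :=
  let ⟨c, hc, e⟩ := h
  ⟨c⁻¹, inv_mem hc, by rw [← e, conj_inv_smul]⟩

theorem CRel.trans {X A B C : Subgroup G} (h : CRel X A B) (h' : CRel X B C) : CRel X A C :=
  let ⟨c, hc, e⟩ := h
  let ⟨d, hd, e'⟩ := h'
  ⟨d * c, mul_mem hd hc, by rw [← conj_conj, e, e']⟩

theorem CRel.mono {X Y A B : Subgroup G} (hXY : X ≤ Y) (h : CRel Y A B) : CRel X A B :=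
  let ⟨c, hc, e⟩ := h
  ⟨c, Subgroup.centralizer_le hXY hc, e⟩

theorem conj_eq_of_unique {K A B : Subgroup G} (h : InUniqueMaximal K) (hA : IsCoatom A) (hB : IsCoatom B)
    (hKA : K ≤ A) (hKB : K ≤ B) : A = B := by
  obtain ⟨M, -, hu⟩ := h
  exact (hu A ⟨hA, hKA⟩).trans (hu B ⟨hB, hKB⟩).symm

theorem exists_lt_of_not_sylow {p : ℕ} [Fact p.Prime] {X Q : Subgroup G} (hQ : IsPGroup p Q) (h : X < Q) :
    X < Q ⊓ Subgroup.normalizer (X : Set G) := by
  have := hQ.isNilpotent
  have h1 : X.subgroupOf Q < ⊤ := by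
    rw [lt_top_iff_ne_top, ne_eq, Subgroup.subgroupOf_eq_top]
    exact not_le_of_gt h
  obtain ⟨x, hx, hxn⟩ := SetLike.exists_of_lt (normalizerCondition_of_isNilpotent _ h1)
  refine lt_of_le_of_ne (le_inf h.le Subgroup.le_normalizer) fun he => hxn ?_
  rw [Subgroup.mem_subgroupOf, he]
  refine ⟨x.2, ?_⟩
  show (x : G) ∈ Subgroup.normalizer (X : Set G)
  rw [Subgroup.mem_normalizer_iff]
  intro y
  rw [Subgroup.mem_normalizer_iff] at hx
  constructor
  · intro hy
    exact Subgroup.mem_subgroupOf.mp ((hx ⟨y, h.le hy⟩).mp hy)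
  · intro hy
    have hyQ : y ∈ Q := by
      have := Q.mul_mem (Q.mul_mem (Q.inv_mem x.2) (h.le hy)) x.2
      simpa [mul_assoc] using this
    exact Subgroup.mem_subgroupOf.mp ((hx ⟨y, hyQ⟩).mpr hy)

variable (hG : IsMinSimpleOddOrder G) (hU : UniqHyp G) (hR2 : RankTwoHyp G)
include hG

/-- A Sylow subgroup of a maximal subgroup is proper. -/
theorem sylow_map_ne_top {M : Subgroup G} (hM : IsCoatom M) {p : ℕ} (P : Sylow p M) :
    (P : Subgroup M).map M.subtype ≠ ⊤ :=
  fun h => hM.1 (top_le_iff.mp (h.ge.trans (Subgroup.map_subtype_le _)))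

include hU in
theorem unique_of_prank_three {K : Subgroup G} (hK : K ≠ ⊤) {p : ℕ} (hp : p.Prime) (h : ¬ PRankLE p 2 ↥K) :
    InUniqueMaximal K :=
  hU K hK (not_rankLE_of_prank hp fun h1 => h (prankLE_le hp (by norm_num) h1))
    (Or.inl (not_rankLE_of_prank hp h))

include hU hR2

/-- **Bender-Glauberman 10.1 (b)**: `C(X)` is transitive on the conjugates of `M` containing `X`. -/
theorem exists_centralizer_conj {M : Subgroup G} (hM : IsCoatom M) {p : ℕ} [hp : Fact p.Prime]
    (hσ : p ∈ sigma M) : ∀ X : Subgroup G, IsPGroup p X → X ≠ ⊥ → ∀ a b : G,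
      X ≤ MulAut.conj a • M → X ≤ MulAut.conj b • M → CRel X (MulAut.conj a • M) (MulAut.conj b • M) := by
  have hpM : p ∣ Nat.card M := hσ.2.1
  suffices key : ∀ (n : ℕ) (X : Subgroup G), Nat.card G - Nat.card X = n → IsPGroup p X → X ≠ ⊥ → ∀ a b : G,
      X ≤ MulAut.conj a • M → X ≤ MulAut.conj b • M → CRel X (MulAut.conj a • M) (MulAut.conj b • M) from
    fun X => key _ X rfl
  intro n
  induction n using Nat.strong_induction_on with
  | _ n ih =>
    intro X hn hX hX1 a b ha hb
    have IH : ∀ Y : Subgroup G, X < Y → IsPGroup p Y → ∀ a b : G, Y ≤ MulAut.conj a • M →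
        Y ≤ MulAut.conj b • M → CRel X (MulAut.conj a • M) (MulAut.conj b • M) := by
      intro Y hXY hY a b ha hb
      have hlt : Nat.card X < Nat.card Y :=
        lt_of_le_of_ne (Subgroup.card_le_of_le hXY.le) fun he => hXY.ne (Subgroup.eq_of_le_of_card_ge hXY.le he.ge)
      have hYG := Nat.le_of_dvd Nat.card_pos (Subgroup.card_subgroup_dvd_card Y)
      exact (ih (Nat.card G - Nat.card Y) (by omega) Y rfl hY
        (fun h => hX1 (le_bot_iff.mp (h ▸ hXY.le))) a b ha hb).mono hXY.le
    -- `X` is contained in a Sylow subgroup of a conjugate of `M`, which is a Sylow subgroup of `G`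
    have hsyl : ∀ c : G, X ≤ MulAut.conj c • M →
        ∃ Q : Sylow p G, X ≤ (Q : Subgroup G) ∧ (Q : Subgroup G) ≤ MulAut.conj c • M := by
      intro c hc
      have hX' : MulAut.conj c⁻¹ • X ≤ M := by
        have := conj_mono c⁻¹ hc
        rwa [conj_inv_smul] at this
      obtain ⟨P, hP⟩ := ((hX.map (MulAut.conj c⁻¹).toMonoidHom).comap_of_injective M.subtype M.subtype_injective).exists_le_sylow
      let S : Sylow p G := (P.isPGroup'.map M.subtype).toSylow (sylow_index_of_sigma hσ P)
      refine ⟨c • S, ?_, ?_⟩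
      · have h1 : MulAut.conj c⁻¹ • X ≤ (S : Subgroup G) := fun x hx => ⟨⟨x, hX' hx⟩, hP hx, rfl⟩
        have := conj_mono c h1
        rwa [conj_conj, mul_inv_cancel, conj_one_smul] at this
      · exact conj_mono c (Subgroup.map_subtype_le _)
    by_cases hbase : ∃ Q : Sylow p G, (Q : Subgroup G) = X
    · obtain ⟨Q, rfl⟩ := hbase
      refine ⟨1, one_mem _, ?_⟩
      rw [conj_one_smul]
      -- both are Sylow subgroups of `M` after conjugation
      have hle : ∀ c : G, (Q : Subgroup G) ≤ MulAut.conj c • M → ((c⁻¹ • Q : Sylow p G) : Subgroup G) ≤ M := by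
        intro c hc
        have := conj_mono c⁻¹ hc
        rwa [conj_inv_smul] at this
      obtain ⟨m, hm⟩ := MulAction.exists_smul_eq M ((a⁻¹ • Q : Sylow p G).subtype (hle a ha))
        ((b⁻¹ • Q : Sylow p G).subtype (hle b hb))
      rw [Sylow.smul_subtype] at hm
      have hm' : ((m : G) * a⁻¹) • Q = b⁻¹ • Q := by
        rw [mul_smul]; exact Sylow.subtype_injective hm
      have hn : b * ((m : G) * a⁻¹) ∈ Subgroup.normalizer ((Q : Subgroup G) : Set G) :=
        Sylow.smul_eq_iff_mem_normalizer.mp (by rw [mul_smul, hm', smul_inv_smul])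
      obtain ⟨P, hP⟩ : ∃ P : Sylow p M, (P : Subgroup M).map M.subtype = MulAut.conj b⁻¹ • (Q : Subgroup G) :=
        ⟨(b⁻¹ • Q : Sylow p G).subtype (hle b hb), Subgroup.map_subgroupOf_eq_of_le (hle b hb)⟩
      have hn2 : (m : G) * a⁻¹ * b ∈ M := by
        apply sigma_normalizer_le hσ P
        rw [hP, mem_normalizer_iff_conj, conj_conj, mul_assoc ((m : G) * a⁻¹), mul_inv_cancel, mul_one,
          ← conj_inv_smul b (MulAut.conj ((m : G) * a⁻¹) • (Q : Subgroup G)), conj_conj b,
          mem_normalizer_iff_conj.mp hn]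
      have hab : a⁻¹ * b ∈ M := by
        simpa [mul_assoc] using M.mul_mem (M.inv_mem m.2) hn2
      rw [← conj_eq_self hab, conj_conj, mul_inv_cancel_left, conj_eq_self hab]
    · push Not at hbase
      set L := Subgroup.normalizer (X : Set G) with hL
      have hLtop : L ≠ ⊤ := normalizer_ne_top hG hX1 (top_not_pGroup hG hX)
      have := proper_solvable hG hLtop
      have hXL : X ≤ L := Subgroup.le_normalizer
      obtain ⟨R₀⟩ : Nonempty (Sylow p L) := inferInstance
      -- every conjugate containing `X` is equivalent to one containing a Sylow subgroup of `L`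
      have claimA : ∀ c : G, X ≤ MulAut.conj c • M → ∃ (R : Sylow p L) (d : G),
          X < (R : Subgroup L).map L.subtype ∧ (R : Subgroup L).map L.subtype ≤ MulAut.conj d • M ∧
            CRel X (MulAut.conj c • M) (MulAut.conj d • M) := by
        intro c hc
        obtain ⟨Q, hXQ, hQc⟩ := hsyl c hc
        have hlt := exists_lt_of_not_sylow Q.isPGroup' (lt_of_le_of_ne hXQ fun he => hbase Q he.symm)
        have hX1p : IsPGroup p ↥((Q : Subgroup G) ⊓ L) := Q.isPGroup'.to_le inf_le_left
        obtain ⟨R, hR⟩ := (hX1p.comap_of_injective L.subtype L.subtype_injective).exists_le_sylow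
        have hR' : (Q : Subgroup G) ⊓ L ≤ (R : Subgroup L).map L.subtype :=
          fun x hx => ⟨⟨x, hx.2⟩, hR hx, rfl⟩
        obtain ⟨d, hd⟩ := exists_conj_le_of_sigma hσ (R.isPGroup'.map L.subtype)
        exact ⟨R, d, hlt.trans_le hR', hd, IH _ hlt hX1p c d (inf_le_left.trans hQc) (hR'.trans hd)⟩
      -- an element of `L` moves a conjugate containing a Sylow subgroup of `L` to an equivalent one
      have claimB : ∀ (R : Sylow p L) (d : G) (l : L), X < (R : Subgroup L).map L.subtype →
          (R : Subgroup L).map L.subtype ≤ MulAut.conj d • M →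
          CRel X (MulAut.conj d • M) (MulAut.conj (l : G) • MulAut.conj d • M) := by
        intro R d l hlt hd
        have hA := isCoatom_conj hM d
        by_cases h3 : PRankLE p 2 ↥((R : Subgroup L).map L.subtype)
        · have hrL : PRankLE p 2 ↥L := prankLE_of_sylow R h3
          have hpL : p ∣ Nat.card L := by
            obtain ⟨j, hj⟩ := hX.exists_card_eq
            refine dvd_trans ?_ (hj ▸ Subgroup.card_dvd_of_le hXL)
            refine dvd_pow_self p fun h0 => hX1 (Subgroup.card_eq_one.mp ?_)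
            rw [hj, h0, pow_zero]
          have hidx := (hR2 L hLtop p hp.out hpL hrL).2.2.2
          have hK := pPrimePCore_eq_sup hidx R
          have hlR : ((l • R : Sylow p L) : Subgroup L) ≤ pPrimePCore p L := by
            have h1 : (R : Subgroup L) ≤ pPrimePCore p L := hK ▸ le_sup_right
            have h2 := conj_mono l h1
            rwa [conj_normal l (pPrimePCore p ↥L)] at h2
          have hRK : (R : Subgroup L) ≤ pPrimePCore p L := hK ▸ le_sup_right
          obtain ⟨k, hk⟩ := MulAction.exists_smul_eq ↥(pPrimePCore p ↥L) (R.subtype hRK) ((l • R).subtype hlR)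
          rw [Sylow.smul_subtype] at hk
          have hk' : (k : L) • R = l • R := Sylow.subtype_injective hk
          obtain ⟨o, ho, r, hr, hor⟩ : ∃ o ∈ pPrimeCore p ↥L, ∃ r ∈ (R : Subgroup L), o * r = (k : L) := by
            have : (k : L) ∈ pPrimeCore p ↥L ⊔ (R : Subgroup L) := hK ▸ k.2
            rwa [Subgroup.mem_sup_of_normal_left] at this
          have hoR : o • R = l • R := by
            rw [← hk', ← hor, mul_smul]
            congr 1
            exact (Sylow.smul_eq_iff_mem_normalizer.mpr (Subgroup.le_normalizer hr)).symm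
          have hnR : (o⁻¹ * l) ∈ Subgroup.normalizer ((R : Subgroup L) : Set L) :=
            Sylow.smul_eq_iff_mem_normalizer.mp (by rw [mul_smul, ← hoR, inv_smul_smul])
          have hoX : (o : G) ∈ Subgroup.centralizer (X : Set G) := by
            intro x hx
            have hXn : (X.subgroupOf L).Normal := Subgroup.normal_in_normalizer
            exact congrArg Subtype.val (Subgroup.commute_of_normal_of_disjoint (X.subgroupOf L) (pPrimeCore p L)
              hXn inferInstance (disjoint_pPrimeCore (hX.comap_of_injective L.subtype L.subtype_injective))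
              ⟨x, hXL hx⟩ o hx ho)
          have hRn : (R : Subgroup L).map L.subtype ≤ MulAut.conj (((o⁻¹ * l : L) : G) * d) • M := by
            rw [← conj_conj]
            refine le_trans ?_ (conj_mono _ hd)
            rw [← map_subgroup_conj, mem_normalizer_iff_conj.mp hnR]
          refine (IH _ hlt (R.isPGroup'.map L.subtype) d _ hd hRn).trans ⟨(o : G), hoX, ?_⟩
          rw [conj_conj, conj_conj, ← mul_assoc, ← Subgroup.coe_mul, mul_inv_cancel_left]
        · refine ⟨1, one_mem _, ?_⟩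
          rw [conj_one_smul]
          have hne : (R : Subgroup L).map L.subtype ≠ ⊤ := fun h =>
            hLtop (top_le_iff.mp (h.ge.trans (Subgroup.map_subtype_le _)))
          have hle : L ≤ MulAut.conj d • M :=
            le_of_unique (unique_of_prank_three hG hU hne hp.out h3) hA hd (Subgroup.map_subtype_le _) hLtop
          rw [conj_eq_self (hle l.2)]
      obtain ⟨R₁, d₁, h1lt, h1le, hrel₁⟩ := claimA a ha
      obtain ⟨R₂, d₂, h2lt, h2le, hrel₂⟩ := claimA b hb
      obtain ⟨l, hl⟩ := MulAction.exists_smul_eq L R₁ R₂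
      have h3 : (R₂ : Subgroup L).map L.subtype ≤ MulAut.conj ((l : G) * d₁) • M := by
        rw [← conj_conj, ← hl, Sylow.coe_subgroup_smul, map_subgroup_conj]
        exact conj_mono _ h1le
      have h4 := IH _ h2lt (R₂.isPGroup'.map L.subtype) _ d₂ h3 h2le
      rw [← conj_conj] at h4
      exact hrel₁.trans ((claimB R₁ d₁ l h1lt h1le).trans (h4.trans hrel₂.symm))
where
  map_subgroup_conj {L : Subgroup G} (l : L) (S : Subgroup L) :
      (MulAut.conj l • S).map L.subtype = MulAut.conj (l : G) • S.map L.subtype := by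
    rw [map_conj]; rfl

/-- **Bender-Glauberman 10.1 (a)**. -/
theorem conj_decomp {M : Subgroup G} (hM : IsCoatom M) {p : ℕ} [Fact p.Prime] (hσ : p ∈ sigma M)
    {X : Subgroup G} (hX : IsPGroup p X) (hX1 : X ≠ ⊥) (hXM : X ≤ M) {g : G}
    (hg : MulAut.conj g • X ≤ M) : ∃ m ∈ M, ∃ c ∈ Subgroup.centralizer (X : Set G), g = m * c := by
  have h1 : X ≤ MulAut.conj g⁻¹ • M := by
    have := conj_mono g⁻¹ hg
    rwa [conj_inv_smul] at this
  obtain ⟨c, hc, e⟩ := exists_centralizer_conj hG hU hR2 hM hσ X hX hX1 1 g⁻¹ (by rwa [conj_one_smul]) h1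
  rw [conj_one_smul] at e
  refine ⟨g * c, mem_of_conj_eq hG hM ?_, c⁻¹, inv_mem hc, by rw [mul_inv_cancel_right]⟩
  rw [← conj_conj, e, conj_conj, mul_inv_cancel, conj_one_smul]

/-- **Bender-Glauberman 10.1 (c)**. -/
theorem normalizer_eq_sup {M : Subgroup G} (hM : IsCoatom M) {p : ℕ} [Fact p.Prime] (hσ : p ∈ sigma M)
    {X : Subgroup G} (hX : IsPGroup p X) (hX1 : X ≠ ⊥) (hXM : X ≤ M) :
    Subgroup.normalizer (X : Set G) = (M ⊓ Subgroup.normalizer (X : Set G)) ⊔ Subgroup.centralizer (X : Set G) := by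
  refine le_antisymm (fun n hn => ?_) (sup_le inf_le_right (Subgroup.centralizer_le_normalizer _))
  obtain ⟨m, hm, c, hc, rfl⟩ := conj_decomp hG hU hR2 hM hσ hX hX1 hXM
    (g := n) (by rw [mem_normalizer_iff_conj.mp hn]; exact hXM)
  refine Subgroup.mul_mem_sup ⟨hm, ?_⟩ hc
  have := mul_mem hn (inv_mem (Subgroup.centralizer_le_normalizer _ hc))
  rwa [mul_inv_cancel_right] at this

/-- Fusion of `σ`-elements of `M` takes place in `M`. -/
theorem exists_element_conj {M : Subgroup G} (hM : IsCoatom M) {p : ℕ} [Fact p.Prime] (hσ : p ∈ sigma M)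
    {P : Subgroup G} (hP : IsPGroup p P) (hPM : P ≤ M) {x : G} (hx : x ∈ P) {g : G} (hg : g * x * g⁻¹ ∈ M) :
    ∃ m ∈ M, m * x * m⁻¹ = g * x * g⁻¹ := by
  by_cases hx1 : x = 1
  · exact ⟨1, one_mem _, by simp [hx1]⟩
  have hle : Subgroup.zpowers x ≤ P := Subgroup.zpowers_le.mpr hx
  have hgx : MulAut.conj g • Subgroup.zpowers x ≤ M := by
    rw [Solvable.conj_eq_map, MonoidHom.map_zpowers, Subgroup.zpowers_le]
    simpa using hg
  obtain ⟨m, hm, c, hc, rfl⟩ := conj_decomp hG hU hR2 hM hσ (hP.to_le hle)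
    (fun h => hx1 (Subgroup.zpowers_eq_bot.mp h)) (hle.trans hPM) hgx
  refine ⟨m, hm, ?_⟩
  have : c * x * c⁻¹ = x := by
    rw [← (hc x (Subgroup.mem_zpowers x)), mul_inv_cancel_right]
  calc m * x * m⁻¹ = m * (c * x * c⁻¹) * m⁻¹ := by rw [this]
    _ = m * c * x * (m * c)⁻¹ := by group

end Cfsg.Agent.OddSigma
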