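/-
Bender-Glauberman Theorem 10.2: `M_α` and `M_σ` are Hall subgroups of `M` and of `G`,
`M_α ≤ M_σ ≤ M' < M`, `M_σ ≠ 1`, `M / M_α` has rank at most two and nilpotent derived subgroup.
The inputs from sections 4 and 9 are the hypotheses `UniqHyp`, `RankTwoHyp`, `RankTwoFittingHyp`.
Main results (namespace `Cfsg.Agent.OddSigma`): `alpha_subset_sigma`, `sylow_le_commutator`,
`alphaCore_hall`, `sigmaCore_hall`, `alphaCore_le_sigmaCore`, `sigmaCore_le_commutator`,
`rankLE_quotient`, `derived_quotient_nilpotent`, `commutator_lt`, `sigmaCore_ne_bot`, `sigmaCore_unique`.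
-/
import Cfsg.Agent.Lib.OddOrder.SigmaTrans
import Cfsg.Agent.Lib.Transfer.Focal
import Cfsg.Agent.Lib.Cores.Fitting

set_option linter.unusedSectionVars false

open Subgroup
open scoped Pointwise

namespace Cfsg.Agent.OddSigma

open Cfsg.Agent.Solvable

universe u

/-- Bender-Glauberman 4.20 for all finite solvable groups of odd order in a universe. -/
def RankTwoFittingHyp : Prop :=
  ∀ (H : Type u) [Group H] [Finite H], Group.IsSolvable H → Odd (Nat.card H) →
    (RankLE 2 H ∨ RankLE 2 (fittingSubgroup H)) →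
      Group.IsNilpotent ↥(commutator H) ∧
        ∀ p : ℕ, ∃ N : Subgroup H, N.Characteristic ∧ IsPiHall {q | q.Prime ∧ p < q} N

section Transfer

variable {G K : Type*} [Group G] [Group K]

/-- Ranks go down along injective homomorphisms. -/
theorem prankLE_of_injective {p k : ℕ} (f : G →* K) (hf : Function.Injective f) (h : PRankLE p k K) :
    PRankLE p k G := by
  intro A hA hA'
  rw [← Subgroup.card_map_of_injective hf]
  refine h _ (Subgroup.map_isMulCommutative A f) ?_
  rintro _ ⟨a, ha, rfl⟩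
  rw [← map_pow, hA' a ha, map_one]

theorem rankLE_of_injective {k : ℕ} (f : G →* K) (hf : Function.Injective f) (h : RankLE k K) : RankLE k G :=
  fun p hp => prankLE_of_injective f hf (h p hp)

/-- The `p`-rank does not increase modulo a normal subgroup of order prime to `p`. -/
theorem prankLE_quotient [Finite G] {p k : ℕ} [hp : Fact p.Prime] (N : Subgroup G) [N.Normal]
    (hN : ¬ p ∣ Nat.card N) (h : PRankLE p k G) : PRankLE p k (G ⧸ N) := by
  intro E hE hE'
  set f := QuotientGroup.mk' N with hf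
  obtain ⟨j, hj⟩ := (Signalizer.isPGroup_of_elemAb (p := p) (A := E) ⟨hE, hE'⟩).exists_card_eq
  obtain ⟨P⟩ : Nonempty (Sylow p (E.comap f)) := inferInstance
  set P1 := (P : Subgroup (E.comap f)).map (E.comap f).subtype with hP1
  have hinf : P1 ⊓ f.ker = ⊥ := by
    obtain ⟨i, hi⟩ := (P.isPGroup'.map (E.comap f).subtype).exists_card_eq
    refine Solvable.inf_eq_bot_of_coprime ?_
    rw [hf, QuotientGroup.ker_mk', hP1, hi]
    exact (hp.out.coprime_iff_not_dvd.mpr hN).pow_left i
  have hinj : ∀ a ∈ P1, f a = 1 → a = 1 := fun a ha h1 =>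
    Subgroup.mem_bot.mp (hinf ▸ ⟨ha, h1⟩ : a ∈ (⊥ : Subgroup G))
  have hsub : ∀ a ∈ P1, f a ∈ E := fun a ha => (Subgroup.map_subtype_le _ ha :)
  have hcardH : Nat.card ↥(E.comap f) = p ^ j * Nat.card N := by
    rw [card_eq_card_map_mul f, Subgroup.map_comap_eq_self_of_surjective (QuotientGroup.mk'_surjective N),
      hj, inf_eq_right.mpr (MonoidHom.ker_le_comap _ _), hf, QuotientGroup.ker_mk']
  have hcard : Nat.card P1 = p ^ j := by
    rw [hP1, Subgroup.card_map_of_injective (E.comap f).subtype_injective, P.card_eq_multiplicity, hcardH,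
      Nat.factorization_mul (pow_ne_zero j hp.out.ne_zero) Nat.card_pos.ne', Finsupp.add_apply,
      hp.out.factorization_pow, Finsupp.single_eq_same, Nat.factorization_eq_zero_of_not_dvd hN, add_zero]
  rw [hj, ← hcard]
  refine h P1 ⟨⟨fun a b => Subtype.ext ?_⟩⟩ fun a ha => hinj _ (pow_mem ha p) ?_
  · show (a : G) * b = b * a
    refine (mul_inv_eq_one.mp (hinj _ (mul_mem (mul_mem a.2 b.2) (inv_mem (mul_mem b.2 a.2))) ?_))
    rw [map_mul, map_inv, map_mul, map_mul, mul_inv_eq_one]
    exact congrArg Subtype.val (mul_comm' (⟨_, hsub _ a.2⟩ : E) ⟨_, hsub _ b.2⟩)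
  · rw [map_pow, hE' _ (hsub a ha)]

/-- A Sylow subgroup inside a nilpotent normal subgroup is normal. -/
theorem sylow_normal_of_le_nilpotent [Finite G] {p : ℕ} [Fact p.Prime] (D : Subgroup G) [D.Normal]
    (hD : Group.IsNilpotent ↥D) (S : Sylow p G) (h : (S : Subgroup G) ≤ D) : (S : Subgroup G).Normal := by
  have hn : ((S.subtype h : Sylow p D) : Subgroup D).Normal :=
    Sylow.normal_of_normalizerCondition Group.normalizerCondition_of_isNilpotent _
  have := Sylow.characteristic_of_normal (S.subtype h) hn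
  have h2 := Cores.map_subtype_normal_of_characteristic D ((S.subtype h : Sylow p D) : Subgroup D)
  have he : ((S.subtype h : Sylow p D) : Subgroup D).map D.subtype = (S : Subgroup G) :=
    Subgroup.map_subgroupOf_eq_of_le h
  rwa [he] at h2

theorem relIndex_sylow_map {p : ℕ} {M : Subgroup G} (P : Sylow p M) :
    ((P : Subgroup M).map M.subtype).relIndex M = (P : Subgroup M).index := by
  show (((P : Subgroup M).map M.subtype).subgroupOf M).index = _
  rw [Subgroup.subgroupOf, Subgroup.comap_map_eq_self_of_injective M.subtype_injective]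

/-- A normal subgroup containing a Sylow `p`-subgroup has index prime to `p`. -/
theorem not_dvd_index_of_sylow_le [Finite G] {p : ℕ} [Fact p.Prime] {N : Subgroup G} (P : Sylow p G)
    (h : (P : Subgroup G) ≤ N) : ¬ p ∣ N.index :=
  fun hd => P.not_dvd_index (hd.trans (Subgroup.index_dvd_of_le h))

theorem piCoreOf_eq {π : Set ℕ} (M : Subgroup G) : piCoreOf π M = (piCore π M).map M.subtype := rfl

/-- Hall subgroups of `M` at `σ`-primes are Hall subgroups of `G`. -/
theorem isPiHall_of_isPiHallOf [Finite G] {π : Set ℕ} {M N : Subgroup G} (hπ : π ⊆ sigma M)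
    (h : IsPiHallOf π N M) : IsPiHall π N := by
  refine ⟨h.2.1, fun p hp hpπ hd => ?_⟩
  rw [← Subgroup.relIndex_mul_index h.1] at hd
  rcases hp.dvd_mul.mp hd with hd | hd
  · exact h.2.2 p hp hpπ hd
  · have := Fact.mk hp
    obtain ⟨P⟩ : Nonempty (Sylow p M) := inferInstance
    exact sylow_index_of_sigma (hπ hpπ) P (hd.trans (Subgroup.index_dvd_of_le (Subgroup.map_subtype_le _)))

theorem isPiHallOf_map [Finite G] {π : Set ℕ} {M : Subgroup G} {N : Subgroup M}
    (h1 : ∀ p : ℕ, p.Prime → p ∣ Nat.card N → p ∈ π) (h2 : ∀ p : ℕ, p.Prime → p ∈ π → ¬ p ∣ N.index) :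
    IsPiHallOf π (N.map M.subtype) M := by
  refine ⟨Subgroup.map_subtype_le _, fun p hp hd => h1 p hp ?_, fun p hp hpπ => ?_⟩
  · rwa [Subgroup.card_map_of_injective M.subtype_injective] at hd
  · show ¬ p ∣ ((N.map M.subtype).subgroupOf M).index
    rw [Subgroup.subgroupOf, Subgroup.comap_map_eq_self_of_injective M.subtype_injective]
    exact h2 p hp hpπ

/-- A `π`-subgroup lies in a normal subgroup of index prime to `π`. -/
theorem le_of_pi_index [Finite G] {π : Set ℕ} {N B : Subgroup G} [N.Normal]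
    (hN : ∀ p : ℕ, p.Prime → p ∈ π → ¬ p ∣ N.index) (hB : ∀ p : ℕ, p.Prime → p ∣ Nat.card B → p ∈ π) :
    B ≤ N := by
  refine Subgroup.relIndex_eq_one.mp ?_
  by_contra hne
  obtain ⟨p, hp, hd⟩ := Nat.exists_prime_and_dvd hne
  exact hN p hp (hB p hp (hd.trans (Subgroup.relIndex_dvd_card N B))) (hd.trans (Subgroup.relIndex_dvd_index_of_normal N B))

end Transfer

section Main

variable {G : Type u} [Group G] [Finite G] (hG : IsMinSimpleOddOrder G) (hU : UniqHyp G)
  (hR2 : RankTwoHyp G) (hF : RankTwoFittingHyp.{u}) {M : Subgroup G} (hM : IsCoatom M)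
include hG hU hM

theorem sylow_unique_of_alpha {p : ℕ} (hp : p ∈ alpha M) (P : Sylow p M) :
    InUniqueMaximal ((P : Subgroup M).map M.subtype) := by
  have := Fact.mk hp.1
  exact unique_of_prank_three hG hU (sylow_map_ne_top hG hM P) hp.1 fun h => hp.2 (prankLE_of_sylow P h)

theorem alpha_subset_sigma : alpha M ⊆ sigma M := by
  intro p hp
  have := Fact.mk hp.1
  obtain ⟨P⟩ : Nonempty (Sylow p M) := inferInstance
  exact sigma_of_sylow hp.1 (alpha_dvd hp) P
    (normalizer_le_of_unique hG (sylow_unique_of_alpha hG hU hM hp P) hM (Subgroup.map_subtype_le _))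

theorem alphaCore_le_sigmaCore : alphaCore M ≤ sigmaCore M :=
  Subgroup.map_mono (Cores.piCore_mono (alpha_subset_sigma hG hU hM))

include hR2

/-- `σ`-Sylow subgroups lie in the derived subgroup of `M`. -/
theorem sylow_le_commutator {p : ℕ} [Fact p.Prime] (hp : p ∈ sigma M) (P : Sylow p M) :
    (P : Subgroup M) ≤ commutator ↥M := by
  let S : Sylow p G := (P.isPGroup'.map M.subtype).toSylow (sylow_index_of_sigma hp P)
  have hSM : (S : Subgroup G) ≤ M := Subgroup.map_subtype_le _
  have h := Transfer.commutator_inf_eq_of_control S M hSM fun x hx g hg =>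
    exists_element_conj hG hU hR2 hM hp S.isPGroup' hSM hx (hSM hg)
  rw [commutator_eq_top hG, top_inf_eq] at h
  refine (Subgroup.map_subtype_le_map_subtype.mp ?_)
  rw [Subgroup.map_subtype_commutator]
  exact h.le.trans inf_le_left

include hF

omit hU hR2 hF hM in
theorem pCore_quotient_eq_bot {p : ℕ} [hp : Fact p.Prime] (hpα : p ∈ alpha M) :
    pCore p (↥M ⧸ piCore (alpha M) ↥M) = ⊥ := by
  refine Cores.pCore_eq_bot_iff.mpr fun N hN hNp => ?_
  refine Cores.piCore_eq_bot_iff.mp (Cores.piCore_quotient_self (G := ↥M) (alpha M)) N hN fun q hq hd => ?_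
  obtain ⟨j, hj⟩ := hNp.exists_card_eq
  rw [hj] at hd
  rw [(Nat.prime_dvd_prime_iff_eq hq hp.out).mp (hq.dvd_of_dvd_pow hd)]
  exact hpα

omit hU hR2 hF hM in
theorem not_dvd_alpha_piCore {p : ℕ} (hp : p.Prime) (hpα : p ∉ alpha M) :
    ¬ p ∣ Nat.card (piCore (alpha M) ↥M) := fun hd => hpα (Cores.card_piCore _ hp hd)

omit hU hR2 hF hM in
theorem rankLE_fitting_quotient : RankLE 2 (fittingSubgroup (↥M ⧸ piCore (alpha M) ↥M)) := by
  intro p hp
  have := Fact.mk hp
  by_cases hpα : p ∈ alpha M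
  · intro A hA hA'
    have hAp : IsPGroup p A := Signalizer.isPGroup_of_elemAb ⟨hA, hA'⟩
    obtain ⟨S, hS⟩ := hAp.exists_le_sylow
    have hSn : (S : Subgroup (fittingSubgroup (↥M ⧸ piCore (alpha M) ↥M))).Normal := Sylow.normal_of_normalizerCondition Group.normalizerCondition_of_isNilpotent _
    have h : A ≤ pCore p (fittingSubgroup (↥M ⧸ piCore (alpha M) ↥M)) :=
      hS.trans (Cores.le_pCore hSn S.isPGroup')
    have h2 : A.map (fittingSubgroup (↥M ⧸ piCore (alpha M) ↥M)).subtype = ⊥ := le_bot_iff.mp (by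
      refine (Subgroup.map_mono h).trans ?_
      rw [Cores.pCore_fittingSubgroup, pCore_quotient_eq_bot hG hpα])
    rw [← Subgroup.card_map_of_injective (fittingSubgroup _).subtype_injective, h2, Subgroup.card_bot]
    exact Nat.one_le_pow _ _ hp.pos
  · refine prankLE_of_injective _ (fittingSubgroup _).subtype_injective ?_
    exact prankLE_quotient _ (not_dvd_alpha_piCore hG hp hpα) (not_not.mp fun h => hpα ⟨hp, h⟩)

/-- The derived subgroup of `M / M_α` is nilpotent. -/
theorem derived_quotient_nilpotent : Group.IsNilpotent ↥(commutator (↥M ⧸ piCore (alpha M) ↥M)) := by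
  have := proper_solvable hG hM.1
  exact (hF _ inferInstance ((odd_card hG M).of_dvd_nat (Subgroup.card_quotient_dvd_card _))
    (Or.inr (rankLE_fitting_quotient hG))).1

/-- The image of a `σ`-Sylow subgroup is normal in `M / M_α`. -/
theorem sylow_map_normal {p : ℕ} [Fact p.Prime] (hp : p ∈ sigma M) (P : Sylow p M) :
    ((P : Subgroup M).map (QuotientGroup.mk' (piCore (alpha M) ↥M))).Normal := by
  refine sylow_normal_of_le_nilpotent (commutator _) (derived_quotient_nilpotent hG hU hR2 hF hM)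
    (P.mapSurjective (QuotientGroup.mk'_surjective _)) ?_
  refine (Subgroup.map_mono (sylow_le_commutator hG hU hR2 hM hp P)).trans ?_
  rw [commutator_def, commutator_def, Subgroup.map_commutator]
  exact Subgroup.commutator_mono le_top le_top

theorem sylow_le_alpha_piCore {p : ℕ} [Fact p.Prime] (hp : p ∈ alpha M) (P : Sylow p M) :
    (P : Subgroup M) ≤ piCore (alpha M) ↥M := by
  have hn := sylow_map_normal hG hU hR2 hF hM (alpha_subset_sigma hG hU hM hp) P
  have h := (Cores.le_pCore hn (P.isPGroup'.map _)).trans (pCore_quotient_eq_bot hG hp).le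
  rw [le_bot_iff, Subgroup.map_eq_bot_iff, QuotientGroup.ker_mk'] at h
  exact h

theorem sylow_le_sigma_piCore {p : ℕ} [hpp : Fact p.Prime] (hp : p ∈ sigma M) (P : Sylow p M) :
    (P : Subgroup M) ≤ piCore (sigma M) ↥M := by
  have hn := sylow_map_normal hG hU hR2 hF hM hp P
  set A := piCore (alpha M) ↥M with hA
  have hn' : ((P : Subgroup M) ⊔ A).Normal := by
    have h := hn.comap (QuotientGroup.mk' A)
    rwa [Subgroup.comap_map_eq, QuotientGroup.ker_mk'] at h
  refine le_trans le_sup_left (Cores.le_piCore hn' fun q hq hd => ?_)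
  rcases hq.dvd_mul.mp (hd.trans (Solvable.card_sup_dvd _ A)) with hd | hd
  · obtain ⟨j, hj⟩ := P.isPGroup'.exists_card_eq
    rw [hj] at hd
    rw [(Nat.prime_dvd_prime_iff_eq hq hpp.out).mp (hq.dvd_of_dvd_pow hd)]
    exact hp
  · exact alpha_subset_sigma hG hU hM (Cores.card_piCore _ hq hd)

theorem not_dvd_index_alpha {p : ℕ} (hp : p ∈ alpha M) : ¬ p ∣ (piCore (alpha M) ↥M).index := by
  have := Fact.mk hp.1
  obtain ⟨P⟩ : Nonempty (Sylow p M) := inferInstance
  exact not_dvd_index_of_sylow_le P (sylow_le_alpha_piCore hG hU hR2 hF hM hp P)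

theorem not_dvd_index_sigma {p : ℕ} (hp : p ∈ sigma M) : ¬ p ∣ (piCore (sigma M) ↥M).index := by
  have := Fact.mk hp.1
  obtain ⟨P⟩ : Nonempty (Sylow p M) := inferInstance
  exact not_dvd_index_of_sylow_le P (sylow_le_sigma_piCore hG hU hR2 hF hM hp P)

/-- `M_α` is a Hall `α(M)`-subgroup of `M`. -/
theorem alphaCore_hallOf : IsPiHallOf (alpha M) (alphaCore M) M :=
  isPiHallOf_map (fun _ hq hd => Cores.card_piCore _ hq hd)
    fun _ _ hp => not_dvd_index_alpha hG hU hR2 hF hM hp

theorem alphaCore_hall : IsPiHall (alpha M) (alphaCore M) :=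
  isPiHall_of_isPiHallOf (alpha_subset_sigma hG hU hM) (alphaCore_hallOf hG hU hR2 hF hM)

/-- `M_σ` is a Hall `σ(M)`-subgroup of `M`. -/
theorem sigmaCore_hallOf : IsPiHallOf (sigma M) (sigmaCore M) M :=
  isPiHallOf_map (fun _ hq hd => Cores.card_piCore _ hq hd)
    fun _ _ hp => not_dvd_index_sigma hG hU hR2 hF hM hp

theorem sigmaCore_hall : IsPiHall (sigma M) (sigmaCore M) :=
  isPiHall_of_isPiHallOf subset_rfl (sigmaCore_hallOf hG hU hR2 hF hM)

/-- `M / M_α` has rank at most two. -/
theorem rankLE_quotient : RankLE 2 (↥M ⧸ piCore (alpha M) ↥M) := by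
  intro p hp
  have := Fact.mk hp
  by_cases hpα : p ∈ alpha M
  · intro A hA hA'
    obtain ⟨j, hj⟩ := (Signalizer.isPGroup_of_elemAb (p := p) (A := A) ⟨hA, hA'⟩).exists_card_eq
    have hd := Subgroup.card_subgroup_dvd_card A
    rw [hj] at hd ⊢
    have hj0 : j = 0 := by
      by_contra h
      exact not_dvd_index_alpha hG hU hR2 hF hM hpα ((dvd_pow_self p h).trans hd)
    rw [hj0]
    exact Nat.pow_le_pow_right hp.pos (Nat.zero_le _)
  · exact prankLE_quotient _ (not_dvd_alpha_piCore hG hp hpα) (not_not.mp fun h => hpα ⟨hp, h⟩)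

/-- `M_σ ≤ M'`. -/
theorem sigma_piCore_le_commutator : piCore (sigma M) ↥M ≤ commutator ↥M := by
  refine le_of_pi_index (π := sigma M) (fun p hp hpσ => ?_) fun q hq hd => Cores.card_piCore _ hq hd
  have := Fact.mk hp
  obtain ⟨P⟩ : Nonempty (Sylow p M) := inferInstance
  exact not_dvd_index_of_sylow_le P (sylow_le_commutator hG hU hR2 hM hpσ P)

theorem sigmaCore_le_commutator : sigmaCore M ≤ ⁅M, M⁆ := by
  rw [← Subgroup.map_subtype_commutator]
  exact Subgroup.map_mono (sigma_piCore_le_commutator hG hU hR2 hF hM)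

omit hU hR2 hF in
/-- `M' < M`. -/
theorem commutator_lt : commutator ↥M < ⊤ := by
  have := proper_solvable hG hM.1
  have : Nontrivial M := (Subgroup.nontrivial_iff_ne_bot M).mpr (coatom_ne_bot hG hM)
  exact Group.IsSolvable.commutator_lt_top_of_nontrivial M

/-- Some prime divisor of `|M|` lies outside `σ(M)`. -/
theorem exists_prime_not_sigma : ∃ p : ℕ, p.Prime ∧ p ∣ Nat.card M ∧ p ∉ sigma M := by
  by_contra h
  push Not at h
  have htop : piCore (sigma M) ↥M = ⊤ := Cores.piCore_eq_top h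
  exact (commutator_lt hG hM).ne
    (top_le_iff.mp (htop ▸ sigma_piCore_le_commutator hG hU hR2 hF hM))

/-- `σ(M)` is not empty. -/
theorem exists_sigma : ∃ p : ℕ, p ∈ sigma M := by
  by_cases hα : ∃ p, p ∈ alpha M
  · exact hα.imp fun p hp => alpha_subset_sigma hG hU hM hp
  push Not at hα
  have := proper_solvable hG hM.1
  have hM1 := coatom_ne_bot hG hM
  have hr : RankLE 2 ↥M := fun p hp => not_not.mp fun h => hα p ⟨hp, h⟩
  have hne : (Nat.card M).primeFactors.Nonempty := Nat.nonempty_primeFactors.mpr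
    ((M.one_lt_card_iff_ne_bot).mpr hM1)
  set p := (Nat.card M).primeFactors.max' hne with hp
  obtain ⟨hpp, hpd, -⟩ := Nat.mem_primeFactors.mp (Finset.max'_mem _ hne)
  rw [← hp] at hpp hpd
  have := Fact.mk hpp
  obtain ⟨N, hNc, hN1, hN2⟩ := (hF M inferInstance (odd_card hG M) (Or.inl hr)).2 (p - 1)
  have hpπ : p ∈ {q | q.Prime ∧ p - 1 < q} := ⟨hpp, Nat.sub_lt hpp.pos one_pos⟩
  have hNp : IsPGroup p N := IsPGroup.iff_card.mpr ⟨_, Nat.eq_prime_pow_of_unique_prime_dvd Nat.card_pos.ne'
    fun {d} hd hdN => by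
      have h1 : p - 1 < d := (hN1 d hd hdN).2
      have h2 : d ≤ p := Finset.le_max' _ d (Nat.mem_primeFactors.mpr
        ⟨hd, hdN.trans (Subgroup.card_subgroup_dvd_card N), Nat.card_pos.ne'⟩)
      omega⟩
  have hNn : N.Normal := inferInstance
  set P := hNp.toSylow (hN2 p hpp hpπ) with hPdef
  refine ⟨p, sigma_of_sylow hpp hpd P ?_⟩
  have hPN : (P : Subgroup M) = N := rfl
  have hne1 : N.map M.subtype ≠ ⊥ := by
    rw [Ne, Subgroup.map_eq_bot_iff_of_injective _ M.subtype_injective]
    rintro rfl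
    exact hN2 p hpp hpπ (by rwa [Subgroup.index_bot])
  have hnetop : N.map M.subtype ≠ ⊤ := fun h => hM.1 (top_le_iff.mp (h.ge.trans (Subgroup.map_subtype_le _)))
  rw [hPN]
  refine le_of_eq (((Cores.normalizer_le_normalizer_map (H := M) N).trans' ?_).eq_or_lt.elim Eq.symm
    fun hlt => absurd (hM.2 _ hlt) (normalizer_ne_top hG hne1 hnetop))
  exact Subgroup.le_normalizer

/-- `M_σ ≠ 1`. -/
theorem sigmaCore_ne_bot : sigmaCore M ≠ ⊥ := by
  obtain ⟨p, hp⟩ := exists_sigma hG hU hR2 hF hM
  intro h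
  have h2 := (sigmaCore_hallOf hG hU hR2 hF hM).2.2 p hp.1 hp
  rw [h, Subgroup.relIndex_bot_left] at h2
  exact h2 hp.2.1

/-- `M_σ` is the only normal Hall `σ(M)`-subgroup of `M`. -/
theorem sigmaCore_unique {N : Subgroup G} (hN : M ≤ Subgroup.normalizer (N : Set G))
    (hH : IsPiHallOf (sigma M) N M) : N = sigmaCore M := by
  have hn : (N.subgroupOf M).Normal := Subgroup.normal_subgroupOf_of_le_normalizer hN
  have he : N.subgroupOf M = piCore (sigma M) ↥M := by
    refine le_antisymm (Cores.le_piCore hn fun q hq hd => hH.2.1 q hq ?_) ?_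
    · rwa [Cores.card_subgroupOf hH.1] at hd
    · exact le_of_pi_index hH.2.2 fun q hq hd => Cores.card_piCore _ hq hd
  rw [sigmaCore, ← he, Subgroup.map_subgroupOf_eq_of_le hH.1]

end Main

end Cfsg.Agent.OddSigma
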