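/-
Bender-Glauberman 10.3, 10.4, 10.8, 10.9: uniqueness through `M_α ∩ C(X)`, and primes outside `σ(M)`.
Main results (namespace `Cfsg.Agent.OddSigma`): `unique_of_rank_alphaCore` (10.3),
`exists_center_zgroup` (10.4), `maximal_elementary_of_not_sigma` and `not_ideal_of_not_sigma` (10.8),
`prank_two_of_normalizer_le` (10.9).
-/
import Cfsg.Agent.Lib.OddOrder.SigmaCore
import Cfsg.Agent.Lib.Coprime.Invariant
import Cfsg.Agent.Lib.Isolated.RankOne
import Cfsg.Agent.S1443

set_option linter.unusedSectionVars false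

open Subgroup
open scoped Pointwise

namespace Cfsg.Agent.OddSigma

open Cfsg.Agent.Solvable

universe u

section General

variable {G : Type u} [Group G] [Finite G]

/-- A finite group of odd order and rank at most one is a Z-group. -/
theorem isZGroup_of_rankLE_one {H : Subgroup G} (hodd : Odd (Nat.card H)) (h : RankLE 1 ↥H) : IsZGroup ↥H := by
  refine ⟨fun p hp P => ?_⟩
  have := Fact.mk hp
  by_cases hP : (P : Subgroup H) = ⊥
  · rw [show IsCyclic P ↔ IsCyclic (P : Subgroup H) from Iff.rfl, hP]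
    infer_instance
  refine Isolated.isCyclic_of_rank_le_one ?_ (h p hp) _ P.isPGroup'
  rintro rfl
  have h2 : 2 ∣ Nat.card H := by
    obtain ⟨j, hj⟩ := P.isPGroup'.exists_card_eq
    refine dvd_trans ?_ (Subgroup.card_subgroup_dvd_card (P : Subgroup H))
    rw [hj]
    refine dvd_pow_self 2 fun h0 => hP (Subgroup.card_eq_one.mp ?_)
    rw [hj, h0, pow_zero]
  exact Nat.not_even_iff_odd.mpr hodd (even_iff_two_dvd.mpr h2)

theorem not_rankLE_one_of_card {p : ℕ} (hp : p.Prime) {H E : Subgroup G} (hEH : E ≤ H)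
    (hE : IsElementaryAbelian p E) (hcard : p ^ 2 ≤ Nat.card E) : ¬ RankLE 1 ↥H :=
  not_rankLE_of_prank hp (not_prankLE_of_le hEH hE (lt_of_lt_of_le (Nat.pow_lt_pow_right hp.one_lt (by norm_num)) hcard))

theorem dvd_card_of_elementary {p : ℕ} [hp : Fact p.Prime] {E : Subgroup G} (hE : IsElementaryAbelian p E)
    (h : E ≠ ⊥) : p ∣ Nat.card E := by
  obtain ⟨j, hj⟩ := (Signalizer.isPGroup_of_elemAb hE).exists_card_eq
  rw [hj]
  refine dvd_pow_self p fun h0 => h (Subgroup.card_eq_one.mp ?_)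
  rw [hj, h0, pow_zero]

theorem centralizer_singleton_eq (x : G) :
    Subgroup.centralizer ({x} : Set G) = Subgroup.centralizer (Subgroup.zpowers x : Set G) := by
  rw [Subgroup.zpowers_eq_closure, Subgroup.centralizer_closure]

/-- A non-trivial `p`-subgroup has an element of order `p` in its centre. -/
theorem exists_center_orderOf {p : ℕ} [hp : Fact p.Prime] {P : Subgroup G} (hP : IsPGroup p P) (h : P ≠ ⊥) :
    ∃ x : G, x ∈ (Subgroup.center ↥P).map P.subtype ∧ orderOf x = p := by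
  have : Nontrivial P := (Subgroup.nontrivial_iff_ne_bot P).mpr h
  have := hP.center_nontrivial
  obtain ⟨j, hj, hc⟩ := (hP.to_subgroup (Subgroup.center P)).nontrivial_iff_card.mp inferInstance
  obtain ⟨z, hz⟩ := exists_prime_orderOf_dvd_card' (G := Subgroup.center P) p (hc ▸ dvd_pow_self p hj.ne')
  exact ⟨_, ⟨z, z.2, rfl⟩, by rw [Subgroup.coe_subtype, Subgroup.orderOf_coe, Subgroup.orderOf_coe, hz]⟩

/-- An automorphism induced by the normalizer preserves the centre. -/
theorem conj_mem_center {P : Subgroup G} {g : G} (hg : g ∈ Subgroup.normalizer (P : Set G)) {x : G}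
    (hx : x ∈ (Subgroup.center ↥P).map P.subtype) : g * x * g⁻¹ ∈ (Subgroup.center ↥P).map P.subtype := by
  have h := Cores.normalizer_le_normalizer_map (H := P) (Subgroup.center P) hg
  exact (Subgroup.mem_normalizer_iff.mp h x).mp hx

theorem mem_centralizer_of_center {P : Subgroup G} {x : G} (hx : x ∈ (Subgroup.center ↥P).map P.subtype) :
    x ∈ Subgroup.centralizer (P : Set G) := by
  obtain ⟨z, hz, rfl⟩ := hx
  intro y hy
  exact congrArg Subtype.val (Subgroup.mem_center_iff.mp hz ⟨y, hy⟩)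

end General

section Main

variable {G : Type u} [Group G] [Finite G] (hG : IsMinSimpleOddOrder G) (hU : UniqHyp G)
  (hR2 : RankTwoHyp G) (hF : RankTwoFittingHyp.{u}) {M : Subgroup G} (hM : IsCoatom M)
include hG hU hM

omit hU hM in
theorem center_eq_bot : Subgroup.center G = ⊥ := by
  have := hG.2.1
  refine ((inferInstance : (Subgroup.center G).Normal).eq_bot_or_eq_top).resolve_right fun h => hG.2.2.1 ?_
  exact ⟨⟨fun a b => ((Subgroup.mem_center_iff.mp (h ▸ Subgroup.mem_top b)) a)⟩⟩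

omit hU hM in
theorem centralizer_singleton_ne_top {x : G} (hx : x ≠ 1) : Subgroup.centralizer ({x} : Set G) ≠ ⊤ := by
  intro h
  have : x ∈ Subgroup.center G := Subgroup.mem_center_iff.mpr fun g =>
    ((h ▸ Subgroup.mem_top g : g ∈ Subgroup.centralizer ({x} : Set G)) x rfl).symm
  rw [center_eq_bot hG] at this
  exact hx (Subgroup.mem_bot.mp this)

include hR2 hF

/-- **Bender-Glauberman 10.3**. -/
theorem unique_of_rank_alphaCore {X : Subgroup G} (hXM : X ≤ M)
    (hXα : ∀ p : ℕ, p.Prime → p ∣ Nat.card X → p ∉ alpha M)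
    (hr : ¬ RankLE 1 ↥(alphaCore M ⊓ Subgroup.centralizer (X : Set G))) :
    InUniqueMaximal (M ⊓ Subgroup.centralizer (X : Set G)) := by
  obtain ⟨p, E, hp, hE, hEe, hcard⟩ := exists_elementary_rank hr
  have := Fact.mk hp
  norm_num at hcard
  have hαM : alphaCore M ≤ M := Subgroup.map_subtype_le _
  have hCtop : M ⊓ Subgroup.centralizer (X : Set G) ≠ ⊤ := fun h =>
    hM.1 (top_le_iff.mp (h.ge.trans inf_le_left))
  have hEC : E ≤ M ⊓ Subgroup.centralizer (X : Set G) := le_inf ((hE.trans inf_le_left).trans hαM) (hE.trans inf_le_right)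
  have hE1 : ¬ RankLE 1 ↥E := not_rankLE_one_of_card hp le_rfl hEe hcard
  have hpα : p ∈ alpha M := by
    refine (alphaCore_hallOf hG hU hR2 hF hM).2.1 p hp ((dvd_card_of_elementary hEe ?_).trans
      (Subgroup.card_dvd_of_le (hE.trans inf_le_left)))
    rintro rfl
    rw [Subgroup.card_bot] at hcard
    have := hp.two_le
    nlinarith
  have hαn : X ≤ Subgroup.normalizer (alphaCore M : Set G) :=
    hXM.trans (Subgroup.le_normalizer.trans (Cores.normalizer_le_normalizer_map (H := M) _))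
  have hcop : (Nat.card X).Coprime (Nat.card (alphaCore M)) := Nat.coprime_of_dvd fun q hq h1 h2 =>
    hXα q hq h1 ((alphaCore_hallOf hG hU hR2 hF hM).2.1 q hq h2)
  have hsolv : Group.IsSolvable X := proper_solvable hG fun h => hM.1 (top_le_iff.mp (h.ge.trans hXM))
  obtain ⟨P, hEP, hXP⟩ := Coprime.exists_invariant_sylow_ge hαn hcop (Or.inl hsolv) (hE.trans inf_le_left)
    (Signalizer.isPGroup_of_elemAb hEe)
    ((Subgroup.le_centralizer_iff.mp (hE.trans inf_le_right)).trans (Subgroup.centralizer_le_normalizer _))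
  set P' := (P : Subgroup (alphaCore M)).map (alphaCore M).subtype with hP'
  have hP'p : IsPGroup p P' := P.isPGroup'.map _
  have hP'M : P' ≤ M := (Subgroup.map_subtype_le _).trans hαM
  have hrelP : ¬ p ∣ P'.relIndex M := by
    rw [← Subgroup.relIndex_mul_relIndex P' (alphaCore M) M (Subgroup.map_subtype_le _) hαM, hP', relIndex_sylow_map]
    exact hp.not_dvd_mul P.not_dvd_index ((alphaCore_hallOf hG hU hR2 hF hM).2.2 p hp hpα)
  have hr3 : ¬ PRankLE p 2 ↥P' := by
    let S : Sylow p M := (hP'p.of_equiv (Subgroup.subgroupOfEquivOfLe hP'M).symm).toSylow hrelP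
    have hS : (S : Subgroup M).map M.subtype = P' := Subgroup.map_subgroupOf_eq_of_le hP'M
    exact fun h => hpα.2 (prankLE_of_sylow S (hS.symm ▸ h))
  by_cases hB : PRankLE p 2 ↥(P' ⊓ Subgroup.centralizer (E : Set G))
  · have hX : X ≤ Subgroup.centralizer (P' : Set G) := by
      refine Cfsg.Agent.S1443.result p (prime_ne_two hG (alpha_dvd hpα)) P' E X hP'p hEP hEe hXP ?_ ?_
      · exact Nat.Coprime.symm (hp.coprime_iff_not_dvd.mpr fun hd => hXα p hp hd hpα)
      · intro x hx hxo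
        have hsup : IsElementaryAbelian p (E ⊔ Subgroup.zpowers x) :=
          elementary_sup_zpowers hEe (hxo ▸ pow_orderOf_eq_one x) hx.2
        have hxE : x ∈ E := by
          have hle : E ⊔ Subgroup.zpowers x ≤ P' ⊓ Subgroup.centralizer (E : Set G) :=
            sup_le (le_inf hEP (elementary_le_centralizer hEe le_rfl)) (Subgroup.zpowers_le.mpr hx)
          have hle2 : Nat.card ↥(E ⊔ Subgroup.zpowers x) ≤ p ^ 2 :=
            not_lt.mp fun h => not_prankLE_of_le hle hsup h hB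
          rw [Subgroup.eq_of_le_of_card_ge (le_sup_left : E ≤ E ⊔ Subgroup.zpowers x) (hle2.trans hcard)]
          exact Subgroup.mem_sup_right (Subgroup.mem_zpowers x)
        exact fun a ha y hy => by
          rw [Set.mem_singleton_iff.mp hy]
          exact ((hE.trans inf_le_right) hxE a ha).symm
    have hP'C : P' ≤ M ⊓ Subgroup.centralizer (X : Set G) := le_inf hP'M (Subgroup.le_centralizer_iff.mp hX)
    exact unique_of_prank_three hG hU hCtop hp fun h => hr3 (prankLE_mono hP'C h)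
  · refine unique_mono hG (hU E ?_ hE1 (Or.inr ?_)) hEC hCtop
    · exact fun h => hCtop (top_le_iff.mp (h.ge.trans hEC))
    · exact fun h => not_rankLE_of_prank hp hB (rankLE_mono inf_le_right h)

/-- **Bender-Glauberman 10.4**. -/
theorem exists_center_zgroup {p : ℕ} [hpp : Fact p.Prime] (hpM : p ∣ Nat.card M) (hp : p ∉ sigma M)
    (P : Sylow p M) :
    ∃ x : G, x ∈ ((Subgroup.center ↥(P : Subgroup M)).map (P : Subgroup M).subtype).map M.subtype ∧
      orderOf x = p ∧ IsZGroup ↥(alphaCore M ⊓ Subgroup.centralizer ({x} : Set G)) ∧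
      ¬ (Subgroup.centralizer ({x} : Set G) ≤ M ∧
        ∀ L : Subgroup G, IsCoatom L → Subgroup.centralizer ({x} : Set G) ≤ L → L = M) := by
  set C := (Subgroup.center ↥(P : Subgroup M)).map (P : Subgroup M).subtype with hC
  set P' := (P : Subgroup M).map M.subtype with hP'
  have hPne : (P : Subgroup M) ≠ ⊥ := P.ne_bot_of_dvd_card hpM
  obtain ⟨x, hxC, hxo⟩ : ∃ x : G, x ∈ C.map M.subtype ∧ orderOf x = p ∧
      ¬ (Subgroup.centralizer ({x} : Set G) ≤ M ∧
        ∀ L : Subgroup G, IsCoatom L → Subgroup.centralizer ({x} : Set G) ≤ L → L = M) := by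
    by_contra hall
    push Not at hall
    apply hp (sigma_of_sylow hpp.out hpM P fun g hg => ?_)
    obtain ⟨z, hz, hzo⟩ := exists_center_orderOf P.isPGroup' hPne
    have hgx : g * (z : G) * g⁻¹ ∈ C.map M.subtype := by
      have hCn : C.map M.subtype = ((Subgroup.center ↥P').map P'.subtype) := by
        rw [hC, hP']
        exact center_map_eq (P : Subgroup M) M.subtype M.subtype_injective
      have hz' : (z : G) ∈ C.map M.subtype := ⟨z, hz, rfl⟩
      rw [hCn] at hz' ⊢
      exact conj_mem_center hg hz'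
    have hzo' : orderOf (z : G) = p := by rw [Subgroup.orderOf_coe, hzo]
    obtain ⟨h1, h1u⟩ := hall _ ⟨z, hz, rfl⟩ hzo'
    obtain ⟨-, h2u⟩ := hall _ hgx (by rw [← hzo']; exact MulEquiv.orderOf_eq (MulAut.conj g) (z : G))
    refine mem_of_conj_eq hG hM (h2u _ (isCoatom_conj hM g) ?_)
    intro c hc
    refine (mem_conj_iff g c M).mpr (h1 ?_)
    intro y hy
    rw [Set.mem_singleton_iff.mp hy]
    have := hc _ (Set.mem_singleton (g * (z : G) * g⁻¹))
    calc (z : G) * (g⁻¹ * c * g) = g⁻¹ * (g * (z : G) * g⁻¹ * c) * g := by group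
      _ = g⁻¹ * (c * (g * (z : G) * g⁻¹)) * g := by rw [this]
      _ = g⁻¹ * c * g * (z : G) := by group
  obtain ⟨hxo, hnot⟩ := hxo
  refine ⟨x, hxC, hxo, ?_, hnot⟩
  refine isZGroup_of_rankLE_one (odd_card hG _) ?_
  by_contra hr
  rw [centralizer_singleton_eq] at hr
  have hxM : x ∈ M := Subgroup.map_subtype_le _ hxC
  have h := unique_of_rank_alphaCore hG hU hR2 hF hM (Subgroup.zpowers_le.mpr hxM) (fun q hq hd hα => ?_) hr
  · rw [← centralizer_singleton_eq] at h
    have hx1 : x ≠ 1 := fun h1 => hpp.out.one_lt.ne (by rw [← hxo, h1, orderOf_one])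
    have hne := centralizer_singleton_ne_top hG hx1
    exact hnot ⟨le_of_unique h hM inf_le_left inf_le_right hne,
      fun L hL hle => (conj_eq_of_unique h hL hM (inf_le_right.trans hle) inf_le_left)⟩
  · rw [Nat.card_zpowers, hxo] at hd
    exact hp (alpha_subset_sigma hG hU hM ((Nat.prime_dvd_prime_iff_eq hq hpp.out).mp hd ▸ hα))
where
  center_map_eq {H : Type u} [Group H] (P : Subgroup H) (f : H →* G) (hf : Function.Injective f) :
      ((Subgroup.center ↥P).map P.subtype).map f = (Subgroup.center ↥(P.map f)).map (P.map f).subtype := by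
    ext x
    constructor
    · rintro ⟨_, ⟨z, hz, rfl⟩, rfl⟩
      refine ⟨⟨f z, ⟨z, z.2, rfl⟩⟩, Subgroup.mem_center_iff.mpr ?_, rfl⟩
      rintro ⟨_, y, hy, rfl⟩
      refine Subtype.ext ?_
      show f y * f z = f z * f y
      rw [← map_mul, ← map_mul]
      exact congrArg (fun t : P => f (t : H)) (Subgroup.mem_center_iff.mp hz ⟨y, hy⟩)
    · rintro ⟨⟨_, z, hz, rfl⟩, hzc, rfl⟩
      refine ⟨z, ⟨⟨z, hz⟩, Subgroup.mem_center_iff.mpr fun y => Subtype.ext (hf ?_), rfl⟩, rfl⟩
      show f ((y : H) * z) = f (z * y)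
      rw [map_mul, map_mul]
      exact congrArg Subtype.val (Subgroup.mem_center_iff.mp hzc ⟨f y, ⟨y, y.2, rfl⟩⟩)

omit hR2 hF in
/-- **Bender-Glauberman 10.8**: for `p ∉ σ(M)` an `E_{p^2}` of `M` is a maximal elementary subgroup of `G`. -/
theorem maximal_elementary_of_not_sigma {p : ℕ} [hpp : Fact p.Prime] (hp : p ∉ sigma M) {A : Subgroup G}
    (hAM : A ≤ M) (hA : IsElementaryAbelian p A) (hcard : Nat.card A = p ^ 2) {B : Subgroup G}
    (hB : IsElementaryAbelian p B) (hAB : A ≤ B) : B = A := by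
  by_contra hne
  have hlt : A < B := lt_of_le_of_ne hAB (Ne.symm hne)
  have hB3 : p ^ 2 < Nat.card B := hcard ▸ lt_of_le_of_ne (Subgroup.card_le_of_le hAB)
    fun h => hne (Subgroup.eq_of_le_of_card_ge hAB h.ge).symm
  have hAtop : A ≠ ⊤ := fun h => hM.1 (top_le_iff.mp (h.ge.trans hAM))
  have hu : InUniqueMaximal A := hU A hAtop (not_rankLE_one_of_card hpp.out le_rfl hA hcard.ge)
    (Or.inr (not_rankLE_of_prank hpp.out (not_prankLE_of_le (elementary_le_centralizer hB hAB) hB hB3)))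
  obtain ⟨P, hP⟩ := ((Signalizer.isPGroup_of_elemAb hA).comap_of_injective M.subtype M.subtype_injective).exists_le_sylow
  have hAP : A ≤ (P : Subgroup M).map M.subtype := fun a ha => ⟨⟨a, hAM ha⟩, hP ha, rfl⟩
  have hpM : p ∣ Nat.card M := dvd_trans (hcard ▸ dvd_pow_self p two_ne_zero) (Subgroup.card_dvd_of_le hAM)
  exact hp (sigma_of_sylow hpp.out hpM P
    (normalizer_le_of_unique hG (unique_mono hG hu hAP (sylow_map_ne_top hG hM P)) hM (Subgroup.map_subtype_le _)))

omit hR2 hF in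
theorem not_ideal_of_not_sigma {p : ℕ} [hpp : Fact p.Prime] (hp : p ∉ sigma M) (hr1 : ¬ PRankLE p 1 M)
    (hr2 : PRankLE p 2 M) : ¬ IsIdealPrime p G := by
  intro hid
  obtain ⟨A, hAM, hA, hcard⟩ := exists_elementary hr1
  have hcard2 : Nat.card A = p ^ 2 :=
    le_antisymm (not_lt.mp fun h => not_prankLE_of_le hAM hA h hr2) hcard
  obtain ⟨P, hP⟩ := (Signalizer.isPGroup_of_elemAb hA).exists_le_sylow
  obtain ⟨B, -, hB, hlt⟩ := hid.2.2 P A hP hA hcard2
  exact hlt.ne (maximal_elementary_of_not_sigma hG hU hM hp hAM hA hcard2 hB hlt.le).symm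

omit hR2 hF in
/-- **Bender-Glauberman 10.9**. -/
theorem prank_two_of_normalizer_le {p : ℕ} [hpp : Fact p.Prime] (hp : p ∉ sigma M) {X : Subgroup G}
    (hX : Nat.card X = p) (hNX : Subgroup.normalizer (X : Set G) ≤ M) :
    (PRankLE p 2 M ∧ ¬ PRankLE p 1 M) ∧ ¬ IsIdealPrime p G ∧
      ∃ A : Subgroup G, IsElementaryAbelian p A ∧ Nat.card A = p ^ 2 ∧ X ≤ A := by
  have hr2 : PRankLE p 2 M := not_not.mp fun h => hp (alpha_subset_sigma hG hU hM ⟨hpp.out, h⟩)
  have hXp : IsPGroup p X := IsPGroup.of_card (n := 1) (by rw [hX, pow_one])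
  obtain ⟨x, hxX, hxo⟩ : ∃ x : G, x ∈ X ∧ orderOf x = p := by
    obtain ⟨x, hx⟩ := exists_prime_orderOf_dvd_card' (G := X) p (by rw [hX])
    exact ⟨x, x.2, by rw [Subgroup.orderOf_coe, hx]⟩
  have hXeq : Subgroup.zpowers x = X := Subgroup.eq_of_le_of_card_ge (Subgroup.zpowers_le.mpr hxX)
    (by rw [Nat.card_zpowers, hxo, hX])
  have hxe : IsElementaryAbelian p X := hXeq ▸ elementary_zpowers (hxo ▸ pow_orderOf_eq_one x)
  obtain ⟨S, hS⟩ := hXp.exists_le_sylow
  obtain ⟨z, hz, hzX⟩ : ∃ z : G, z ∈ (Subgroup.center ↥(S : Subgroup G)).map (S : Subgroup G).subtype ∧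
      z ^ p = 1 ∧ z ∉ X := by
    by_contra hall
    push Not at hall
    have hSn : (S : Subgroup G) ≠ ⊥ := by
      intro h
      rw [h, le_bot_iff] at hS
      rw [hS, Subgroup.card_bot] at hX
      exact hpp.out.one_lt.ne hX
    obtain ⟨z, hz, hzo⟩ := exists_center_orderOf S.isPGroup' hSn
    have hzX : Subgroup.zpowers z = X := Subgroup.eq_of_le_of_card_ge
      (Subgroup.zpowers_le.mpr (hall z hz (hzo ▸ pow_orderOf_eq_one z))) (by rw [Nat.card_zpowers, hzo, hX])
    have hNS : Subgroup.normalizer ((S : Subgroup G) : Set G) ≤ M := by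
      refine fun g hg => hNX (mem_normalizer_iff_conj.mpr (Subgroup.eq_of_le_of_card_ge ?_ (card_conj g X).ge))
      rw [← hzX, Solvable.conj_eq_map, MonoidHom.map_zpowers, Subgroup.zpowers_le, hzX]
      refine hall _ (conj_mem_center hg hz) ?_
      show (MulAut.conj g z) ^ p = 1
      rw [← map_pow, ← hzo, pow_orderOf_eq_one, map_one]
    have hSM : (S : Subgroup G) ≤ M := Subgroup.le_normalizer.trans hNS
    refine hp (sigma_of_sylow hpp.out ((hX ▸ dvd_rfl : p ∣ Nat.card X).trans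
      (Subgroup.card_dvd_of_le (hS.trans hSM))) (S.subtype hSM) ?_)
    have he : ((S.subtype hSM : Sylow p M) : Subgroup M).map M.subtype = (S : Subgroup G) :=
      Subgroup.map_subgroupOf_eq_of_le hSM
    rwa [he]
  obtain ⟨hzp, hzX⟩ := hzX
  have hzC : z ∈ Subgroup.centralizer (X : Set G) :=
    Subgroup.centralizer_le hS (mem_centralizer_of_center hz)
  have hA := elementary_sup_zpowers hxe hzp hzC
  set A := X ⊔ Subgroup.zpowers z with hAdef
  have hAM : A ≤ M := sup_le (Subgroup.le_normalizer.trans hNX)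
    (Subgroup.zpowers_le.mpr (hNX (Subgroup.centralizer_le_normalizer _ hzC)))
  have hlt : p ^ 1 < Nat.card A := by
    rw [pow_one, ← hX]
    refine lt_of_le_of_ne (Subgroup.card_le_of_le le_sup_left) fun h => hzX ?_
    rw [Subgroup.eq_of_le_of_card_ge (le_sup_left : X ≤ A) h.ge]
    exact Subgroup.mem_sup_right (Subgroup.mem_zpowers z)
  have hr1 : ¬ PRankLE p 1 M := not_prankLE_of_le hAM hA hlt
  refine ⟨⟨hr2, hr1⟩, not_ideal_of_not_sigma hG hU hM hp hr1 hr2, A, hA, le_antisymm
    (not_lt.mp fun h => not_prankLE_of_le hAM hA h hr2) ?_, le_sup_left⟩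
  obtain ⟨j, hj⟩ := (Signalizer.isPGroup_of_elemAb hA).exists_card_eq
  rw [hj] at hlt ⊢
  exact Nat.pow_le_pow_right hpp.out.pos ((Nat.pow_lt_pow_iff_right hpp.out.one_lt).mp hlt)

end Main

end Cfsg.Agent.OddSigma
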