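/-
Bender-Glauberman 10.6: every proper subgroup of a minimal simple group of odd order has `p`-length one.
Main results (namespace `Cfsg.Agent.OddSigma`): `hall_eq_commutator`, `pLength_coatom`, `pLength_one`.
The input from section 3 is the hypothesis `PLengthCommHyp`.
-/
import Cfsg.Agent.Lib.OddOrder.SigmaUnique
import Cfsg.Agent.Lib.OddOrder.PLengthOne

set_option linter.unusedSectionVars false

open Subgroup
open scoped Pointwise commutatorElement

namespace Cfsg.Agent.OddSigma

open Cfsg.Agent.Solvable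

universe u

/-- Bender-Glauberman 3.6 for all finite solvable groups of odd order in a universe. -/
def PLengthCommHyp : Prop :=
  ∀ (H : Type u) [Group H] [Finite H], Group.IsSolvable H → Odd (Nat.card H) →
    ∀ (A R R₀ : Subgroup H), A.Normal → (Nat.card A).Coprime A.index → Subgroup.IsComplement' A R → R₀ ≤ R →
      (Nat.card R₀).Prime → IsZGroup ↥(A ⊓ Subgroup.centralizer (R₀ : Set H)) →
        ∀ p : ℕ, p.Prime → PLengthLE p 1 ↥⁅A, R⁆

section General

variable {G : Type u} [Group G] [Finite G]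

/-- A normal Hall subgroup inside the derived group is its commutator with a complement (1.6). -/
theorem hall_eq_commutator [Group.IsSolvable G] {H K : Subgroup G} [H.Normal]
    (hcop : (Nat.card H).Coprime H.index) (hc : Subgroup.IsComplement' H K) (hH : H ≤ commutator G) :
    H = ⁅H, K⁆ := by
  have htop : H ⊔ K = ⊤ := hc.sup_eq_top
  have hNn : (⁅H, K⁆).Normal := Subgroup.normalizer_eq_top_iff.mp (top_le_iff.mp (htop ▸
    sup_le (Subgroup.normalizer_commutator_ge_left H K) (Subgroup.normalizer_commutator_ge_right H K)))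
  refine le_antisymm ?_ (Subgroup.commutator_le_left _ _)
  set f := QuotientGroup.mk' ⁅H, K⁆ with hf
  set A := H.map f
  set B := K.map f
  have hAn : A.Normal := Subgroup.Normal.map inferInstance _ (QuotientGroup.mk'_surjective _)
  have hcomm : ∀ a ∈ A, ∀ b ∈ B, a * b = b * a := by
    rintro _ ⟨a, ha, rfl⟩ _ ⟨b, hb, rfl⟩
    refine commutatorElement_eq_one_iff_mul_comm.mp ?_
    rw [← map_commutatorElement]
    exact (QuotientGroup.eq_one_iff _).mpr (Subgroup.commutator_mem_commutator ha hb)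
  have hKcard : Nat.card K = H.index := hc.symm.index_eq_card.symm
  have hAB : A ⊓ B = ⊥ := Solvable.inf_eq_bot_of_coprime
    ((hcop.coprime_dvd_left (Subgroup.card_map_dvd H f)).coprime_dvd_right (hKcard ▸ Subgroup.card_map_dvd K f))
  have hgen : A ⊔ B = ⊤ := by
    rw [← Subgroup.map_sup, htop, Subgroup.map_top_of_surjective _ (QuotientGroup.mk'_surjective _)]
  have hD : commutator (G ⧸ ⁅H, K⁆) ≤ ⁅A, A⁆ ⊔ ⁅B, B⁆ := by
    rw [_root_.commutator_def, Subgroup.commutator_le]
    intro x _ y _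
    obtain ⟨a, ha, b, hb, rfl⟩ := Subgroup.mem_sup_of_normal_left.mp (hgen ▸ Subgroup.mem_top x : x ∈ A ⊔ B)
    obtain ⟨c, hc, d, hd, rfl⟩ := Subgroup.mem_sup_of_normal_left.mp (hgen ▸ Subgroup.mem_top y : y ∈ A ⊔ B)
    have e1 : b * c = c * b := (hcomm c hc b hb).symm
    have e2 : a⁻¹ * d = d * a⁻¹ := hcomm _ (inv_mem ha) d hd
    have e3 : a⁻¹ * b⁻¹ = b⁻¹ * a⁻¹ := hcomm _ (inv_mem ha) _ (inv_mem hb)
    have e4 : b * d * b⁻¹ * d⁻¹ * c⁻¹ = c⁻¹ * (b * d * b⁻¹ * d⁻¹) :=
      (hcomm _ (inv_mem hc) _ (mul_mem (mul_mem (mul_mem hb hd) (inv_mem hb)) (inv_mem hd))).symm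
    have : ⁅a * b, c * d⁆ = ⁅a, c⁆ * ⁅b, d⁆ := by
      simp only [commutatorElement_def]
      calc a * b * (c * d) * (a * b)⁻¹ * (c * d)⁻¹ = a * (b * c) * d * b⁻¹ * a⁻¹ * d⁻¹ * c⁻¹ := by group
        _ = a * c * (b * d * b⁻¹) * (a⁻¹ * d⁻¹) * c⁻¹ := by rw [e1]; group
        _ = a * c * (b * d * b⁻¹) * (d⁻¹ * a⁻¹) * c⁻¹ := by rw [hcomm _ (inv_mem ha) _ (inv_mem hd)]
        _ = a * c * (b * d * b⁻¹ * d⁻¹ * a⁻¹) * c⁻¹ := by group
        _ = a * c * (a⁻¹ * (b * d * b⁻¹ * d⁻¹)) * c⁻¹ := by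
          rw [hcomm _ (inv_mem ha) _ (mul_mem (mul_mem (mul_mem hb hd) (inv_mem hb)) (inv_mem hd))]
        _ = a * c * a⁻¹ * (b * d * b⁻¹ * d⁻¹ * c⁻¹) := by group
        _ = a * c * a⁻¹ * (c⁻¹ * (b * d * b⁻¹ * d⁻¹)) := by rw [e4]
        _ = a * c * a⁻¹ * c⁻¹ * (b * d * b⁻¹ * d⁻¹) := by group
    rw [this]
    exact Subgroup.mul_mem_sup (Subgroup.commutator_mem_commutator ha hc) (Subgroup.commutator_mem_commutator hb hd)
  have hA : A ≤ ⁅A, A⁆ := by
    intro a ha
    have h1 : a ∈ ⁅A, A⁆ ⊔ ⁅B, B⁆ := by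
      refine hD ?_
      have h2 : A ≤ (commutator G).map f := Subgroup.map_mono hH
      rw [_root_.commutator_def, Subgroup.map_commutator] at h2
      exact Subgroup.commutator_mono le_top le_top (h2 ha)
    obtain ⟨u, hu, v, hv, rfl⟩ := Subgroup.mem_sup_of_normal_left.mp h1
    have hv' : v ∈ A ⊓ B :=
      ⟨by simpa using mul_mem (inv_mem (Subgroup.commutator_le_self A hu)) ha, Subgroup.commutator_le_self B hv⟩
    rw [hAB, Subgroup.mem_bot] at hv'
    rwa [hv', mul_one]
  have hA0 : A = ⊥ := by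
    by_contra h
    exact (Group.IsSolvable.commutator_lt_of_ne_bot h).not_ge hA
  rwa [Subgroup.map_eq_bot_iff, hf, QuotientGroup.ker_mk'] at hA0

/-- A complement of a normal Hall subgroup containing a given element of coprime order. -/
theorem exists_complement_mem [Group.IsSolvable G] {A : Subgroup G} [A.Normal]
    (hcop : (Nat.card A).Coprime A.index) {x : G} (hx : (orderOf x).Coprime (Nat.card A)) :
    ∃ R : Subgroup G, Subgroup.IsComplement' A R ∧ x ∈ R := by
  obtain ⟨K, hK⟩ := Subgroup.exists_right_complement'_of_coprime hcop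
  have hKcard : Nat.card K = A.index := hK.symm.index_eq_card.symm
  have hKindex : K.index = Nat.card A := hK.index_eq_card
  set π : Set ℕ := {q | ¬ q ∣ Nat.card A} with hπ
  have hKH : IsPiHall π K := ⟨fun q hq hd hqA => hq.ne_one (Nat.eq_one_of_dvd_coprimes hcop hqA (hKcard ▸ hd)),
    fun q _ hqπ hd => hqπ (hKindex ▸ hd)⟩
  obtain ⟨g, hg⟩ := exists_conj_ge_of_solvable (U := Subgroup.zpowers x) hKH (fun q hq hd hqA =>
    hq.ne_one (Nat.eq_one_of_dvd_coprimes hx (by rwa [Nat.card_zpowers] at hd) hqA))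
  refine ⟨MulAut.conj g • K, ?_, hg (Subgroup.mem_zpowers x)⟩
  refine Subgroup.isComplement'_of_coprime ?_ (by rw [card_conj, hKcard]; exact hcop)
  rw [card_conj, hKcard, Subgroup.card_mul_index]

end General

section Main

variable {G : Type u} [Group G] [Finite G] (hG : IsMinSimpleOddOrder G) (hU : UniqHyp G)
  (hR2 : RankTwoHyp G) (hF : RankTwoFittingHyp.{u}) (hP : PLengthCommHyp.{u})
include hG hU hR2 hF hP

/-- A maximal subgroup has `p`-length one. -/
theorem pLength_coatom {M : Subgroup G} (hM : IsCoatom M) {p : ℕ} [hpp : Fact p.Prime] : PLengthLE p 1 M := by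
  by_cases hpM : p ∣ Nat.card M
  swap
  · exact PLengthOne.of_not_dvd hpM
  by_cases hpα : p ∈ alpha M
  swap
  · exact PLengthOne.pLengthLE_one_iff.mpr
      (hR2 M hM.1 p hpp.out hpM (not_not.mp fun h => hpα ⟨hpp.out, h⟩)).2.2.2
  have hsol := proper_solvable hG hM.1
  obtain ⟨q, hq, hqM, hqσ⟩ := exists_prime_not_sigma hG hU hR2 hF hM
  have := Fact.mk hq
  obtain ⟨Q⟩ : Nonempty (Sylow q M) := inferInstance
  obtain ⟨x, hxC, hxo, hZ, -⟩ := exists_center_zgroup hG hU hR2 hF hM hqM hqσ Q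
  obtain ⟨y, -, hyx⟩ := hxC
  rw [Subgroup.coe_subtype] at hyx
  subst hyx
  set A := piCore (alpha M) ↥M with hA
  have hAπ : ∀ r : ℕ, r.Prime → r ∣ Nat.card A → r ∈ alpha M := fun r hr hd => Cores.card_piCore _ hr hd
  have hcop : (Nat.card A).Coprime A.index := Nat.coprime_of_dvd fun r hr h1 h2 =>
    not_dvd_index_alpha hG hU hR2 hF hM (hAπ r hr h1) h2
  have hyo : orderOf y = q := by rw [← hxo, Subgroup.orderOf_coe]
  have hyA : (orderOf y).Coprime (Nat.card A) := by
    rw [hyo]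
    exact hq.coprime_iff_not_dvd.mpr fun hd => hqσ (alpha_subset_sigma hG hU hM (hAπ q hq hd))
  obtain ⟨R, hR, hyR⟩ := exists_complement_mem hcop hyA
  have hcomm : A = ⁅A, R⁆ := hall_eq_commutator hcop hR
    ((Cores.piCore_mono (alpha_subset_sigma hG hU hM)).trans (sigma_piCore_le_commutator hG hU hR2 hF hM))
  have hZ' : IsZGroup ↥(A ⊓ Subgroup.centralizer (Subgroup.zpowers y : Set ↥M)) := by
    rw [← centralizer_singleton_eq]
    let f : ↥(A ⊓ Subgroup.centralizer ({y} : Set ↥M)) →*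
        ↥(alphaCore M ⊓ Subgroup.centralizer ({(y : G)} : Set G)) :=
      { toFun := fun z => ⟨((z : M) : G), ⟨⟨(z : M), z.2.1, rfl⟩, fun w hw => by
          rw [Set.mem_singleton_iff.mp hw]
          exact congrArg Subtype.val (z.2.2 y rfl)⟩⟩
        map_one' := rfl
        map_mul' := fun _ _ => rfl }
    exact IsZGroup.of_injective (f := f) fun a b h => Subtype.ext (Subtype.ext (congrArg Subtype.val h :))
  have hPL := hP ↥M hsol (odd_card hG M) A R (Subgroup.zpowers y) inferInstance hcop hR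
    (Subgroup.zpowers_le.mpr hyR) (by rw [Nat.card_zpowers, hyo]; exact hq) hZ' p hpp.out
  rw [← hcomm] at hPL
  have hidx := PLengthOne.pLengthLE_one_iff.mp hPL
  have hn1 : ((pPrimeCore p ↥A).map A.subtype).Normal := Cores.map_subtype_normal_of_characteristic A _
  have hchar : (pPrimePCore p ↥A).Normal :=
    inferInstanceAs ((pCore p (↥A ⧸ pPrimeCore p ↥A)).comap (QuotientGroup.mk' (pPrimeCore p ↥A))).Normal
  have : (pPrimePCore p ↥A).Characteristic := pPrimePCore_char p A
  have hn2 : ((pPrimePCore p ↥A).map A.subtype).Normal := Cores.map_subtype_normal_of_characteristic A _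
  obtain ⟨j, hj⟩ := PLengthOne.relIndex_eq_pow (p := p) (G := ↥A)
  refine PLengthOne.of_normal_pair (N := (pPrimeCore p ↥A).map A.subtype)
    (K := (pPrimePCore p ↥A).map A.subtype) (hN := ?_) (j := j) ?_ ?_
  · rw [Cores.card_map_subtype]
    exact Cores.coprime_card_pPrimeCore p
  · rw [Subgroup.relIndex_map_map_of_injective _ _ A.subtype_injective, hj]
  · rw [Subgroup.index_map_subtype]
    exact hidx.mul_left (Nat.Coprime.symm (hpp.out.coprime_iff_not_dvd.mpr (not_dvd_index_alpha hG hU hR2 hF hM hpα)))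
where
  pPrimePCore_char (p : ℕ) {M : Subgroup G} (A : Subgroup ↥M) : (pPrimePCore p ↥A).Characteristic := by
    refine Subgroup.characteristic_iff_comap_eq.mpr fun φ => ?_
    rw [pPrimePCore, Subgroup.comap_comap]
    exact PSeries.comap_pCore_congr ((QuotientGroup.mk' (pPrimeCore p ↥A)).comp φ.toMonoidHom) _
      ((QuotientGroup.mk'_surjective _).comp φ.surjective) (QuotientGroup.mk'_surjective _) (by
        rw [← MonoidHom.comap_ker, QuotientGroup.ker_mk']
        exact Subgroup.Characteristic.fixed inferInstance φ)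

/-- **Bender-Glauberman 10.6**: every proper subgroup has `p`-length one. -/
theorem pLength_one {H : Subgroup G} (hH : H ≠ ⊤) {p : ℕ} [Fact p.Prime] : PLengthLE p 1 H := by
  obtain ⟨M, hM, hle⟩ := exists_coatom hH
  exact PLengthOne.of_le hle (pLength_coatom hG hU hR2 hF hP hM)

end Main

end Cfsg.Agent.OddSigma
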