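/-
Bender-Glauberman 10.7 (a)-(e): fusion in a Sylow subgroup of a minimal simple group of odd order.
Main results (namespace `Cfsg.Agent.OddSigma`): `exists_normalizer_of_pLength_one` (1.18),
`exists_normalizer_conj` (c), `sylow_inf_normalizer` (d), `normalizer_le_normalizer` (e),
`sylow_eq_commutator` (a), `sylow_structure_rank_two` (b).
The input from section 4 for (b) is the hypothesis `RankTwoOperatorHyp`.
-/
import Cfsg.Agent.Lib.OddOrder.SigmaPLength

set_option linter.unusedSectionVars false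

open Subgroup
open scoped Pointwise commutatorElement

namespace Cfsg.Agent.OddSigma

open Cfsg.Agent.Solvable

universe u

/-- Bender-Glauberman 4.16 for all finite groups in a universe. -/
def RankTwoOperatorHyp : Prop :=
  ∀ (H : Type u) [Group H] [Finite H] (p : ℕ) [Fact p.Prime], p ≠ 2 → ∀ R A : Subgroup H,
    IsPGroup p R → R ≠ ⊥ → PRankLE p 2 R → A ≤ Subgroup.normalizer (R : Set H) →
      (Nat.card A).Coprime p → Odd (Nat.card A) → ⁅R, A⁆ = R →
        3 < p ∧ (IsMulCommutative R ∨ ∃ R₁ R₂ : Subgroup H, R₁ ⊔ R₂ = R ∧ (∀ a ∈ R₁, ∀ b ∈ R₂, a * b = b * a) ∧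
          ¬ IsMulCommutative R₁ ∧ Nat.card R₁ = p ^ 3 ∧ Monoid.exponent R₁ = p ∧ IsCyclic R₂ ∧
          Subgroup.closure {x : H | x ∈ R₂ ∧ x ^ p = 1} = ⁅R₁, R₁⁆)

section General

variable {G : Type u} [Group G] [Finite G]

/-- In a group of `p`-length one the normalizer of a Sylow subgroup controls fusion in it. -/
theorem exists_normalizer_of_pLength_one {p : ℕ} [hp : Fact p.Prime] (hpl : PLengthLE p 1 G) (S : Sylow p G)
    (Y : Set G) (x : G) (hY : Y ⊆ (S : Subgroup G)) (hxY : ∀ y ∈ Y, x * y * x⁻¹ ∈ (S : Subgroup G)) :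
    ∃ n ∈ Subgroup.normalizer ((S : Subgroup G) : Set G), ∀ y ∈ Y, n * y * n⁻¹ = x * y * x⁻¹ := by
  have hidx := PLengthOne.pLengthLE_one_iff.mp hpl
  have hK := pPrimePCore_eq_sup hidx S
  have hKn : (pPrimePCore p G).Normal := inferInstance
  have hSK : (S : Subgroup G) ≤ pPrimePCore p G := hK ▸ le_sup_right
  have htop : Subgroup.normalizer ((S : Subgroup G) : Set G) ⊔ pPrimeCore p G = ⊤ := by
    have h := Sylow.normalizer_sup_eq_top (S.subtype hSK)
    have he : ((S.subtype hSK : Sylow p (pPrimePCore p G)) : Subgroup (pPrimePCore p G)).map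
        (pPrimePCore p G).subtype = (S : Subgroup G) := Subgroup.map_subgroupOf_eq_of_le hSK
    rw [he, hK] at h
    rw [eq_top_iff, ← h]
    exact sup_le le_sup_left (sup_le le_sup_right (Subgroup.le_normalizer.trans le_sup_left))
  obtain ⟨o, ho, n, hn, rfl⟩ := Subgroup.mem_sup_of_normal_left.mp
    ((sup_comm _ _).trans htop ▸ Subgroup.mem_top x : x ∈ pPrimeCore p G ⊔ Subgroup.normalizer ((S : Subgroup G) : Set G))
  refine ⟨n, hn, fun y hy => ?_⟩
  set z := n * y * n⁻¹ with hzdef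
  have hz : z ∈ (S : Subgroup G) := (Subgroup.mem_normalizer_iff.mp hn y).mp (hY hy)
  have hoz : o * z * o⁻¹ ∈ (S : Subgroup G) := by
    convert hxY y hy using 1
    rw [hzdef]; group
  have h1 : o * z * o⁻¹ * z⁻¹ ∈ (S : Subgroup G) ⊓ pPrimeCore p G :=
    ⟨(S : Subgroup G).mul_mem hoz ((S : Subgroup G).inv_mem hz), by
      have := (pPrimeCore p G).mul_mem ho
        ((inferInstance : (pPrimeCore p G).Normal).conj_mem _ ((pPrimeCore p G).inv_mem ho) z)
      simpa [mul_assoc] using this⟩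
  rw [disjoint_iff.mp (disjoint_pPrimeCore S.isPGroup'), Subgroup.mem_bot, mul_inv_eq_one] at h1
  calc z = o * z * o⁻¹ := h1.symm
    _ = o * n * y * (o * n)⁻¹ := by rw [hzdef]; group

/-- In a non-abelian group of order `p ^ 3` the centre is the derived subgroup. -/
theorem inf_centralizer_eq_commutator {p : ℕ} [hp : Fact p.Prime] {P : Subgroup G} (hcard : Nat.card P = p ^ 3)
    (hna : ¬ IsMulCommutative P) : P ⊓ Subgroup.centralizer (P : Set G) = ⁅P, P⁆ := by
  have hPp : IsPGroup p P := IsPGroup.of_card hcard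
  have := hPp.isNilpotent
  have : Nontrivial P := Finite.one_lt_card_iff_nontrivial.mp (hcard ▸ Nat.one_lt_pow (by norm_num) hp.out.one_lt)
  obtain ⟨j, hj, hjc⟩ := (hPp.to_subgroup (Subgroup.center P)).nontrivial_iff_card.mp hPp.center_nontrivial
  have hncyc : ¬ IsCyclic (↥P ⧸ Subgroup.center P) := fun _ => hna ⟨⟨fun a b =>
    commutative_of_cyclic_center_quotient (QuotientGroup.mk' (Subgroup.center P)) (QuotientGroup.ker_mk' _).le a b⟩⟩
  have hmul := Subgroup.card_eq_card_quotient_mul_card_subgroup (Subgroup.center P)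
  obtain ⟨i, hi⟩ := (hPp.to_quotient (Subgroup.center P)).exists_card_eq
  rw [hjc, hcard, hi, ← pow_add] at hmul
  have hij : 3 = i + j := Nat.pow_right_injective hp.out.two_le hmul
  have hi0 : i ≠ 0 := fun h => hncyc (by
    have : Subsingleton (↥P ⧸ Subgroup.center P) := (Nat.card_eq_one_iff_unique.mp (by rw [hi, h, pow_zero])).1
    infer_instance)
  have hi1 : i ≠ 1 := fun h => hncyc (isCyclic_of_prime_card (p := p) (by rw [hi, h, pow_one]))
  have hi2 : i = 2 := by omega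
  have hj1 : j = 1 := by omega
  rw [hi2] at hi
  rw [hj1, pow_one] at hjc
  have hle : commutator ↥P ≤ Subgroup.center P := by
    have := IsPGroup.isMulCommutative_of_card_eq_prime_sq hi
    rw [_root_.commutator_def, Subgroup.commutator_le]
    intro a _ b _
    rw [← QuotientGroup.eq_one_iff]
    show QuotientGroup.mk' (Subgroup.center P) ⁅a, b⁆ = 1
    rw [map_commutatorElement]
    exact commutatorElement_eq_one_iff_mul_comm.mpr (mul_comm' _ _)
  have he : commutator ↥P = Subgroup.center P := by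
    refine Subgroup.eq_of_le_of_card_ge hle ?_
    rw [hjc]
    rcases (Nat.dvd_prime hp.out).mp (hjc ▸ Subgroup.card_dvd_of_le hle) with h | h
    · exfalso
      refine hna ⟨⟨fun a b => commutatorElement_eq_one_iff_mul_comm.mp ?_⟩⟩
      rw [← Subgroup.mem_bot, ← Subgroup.card_eq_one.mp h]
      exact Subgroup.commutator_mem_commutator (Subgroup.mem_top a) (Subgroup.mem_top b)
    · exact h.ge
  rw [← Subgroup.map_subtype_commutator, he]
  ext x
  constructor
  · rintro ⟨hx, hxc⟩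
    exact ⟨⟨x, hx⟩, Subgroup.mem_center_iff.mpr fun y => Subtype.ext (hxc y y.2), rfl⟩
  · rintro ⟨z, hz, rfl⟩
    exact ⟨z.2, fun y hy => congrArg Subtype.val (Subgroup.mem_center_iff.mp hz ⟨y, hy⟩)⟩

/-- `IsComplIn` gives complements inside the subgroup. -/
theorem isComplement'_of_isComplIn {A B M : Subgroup G} (h : IsComplIn A B M) :
    Subgroup.IsComplement' (A.subgroupOf M) (B.subgroupOf M) := by
  refine Subgroup.isComplement'_of_disjoint_and_mul_eq_univ (disjoint_iff.mpr ?_) (Set.eq_univ_iff_forall.mpr fun m => ?_)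
  · rw [eq_bot_iff]
    rintro ⟨x, hx⟩ ⟨hxA, hxB⟩
    exact Subtype.ext (Subgroup.mem_bot.mp (h.2.2.1 ▸ ⟨hxA, hxB⟩ : x ∈ (⊥ : Subgroup G)))
  · obtain ⟨a, ha, b, hb, hab⟩ := h.2.2.2 m m.2
    exact ⟨⟨a, h.1 ha⟩, ha, ⟨b, h.2.1 hb⟩, hb, Subtype.ext hab.symm⟩

end General

section Main

variable {G : Type u} [Group G] [Finite G] (hG : IsMinSimpleOddOrder G) (hU : UniqHyp G)
  (hR2 : RankTwoHyp G) (hF : RankTwoFittingHyp.{u}) (hP : PLengthCommHyp.{u})
include hG hU hR2 hF hP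

/-- **Bender-Glauberman 10.7 (c)**, pointwise form. -/
theorem exists_normalizer_conj {p : ℕ} [hpp : Fact p.Prime] (P : Sylow p G) {Q : Subgroup G} {x : G}
    (hQ : Q ≤ (P : Subgroup G)) (hx : ∀ a ∈ Q, x * a * x⁻¹ ∈ (P : Subgroup G)) :
    ∃ y ∈ Subgroup.normalizer ((P : Subgroup G) : Set G), ∀ a ∈ Q, y * a * y⁻¹ = x * a * x⁻¹ := by
  by_cases hQ1 : Q = ⊥
  · refine ⟨1, one_mem _, fun a ha => ?_⟩
    rw [hQ1, Subgroup.mem_bot] at ha
    rw [ha]
    group
  have hP1 : (P : Subgroup G) ≠ ⊥ := fun h => hQ1 (le_bot_iff.mp (h ▸ hQ))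
  obtain ⟨M, hM, hNM⟩ := exists_coatom (normalizer_ne_top hG hP1 (top_not_pGroup hG P.isPGroup'))
  have hPM : (P : Subgroup G) ≤ M := Subgroup.le_normalizer.trans hNM
  have he : ((P.subtype hPM : Sylow p M) : Subgroup M).map M.subtype = (P : Subgroup G) :=
    Subgroup.map_subgroupOf_eq_of_le hPM
  have hpM : p ∣ Nat.card M := by
    obtain ⟨j, hj⟩ := P.isPGroup'.exists_card_eq
    refine dvd_trans ?_ (hj ▸ Subgroup.card_dvd_of_le hPM)
    refine dvd_pow_self p fun h0 => hP1 (Subgroup.card_eq_one.mp ?_)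
    rw [hj, h0, pow_zero]
  have hσ : p ∈ sigma M := sigma_of_sylow hpp.out hpM (P.subtype hPM) (by rw [he]; exact hNM)
  have hconj : MulAut.conj x • Q ≤ M := by
    rintro _ ⟨a, ha, rfl⟩
    exact hPM (hx a ha)
  obtain ⟨m, hm, c, hc, rfl⟩ := conj_decomp hG hU hR2 hM hσ (P.isPGroup'.to_le hQ) hQ1 (hQ.trans hPM) hconj
  have hmc : ∀ a ∈ Q, m * a * m⁻¹ = m * c * a * (m * c)⁻¹ := by
    intro a ha
    have h1 : c * a * c⁻¹ = a := by rw [← (hc a ha), mul_inv_cancel_right]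
    calc m * a * m⁻¹ = m * (c * a * c⁻¹) * m⁻¹ := by rw [h1]
      _ = m * c * a * (m * c)⁻¹ := by group
  obtain ⟨n, hn, hne⟩ := exists_normalizer_of_pLength_one (pLength_coatom hG hU hR2 hF hP hM) (P.subtype hPM)
    {z : M | (z : G) ∈ Q} ⟨m, hm⟩ (fun z hz => hQ hz)
    (fun z hz => by
      show m * (z : G) * m⁻¹ ∈ (P : Subgroup G)
      rw [hmc _ hz]
      exact hx _ hz)
  refine ⟨n, ?_, fun a ha => ?_⟩
  · rw [mem_normalizer_iff_conj] at hn ⊢
    have h := congrArg (Subgroup.map M.subtype) hn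
    rw [map_conj, he] at h
    exact h
  · rw [← hmc a ha]
    exact congrArg Subtype.val (hne ⟨a, hPM (hQ ha)⟩ ha)

/-- **Bender-Glauberman 10.7 (c)**. -/
theorem exists_normalizer_conj_map {p : ℕ} [Fact p.Prime] (P : Sylow p G) {Q : Subgroup G} {x : G}
    (hQ : Q ≤ (P : Subgroup G)) (hx : Q.map (MulAut.conj x).toMonoidHom ≤ (P : Subgroup G)) :
    ∃ y ∈ Subgroup.normalizer ((P : Subgroup G) : Set G),
      Q.map (MulAut.conj x).toMonoidHom = Q.map (MulAut.conj y).toMonoidHom := by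
  obtain ⟨y, hy, h⟩ := exists_normalizer_conj hG hU hR2 hF hP P hQ (x := x) fun a ha => hx ⟨a, ha, rfl⟩
  refine ⟨y, hy, ?_⟩
  ext z
  constructor
  · rintro ⟨a, ha, rfl⟩
    exact ⟨a, ha, h a ha⟩
  · rintro ⟨a, ha, rfl⟩
    exact ⟨a, ha, (h a ha).symm⟩

/-- **Bender-Glauberman 10.7 (d)**. -/
theorem sylow_inf_normalizer {p : ℕ} [hpp : Fact p.Prime] (P : Sylow p G) {Q : Subgroup G}
    (hQ : Q ≤ (P : Subgroup G)) :
    ¬ p ∣ ((P : Subgroup G) ⊓ Subgroup.normalizer (Q : Set G)).relIndex (Subgroup.normalizer (Q : Set G)) := by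
  set N := Subgroup.normalizer (Q : Set G) with hN
  obtain ⟨R⟩ : Nonempty (Sylow p N) := inferInstance
  set R' := (R : Subgroup N).map N.subtype with hR'
  have hQn : (Q.subgroupOf N).Normal := Subgroup.normal_in_normalizer
  have hQp : IsPGroup p (Q.subgroupOf N) :=
    (P.isPGroup'.to_le hQ).comap_of_injective N.subtype N.subtype_injective
  have hQR : Q ≤ R' := fun a ha => ⟨⟨a, Subgroup.le_normalizer ha⟩,
    @IsPGroup.le_sylow_of_normal p N _ _ hQn hQp R _ ha, rfl⟩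
  obtain ⟨S, hS⟩ := (R.isPGroup'.map N.subtype).exists_le_sylow
  obtain ⟨g, rfl⟩ := MulAction.exists_smul_eq G P S
  have hgR : MulAut.conj g⁻¹ • R' ≤ (P : Subgroup G) := by
    have h := conj_mono g⁻¹ hS
    rwa [Sylow.coe_subgroup_smul, conj_inv_smul] at h
  obtain ⟨y, hy, hye⟩ := exists_normalizer_conj hG hU hR2 hF hP P hQ (x := g⁻¹)
    fun a ha => hgR ⟨a, hQR ha, by simp⟩
  have hk : y⁻¹ * g⁻¹ ∈ N := by
    refine mem_normalizer_iff_conj.mpr ?_
    ext z
    constructor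
    · rintro ⟨a, ha, rfl⟩
      show y⁻¹ * g⁻¹ * a * (y⁻¹ * g⁻¹)⁻¹ ∈ Q
      rw [show y⁻¹ * g⁻¹ * a * (y⁻¹ * g⁻¹)⁻¹ = y⁻¹ * (g⁻¹ * a * g⁻¹⁻¹) * y by group, ← hye a ha]
      simpa [mul_assoc] using ha
    · intro hz
      refine ⟨z, hz, ?_⟩
      show y⁻¹ * g⁻¹ * z * (y⁻¹ * g⁻¹)⁻¹ = z
      rw [show y⁻¹ * g⁻¹ * z * (y⁻¹ * g⁻¹)⁻¹ = y⁻¹ * (g⁻¹ * z * g⁻¹⁻¹) * y by group, ← hye z hz]
      group
  have hle : MulAut.conj (y⁻¹ * g⁻¹) • R' ≤ (P : Subgroup G) ⊓ N := by
    refine le_inf ?_ ?_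
    · rw [← conj_conj]
      refine (conj_mono _ hgR).trans (le_of_eq ?_)
      exact mem_normalizer_iff_conj.mp (inv_mem hy)
    · exact (conj_mono _ (Subgroup.map_subtype_le _)).trans (le_of_eq (conj_eq_self hk))
  intro hd
  have hcard := Subgroup.card_dvd_of_le hle
  rw [card_conj, hR', Subgroup.card_map_of_injective N.subtype_injective] at hcard
  refine R.not_dvd_index (hd.trans ?_)
  have h1 : Nat.card ↥((P : Subgroup G) ⊓ N) * ((P : Subgroup G) ⊓ N).relIndex N = Nat.card N := by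
    rw [← Cores.card_subgroupOf (inf_le_right : (P : Subgroup G) ⊓ N ≤ N)]
    exact Subgroup.card_mul_index _
  obtain ⟨c, hc⟩ := hcard
  refine ⟨c, Nat.eq_of_mul_eq_mul_left (Nat.card_pos (α := (R : Subgroup N))) ?_⟩
  rw [Subgroup.card_mul_index, ← h1, hc]
  ring

/-- **Bender-Glauberman 10.7 (e)**. -/
theorem normalizer_le_normalizer {p : ℕ} [hpp : Fact p.Prime] (P : Sylow p G) {R Q : Subgroup G}
    (hR : IsPGroup p R) (hQ : Q ≤ (P : Subgroup G) ⊓ R)
    (hN : Subgroup.normalizer ((P : Subgroup G) : Set G) ≤ Subgroup.normalizer (Q : Set G)) :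
    Subgroup.normalizer (R : Set G) ≤ Subgroup.normalizer (Q : Set G) := by
  have key : ∀ x : G, MulAut.conj x • Q ≤ (P : Subgroup G) → x ∈ Subgroup.normalizer (Q : Set G) := by
    intro x hx
    obtain ⟨y, hy, h⟩ := exists_normalizer_conj_map hG hU hR2 hF hP P (hQ.trans inf_le_left) (x := x) hx
    exact mem_normalizer_iff_conj.mpr (h.trans (mem_normalizer_iff_conj.mp (hN hy)))
  obtain ⟨S, hS⟩ := hR.exists_le_sylow
  obtain ⟨h, rfl⟩ := MulAction.exists_smul_eq G P S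
  have hRP : MulAut.conj h⁻¹ • R ≤ (P : Subgroup G) := by
    have h1 := conj_mono h⁻¹ hS
    rwa [Sylow.coe_subgroup_smul, conj_inv_smul] at h1
  have hh := key h⁻¹ ((conj_mono _ (hQ.trans inf_le_right)).trans hRP)
  intro g hg
  have h2 : MulAut.conj (h⁻¹ * g) • Q ≤ (P : Subgroup G) := by
    refine le_trans ?_ hRP
    rw [← conj_conj]
    exact conj_mono _ ((conj_mono _ (hQ.trans inf_le_right)).trans (mem_normalizer_iff_conj.mp hg).le)
  simpa using mul_mem (inv_mem hh) (key _ h2)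

/-- **Bender-Glauberman 10.7 (a)**. -/
theorem sylow_eq_commutator {p : ℕ} [hpp : Fact p.Prime] (P : Sylow p G) {V : Subgroup G}
    (hV : IsComplIn (P : Subgroup G) V (Subgroup.normalizer ((P : Subgroup G) : Set G))) :
    (P : Subgroup G) = ⁅(P : Subgroup G), V⁆ ∧
      (P : Subgroup G) ≤ ⁅Subgroup.normalizer ((P : Subgroup G) : Set G), Subgroup.normalizer ((P : Subgroup G) : Set G)⁆ := by
  by_cases hP1 : (P : Subgroup G) = ⊥
  · refine ⟨?_, hP1 ▸ bot_le⟩
    rw [hP1, Subgroup.commutator_bot_left]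
  set N := Subgroup.normalizer ((P : Subgroup G) : Set G) with hN
  have hPN : (P : Subgroup G) ≤ N := Subgroup.le_normalizer
  have hsol := proper_solvable hG (normalizer_ne_top hG hP1 (top_not_pGroup hG P.isPGroup'))
  have hfoc := Transfer.commutator_inf_eq_of_control P N hPN fun x hx g hg => by
    obtain ⟨y, hy, h⟩ := exists_normalizer_conj hG hU hR2 hF hP P (Q := Subgroup.zpowers x) (x := g)
      (Subgroup.zpowers_le.mpr hx) (fun a ha => by
        obtain ⟨k, rfl⟩ := Subgroup.mem_zpowers_iff.mp ha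
        rw [← conj_zpow]
        exact zpow_mem hg k)
    exact ⟨y, hy, h x (Subgroup.mem_zpowers x)⟩
  rw [commutator_eq_top hG, top_inf_eq] at hfoc
  have hle : (P : Subgroup G) ≤ ⁅N, N⁆ := hfoc.le.trans inf_le_left
  refine ⟨?_, hle⟩
  have hn : ((P : Subgroup G).subgroupOf N).Normal := Subgroup.normal_in_normalizer
  have hH : (P : Subgroup G).subgroupOf N ≤ commutator ↥N := by
    rw [← Subgroup.map_subtype_le_map_subtype, Subgroup.map_subgroupOf_eq_of_le hPN, Subgroup.map_subtype_commutator]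
    exact hle
  have hcop : (Nat.card ((P : Subgroup G).subgroupOf N)).Coprime ((P : Subgroup G).subgroupOf N).index :=
    (P.subtype hPN).card_coprime_index
  have h := congrArg (Subgroup.map N.subtype) (hall_eq_commutator hcop (isComplement'_of_isComplIn hV) hH)
  rwa [Subgroup.map_commutator, Subgroup.map_subgroupOf_eq_of_le hPN, Subgroup.map_subgroupOf_eq_of_le hV.2.1] at h

/-- **Bender-Glauberman 10.7 (b)**. -/
theorem sylow_structure_rank_two (hB : RankTwoOperatorHyp.{u}) {p : ℕ} [hpp : Fact p.Prime] (P : Sylow p G)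
    (hr : PRankLE p 2 (P : Subgroup G)) :
    IsMulCommutative (P : Subgroup G) ∨ ∃ P₁ P₂ : Subgroup G, P₁ ⊔ P₂ = (P : Subgroup G) ∧
      (∀ a ∈ P₁, ∀ b ∈ P₂, a * b = b * a) ∧ ¬ IsMulCommutative P₁ ∧ Nat.card P₁ = p ^ 3 ∧
      Monoid.exponent P₁ = p ∧ IsCyclic P₂ ∧
      Subgroup.closure {x : G | x ∈ P₂ ∧ x ^ p = 1} = P₁ ⊓ Subgroup.centralizer (P₁ : Set G) := by
  by_cases hP1 : (P : Subgroup G) = ⊥
  · exact Or.inl (by rw [hP1]; infer_instance)
  set N := Subgroup.normalizer ((P : Subgroup G) : Set G) with hN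
  have hPN : (P : Subgroup G) ≤ N := Subgroup.le_normalizer
  have hn : ((P : Subgroup G).subgroupOf N).Normal := Subgroup.normal_in_normalizer
  obtain ⟨K, hK⟩ := Subgroup.exists_right_complement'_of_coprime (N := (P : Subgroup G).subgroupOf N)
    (P.subtype hPN).card_coprime_index
  set V := K.map N.subtype with hV
  have hcompl : IsComplIn (P : Subgroup G) V N := by
    refine ⟨hPN, Subgroup.map_subtype_le _, eq_bot_iff.mpr ?_, fun m hm => ?_⟩
    · rintro _ ⟨hx, k, hk, rfl⟩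
      have : k ∈ (P : Subgroup G).subgroupOf N ⊓ K := ⟨hx, hk⟩
      rw [disjoint_iff.mp hK.disjoint, Subgroup.mem_bot] at this
      rw [this]
      exact one_mem _
    · obtain ⟨⟨⟨a, ha⟩, ⟨b, hb⟩⟩, hab⟩ := hK.2 ⟨m, hm⟩
      exact ⟨a, ha, b, ⟨b, hb, rfl⟩, congrArg Subtype.val hab.symm⟩
  have hcop : (Nat.card V).Coprime p := by
    rw [hV, Subgroup.card_map_of_injective N.subtype_injective, ← hK.symm.index_eq_card]
    exact Nat.Coprime.symm (hpp.out.coprime_iff_not_dvd.mpr (P.subtype hPN).not_dvd_index)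
  have hpd : p ∣ Nat.card (P : Subgroup G) := by
    obtain ⟨j, hj⟩ := P.isPGroup'.exists_card_eq
    rw [hj]
    refine dvd_pow_self p fun h0 => hP1 (Subgroup.card_eq_one.mp ?_)
    rw [hj, h0, pow_zero]
  obtain ⟨-, h | ⟨R₁, R₂, h1, h2, h3, h4, h5, h6, h7⟩⟩ := hB G p (prime_ne_two hG hpd) (P : Subgroup G) V
    P.isPGroup' hP1 hr (Subgroup.map_subtype_le _) hcop (odd_card hG V)
    (sylow_eq_commutator hG hU hR2 hF hP P hcompl).1.symm
  · exact Or.inl h
  · exact Or.inr ⟨R₁, R₂, h1, h2, h3, h4, h5, h6, by rw [h7, inf_centralizer_eq_commutator h4 h3]⟩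

end Main

end Cfsg.Agent.OddSigma
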