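/-
Fusion in a nilpotent Hall subgroup (Bender-Glauberman 10, statement S1384).
Main results (namespace `Cfsg.Agent.OddSigma`): `nilpotent_hall_normal` (a nilpotent Hall `π`-subgroup is normal
when `O_{π'} = 1` and all `p`-lengths are one), `hall_fusion_solvable`, `sylow_inf_centralizer`,
`nilpotent_hall_fusion`.
-/
import Cfsg.Agent.Lib.OddOrder.SigmaFusion
import Cfsg.Agent.Lib.Solvable.Fitting
import Cfsg.Agent.Lib.NilGroup.Basic

set_option linter.unusedSectionVars false

open Subgroup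
open scoped Pointwise commutatorElement

namespace Cfsg.Agent.OddSigma

open Cfsg.Agent.Solvable

universe u

section General

variable {G : Type u} [Group G] [Finite G]

/-- Elements of coprime order in a nilpotent subgroup commute. -/
theorem commute_in_nilpotent {H : Subgroup G} (hH : Group.IsNilpotent H) {a b : G} (ha : a ∈ H) (hb : b ∈ H)
    (h : (orderOf a).Coprime (orderOf b)) : a * b = b * a := by
  have h1 := NilGroup.commute_of_coprime hH (x := (⟨a, ha⟩ : H)) (y := ⟨b, hb⟩)
    (by rwa [Subgroup.orderOf_mk, Subgroup.orderOf_mk])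
  exact congrArg Subtype.val h1.eq

/-- A nilpotent Hall subgroup of a solvable group with all `p`-lengths one and no normal subgroup of
coprime order is normal. -/
theorem nilpotent_hall_normal [Group.IsSolvable G] {K : Subgroup G} (hK : Group.IsNilpotent K)
    (hcop : (Nat.card K).Coprime K.index) (hcore : piCore {q | ¬ q ∣ Nat.card K} G = ⊥)
    (hpl : ∀ p : ℕ, p.Prime → PLengthLE p 1 G) : K.Normal := by
  set π : Set ℕ := {q | q ∣ Nat.card K} with hπ
  have hKH : IsPiHall π K :=
    ⟨fun q _ hd => hd, fun q hq hqπ hd => hq.ne_one (Nat.eq_one_of_dvd_coprimes hcop hqπ hd)⟩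
  have hnil : ∀ q : ℕ, q.Prime → ¬ q ∣ Nat.card K → pCore q G = ⊥ := by
    intro q hq hqK
    refine Cores.piCore_eq_bot_iff.mp hcore _ (Cores.pCore_normal q G) fun r hr hd => ?_
    have := Fact.mk hq
    obtain ⟨j, hj⟩ := (Cores.isPGroup_pCore q G).exists_card_eq
    rw [hj] at hd
    rw [(Nat.prime_dvd_prime_iff_eq hr hq).mp (hr.dvd_of_dvd_pow hd)]
    exact hqK
  have hFK : ∀ q : ℕ, q.Prime → pCore q G ≤ K := by
    intro q hq
    have := Fact.mk hq
    by_cases hqK : q ∣ Nat.card K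
    · refine le_of_isPiHall_of_normal hKH fun r hr hd => ?_
      obtain ⟨j, hj⟩ := (Cores.isPGroup_pCore q G).exists_card_eq
      rw [hj] at hd
      rw [(Nat.prime_dvd_prime_iff_eq hr hq).mp (hr.dvd_of_dvd_pow hd)]
      exact hqK
    · rw [hnil q hq hqK]; exact bot_le
  have key : ∀ q : ℕ, q.Prime → q ∣ Nat.card K → ∃ S : Sylow q G, (S : Subgroup G) ≤ piCore π G := by
    intro q hq hqK
    have := Fact.mk hq
    obtain ⟨S0⟩ : Nonempty (Sylow q K) := inferInstance
    have hidx : ¬ q ∣ ((S0 : Subgroup K).map K.subtype).index := by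
      rw [Subgroup.index_map_subtype]
      exact hq.not_dvd_mul S0.not_dvd_index fun hd => hq.ne_one (Nat.eq_one_of_dvd_coprimes hcop hqK hd)
    let S : Sylow q G := (S0.isPGroup'.map K.subtype).toSylow hidx
    have hSK : (S : Subgroup G) ≤ K := Subgroup.map_subtype_le _
    refine ⟨S, ?_⟩
    set D := pPrimeCore q G with hD
    set C := Subgroup.centralizer ((D ⊓ fittingSubgroup G : Subgroup G) : Set G) with hC
    have hCn : C.Normal := inferInstanceAs (Subgroup.centralizer ((D ⊓ fittingSubgroup G : Subgroup G) : Set G)).Normal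
    have hF : ∀ r : Nat.Primes, (r : ℕ) ≠ q → pCore (r : ℕ) G ≤ D := by
      intro r hr
      have := Fact.mk r.2
      refine Cores.le_pPrimeCore (Cores.pCore_normal _ G) ?_
      obtain ⟨j, hj⟩ := (Cores.isPGroup_pCore (r : ℕ) G).exists_card_eq
      rw [hj]
      exact ((Nat.coprime_primes r.2 hq).mpr hr).pow_left j
    have hFK' : fittingSubgroup G ≤ K := by
      rw [Cores.fittingSubgroup_eq_iSup_pCore]
      exact iSup_le fun r => hFK r r.2
    have hSC : (S : Subgroup G) ≤ C := by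
      intro s hs x hx
      obtain ⟨k, hk⟩ := IsPGroup.iff_orderOf.mp S.isPGroup' ⟨s, hs⟩
      rw [Subgroup.orderOf_mk] at hk
      refine (commute_in_nilpotent hK (hSK hs) (hFK' hx.2) ?_).symm
      rw [hk]
      have h1 : orderOf x ∣ Nat.card D := Subgroup.orderOf_dvd_natCard _ hx.1
      exact Nat.Coprime.pow_left k (((Cores.coprime_card_pPrimeCore (G := G) q).coprime_dvd_left h1).symm)
    have hSD : (S : Subgroup G) ≤ Subgroup.normalizer (D : Set G) := Subgroup.normalizer_eq_top (H := D) ▸ le_top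
    have hcopS : (Nat.card (S : Subgroup G)).Coprime (Nat.card D) := by
      obtain ⟨j, hj⟩ := S.isPGroup'.exists_card_eq
      rw [hj]
      exact (Cores.coprime_card_pPrimeCore (G := G) q).symm.pow_left j
    have hE : ⁅D, (S : Subgroup G)⁆ = ⊥ := by
      have h1 : ⁅D, (S : Subgroup G)⁆ ≤ D := Subgroup.commutator_le_left _ _
      have h2 : ⁅D, (S : Subgroup G)⁆ ≤ C :=
        (Subgroup.commutator_mono le_rfl hSC).trans (Subgroup.commutator_le_right _ _)
      have h3 : ⁅D, (S : Subgroup G)⁆ ≤ D ⊓ fittingSubgroup G := by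
        refine le_inf h1 fun e he => ?_
        refine Solvable.centralizer_fitting_le G ?_
        have hle : fittingSubgroup G ≤ Subgroup.centralizer ({e} : Set G) := by
          rw [Cores.fittingSubgroup_eq_iSup_pCore]
          refine iSup_le fun r => ?_
          intro y hy z hz
          rw [Set.mem_singleton_iff.mp hz]
          by_cases hr : (r : ℕ) = q
          · have hy' : y ∈ pCore q G := hr ▸ hy
            exact (Cores.pCore_pPrimeCore_commute hy' (h1 he)).symm
          · have := Fact.mk r.2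
            exact (h2 he y ⟨hF r hr hy, Cores.pCore_le_fittingSubgroup (r : ℕ) hy⟩).symm
        intro y hy
        exact ((hle hy) e rfl).symm
      have h4 := Coprime.commutator_commutator_eq hSD hcopS (Or.inr inferInstance)
      rw [eq_bot_iff, ← h4, Subgroup.commutator_le]
      intro d hd s hs
      rw [Subgroup.mem_bot, commutatorElement_eq_one_iff_mul_comm]
      exact (hSC hs d (h3 hd))
    have hKtop := pPrimePCore_eq_sup (PLengthOne.pLengthLE_one_iff.mp (hpl q hq)) S
    have hKn : (pPrimePCore q G).Normal := inferInstance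
    have hSP : (S : Subgroup G) ≤ pPrimePCore q G := hKtop ▸ le_sup_right
    have hfr := Sylow.normalizer_sup_eq_top (S.subtype hSP)
    have he : ((S.subtype hSP : Sylow q (pPrimePCore q G)) : Subgroup (pPrimePCore q G)).map
        (pPrimePCore q G).subtype = (S : Subgroup G) := Subgroup.map_subgroupOf_eq_of_le hSP
    rw [he, hKtop] at hfr
    have hDN : D ≤ Subgroup.normalizer ((S : Subgroup G) : Set G) :=
      (Subgroup.commutator_eq_bot_iff_le_centralizer.mp hE).trans (Subgroup.centralizer_le_normalizer _)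
    rw [sup_of_le_left (sup_le hDN Subgroup.le_normalizer)] at hfr
    refine Cores.le_piCore (Subgroup.normalizer_eq_top_iff.mp hfr) fun r hr hd => ?_
    exact hd.trans (Subgroup.card_dvd_of_le hSK)
  have hKle : K ≤ piCore π G := by
    refine le_of_pi_index (π := π) (fun q hq hqπ => ?_) fun q _ hd => hd
    obtain ⟨S, hS⟩ := key q hq hqπ
    have := Fact.mk hq
    exact not_dvd_index_of_sylow_le S hS
  have : piCore π G = K := le_antisymm
    (le_of_isPiHall_of_normal hKH fun q hq hd => Cores.card_piCore _ hq hd) hKle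
  rw [← this]
  infer_instance

/-- Fusion in a nilpotent Hall subgroup of a solvable group all of whose `p`-lengths are one. -/
theorem hall_fusion_solvable [Group.IsSolvable G] {H : Subgroup G} (hH : Group.IsNilpotent H)
    (hcop : (Nat.card H).Coprime H.index) (hpl : ∀ p : ℕ, p.Prime → ∀ (N : Subgroup G) [N.Normal],
      PLengthLE p 1 (G ⧸ N)) {x g : G} (hx : x ∈ H) (hg : g * x * g⁻¹ ∈ H) :
    ∃ n ∈ Subgroup.normalizer (H : Set G), n * x * n⁻¹ = g * x * g⁻¹ := by
  set O := piCore {q | ¬ q ∣ Nat.card H} G with hO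
  set f := QuotientGroup.mk' O with hf
  have hOd : H ⊓ O = ⊥ := Solvable.inf_eq_bot_of_coprime (Nat.coprime_of_dvd fun q hq h1 h2 =>
    (Cores.card_piCore {q | ¬ q ∣ Nat.card H} hq h2) h1)
  have hcard : Nat.card (H.map f) = Nat.card H :=
    Solvable.card_map_of_disjoint f H (by rw [hf, QuotientGroup.ker_mk']; exact hOd)
  have hn : (H.map f).Normal := by
    refine nilpotent_hall_normal (Cores.isNilpotent_map f hH) ?_ ?_ fun p hp => hpl p hp O
    · rw [hcard]
      exact hcop.coprime_dvd_right (Subgroup.index_map_dvd H (QuotientGroup.mk'_surjective O))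
    · rw [hcard]
      exact Cores.piCore_quotient_self _
  have hT : (H ⊔ O).Normal := by
    have h := hn.comap f
    rwa [Subgroup.comap_map_eq, hf, QuotientGroup.ker_mk'] at h
  have htop := sup_normalizer_eq_top_of_hall (L := H ⊔ O) (H := H) le_sup_left
    (hcop.coprime_dvd_right (Dvd.intro _ (Subgroup.relIndex_mul_index le_sup_left)))
  have htop' : O ⊔ Subgroup.normalizer (H : Set G) = ⊤ := by
    rw [eq_top_iff, ← htop]
    exact sup_le (sup_le (Subgroup.le_normalizer.trans le_sup_right) le_sup_left) le_sup_right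
  obtain ⟨o, ho, n, hnn, rfl⟩ := Subgroup.mem_sup_of_normal_left.mp (htop' ▸ Subgroup.mem_top g :
    g ∈ O ⊔ Subgroup.normalizer (H : Set G))
  refine ⟨n, hnn, ?_⟩
  set z := n * x * n⁻¹ with hzdef
  have hz : z ∈ H := (Subgroup.mem_normalizer_iff.mp hnn x).mp hx
  have hoz : o * z * o⁻¹ ∈ H := by
    convert hg using 1
    rw [hzdef]; group
  have h1 : o * z * o⁻¹ * z⁻¹ ∈ H ⊓ O :=
    ⟨H.mul_mem hoz (H.inv_mem hz), by
      have := O.mul_mem ho ((inferInstance : O.Normal).conj_mem _ (O.inv_mem ho) z)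
      simpa [mul_assoc] using this⟩
  rw [hOd, Subgroup.mem_bot, mul_inv_eq_one] at h1
  calc z = o * z * o⁻¹ := h1.symm
    _ = o * n * x * (o * n)⁻¹ := by rw [hzdef]; group

end General

section Main

variable {G : Type u} [Group G] [Finite G] (hG : IsMinSimpleOddOrder G) (hU : UniqHyp G)
  (hR2 : RankTwoHyp G) (hF : RankTwoFittingHyp.{u}) (hP : PLengthCommHyp.{u})
include hG hU hR2 hF hP

/-- For `a` in a Sylow subgroup `P`, `C_P(a)` contains a Sylow subgroup of `C(a)`. -/
theorem sylow_inf_centralizer {p : ℕ} [hpp : Fact p.Prime] (P : Sylow p G) {a : G} (ha : a ∈ (P : Subgroup G)) :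
    ¬ p ∣ ((P : Subgroup G) ⊓ Subgroup.centralizer ({a} : Set G)).relIndex (Subgroup.centralizer ({a} : Set G)) := by
  set N := Subgroup.centralizer ({a} : Set G) with hN
  have haN : a ∈ N := fun y hy => by rw [Set.mem_singleton_iff.mp hy]
  obtain ⟨R⟩ : Nonempty (Sylow p N) := inferInstance
  set R' := (R : Subgroup N).map N.subtype with hR'
  have hzn : ((Subgroup.zpowers a).subgroupOf N).Normal := by
    refine ⟨fun z hz k => ?_⟩
    have hcomm : Commute (k : G) a := ((k.2 a rfl)).symm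
    obtain ⟨i, hi⟩ := Subgroup.mem_zpowers_iff.mp (Subgroup.mem_subgroupOf.mp hz)
    refine Subgroup.mem_subgroupOf.mpr ?_
    show (k : G) * z * (k : G)⁻¹ ∈ Subgroup.zpowers a
    rw [← hi, (hcomm.zpow_right i).eq, mul_inv_cancel_right]
    exact Subgroup.zpow_mem_zpowers a i
  have hzp : IsPGroup p ((Subgroup.zpowers a).subgroupOf N) :=
    (P.isPGroup'.to_le (Subgroup.zpowers_le.mpr ha)).comap_of_injective N.subtype N.subtype_injective
  have haR : a ∈ R' := ⟨⟨a, haN⟩, @IsPGroup.le_sylow_of_normal p N _ _ hzn hzp R _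
    (Subgroup.mem_subgroupOf.mpr (Subgroup.mem_zpowers a)), rfl⟩
  obtain ⟨S, hS⟩ := (R.isPGroup'.map N.subtype).exists_le_sylow
  obtain ⟨g, rfl⟩ := MulAction.exists_smul_eq G P S
  have hgR : MulAut.conj g⁻¹ • R' ≤ (P : Subgroup G) := by
    have h := conj_mono g⁻¹ hS
    rwa [Sylow.coe_subgroup_smul, conj_inv_smul] at h
  have hga : g⁻¹ * a * g⁻¹⁻¹ ∈ (P : Subgroup G) := hgR ⟨a, haR, rfl⟩
  obtain ⟨y, hy, hye⟩ := exists_normalizer_conj hG hU hR2 hF hP P (Q := Subgroup.zpowers a) (x := g⁻¹)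
    (Subgroup.zpowers_le.mpr ha) (fun b hb => by
      obtain ⟨k, rfl⟩ := Subgroup.mem_zpowers_iff.mp hb
      rw [← conj_zpow]
      exact zpow_mem hga k)
  have hk : y⁻¹ * g⁻¹ ∈ N := by
    intro b hb
    rw [Set.mem_singleton_iff.mp hb]
    have h := hye a (Subgroup.mem_zpowers a)
    calc a * (y⁻¹ * g⁻¹) = y⁻¹ * (y * a * y⁻¹) * g⁻¹ := by group
      _ = y⁻¹ * (g⁻¹ * a * g⁻¹⁻¹) * g⁻¹ := by rw [h]
      _ = y⁻¹ * g⁻¹ * a := by group
  have hle : MulAut.conj (y⁻¹ * g⁻¹) • R' ≤ (P : Subgroup G) ⊓ N := by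
    refine le_inf ?_ ?_
    · rw [← conj_conj]
      refine (conj_mono _ hgR).trans (le_of_eq ?_)
      exact mem_normalizer_iff_conj.mp (inv_mem hy)
    · exact (conj_mono _ (Subgroup.map_subtype_le _)).trans (le_of_eq (conj_eq_self hk))
  intro hd
  have hcard := Subgroup.card_dvd_of_le hle
  rw [card_conj, hR', Subgroup.card_map_of_injective N.subtype_injective] at hcard
  refine R.not_dvd_index (hd.trans ?_)
  have h1 : Nat.card ↥((P : Subgroup G) ⊓ N) * ((P : Subgroup G) ⊓ N).relIndex N = Nat.card N := by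
    rw [← Cores.card_subgroupOf (inf_le_right : (P : Subgroup G) ⊓ N ≤ N)]
    exact Subgroup.card_mul_index _
  obtain ⟨c, hc⟩ := hcard
  refine ⟨c, Nat.eq_of_mul_eq_mul_left (Nat.card_pos (α := (R : Subgroup N))) ?_⟩
  rw [Subgroup.card_mul_index, ← h1, hc]
  ring

omit hU hR2 hF hP in
/-- A Sylow subgroup of a nilpotent Hall subgroup. -/
theorem exists_sylow_of_hall {H : Subgroup G} (hH : Group.IsNilpotent H) (hcop : (Nat.card H).Coprime H.index)
    {p : ℕ} [hp : Fact p.Prime] (hpH : p ∣ Nat.card H) :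
    ∃ P : Sylow p G, (P : Subgroup G) ≤ H ∧ H ≤ Subgroup.normalizer ((P : Subgroup G) : Set G) ∧
      ∀ a ∈ H, (∃ k, orderOf a = p ^ k) → a ∈ (P : Subgroup G) := by
  obtain ⟨S0⟩ : Nonempty (Sylow p H) := inferInstance
  have hn : (S0 : Subgroup H).Normal :=
    Sylow.normal_of_normalizerCondition Group.normalizerCondition_of_isNilpotent _
  have hidx : ¬ p ∣ ((S0 : Subgroup H).map H.subtype).index := by
    rw [Subgroup.index_map_subtype]
    exact hp.out.not_dvd_mul S0.not_dvd_index fun hd => hp.out.ne_one (Nat.eq_one_of_dvd_coprimes hcop hpH hd)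
  refine ⟨(S0.isPGroup'.map H.subtype).toSylow hidx, Subgroup.map_subtype_le _, ?_, ?_⟩
  · have h := Subgroup.le_normalizer_map (H := (S0 : Subgroup H)) H.subtype
    rw [Subgroup.normalizer_eq_top, ← MonoidHom.range_eq_map, Subgroup.range_subtype] at h
    exact h
  · rintro a ha ⟨k, hk⟩
    have h1 : IsPGroup p (Subgroup.zpowers (⟨a, ha⟩ : H)) :=
      IsPGroup.of_card (n := k) (by rw [Nat.card_zpowers, Subgroup.orderOf_mk, hk])
    obtain ⟨S1, hS1⟩ := h1.exists_le_sylow
    have := Sylow.unique_of_normal S0 hn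
    exact ⟨⟨a, ha⟩, (Subsingleton.elim S1 S0) ▸ hS1 (Subgroup.mem_zpowers _), rfl⟩

/-- **Fusion in nilpotent Hall subgroups.** -/
theorem nilpotent_hall_fusion {H : Subgroup G} (hH : Group.IsNilpotent H) (hcop : (Nat.card H).Coprime H.index)
    {x g : G} (hx : x ∈ H) (hg : g * x * g⁻¹ ∈ H) :
    ∃ n ∈ Subgroup.normalizer (H : Set G), n * x * n⁻¹ = g * x * g⁻¹ := by
  by_cases hx1 : x = 1
  · exact ⟨1, one_mem _, by simp [hx1]⟩
  set y := g * x * g⁻¹ with hy
  have hy1 : y ≠ 1 := fun h => hx1 (by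
    have : g⁻¹ * y * g = x := by rw [hy]; group
    rw [← this, h]; group)
  set C := Subgroup.centralizer ({y} : Set G) with hC
  have hsolC := proper_solvable hG (centralizer_singleton_ne_top hG hy1)
  set π : Set ℕ := {q | q ∣ Nat.card H} with hπ
  have hHC : IsPiHall π ((H ⊓ C).subgroupOf C) := by
    refine ⟨fun q _ hd => ?_, fun q hq hqπ hd => ?_⟩
    · rw [Cores.card_subgroupOf inf_le_right] at hd
      exact hd.trans (Subgroup.card_dvd_of_le inf_le_left)
    · have := Fact.mk hq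
      obtain ⟨P, hPH, -, hPa⟩ := exists_sylow_of_hall hG hH hcop hqπ
      obtain ⟨a, b, hab, haz, hbz, hak, hbc⟩ := Transfer.exists_pPart_mul (p := q) y
      have haH : a ∈ H := Subgroup.zpowers_le.mpr hg haz
      have hbH : b ∈ H := Subgroup.zpowers_le.mpr hg hbz
      have haP : a ∈ (P : Subgroup G) := hPa a haH hak
      have hle : (P : Subgroup G) ⊓ Subgroup.centralizer ({a} : Set G) ≤ H ⊓ C := by
        rintro c ⟨hcP, hca⟩
        refine ⟨hPH hcP, fun z hz => ?_⟩
        rw [Set.mem_singleton_iff.mp hz, hab]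
        obtain ⟨k, hk⟩ := IsPGroup.iff_orderOf.mp P.isPGroup' ⟨c, hcP⟩
        rw [Subgroup.orderOf_mk] at hk
        have hbc' : c * b = b * c := commute_in_nilpotent hH (hPH hcP) hbH (by rw [hk]; exact hbc.symm.pow_left k)
        rw [mul_assoc, ← hbc', ← mul_assoc, hca a rfl, mul_assoc]
      have hCa : C ≤ Subgroup.centralizer ({a} : Set G) := by
        intro c hc z hz
        rw [Set.mem_singleton_iff.mp hz]
        obtain ⟨i, hi⟩ := Subgroup.mem_zpowers_iff.mp haz
        rw [← hi]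
        exact ((Commute.symm (hc y rfl : Commute y c)).zpow_right i).eq.symm
      refine sylow_inf_centralizer hG hU hR2 hF hP P haP ?_
      have h1 : (H ⊓ C).relIndex C ∣ ((P : Subgroup G) ⊓ Subgroup.centralizer ({a} : Set G)).relIndex C :=
        Subgroup.relIndex_dvd_of_le_left C hle
      refine (hd.trans h1).trans ?_
      rw [← Subgroup.relIndex_mul_relIndex ((P : Subgroup G) ⊓ Subgroup.centralizer ({a} : Set G)) C
        (Subgroup.centralizer ({a} : Set G)) (hle.trans inf_le_right) hCa]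
      exact Dvd.intro _ rfl
  -- move `g` inside `C(y)` so that it maps `C_H(x)` into `H`
  set K1 := MulAut.conj g • (H ⊓ Subgroup.centralizer ({x} : Set G)) with hK1
  have hK1C : K1 ≤ C := by
    rintro _ ⟨c, hc, rfl⟩ z hz
    rw [Set.mem_singleton_iff.mp hz, hy]
    show g * x * g⁻¹ * (g * c * g⁻¹) = g * c * g⁻¹ * (g * x * g⁻¹)
    rw [show g * x * g⁻¹ * (g * c * g⁻¹) = g * (x * c) * g⁻¹ by group, hc.2 x rfl]
    group
  obtain ⟨c, hc⟩ := exists_conj_ge_of_solvable (U := K1.subgroupOf C) hHC fun q hq hd => by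
    rw [Cores.card_subgroupOf hK1C, hK1, card_conj] at hd
    exact hd.trans (Subgroup.card_dvd_of_le inf_le_left)
  set g' := (c : G)⁻¹ * g with hg'
  have hgx : g' * x * g'⁻¹ = y := by
    have hcy : (c : G) * y = y * (c : G) := (c.2 y rfl).symm
    calc g' * x * g'⁻¹ = (c : G)⁻¹ * y * c := by rw [hg', hy]; group
      _ = (c : G)⁻¹ * ((c : G) * y) := by rw [hcy, mul_assoc]
      _ = y := inv_mul_cancel_left _ _
  have hg'H : ∀ z ∈ H, z ∈ Subgroup.centralizer ({x} : Set G) → g' * z * g'⁻¹ ∈ H := by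
    intro z hz hzx
    have h1 : g * z * g⁻¹ ∈ K1 := ⟨z, ⟨hz, hzx⟩, rfl⟩
    have h2 : (⟨g * z * g⁻¹, hK1C h1⟩ : C) ∈ K1.subgroupOf C := h1
    obtain ⟨w, hw, hwe⟩ := hc h2
    have hwe' : (c : G) * (w : G) * (c : G)⁻¹ = g * z * g⁻¹ := congrArg Subtype.val hwe
    have : g' * z * g'⁻¹ = (w : G) := by
      calc g' * z * g'⁻¹ = (c : G)⁻¹ * (g * z * g⁻¹) * c := by rw [hg']; group
        _ = (c : G)⁻¹ * ((c : G) * (w : G) * (c : G)⁻¹) * c := by rw [hwe']
        _ = (w : G) := by group
    rw [this]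
    exact (Subgroup.mem_subgroupOf.mp hw).1
  -- a characteristic subgroup `Z(P)` of `H` normalized by `g'`
  have hH1 : H ≠ ⊥ := fun h => hx1 (Subgroup.mem_bot.mp (h ▸ hx))
  obtain ⟨p, hpp, hpd⟩ := Nat.exists_prime_and_dvd (n := Nat.card H) fun h => hH1 (Subgroup.card_eq_one.mp h)
  have := Fact.mk hpp
  obtain ⟨P, hPH, hHP, hPa⟩ := exists_sylow_of_hall hG hH hcop hpd
  have hP1 : (P : Subgroup G) ≠ ⊥ := P.ne_bot_of_dvd_card (hpd.trans (Subgroup.card_subgroup_dvd_card H))
  set Z := (Subgroup.center ↥(P : Subgroup G)).map (P : Subgroup G).subtype with hZ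
  have hZP : Z ≤ (P : Subgroup G) := Subgroup.map_subtype_le _
  have hZx : Z ≤ Subgroup.centralizer ({x} : Set G) := by
    intro z hz w hw
    rw [Set.mem_singleton_iff.mp hw]
    obtain ⟨a, b, hab, haz, hbz, hak, hbc⟩ := Transfer.exists_pPart_mul (p := p) x
    have haP : a ∈ (P : Subgroup G) := hPa a (Subgroup.zpowers_le.mpr hx haz) hak
    obtain ⟨k, hk⟩ := IsPGroup.iff_orderOf.mp P.isPGroup' ⟨z, hZP hz⟩
    rw [Subgroup.orderOf_mk] at hk
    have hbc' : z * b = b * z := commute_in_nilpotent hH (hPH (hZP hz)) (Subgroup.zpowers_le.mpr hx hbz)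
      (by rw [hk]; exact hbc.symm.pow_left k)
    rw [hab, mul_assoc, ← hbc', ← mul_assoc, mem_centralizer_of_center hz a haP, mul_assoc]
  obtain ⟨v, hv, hve⟩ := exists_normalizer_conj_map hG hU hR2 hF hP P (x := g') hZP (by
    rintro _ ⟨z, hz, rfl⟩
    refine hPa _ (hg'H z (hPH (hZP hz)) (hZx hz)) ?_
    obtain ⟨k, hk⟩ := IsPGroup.iff_orderOf.mp P.isPGroup' ⟨z, hZP hz⟩
    rw [Subgroup.orderOf_mk] at hk
    exact ⟨k, by rw [← hk]; exact MulEquiv.orderOf_eq (MulAut.conj g') z⟩)
  set L := Subgroup.normalizer (Z : Set G) with hL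
  have hNL : Subgroup.normalizer ((P : Subgroup G) : Set G) ≤ L := Cores.normalizer_le_normalizer_map _
  have hg'L : g' ∈ L := mem_normalizer_iff_conj.mpr (hve.trans (mem_normalizer_iff_conj.mp (hNL hv)))
  have hHL : H ≤ L := hHP.trans hNL
  have hZ1 : Z ≠ ⊥ := by
    obtain ⟨z, hz, hzo⟩ := exists_center_orderOf P.isPGroup' hP1
    intro h
    rw [← hZ, h, Subgroup.mem_bot] at hz
    rw [hz, orderOf_one] at hzo
    exact hpp.one_lt.ne hzo
  have hLtop : L ≠ ⊤ := normalizer_ne_top hG hZ1 (top_not_pGroup hG (P.isPGroup'.to_le hZP))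
  have := proper_solvable hG hLtop
  have hpl : ∀ q : ℕ, q.Prime → ∀ (N : Subgroup L) [N.Normal], PLengthLE q 1 (↥L ⧸ N) := by
    intro q hq N hN
    have := Fact.mk hq
    exact pLength_quotient (pLength_one hG hU hR2 hF hP hLtop) N
  have hnilL : Group.IsNilpotent (H.subgroupOf L) :=
    Group.nilpotent_of_mulEquiv (_h := hH) (Subgroup.subgroupOfEquivOfLe hHL).symm
  have hcopL : (Nat.card (H.subgroupOf L)).Coprime (H.subgroupOf L).index := by
    rw [Cores.card_subgroupOf hHL]
    exact hcop.coprime_dvd_right (Dvd.intro _ (Subgroup.relIndex_mul_index hHL))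
  obtain ⟨n, hn, hne⟩ := hall_fusion_solvable (G := L) hnilL hcopL hpl (x := ⟨x, hHL hx⟩) (g := ⟨g', hg'L⟩) hx
    (show g' * x * g'⁻¹ ∈ H from hgx ▸ hg)
  refine ⟨n, ?_, (congrArg Subtype.val hne).trans hgx⟩
  rw [mem_normalizer_iff_conj] at hn ⊢
  have h := congrArg (Subgroup.map L.subtype) hn
  rw [Solvable.map_conj, Subgroup.map_subgroupOf_eq_of_le hHL] at h
  exact h
where
  pLength_quotient {L : Subgroup G} {q : ℕ} [Fact q.Prime] (h : PLengthLE q 1 L) (N : Subgroup L) [N.Normal] :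
      PLengthLE q 1 (↥L ⧸ N) := by
    have hidx := PLengthOne.pLengthLE_one_iff.mp h
    have hKn : (pPrimePCore q ↥L).Normal :=
      inferInstanceAs ((pCore q (↥L ⧸ pPrimeCore q ↥L)).comap (QuotientGroup.mk' (pPrimeCore q ↥L))).Normal
    obtain ⟨j, hj⟩ := PLengthOne.relIndex_eq_pow (p := q) (G := ↥L)
    have hn1 : ((pPrimeCore q ↥L).map (QuotientGroup.mk' N)).Normal :=
      Subgroup.Normal.map inferInstance _ (QuotientGroup.mk'_surjective N)
    have hn2 : ((pPrimePCore q ↥L).map (QuotientGroup.mk' N)).Normal :=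
      Subgroup.Normal.map hKn _ (QuotientGroup.mk'_surjective N)
    have hd : ((pPrimeCore q ↥L).map (QuotientGroup.mk' N)).relIndex ((pPrimePCore q ↥L).map (QuotientGroup.mk' N)) ∣
        (pPrimeCore q ↥L).relIndex (pPrimePCore q ↥L) := by
      rw [← Subgroup.relIndex_comap]
      exact Subgroup.relIndex_dvd_of_le_left _ (Subgroup.le_comap_map _ _)
    obtain ⟨i, -, hi⟩ := (Nat.dvd_prime_pow (Fact.out : q.Prime)).mp (hj ▸ hd)
    exact PLengthOne.of_normal_pair ((Cores.coprime_card_pPrimeCore q).coprime_dvd_left (Subgroup.card_map_dvd _ _)) hi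
      (hidx.coprime_dvd_left (Subgroup.index_map_dvd _ (QuotientGroup.mk'_surjective N)))

end Main

end Cfsg.Agent.OddSigma
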