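/-
Bender-Glauberman 10.7: the prime set `β(M)`, normal `p`-complements of `M'` outside `β(M)`.
Main results (namespace `Cfsg.Agent.OddSigma`): `isNarrow_of_maximal_elementary` (5.3), `isNarrow_equiv`,
`not_beta_complement`, `betaCore_hallOf`, `betaCore_hall`, `nilpotent_betaComplement`.
The input from section 5 is the hypothesis `NarrowStructHyp`.
-/
import Cfsg.Agent.Lib.OddOrder.SigmaPLength
import Cfsg.Agent.Lib.Transfer.Residual
import Cfsg.Agent.S1453

set_option linter.unusedSectionVars false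

open Subgroup
open scoped Pointwise

namespace Cfsg.Agent.OddSigma

open Cfsg.Agent.Solvable

universe u

/-- Bender-Glauberman 5.6 for all finite solvable groups of odd order in a universe. -/
def NarrowStructHyp : Prop :=
  ∀ (H : Type u) [Group H] [Finite H], Group.IsSolvable H → Odd (Nat.card H) →
    ∀ (p : ℕ) [Fact p.Prime], p ∣ Nat.card H → ∀ S : Sylow p H, IsNarrow p ↥(S : Subgroup H) →
      (¬ PRankLE p 2 ↥(S : Subgroup H) → PLengthLE p 1 H) →
        (∀ q : ℕ, q.Prime → q ∣ (pPrimeCore p H).index → q ≤ p) ∧ HasNormalPComplement p ↥(commutator H)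

section General

variable {R : Type u} [Group R] [Finite R]

/-- **Bender-Glauberman 5.3**: a `p`-group with a maximal elementary subgroup of order `p ^ 2` is narrow. -/
theorem isNarrow_of_maximal_elementary {p : ℕ} [hpp : Fact p.Prime] (hp2 : p ≠ 2) (hR : IsPGroup p R)
    {E : Subgroup R} (hE : IsElementaryAbelian p E) (hE2 : Nat.card E = p ^ 2)
    (hmax : ∀ B : Subgroup R, IsElementaryAbelian p B → E ≤ B → B = E) : IsNarrow p R := by
  by_cases hr : PRankLE p 2 R
  · exact Or.inl hr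
  obtain ⟨hET, hZ, -, hTc, hTi⟩ := Cfsg.Agent.S1453.result p hp2 hR hr E hE hE2 hmax
  set Z := Subgroup.closure {x : R | x ∈ Subgroup.center R ∧ x ^ p = 1} with hZdef
  set T := Subgroup.centralizer
    ((Subgroup.closure {x : R | x ∈ Subgroup.upperCentralSeries R 2 ∧ x ^ p = 1} : Subgroup R) : Set R) with hT
  have hTn : T.Normal := inferInstance
  have hmem : ∀ x ∈ Subgroup.centralizer (E : Set R), x ^ p = 1 → x ∈ E := fun x hx hxp =>
    (hmax _ (elementary_sup_zpowers hE hxp hx) le_sup_left).le (Subgroup.mem_sup_right (Subgroup.mem_zpowers x))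
  have hZc : Z ≤ Subgroup.center R := (Subgroup.closure_le _).mpr fun x hx => hx.1
  have hZT : Z ≤ T := hZc.trans (Subgroup.center_le_centralizer _)
  have hZE : Z ≤ E := (Subgroup.closure_le _).mpr fun x hx =>
    hmem x (Subgroup.center_le_centralizer _ hx.1) hx.2
  obtain ⟨e, heE, heT⟩ := SetLike.not_le_iff_exists.mp hET
  have he1 : e ≠ 1 := fun h => heT (h ▸ one_mem T)
  have heo : orderOf e = p := orderOf_eq_prime (hE.2 e heE) he1
  have hgen : Z ⊔ Subgroup.zpowers e = E := by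
    refine Subgroup.eq_of_le_of_card_ge (sup_le hZE (Subgroup.zpowers_le.mpr heE)) ?_
    obtain ⟨j, hj⟩ := (hR.to_subgroup (Z ⊔ Subgroup.zpowers e)).exists_card_eq
    have hlt : Nat.card Z < Nat.card ↥(Z ⊔ Subgroup.zpowers e) :=
      lt_of_le_of_ne (Subgroup.card_le_of_le le_sup_left) fun h => heT (hZT (by
        rw [Subgroup.eq_of_le_of_card_ge (le_sup_left : Z ≤ Z ⊔ Subgroup.zpowers e) h.ge]
        exact Subgroup.mem_sup_right (Subgroup.mem_zpowers e)))
    rw [hZ, hj] at hlt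
    rw [hE2, hj]
    refine Nat.pow_le_pow_right hpp.out.pos ?_
    exact (Nat.pow_lt_pow_iff_right hpp.out.one_lt).mp (by rwa [pow_one] : p ^ 1 < p ^ j)
  set C := Subgroup.centralizer (Subgroup.zpowers e : Set R) with hC
  have hCE : C ≤ Subgroup.centralizer (E : Set R) := by
    intro c hc
    have hle : E ≤ Subgroup.centralizer ({c} : Set R) := by
      rw [← hgen, sup_le_iff]
      refine ⟨hZc.trans (Subgroup.center_le_centralizer _), fun a ha y hy => ?_⟩
      rw [Set.mem_singleton_iff.mp hy]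
      exact (hc a ha).symm
    exact fun a ha => ((hle ha) c rfl).symm
  have heC : Subgroup.zpowers e ≤ C := fun a ha b hb => by
    obtain ⟨i, rfl⟩ := Subgroup.mem_zpowers_iff.mp ha
    obtain ⟨k, rfl⟩ := Subgroup.mem_zpowers_iff.mp hb
    exact ((Commute.refl e).zpow_zpow k i).eq
  refine Or.inr ⟨Subgroup.zpowers e, C ⊓ T, by rw [Nat.card_zpowers, heo], ?_, ?_, ?_, ?_⟩
  · -- elements of order `p` of `C ⊓ T` lie in `Z`
    have hZ' : ∀ x ∈ C ⊓ T, x ^ p = 1 → x ∈ Z := by
      intro x hx hxp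
      have hZET : Z = E ⊓ T := by
        refine Subgroup.eq_of_le_of_card_ge (le_inf hZE hZT) ?_
        have hlt : Nat.card ↥(E ⊓ T) < Nat.card E := lt_of_le_of_ne (Subgroup.card_le_of_le inf_le_left) fun h =>
          heT ((Subgroup.eq_of_le_of_card_ge (inf_le_left : E ⊓ T ≤ E) h.ge).ge heE).2
        obtain ⟨j, hj⟩ := (hR.to_subgroup (E ⊓ T)).exists_card_eq
        rw [hE2, hj, Nat.pow_lt_pow_iff_right hpp.out.one_lt] at hlt
        rw [hZ, hj]
        exact (Nat.pow_le_pow_right hpp.out.pos (by omega : j ≤ 1)).trans (pow_one p).le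
      rw [hZET]
      exact ⟨hmem x (hCE hx.1) hxp, hx.2⟩
    refine Isolated.isCyclic_of_unique hp2 _ ↥(C ⊓ T) (hR.to_subgroup _) le_rfl fun x y hx hxp hyp => ?_
    have hxZ := hZ' x x.2 (by simpa using congrArg Subtype.val hxp)
    have hyZ := hZ' y y.2 (by simpa using congrArg Subtype.val hyp)
    have hxo : orderOf (x : R) = p := orderOf_eq_prime (by simpa using congrArg Subtype.val hxp) (by simpa using hx)
    have hze : Subgroup.zpowers (x : R) = Z := Subgroup.eq_of_le_of_card_ge (Subgroup.zpowers_le.mpr hxZ)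
      (by rw [Nat.card_zpowers, hxo, hZ])
    obtain ⟨i, hi⟩ := Subgroup.mem_zpowers_iff.mp (hze ▸ hyZ : (y : R) ∈ Subgroup.zpowers (x : R))
    exact Subgroup.mem_zpowers_iff.mpr ⟨i, Subtype.ext (by simpa using hi)⟩
  · rw [eq_bot_iff]
    rintro a ⟨ha, -, haT⟩
    by_contra hne
    refine heT ?_
    obtain ⟨i, hi⟩ := Subgroup.mem_zpowers_iff.mp ha
    have : Subgroup.zpowers a = Subgroup.zpowers e := by
      refine Subgroup.eq_of_le_of_card_ge (Subgroup.zpowers_le.mpr ha) ?_
      rw [Nat.card_zpowers, Nat.card_zpowers, heo,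
        orderOf_eq_prime (x := a) (p := p) (hE.2 a (Subgroup.zpowers_le.mpr heE ha)) fun h => hne (h ▸ one_mem ⊥)]
    exact (Subgroup.zpowers_le.mpr haT) (this.ge (Subgroup.mem_zpowers e))
  · intro a ha b hb
    exact hb.1 a ha
  · refine le_antisymm (sup_le heC inf_le_left) fun c hc => ?_
    have hq : Nat.card (R ⧸ T) = p := hTi
    obtain ⟨i, hi⟩ : ∃ i : ℤ, (QuotientGroup.mk (e ^ i) : R ⧸ T) = QuotientGroup.mk c := by
      have hne : (QuotientGroup.mk e : R ⧸ T) ≠ 1 := fun h => heT ((QuotientGroup.eq_one_iff e).mp h)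
      obtain ⟨i, hi⟩ := Subgroup.mem_zpowers_iff.mp (mem_zpowers_of_prime_card (g' := (QuotientGroup.mk c : R ⧸ T)) hq hne)
      exact ⟨i, hi⟩
    have ht : (e ^ i)⁻¹ * c ∈ T := QuotientGroup.eq.mp hi
    have hei : e ^ i ∈ C := heC (Subgroup.zpow_mem_zpowers e i)
    rw [show c = e ^ i * ((e ^ i)⁻¹ * c) by group]
    exact Subgroup.mul_mem_sup (Subgroup.zpow_mem_zpowers e i) ⟨C.mul_mem (C.inv_mem hei) hc, ht⟩

theorem prankLE_of_equiv {p k : ℕ} {S : Type u} [Group S] (e : R ≃* S) (h : PRankLE p k R) : PRankLE p k S :=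
  prankLE_of_injective e.symm.toMonoidHom e.symm.injective h

theorem isNarrow_equiv {p : ℕ} {S : Type u} [Group S] (e : R ≃* S) (h : IsNarrow p R) : IsNarrow p S := by
  rcases h with h | ⟨R₀, R₁, h0, h1, hinf, hcomm, hsup⟩
  · exact Or.inl (prankLE_of_equiv e h)
  refine Or.inr ⟨R₀.map e.toMonoidHom, R₁.map e.toMonoidHom, ?_, ?_, ?_, ?_, ?_⟩
  · rwa [Subgroup.card_map_of_injective (f := e.toMonoidHom) e.injective]
  · exact (MulEquiv.isCyclic (R₁.equivMapOfInjective e.toMonoidHom e.injective)).mp h1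
  · rw [← Subgroup.map_inf _ _ e.toMonoidHom e.injective, hinf, Subgroup.map_bot]
  · rintro _ ⟨a, ha, rfl⟩ _ ⟨b, hb, rfl⟩
    rw [← map_mul, ← map_mul, hcomm a ha b hb]
  · rw [← Subgroup.map_sup, hsup]
    ext x
    constructor
    · rintro ⟨y, hy, rfl⟩ _ ⟨a, ha, rfl⟩
      rw [← map_mul, ← map_mul, hy a ha]
    · intro hx
      refine ⟨e.symm x, fun a ha => e.injective ?_, by simp⟩
      rw [map_mul, map_mul, e.apply_symm_apply]
      exact hx _ ⟨a, ha, rfl⟩

/-- A finite group with normal `p`-complements for all primes is nilpotent. -/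
theorem isNilpotent_of_complements {H : Type u} [Group H] [Finite H]
    (h : ∀ p : ℕ, p.Prime → p ∣ Nat.card H → HasNormalPComplement p H) : Group.IsNilpotent H := by
  set ι := ↥(Nat.card H).primeFactors
  have hpr : ∀ i : ι, (i : ℕ).Prime := fun i => Nat.prime_of_mem_primeFactors i.2
  let f : H →* ∀ i : ι, H ⧸ pResidual (i : ℕ) H := MonoidHom.pi fun i => QuotientGroup.mk' _
  have hnil : ∀ i : ι, Group.IsNilpotent (H ⧸ pResidual (i : ℕ) H) := by
    intro i
    have := Fact.mk (hpr i)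
    obtain ⟨k, hk⟩ := Transfer.exists_index_pResidual (G := H) (p := (i : ℕ))
    exact (IsPGroup.of_card (p := (i : ℕ)) (G := H ⧸ pResidual (i : ℕ) H) (n := k) hk).isNilpotent
  have hf : f.ker = ⊥ := by
    rw [eq_bot_iff]
    intro x hx
    have hall : ∀ i : ι, x ∈ pResidual (i : ℕ) H := fun i => by
      have := congrFun hx i
      exact (QuotientGroup.eq_one_iff x).mp this
    rw [Subgroup.mem_bot, ← orderOf_eq_one_iff]
    by_contra hne
    obtain ⟨q, hq, hqd⟩ := Nat.exists_prime_and_dvd hne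
    have := Fact.mk hq
    have hqH : q ∣ Nat.card H := hqd.trans (orderOf_dvd_natCard x)
    have hmem : x ∈ pResidual q H := hall ⟨q, Nat.mem_primeFactors.mpr ⟨hq, hqH, Nat.card_pos.ne'⟩⟩
    exact hq.ne_one (Nat.eq_one_of_dvd_coprimes ((Transfer.mem_pResidual_iff (h q hq hqH) x).mp hmem) hqd dvd_rfl)
  exact Subgroup.isNilpotent_of_ker_le_center f (hf.le.trans bot_le)

/-- Normal subgroups with prescribed prime restrictions intersect well. -/
theorem exists_normal_avoiding [Group.IsSolvable R] {π : Set ℕ} (D : Subgroup R) [D.Normal]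
    (hD : ∀ q : ℕ, q.Prime → q ∈ π → ¬ q ∣ D.index) (s : Finset ℕ)
    (hs : ∀ p ∈ s, ∃ N : Subgroup R, N.Normal ∧ ¬ p ∣ Nat.card N ∧ ∀ q : ℕ, q.Prime → q ∈ π → ¬ q ∣ N.index) :
    ∃ N : Subgroup R, N.Normal ∧ (∀ p ∈ s, ¬ p ∣ Nat.card N) ∧ ∀ q : ℕ, q.Prime → q ∈ π → ¬ q ∣ N.index := by
  induction s using Finset.induction with
  | empty => exact ⟨D, inferInstance, by simp, hD⟩
  | @insert a s _ ih =>
    obtain ⟨N, hN, hN1, hN2⟩ := ih fun p hp => hs p (Finset.mem_insert_of_mem hp)
    obtain ⟨K, hK, hK1, hK2⟩ := hs a (Finset.mem_insert_self a s)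
    refine ⟨N ⊓ K, inferInstance, fun p hp hd => ?_, fun q hq hqπ hd => ?_⟩
    · rcases Finset.mem_insert.mp hp with rfl | hp
      · exact hK1 (hd.trans (Subgroup.card_dvd_of_le inf_le_right))
      · exact hN1 p hp (hd.trans (Subgroup.card_dvd_of_le inf_le_left))
    · rw [← Subgroup.relIndex_mul_index (inf_le_left : N ⊓ K ≤ N), Subgroup.inf_relIndex_left] at hd
      rcases hq.dvd_mul.mp hd with h | h
      · exact hK2 q hq hqπ (h.trans (Subgroup.relIndex_dvd_index_of_normal K N))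
      · exact hN2 q hq hqπ h

end General

section Main

variable {G : Type u} [Group G] [Finite G] (hG : IsMinSimpleOddOrder G) (hU : UniqHyp G)
  (hR2 : RankTwoHyp G) (hF : RankTwoFittingHyp.{u}) (hP : PLengthCommHyp.{u}) (hN : NarrowStructHyp.{u})
  {M : Subgroup G} (hM : IsCoatom M)
include hG hU hR2 hF hP hN hM

omit hU hR2 hF hP hN in
theorem beta_subset_alpha : beta M ⊆ alpha M := fun _ hp => hp.1

/-- Primes outside `β(M)`: normal `p`-complement of `M'` and the bound on `M / O_{p'}(M)`. -/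
theorem not_beta_complement {p : ℕ} [hpp : Fact p.Prime] (hpM : p ∣ Nat.card M) (hp : p ∉ beta M) :
    HasNormalPComplement p ↥(commutator ↥M) ∧ ∀ q : ℕ, q.Prime → q ∣ (pPrimeCore p ↥M).index → q ≤ p := by
  by_cases hpα : p ∈ alpha M
  swap
  · obtain ⟨h1, h2, -⟩ := hR2 M hM.1 p hpp.out hpM (not_not.mp fun h => hpα ⟨hpp.out, h⟩)
    exact ⟨h2, h1⟩
  have hσ := alpha_subset_sigma hG hU hM hpα
  have hrG : ¬ PRankLE p 2 G := fun h => hpα.2 (prankLE_of_injective M.subtype M.subtype_injective h)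
  have hnid : ∃ (P₁ : Sylow p G) (A : Subgroup G), A ≤ (P₁ : Subgroup G) ∧ IsElementaryAbelian p A ∧
      Nat.card A = p ^ 2 ∧ ∀ B : Subgroup G, B ≤ (P₁ : Subgroup G) → IsElementaryAbelian p B → A ≤ B → B = A := by
    have h : ¬ IsIdealPrime p G := fun h => hp ⟨hpα, h⟩
    simp only [IsIdealPrime, hpp.out, hrG, not_false_eq_true, true_and, not_forall, not_exists, not_and] at h
    obtain ⟨P₁, A, hA, hAe, hAc, hB⟩ := h
    exact ⟨P₁, A, hA, hAe, hAc, fun B hB1 hB2 hAB => (hAB.eq_or_lt.resolve_right (hB B hB1 hB2)).symm⟩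
  obtain ⟨P₁, A, hA, hAe, hAc, hmax⟩ := hnid
  obtain ⟨P⟩ : Nonempty (Sylow p M) := inferInstance
  let S : Sylow p G := (P.isPGroup'.map M.subtype).toSylow (sylow_index_of_sigma hσ P)
  have hAinj : Function.Injective (P₁ : Subgroup G).subtype := (P₁ : Subgroup G).subtype_injective
  have hnar : IsNarrow p ↥(P₁ : Subgroup G) := by
    refine isNarrow_of_maximal_elementary (prime_ne_two hG hpM) P₁.isPGroup' (E := A.subgroupOf P₁)
      ⟨⟨⟨fun a b => Subtype.ext (Subtype.ext (elem_comm hAe a.2 b.2))⟩⟩, fun a ha => Subtype.ext (hAe.2 _ ha)⟩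
      (by rw [Cores.card_subgroupOf hA, hAc]) ?_
    intro B hB hAB
    have hB' : IsElementaryAbelian p (B.map (P₁ : Subgroup G).subtype) := by
      refine ⟨⟨⟨?_⟩⟩, ?_⟩
      · rintro ⟨_, a, ha, rfl⟩ ⟨_, b, hb, rfl⟩
        exact Subtype.ext (congrArg (P₁ : Subgroup G).subtype (elem_comm hB ha hb))
      · rintro _ ⟨a, ha, rfl⟩
        rw [← map_pow, hB.2 a ha, map_one]
    have hle : A ≤ B.map (P₁ : Subgroup G).subtype := by
      have := Subgroup.map_mono (f := (P₁ : Subgroup G).subtype) hAB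
      rwa [Subgroup.map_subgroupOf_eq_of_le hA] at this
    have h := congrArg (Subgroup.comap (P₁ : Subgroup G).subtype)
      (hmax _ (Subgroup.map_subtype_le _) hB' hle)
    rwa [Subgroup.comap_map_eq_self_of_injective hAinj] at h
  have hnarP : IsNarrow p ↥(P : Subgroup M) :=
    isNarrow_equiv ((Sylow.equiv P₁ S).trans
      ((P : Subgroup M).equivMapOfInjective M.subtype M.subtype_injective).symm) hnar
  obtain ⟨h1, h2⟩ := hN ↥M (proper_solvable hG hM.1) (odd_card hG M) p hpM P hnarP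
    fun _ => pLength_coatom hG hU hR2 hF hP hM
  exact ⟨h2, h1⟩

/-- Subgroups of `M'` have normal `p`-complements for `p` outside `β(M)`. -/
theorem complement_of_le {p : ℕ} [hpp : Fact p.Prime] (hpM : p ∣ Nat.card M) (hp : p ∉ beta M) {H : Subgroup G}
    (hH : H ≤ ⁅M, M⁆) : HasNormalPComplement p ↥H := by
  have h := (not_beta_complement hG hU hR2 hF hP hN hM hpM hp).1
  have h2 := Transfer.hasNormalPComplement_of_equiv h ((commutator ↥M).equivMapOfInjective M.subtype M.subtype_injective)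
  rw [Subgroup.map_subtype_commutator] at h2
  exact Transfer.hasNormalPComplement_of_injective h2 (Subgroup.inclusion hH) (Subgroup.inclusion_injective hH)

theorem betaCore_piCore_index : ∀ q : ℕ, q.Prime → q ∈ beta M → ¬ q ∣ (piCore (beta M) ↥M).index := by
  classical
  have hsol := proper_solvable hG hM.1
  have hD : ∀ q : ℕ, q.Prime → q ∈ beta M → ¬ q ∣ (commutator ↥M).index := by
    intro q hq hqβ
    have := Fact.mk hq
    obtain ⟨P⟩ : Nonempty (Sylow q M) := inferInstance
    exact not_dvd_index_of_sylow_le P (sylow_le_commutator hG hU hR2 hM (alpha_subset_sigma hG hU hM hqβ.1) P)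
  obtain ⟨N, hNn, hN1, hN2⟩ := exists_normal_avoiding (R := ↥M) (π := beta M) (commutator ↥M) hD
    ((Nat.card M).primeFactors.filter fun p => p ∉ beta M) (fun p hp => by
      obtain ⟨hp1, hp2⟩ := Finset.mem_filter.mp hp
      obtain ⟨hpp, hpM, -⟩ := Nat.mem_primeFactors.mp hp1
      have := Fact.mk hpp
      have h := (not_beta_complement hG hU hR2 hF hP hN hM hpM hp2).1
      refine ⟨(pResidual p ↥(commutator ↥M)).map (commutator ↥M).subtype,
        Cores.map_subtype_normal_of_characteristic _ _, ?_, fun q hq hqβ hd => ?_⟩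
      · rw [Cores.card_map_subtype]
        exact fun hd => hpp.ne_one (Nat.eq_one_of_dvd_coprimes (Transfer.hasNormalPComplement_iff_coprime.mp h) hd dvd_rfl)
      · rw [Subgroup.index_map_subtype] at hd
        obtain ⟨k, hk⟩ := Transfer.exists_index_pResidual (G := ↥(commutator ↥M)) (p := p)
        rcases hq.dvd_mul.mp hd with h | h
        · rw [hk] at h
          exact hp2 ((Nat.prime_dvd_prime_iff_eq hq hpp).mp (hq.dvd_of_dvd_pow h) ▸ hqβ)
        · exact hD q hq hqβ h)
  have hle : N ≤ piCore (beta M) ↥M := Cores.le_piCore hNn fun q hq hd => by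
    by_contra hqβ
    exact hN1 q (Finset.mem_filter.mpr
      ⟨Nat.mem_primeFactors.mpr ⟨hq, hd.trans (Subgroup.card_subgroup_dvd_card N), Nat.card_pos.ne'⟩, hqβ⟩) hd
  exact fun q hq hqβ hd => hN2 q hq hqβ (hd.trans (Subgroup.index_dvd_of_le hle))

/-- `O_β(M)` is a Hall `β(M)`-subgroup of `M`. -/
theorem betaCore_hallOf : IsPiHallOf (beta M) (piCoreOf (beta M) M) M :=
  isPiHallOf_map (fun _ hq hd => Cores.card_piCore _ hq hd) (betaCore_piCore_index hG hU hR2 hF hP hN hM)

theorem betaCore_hall : IsPiHall (beta M) (piCoreOf (beta M) M) :=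
  isPiHall_of_isPiHallOf (fun _ hq => alpha_subset_sigma hG hU hM hq.1) (betaCore_hallOf hG hU hR2 hF hP hN hM)

/-- A Hall `β'`-subgroup of a subgroup of `M'` exists and is nilpotent. -/
theorem nilpotent_betaComplement {K : Subgroup G} (hK : K ≤ ⁅M, M⁆) :
    ∃ H : Subgroup G, IsPiHallOf {q | q.Prime ∧ q ∉ beta M} H K ∧ Group.IsNilpotent H := by
  have hKM : K ≤ M := hK.trans (Subgroup.commutator_le_self M)
  have := proper_solvable hG (fun h : K = ⊤ => hM.1 (top_le_iff.mp (h.ge.trans hKM)))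
  obtain ⟨H, hH⟩ := exists_piHall_of_solvable (G := ↥K) {q | q.Prime ∧ q ∉ beta M}
  refine ⟨H.map K.subtype, isPiHallOf_map hH.1 hH.2, isNilpotent_of_complements fun p hp hd => ?_⟩
  have := Fact.mk hp
  have hHK : H.map K.subtype ≤ K := Subgroup.map_subtype_le _
  exact complement_of_le hG hU hR2 hF hP hN hM (hd.trans (Subgroup.card_dvd_of_le (hHK.trans hKM)))
    (hH.1 p hp (by rwa [Cores.card_map_subtype] at hd)).2 (hHK.trans hK)

end Main

end Cfsg.Agent.OddSigma
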