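/-
The statements S1350, S1384, S1404-S1414 of Bender-Glauberman section 10, from the bundle `Inputs`
of results of sections 3, 4, 5 and 9.
-/
import Cfsg.Agent.Lib.OddOrder.SigmaFusion
import Cfsg.Agent.Lib.OddOrder.SigmaBeta
import Cfsg.Agent.Lib.OddOrder.HallFusion

set_option linter.unusedSectionVars false
set_option linter.unusedVariables false

open scoped Pointwise

namespace Cfsg.Agent.OddSigma

universe u

/-- The inputs of section 10: Theorems 9.6, 4.18, 4.20, 3.6, 4.16 and 5.6. -/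
structure Inputs (G : Type u) [Group G] [Finite G] : Prop where
  hG : IsMinSimpleOddOrder G
  hU : UniqHyp G
  hR2 : RankTwoHyp G
  hF : RankTwoFittingHyp.{u}
  hP : PLengthCommHyp.{u}
  hB : RankTwoOperatorHyp.{u}
  hN : NarrowStructHyp.{u}

variable {G : Type u} [Group G] [Finite G]

theorem Inputs.s1350 (I : Inputs G) (M : Subgroup G) (hM : IsCoatom M) :
    IsPiHallOf (sigma M) (sigmaCore M) M ∧ IsPiHall (sigma M) (sigmaCore M) ∧
      ∀ N : Subgroup G, M ≤ Subgroup.normalizer (N : Set G) → IsPiHallOf (sigma M) N M → N = sigmaCore M :=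
  ⟨sigmaCore_hallOf I.hG I.hU I.hR2 I.hF hM, sigmaCore_hall I.hG I.hU I.hR2 I.hF hM,
    fun _ h1 h2 => sigmaCore_unique I.hG I.hU I.hR2 I.hF hM h1 h2⟩

theorem Inputs.s1384 (I : Inputs G) (H : Subgroup G) (hHn : Group.IsNilpotent H)
    (hHall : (Nat.card H).Coprime H.index) :
    ∀ x ∈ H, ∀ g : G, g * x * g⁻¹ ∈ H → ∃ n ∈ Subgroup.normalizer (H : Set G), n * x * n⁻¹ = g * x * g⁻¹ :=
  fun _ hx _ hg => nilpotent_hall_fusion I.hG I.hU I.hR2 I.hF I.hP hHn hHall hx hg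

theorem Inputs.s1404 (I : Inputs G) (M : Subgroup G) (hM : IsCoatom M) (p : ℕ) [Fact p.Prime] (hp : p ∈ sigma M)
    (X : Subgroup G) (hXp : IsPGroup p X) (hX1 : X ≠ ⊥) (hXM : X ≤ M) :
    (∀ g : G, X.map (MulAut.conj g).toMonoidHom ≤ M → ∃ m ∈ M, ∃ c ∈ Subgroup.centralizer (X : Set G), g = m * c) ∧
      Subgroup.normalizer (X : Set G) = (M ⊓ Subgroup.normalizer (X : Set G)) ⊔ Subgroup.centralizer (X : Set G) :=
  ⟨fun _ hg => conj_decomp I.hG I.hU I.hR2 hM hp hXp hX1 hXM hg,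
    normalizer_eq_sup I.hG I.hU I.hR2 hM hp hXp hX1 hXM⟩

theorem Inputs.s1405 (I : Inputs G) (M : Subgroup G) (hM : IsCoatom M) :
    IsPiHallOf (alpha M) (alphaCore M) M ∧ IsPiHall (alpha M) (alphaCore M) ∧
      alphaCore M ≤ sigmaCore M ∧ RankLE 2 (↥M ⧸ piCore (alpha M) ↥M) ∧
      Group.IsNilpotent ↥((commutator ↥M).map (QuotientGroup.mk' (piCore (alpha M) ↥M))) := by
  refine ⟨alphaCore_hallOf I.hG I.hU I.hR2 I.hF hM, alphaCore_hall I.hG I.hU I.hR2 I.hF hM,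
    alphaCore_le_sigmaCore I.hG I.hU hM, rankLE_quotient I.hG I.hU I.hR2 I.hF hM, ?_⟩
  have h : (commutator ↥M).map (QuotientGroup.mk' (piCore (alpha M) ↥M)) = commutator _ := by
    rw [_root_.commutator_def, _root_.commutator_def, Subgroup.map_commutator,
      Subgroup.map_top_of_surjective _ (QuotientGroup.mk'_surjective _)]
  rw [h]
  exact derived_quotient_nilpotent I.hG I.hU I.hR2 I.hF hM

theorem Inputs.s1406 (I : Inputs G) (M : Subgroup G) (hM : IsCoatom M) (X : Subgroup G) (hXM : X ≤ M)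
    (hXα : ∀ p : ℕ, p.Prime → p ∣ Nat.card X → p ∉ alpha M)
    (hr : ¬ RankLE 1 ↥(alphaCore M ⊓ Subgroup.centralizer (X : Set G))) :
    InUniqueMaximal (M ⊓ Subgroup.centralizer (X : Set G)) :=
  unique_of_rank_alphaCore I.hG I.hU I.hR2 I.hF hM hXM hXα hr

theorem Inputs.s1407 (I : Inputs G) (M : Subgroup G) (hM : IsCoatom M) (hMα : alphaCore M ≠ ⊥) (p : ℕ)
    [Fact p.Prime] (hpM : p ∣ Nat.card M) (hp : p ∉ sigma M) (P : Sylow p M) :
    ∃ x : G, x ∈ ((Subgroup.center ↥(P : Subgroup M)).map (P : Subgroup M).subtype).map M.subtype ∧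
      orderOf x = p ∧ IsZGroup ↥(alphaCore M ⊓ Subgroup.centralizer ({x} : Set G)) ∧
      ¬ (Subgroup.centralizer ({x} : Set G) ≤ M ∧
        ∀ L : Subgroup G, IsCoatom L → Subgroup.centralizer ({x} : Set G) ≤ L → L = M) :=
  exists_center_zgroup I.hG I.hU I.hR2 I.hF hM hpM hp P

theorem Inputs.s1408 (I : Inputs G) (M : Subgroup G) (hM : IsCoatom M) (p : ℕ) [Fact p.Prime] (hp : p ∉ sigma M)
    (hr2 : PRankLE p 2 M) (hr1 : ¬ PRankLE p 1 M) :
    ¬ IsIdealPrime p G ∧ ∀ A : Subgroup G, A ≤ M → IsElementaryAbelian p A → Nat.card A = p ^ 2 →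
      ∀ B : Subgroup G, IsElementaryAbelian p B → A ≤ B → B = A :=
  ⟨not_ideal_of_not_sigma I.hG I.hU hM hp hr1 hr2,
    fun _ h1 h2 h3 _ h4 h5 => maximal_elementary_of_not_sigma I.hG I.hU hM hp h1 h2 h3 h4 h5⟩

theorem Inputs.s1409 (I : Inputs G) (M : Subgroup G) (hM : IsCoatom M) (p : ℕ) [Fact p.Prime] (hp : p ∉ sigma M)
    (X : Subgroup G) (hX : Nat.card X = p) (hNX : Subgroup.normalizer (X : Set G) ≤ M) :
    (PRankLE p 2 M ∧ ¬ PRankLE p 1 M) ∧ ¬ IsIdealPrime p G ∧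
      ∃ A : Subgroup G, IsElementaryAbelian p A ∧ Nat.card A = p ^ 2 ∧ X ≤ A :=
  prank_two_of_normalizer_le I.hG I.hU hM hp hX hNX

theorem Inputs.s1410 (I : Inputs G) (p : ℕ) [Fact p.Prime] (H : Subgroup G) (hH : H ≠ ⊤) : PLengthLE p 1 H :=
  pLength_one I.hG I.hU I.hR2 I.hF I.hP hH

theorem Inputs.s1411 (I : Inputs G) (p : ℕ) [Fact p.Prime] (P : Sylow p G) (V : Subgroup G)
    (hV : IsComplIn (P : Subgroup G) V (Subgroup.normalizer ((P : Subgroup G) : Set G))) :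
    (P : Subgroup G) = ⁅(P : Subgroup G), V⁆ ∧
      (P : Subgroup G) ≤ ⁅Subgroup.normalizer ((P : Subgroup G) : Set G), Subgroup.normalizer ((P : Subgroup G) : Set G)⁆ :=
  sylow_eq_commutator I.hG I.hU I.hR2 I.hF I.hP P hV

theorem Inputs.s1412 (I : Inputs G) (p : ℕ) [Fact p.Prime] (P : Sylow p G) (hr : PRankLE p 2 (P : Subgroup G)) :
    IsMulCommutative (P : Subgroup G) ∨ ∃ P₁ P₂ : Subgroup G, P₁ ⊔ P₂ = (P : Subgroup G) ∧
      (∀ a ∈ P₁, ∀ b ∈ P₂, a * b = b * a) ∧ ¬ IsMulCommutative P₁ ∧ Nat.card P₁ = p ^ 3 ∧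
      Monoid.exponent P₁ = p ∧ IsCyclic P₂ ∧
      Subgroup.closure {x : G | x ∈ P₂ ∧ x ^ p = 1} = P₁ ⊓ Subgroup.centralizer (P₁ : Set G) :=
  sylow_structure_rank_two I.hG I.hU I.hR2 I.hF I.hP I.hB P hr

theorem Inputs.s1413 (I : Inputs G) (p : ℕ) [Fact p.Prime] (P : Sylow p G) :
    (∀ (Q : Subgroup G) (x : G), Q ≤ (P : Subgroup G) → Q.map (MulAut.conj x).toMonoidHom ≤ (P : Subgroup G) →
        ∃ y ∈ Subgroup.normalizer ((P : Subgroup G) : Set G),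
          Q.map (MulAut.conj x).toMonoidHom = Q.map (MulAut.conj y).toMonoidHom) ∧
      (∀ Q : Subgroup G, Q ≤ (P : Subgroup G) →
        ¬ p ∣ ((P : Subgroup G) ⊓ Subgroup.normalizer (Q : Set G)).relIndex (Subgroup.normalizer (Q : Set G))) ∧
      (∀ (R Q : Subgroup G), IsPGroup p R → Q ≤ (P : Subgroup G) ⊓ R →
        Subgroup.normalizer ((P : Subgroup G) : Set G) ≤ Subgroup.normalizer (Q : Set G) →
        Subgroup.normalizer (R : Set G) ≤ Subgroup.normalizer (Q : Set G)) :=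
  ⟨fun _ _ h1 h2 => exists_normalizer_conj_map I.hG I.hU I.hR2 I.hF I.hP P h1 h2,
    fun _ h => sylow_inf_normalizer I.hG I.hU I.hR2 I.hF I.hP P h,
    fun _ _ h1 h2 h3 => normalizer_le_normalizer I.hG I.hU I.hR2 I.hF I.hP P h1 h2 h3⟩

theorem Inputs.s1414 (I : Inputs G) (M : Subgroup G) (hM : IsCoatom M) :
    IsPiHallOf (beta M) (piCoreOf (beta M) M) M ∧ IsPiHall (beta M) (piCoreOf (beta M) M) ∧
      (∃ H : Subgroup G, IsPiHallOf {q | q.Prime ∧ q ∉ beta M} H ⁅M, M⁆ ∧ Group.IsNilpotent H) ∧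
      (∃ H : Subgroup G, IsPiHallOf {q | q.Prime ∧ q ∉ beta M} H (sigmaCore M) ∧ Group.IsNilpotent H) ∧
      ∀ p : ℕ, p.Prime → p ∣ Nat.card M → p ∉ beta M →
        HasNormalPComplement p ↥⁅M, M⁆ ∧ HasNormalPComplement p ↥(sigmaCore M) ∧
        ∀ q : ℕ, q.Prime → q ∣ (pPrimeCore p ↥M).index → q ≤ p := by
  have hs := sigmaCore_le_commutator I.hG I.hU I.hR2 I.hF hM
  refine ⟨betaCore_hallOf I.hG I.hU I.hR2 I.hF I.hP I.hN hM, betaCore_hall I.hG I.hU I.hR2 I.hF I.hP I.hN hM,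
    nilpotent_betaComplement I.hG I.hU I.hR2 I.hF I.hP I.hN hM le_rfl,
    nilpotent_betaComplement I.hG I.hU I.hR2 I.hF I.hP I.hN hM hs, fun p hp hpM hpβ => ?_⟩
  have := Fact.mk hp
  exact ⟨complement_of_le I.hG I.hU I.hR2 I.hF I.hP I.hN hM hpM hpβ le_rfl,
    complement_of_le I.hG I.hU I.hR2 I.hF I.hP I.hN hM hpM hpβ hs,
    (not_beta_complement I.hG I.hU I.hR2 I.hF I.hP I.hN hM hpM hpβ).2⟩

end Cfsg.Agent.OddSigma
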