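/-
Bender-Glauberman section 12, common tools: `Upstream` (the inputs of section 10), lines of an elementary abelian group of order `p ^ 2`, maximal elementary subgroups of that order and
their transitivity, and the fixed-point-free step.
Main results (namespace `Cfsg.Agent.OddTau2`): `MaxE2`, `transitivity`, `conj_of_overgroup`,
`conj_of_dvd`, `inherit`, `sigma_centralizes` and `sigmaCore_inf_centralizer`.
-/
import Cfsg.Agent.Lib.OddOrder.SigmaStatements
import Cfsg.Agent.S1396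
import Cfsg.Agent.Lib.OddOrder.MaxBasic
import Cfsg.Agent.Lib.OddOrder.Transitivity
import Cfsg.Agent.Lib.Signalizer.Basic
import Cfsg.Agent.Lib.OddOrder.Compl
import Cfsg.Agent.Lib.FPF.Chief
import Cfsg.Agent.Lib.NilGroup.Basic

set_option autoImplicit false
set_option linter.unusedSectionVars false
set_option linter.unusedVariables false

open Subgroup
open scoped Pointwise

universe u

namespace Cfsg.Agent.OddTau2

open Cfsg.Agent.Solvable

/-- The inputs of section 10, which are all that section 12 needs. -/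
abbrev Upstream (G : Type u) [Group G] [Finite G] : Prop := OddSigma.Inputs G

variable {G : Type u} [Group G] [Finite G]

section Lines

variable {p : ℕ} [hp : Fact p.Prime] {A : Subgroup G}

theorem orderOf_eq (hA : IsElementaryAbelian p A) {a : G} (ha : a ∈ A) (h1 : a ≠ 1) : orderOf a = p :=
  orderOf_eq_prime (hA.2 a ha) h1

theorem card_line (hA : IsElementaryAbelian p A) {a : G} (ha : a ∈ A) (h1 : a ≠ 1) :
    Nat.card (zpowers a) = p := by rw [Nat.card_zpowers, orderOf_eq hA ha h1]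

theorem centralizer_line (a : G) : centralizer (zpowers a : Set G) = centralizer ({a} : Set G) := by
  rw [zpowers_eq_closure, centralizer_closure]

theorem dvd_card (hA2 : Nat.card A = p ^ 2) : p ∣ Nat.card A := by
  rw [hA2]
  exact dvd_pow_self p two_ne_zero

/-- A subgroup of order `p` is generated by any non-identity element. -/
theorem line_eq {X : Subgroup G} (hX : Nat.card X = p) {a : G} (ha : a ∈ X) (h1 : a ≠ 1) : zpowers a = X := by
  refine eq_of_le_of_card_ge (zpowers_le.2 ha) ?_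
  rcases (Nat.dvd_prime hp.out).1 (hX ▸ card_dvd_of_le (zpowers_le.2 ha)) with h | h
  · exact absurd (zpowers_eq_bot.1 (card_eq_one.1 h)) h1
  · rw [h, hX]

theorem exists_gen {X : Subgroup G} (hX : Nat.card X = p) : ∃ a ∈ X, a ≠ 1 ∧ zpowers a = X := by
  have : Nontrivial X := Finite.one_lt_card_iff_nontrivial.1 (hX ▸ hp.out.one_lt)
  obtain ⟨⟨a, ha⟩, h⟩ := exists_ne (1 : X)
  have h1 : a ≠ 1 := fun h' => h (Subtype.ext h')
  exact ⟨a, ha, h1, line_eq hX ha h1⟩

theorem sup_line (hA : IsElementaryAbelian p A) (hA2 : Nat.card A = p ^ 2) {a b : G} (ha : a ∈ A) (ha1 : a ≠ 1)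
    (hb : b ∈ A) (hab : b ∉ zpowers a) : zpowers a ⊔ zpowers b = A := by
  have hle : zpowers a ⊔ zpowers b ≤ A := sup_le (zpowers_le.2 ha) (zpowers_le.2 hb)
  refine eq_of_le_of_card_ge hle ?_
  obtain ⟨k, hk⟩ := ((Signalizer.isPGroup_of_elemAb hA).to_le hle).exists_card_eq
  have hlt : zpowers a < zpowers a ⊔ zpowers b :=
    lt_of_le_of_ne le_sup_left fun h => hab (h ▸ mem_sup_right (mem_zpowers b))
  have h2 : Nat.card (zpowers a) < Nat.card ↥(zpowers a ⊔ zpowers b) :=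
    lt_of_le_of_ne (card_le_of_le hlt.le) fun h => hlt.ne (eq_of_le_of_card_ge hlt.le h.ge)
  rw [card_line hA ha ha1, hk] at h2
  rw [hA2, hk]
  refine Nat.pow_le_pow_right hp.out.pos ?_
  by_contra hcon
  push Not at hcon
  interval_cases k <;> simp at h2
  exact absurd hp.out.one_lt (by omega)

theorem centralizer_eq (hA : IsElementaryAbelian p A) (hA2 : Nat.card A = p ^ 2) {a b : G} (ha : a ∈ A)
    (ha1 : a ≠ 1) (hb : b ∈ A) (hab : b ∉ zpowers a) :
    centralizer (A : Set G) = centralizer ({a} : Set G) ⊓ centralizer ({b} : Set G) := by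
  rw [← sup_line hA hA2 ha ha1 hb hab, sup_eq_closure, centralizer_closure]
  ext x
  simp only [mem_inf, mem_centralizer_iff, Set.mem_union, SetLike.mem_coe, Set.mem_singleton_iff, forall_eq]
  constructor
  · exact fun h => ⟨h a (Or.inl (mem_zpowers a)), h b (Or.inr (mem_zpowers b))⟩
  · rintro ⟨h1, h2⟩ y (hy | hy) <;> obtain ⟨i, rfl⟩ := hy
    · exact ((show Commute a x from h1).zpow_left i).eq
    · exact ((show Commute b x from h2).zpow_left i).eq

theorem exists_not_mem_line (hA : IsElementaryAbelian p A) (hA2 : Nat.card A = p ^ 2) (a : G) :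
    ∃ b ∈ A, b ≠ 1 ∧ b ∉ zpowers a := by
  by_contra h
  push Not at h
  have hle : A ≤ zpowers a := fun x hx => by
    by_cases hx1 : x = 1
    · exact hx1 ▸ one_mem _
    · exact h x hx hx1
  obtain ⟨x, hx⟩ : ∃ x : A, orderOf x = p := exists_prime_orderOf_dvd_card' p (dvd_card hA2)
  have : IsCyclic A := isCyclic_of_injective (inclusion hle) (inclusion_injective hle)
  have h1 := Monoid.exponent_dvd_of_forall_pow_eq_one (G := A) (n := p) fun y => Subtype.ext (hA.2 y y.2)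
  rw [IsCyclic.exponent_eq_card, hA2] at h1
  have h2 := Nat.le_of_dvd hp.out.pos h1
  nlinarith [hp.out.two_le]

theorem not_mem_line_symm (hA : IsElementaryAbelian p A) {a b : G} (ha : a ∈ A) (ha1 : a ≠ 1) (hb : b ∈ A)
    (hb1 : b ≠ 1) (hab : b ∉ zpowers a) : a ∉ zpowers b := fun h =>
  hab (line_eq (card_line hA hb hb1) h ha1 ▸ mem_zpowers b)

/-- There are at least three lines. -/
theorem exists_third (hA : IsElementaryAbelian p A) (hA2 : Nat.card A = p ^ 2) (a c : G) (ha : a ∈ A) (ha1 : a ≠ 1)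
    (hc : c ∈ A) (hc1 : c ≠ 1) : ∃ l ∈ A, l ≠ 1 ∧ l ∉ zpowers a ∧ l ∉ zpowers c := by
  by_cases h : c ∈ zpowers a
  · obtain ⟨l, hl, hl1, hla⟩ := exists_not_mem_line hA hA2 a
    exact ⟨l, hl, hl1, hla, fun hlc => hla ((zpowers_le.2 h) hlc)⟩
  · have h' := not_mem_line_symm hA ha ha1 hc hc1 h
    refine ⟨a * c, mul_mem ha hc, fun h1 => ?_, fun h1 => ?_, fun h1 => ?_⟩
    · exact h (by rw [eq_inv_of_mul_eq_one_right h1]; exact inv_mem (mem_zpowers a))
    · exact h (by simpa using mul_mem (inv_mem (mem_zpowers a)) h1)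
    · exact h' (by simpa using mul_mem h1 (inv_mem (mem_zpowers c)))

/-- If `A` acts coprimely and every line has trivial fixed points, the group is trivial. -/
theorem eq_bot_of_lines (hA : IsElementaryAbelian p A) (hA2 : Nat.card A = p ^ 2) {X : Subgroup G}
    (hX : ¬ p ∣ Nat.card X) (hAX : A ≤ normalizer (X : Set G))
    (h : ∀ a ∈ A, a ≠ 1 → X ⊓ centralizer ({a} : Set G) = ⊥) : X = ⊥ :=
  le_bot_iff.1 (Signalizer.le_of_elements hA hA2.ge ⊥ X hX hAX fun a ha ha1 => (h a ha ha1).le)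

theorem exists_fixed_line (hA : IsElementaryAbelian p A) (hA2 : Nat.card A = p ^ 2) {X : Subgroup G}
    (hX : ¬ p ∣ Nat.card X) (hAX : A ≤ normalizer (X : Set G)) (h : X ≠ ⊥) :
    ∃ a ∈ A, a ≠ 1 ∧ X ⊓ centralizer ({a} : Set G) ≠ ⊥ := by
  by_contra hcon
  push Not at hcon
  exact h (eq_bot_of_lines hA hA2 hX hAX hcon)

end Lines

section Coprime

theorem not_dvd_of_isPGroup {p q : ℕ} [hp : Fact p.Prime] [hq : Fact q.Prime] (hpq : p ≠ q) {X : Subgroup G}
    (hX : IsPGroup q X) : ¬ p ∣ Nat.card X := fun h => hpq (OddTrans.pi_of_isPGroup hX p hp.out h)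

theorem not_dvd_sigmaCore {p : ℕ} [hp : Fact p.Prime] {M : Subgroup G} (h : p ∉ sigma M) :
    ¬ p ∣ Nat.card (sigmaCore M) := fun hd => h (OddMax.sigmaCore_pi M p hp.out hd)

theorem le_normalizer_singleton {X : Subgroup G} {A : Subgroup G} (hAX : A ≤ normalizer (X : Set G)) {a : G}
    (ha : a ∈ A) (hA : IsMulCommutative A) :
    A ≤ normalizer ((X ⊓ centralizer ({a} : Set G) : Subgroup G) : Set G) := by
  refine Signalizer.le_normalizer_inf hAX ?_
  rw [← centralizer_line]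
  refine Signalizer.le_normalizer_centralizer (Signalizer.le_normalizer_of_commute fun x hx y hy => ?_)
  exact Signalizer.commute_of_isMulCommutative hA hx (zpowers_le.2 ha hy)

theorem commute_of_nilpotent {Y : Subgroup G} (hY : Group.IsNilpotent Y) {q r : ℕ} [hq : Fact q.Prime]
    [hr : Fact r.Prime] (hqr : q ≠ r) {X R : Subgroup G} (hX : IsPGroup q X) (hR : IsPGroup r R) (hXY : X ≤ Y)
    (hRY : R ≤ Y) : X ≤ centralizer (R : Set G) := by
  intro x hx y hy
  obtain ⟨i, hi⟩ := IsPGroup.iff_orderOf.1 hX ⟨x, hx⟩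
  obtain ⟨j, hj⟩ := IsPGroup.iff_orderOf.1 hR ⟨y, hy⟩
  rw [Subgroup.orderOf_mk] at hi hj
  have hcop : (orderOf (⟨y, hRY hy⟩ : Y)).Coprime (orderOf (⟨x, hXY hx⟩ : Y)) := by
    rw [Subgroup.orderOf_mk, Subgroup.orderOf_mk, hi, hj]
    exact ((Nat.coprime_primes hr.out hq.out).2 hqr.symm).pow j i
  exact congrArg Subtype.val (NilGroup.commute_of_coprime hY hcop).eq

theorem nilpotent_of_fpf {p : ℕ} [hp : Fact p.Prime] {a : G} (ha : orderOf a = p) {X : Subgroup G}
    (hX : Group.IsSolvable X) (haX : a ∈ normalizer (X : Set G)) (hfix : X ⊓ centralizer ({a} : Set G) = ⊥) :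
    Group.IsNilpotent X := by
  refine FPF.isNilpotent_of_fpf_prime (A := zpowers a) (p := p) (by rw [Nat.card_zpowers, ha]) _ _ le_rfl hX
    ((Subgroup.normalizerMonoidHom X).comp (inclusion (zpowers_le.2 haX))) fun g hg => ?_
  have h1 := congrArg Subtype.val (hg ⟨a, mem_zpowers a⟩)
  have h2 : (g : G) ∈ X ⊓ centralizer ({a} : Set G) := by
    refine ⟨g.2, ?_⟩
    show (g : G) ∈ centralizer ({a} : Set G)
    rw [mem_centralizer_singleton_iff]
    change a * (g : G) * a⁻¹ = g at h1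
    calc (g : G) * a = a * (g : G) * a⁻¹ * a := by rw [h1]
      _ = a * g := by group
  rw [hfix, mem_bot] at h2
  exact Subtype.ext h2

/-- `A` acts on an `r`-group `R` and a `q`-group `S` normalising it, without common fixed points on `S`, and
`S` does not centralise `R`: some line has fixed points in `S` not centralising `R`, and all other lines have
fixed points in `R`. -/
theorem exists_bad_line {p q r : ℕ} [hp : Fact p.Prime] [hq : Fact q.Prime] [hr : Fact r.Prime]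
    (hpq : p ≠ q) (hpr : p ≠ r) (hqr : q ≠ r) {A R S : Subgroup G} (hA : IsElementaryAbelian p A)
    (hA2 : Nat.card A = p ^ 2) (hR : IsPGroup r R) (hS : IsPGroup q S) (hAR : A ≤ normalizer (R : Set G))
    (hAS : A ≤ normalizer (S : Set G)) (hSR : S ≤ normalizer (R : Set G))
    (hSA : S ⊓ centralizer (A : Set G) = ⊥) (hne : ¬ S ≤ centralizer (R : Set G)) :
    ∃ c ∈ A, c ≠ 1 ∧ ¬ S ⊓ centralizer ({c} : Set G) ≤ centralizer (R : Set G) ∧
      ∀ a ∈ A, a ≠ 1 → a ∉ zpowers c → R ⊓ centralizer ({a} : Set G) ≠ ⊥ := by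
  by_contra hcon
  push Not at hcon
  refine hne (Signalizer.le_of_elements hA hA2.ge _ S (not_dvd_of_isPGroup hpq hS) hAS fun c hc hc1 => ?_)
  by_contra hc'
  obtain ⟨a, ha, ha1, hac, hfixR⟩ := hcon c hc hc1 hc'
  set X := S ⊓ centralizer ({c} : Set G) with hX
  have hXq : IsPGroup q X := hS.to_le inf_le_left
  have haX : a ∈ normalizer (X : Set G) := le_normalizer_singleton hAS hc hA.1 ha
  have hXfix : X ⊓ centralizer ({a} : Set G) = ⊥ := by
    rw [hX, inf_assoc, ← centralizer_eq hA hA2 hc hc1 ha hac, hSA]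
  have hXR : X ≤ normalizer (R : Set G) := inf_le_left.trans hSR
  have hint : ¬ p ∣ Nat.card ↥(R ⊓ X) := fun h =>
    not_dvd_of_isPGroup hpq hXq (h.trans (card_dvd_of_le inf_le_right))
  have hYfix : (R ⊔ X) ⊓ centralizer ({a} : Set G) = ⊥ := le_bot_iff.1 (by
    refine (Signalizer.inf_centralizer_singleton_sup (hA.2 a ha) (hAR ha) haX hXR hint).trans ?_
    rw [hfixR, hXfix, bot_sup_eq])
  have hRs : Group.IsSolvable R := by have := hR.isNilpotent; infer_instance
  have hXs : Group.IsSolvable X := by have := hXq.isNilpotent; infer_instance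
  have hY : Group.IsSolvable ↥(R ⊔ X) := Signalizer.isSolvable_sup hRs hXs hXR
  have hnil : Group.IsNilpotent ↥(R ⊔ X) := nilpotent_of_fpf (orderOf_eq hA ha ha1) hY
    (Signalizer.le_normalizer_sup (zpowers_le.2 (hAR ha)) (zpowers_le.2 haX) (mem_zpowers a)) hYfix
  exact hc' (commute_of_nilpotent hnil hqr hXq hR le_sup_right le_sup_left)

end Coprime

section MaxElem

variable {p : ℕ} [hp : Fact p.Prime] {A : Subgroup G}

/-- An elementary abelian subgroup of order `p ^ 2` that is maximal among elementary abelian `p`-subgroups. -/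
def MaxE2 (p : ℕ) (A : Subgroup G) : Prop :=
  IsElementaryAbelian p A ∧ Nat.card A = p ^ 2 ∧ ∀ B : Subgroup G, IsElementaryAbelian p B → A ≤ B → B = A

theorem MaxE2.omega (hA : MaxE2 p A) {x : G} (hx : x ∈ centralizer (A : Set G)) : x ^ p = 1 ↔ x ∈ A := by
  refine ⟨fun h => ?_, hA.1.2 x⟩
  rw [← hA.2.2 _ (OddSigma.elementary_sup_zpowers hA.1 h hx) le_sup_left]
  exact mem_sup_right (mem_zpowers x)

theorem MaxE2.ne_bot (hA : MaxE2 p A) : A ≠ ⊥ := Signalizer.ne_bot_of_pow_le two_ne_zero hA.2.1.ge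

theorem MaxE2.isPGroup (hA : MaxE2 p A) : IsPGroup p A := Signalizer.isPGroup_of_elemAb hA.1

theorem MaxE2.not_dvd {q : ℕ} [hq : Fact q.Prime] (hA : MaxE2 p A) (h : q ≠ p) : ¬ q ∣ Nat.card A :=
  not_dvd_of_isPGroup h hA.isPGroup

theorem sylow_mem_max {B Q : Subgroup G} {q : ℕ} [hq : Fact q.Prime] (hQ : IsPGroup q Q) (hi : ¬ q ∣ Q.index)
    (hBQ : B ≤ normalizer (Q : Set G)) : Q ∈ maxInvSubgroups ⊤ B {q} := by
  refine ⟨⟨le_top, OddTrans.pi_of_isPGroup hQ, hBQ⟩, fun R hR hle => ?_⟩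
  exact (hQ.toSylow hi).3 (OddTrans.isPGroup_of_pi hq.out hR.2.1) hle

variable (U : Upstream G)
include U

theorem transitivity (hA : MaxE2 p A) : TransitivityHypothesis A :=
  Cfsg.Agent.S1396.result U.hG p ((dvd_card hA.2.1).trans (card_subgroup_dvd_card A)) A hA.isPGroup hA.1.1
    (Or.inl ⟨fun _ hx => hA.omega hx, fun H hH => U.s1410 p H hH⟩)

theorem MaxE2.mem_le_centralizer {x : G} (hA : MaxE2 p A) (hx : x ∈ A) :
    A ≤ centralizer ({x} : Set G) := fun y hy => mem_centralizer_singleton_iff.2 (OddSigma.elem_comm hA.1 hy hx)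

/-- A Sylow subgroup lies in the derived subgroup of its normalizer (10.7a). -/
theorem sylow_le_commutator (P : Sylow p G) :
    (P : Subgroup G) ≤ ⁅normalizer ((P : Subgroup G) : Set G), normalizer ((P : Subgroup G) : Set G)⁆ := by
  set N := normalizer ((P : Subgroup G) : Set G) with hN
  by_cases hP : (P : Subgroup G) = ⊥
  · rw [hP]
    exact bot_le
  have : Group.IsSolvable N := OddSigma.proper_solvable U.hG
    (OddSigma.normalizer_ne_top U.hG hP (OddSigma.top_not_pGroup U.hG P.isPGroup'))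
  obtain ⟨V, hV⟩ := OddMax.exists_compl (M := N) (N := (P : Subgroup G)) le_normalizer le_rfl
    (Nat.coprime_of_dvd fun r hr h1 h2 => P.not_dvd_index (by
      obtain rfl := OddTrans.pi_of_isPGroup P.isPGroup' r hr h1
      exact h2.trans (Dvd.intro _ (relIndex_mul_index le_normalizer))))
  exact (U.s1411 p P V (OddMax.compl_symm hV)).2

theorem coreK_le (A : Subgroup G) : OddTrans.coreK A ≤ centralizer (A : Set G) := OddTrans.piCoreOf_le _ _

/-- Two maximal `A`-invariant `q`-subgroups meeting a common proper overgroup are conjugate in `C(A)`. -/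
theorem conj_of_overgroup (hA : MaxE2 p A) {q : ℕ} [hq : Fact q.Prime] (hqp : q ≠ p) {Q₁ Q₂ : Subgroup G}
    (h₁ : Q₁ ∈ maxInvSubgroups ⊤ A {q}) (h₂ : Q₂ ∈ maxInvSubgroups ⊤ A {q}) {H : Subgroup G} (hH : H ≠ ⊤)
    (hAH : A ≤ H) (hH₁ : H ⊓ Q₁ ≠ ⊥) (hH₂ : H ⊓ Q₂ ≠ ⊥) :
    ∃ k ∈ centralizer (A : Set G), Q₂ = MulAut.conj k • Q₁ := by
  obtain ⟨-, hs, -, hsol⟩ := U.hG
  obtain ⟨k, hk, h⟩ := OddTrans.exists_conj_of_common_overgroup (transitivity U hA) hsol hs hq.out
    (hA.not_dvd hqp) h₁ h₂ hH hAH hH₁ hH₂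
  exact ⟨k, coreK_le U A hk, h⟩

theorem conj_of_line (hA : MaxE2 p A) {q : ℕ} [hq : Fact q.Prime] (hqp : q ≠ p) {Q₁ Q₂ : Subgroup G}
    (h₁ : Q₁ ∈ maxInvSubgroups ⊤ A {q}) (h₂ : Q₂ ∈ maxInvSubgroups ⊤ A {q}) {a : G} (ha : a ∈ A) (ha1 : a ≠ 1)
    (hH₁ : Q₁ ⊓ centralizer ({a} : Set G) ≠ ⊥) (hH₂ : Q₂ ⊓ centralizer ({a} : Set G) ≠ ⊥) :
    ∃ k ∈ centralizer (A : Set G), Q₂ = MulAut.conj k • Q₁ := by
  obtain ⟨-, hs, hna, -⟩ := U.hG
  exact conj_of_overgroup U hA hqp h₁ h₂ (OddTrans.centralizer_ne_top hs hna (Set.mem_singleton a) ha1)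
    (hA.mem_le_centralizer U ha) (by rwa [inf_comm]) (by rwa [inf_comm])

theorem transitive_of_dvd (hA : MaxE2 p A) {q : ℕ} [hq : Fact q.Prime] (hqp : q ≠ p)
    (hqC : q ∣ Nat.card (centralizer (A : Set G))) {Q₁ Q₂ : Subgroup G}
    (h₁ : Q₁ ∈ maxInvSubgroups ⊤ A {q}) (h₂ : Q₂ ∈ maxInvSubgroups ⊤ A {q}) :
    ∃ k ∈ OddTrans.coreK A, Q₂ = MulAut.conj k • Q₁ := by
  obtain ⟨-, hs, hna, hsol⟩ := U.hG
  exact OddTrans.transitive_of_rank_two (transitivity U hA) hsol hs hq.out (hA.not_dvd hqp) hna hA.1 hA.2.1.ge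
    (le_inf le_rfl (OddSigma.elementary_le_centralizer hA.1 le_rfl)) hqC h₁ h₂

theorem conj_of_dvd (hA : MaxE2 p A) {q : ℕ} [hq : Fact q.Prime] (hqp : q ≠ p)
    (hqC : q ∣ Nat.card (centralizer (A : Set G))) {Q₁ Q₂ : Subgroup G}
    (h₁ : Q₁ ∈ maxInvSubgroups ⊤ A {q}) (h₂ : Q₂ ∈ maxInvSubgroups ⊤ A {q}) :
    ∃ k ∈ centralizer (A : Set G), Q₂ = MulAut.conj k • Q₁ := by
  obtain ⟨k, hk, h⟩ := transitive_of_dvd U hA hqp hqC h₁ h₂
  exact ⟨k, coreK_le U A hk, h⟩

/-- The consequences of BG 7.4 for a `p`-group `P` containing `A`. -/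
theorem inherit (hA : MaxE2 p A) {q : ℕ} [hq : Fact q.Prime] (hqp : q ≠ p)
    (hqC : q ∣ Nat.card (centralizer (A : Set G))) {P : Subgroup G} (hP : IsPGroup p P) (hAP : A ≤ P)
    {Q : Subgroup G} (hQ : Q ∈ maxInvSubgroups ⊤ P {q}) :
    Q ∈ maxInvSubgroups ⊤ A {q} ∧
      normalizer (P : Set G) ≤ centralizer (A : Set G) ⊔ (normalizer (P : Set G) ⊓ normalizer (Q : Set G)) ∧
      P ⊓ ⁅normalizer (P : Set G), normalizer (P : Set G)⁆ ≤ ⁅normalizer (Q : Set G), normalizer (Q : Set G)⁆ := by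
  obtain ⟨-, hs, hna, hsol⟩ := U.hG
  have hPπ : ∀ r : ℕ, r.Prime → r ∣ Nat.card P → r ∣ Nat.card A := fun r hr hd => by
    rw [OddTrans.pi_of_isPGroup hP r hr hd]
    exact dvd_card hA.2.1
  have hsn : (A.subgroupOf P).IsSubnormal := by
    have := hP.isNilpotent
    exact Cores.isSubnormal_of_le_fittingSubgroup (Cores.fittingSubgroup_eq_top_iff.2 this ▸ le_top)
  have hI : OddTrans.Inherits A P q := OddTrans.inherits_of_subnormal (transitivity U hA) hsol hs hq.out
    (hA.not_dvd hqp) hna hAP hPπ hsn ⟨subset_rfl, fun Q₁ h₁ Q₂ h₂ => transitive_of_dvd U hA hqp hqC h₁ h₂⟩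
  have hN := OddTrans.normalizer_eq_sup (A := A) hI.2 hQ
  refine ⟨hI.1 hQ, hN.le.trans (sup_le_sup_right ((OddTrans.piCoreOf_le _ _).trans (centralizer_le hAP)) _), ?_⟩
  refine le_trans (OddTrans.inf_commutator_le hN (fun g hg =>
    OddTrans.mem_normalizer_piCoreOf (Signalizer.le_normalizer_centralizer le_rfl hg)) ?_
    (OddTrans.coprime_of_pi hPπ (OddTrans.piCoreOf_pi _ _))) (commutator_mono inf_le_right inf_le_right)
  exact le_inf le_normalizer hQ.1.2.2

theorem sigma_hall {M : Subgroup G} (hM : IsCoatom M) : IsPiHallOf (sigma M) (sigmaCore M) M :=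
  OddSigma.sigmaCore_hallOf U.hG U.hU U.hR2 U.hF hM

theorem le_sigmaCore_of_pi {M B : Subgroup G} (hM : IsCoatom M) (hB : B ≤ M)
    (hπ : ∀ r : ℕ, r.Prime → r ∣ Nat.card B → r ∈ sigma M) : B ≤ sigmaCore M := by
  have h1 := sigma_hall U hM
  have := normal_subgroupOf_of_le_normalizer (OddMax.le_normalizer_sigmaCore M)
  have h2 : B.subgroupOf M ≤ (sigmaCore M).subgroupOf M :=
    OddSigma.le_of_pi_index h1.2.2 fun r hr hd => hπ r hr (by rwa [Cores.card_subgroupOf hB] at hd)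
  exact fun b hb => h2 (x := ⟨b, hB hb⟩) hb

theorem pgroup_le_sigmaCore {M B : Subgroup G} (hM : IsCoatom M) {r : ℕ} [Fact r.Prime] (hr : r ∈ sigma M)
    (hB : B ≤ M) (hBr : IsPGroup r B) : B ≤ sigmaCore M :=
  le_sigmaCore_of_pi U hM hB fun s hs hd => by rwa [OddTrans.pi_of_isPGroup hBr s hs hd]

/-- `p ∈ σ(H)`: a `q`-subgroup of `H`, `q ∉ σ(H)`, that `A` normalises is centralised by `A`. -/
theorem sigma_centralizes (hA : MaxE2 p A) {H : Subgroup G} (hH : IsCoatom H) (hpH : p ∈ sigma H) (hAH : A ≤ H)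
    {q : ℕ} [hq : Fact q.Prime] (hqH : q ∉ sigma H) {S : Subgroup G} (hS : IsPGroup q S) (hSH : S ≤ H)
    (hAS : A ≤ normalizer (S : Set G)) : S ≤ centralizer (A : Set G) := by
  have hAσ : A ≤ sigmaCore H := pgroup_le_sigmaCore U hH hpH hAH hA.isPGroup
  have h1 : ⁅S, A⁆ ≤ sigmaCore H ⊓ S := le_inf ((commutator_mono le_rfl hAσ).trans
    (le_normalizer_iff_commutator_le_right.1 (hSH.trans (OddMax.le_normalizer_sigmaCore H))))
    (le_normalizer_iff_commutator_le_left.1 hAS)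
  have h2 : sigmaCore H ⊓ S = ⊥ := Solvable.inf_eq_bot_of_coprime (Nat.coprime_of_dvd fun r hr h1 h2 =>
    hqH (by
      have := OddTrans.pi_of_isPGroup hS r hr h2
      exact (Set.mem_singleton_iff.1 this) ▸ OddMax.sigmaCore_pi H r hr h1))
  rw [h2, le_bot_iff, commutator_eq_bot_iff_le_centralizer] at h1
  exact h1

/-- A Sylow subgroup of the `σ`-core of `H` is a Sylow subgroup of `G`. -/
theorem sylow_sigmaCore {H : Subgroup G} (hH : IsCoatom H) {q : ℕ} [hq : Fact q.Prime] (hqH : q ∈ sigma H)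
    {R : Subgroup G} (hRH : R ≤ H) (hi : ¬ q ∣ R.relIndex H) : ¬ q ∣ R.index := fun hd => by
  rw [← relIndex_mul_index hRH] at hd
  rcases hq.out.dvd_mul.1 hd with h | h
  · exact hi h
  · exact OddMax.not_dvd_index_of_mem_sigma hqH h

theorem exists_inv_sylow_sigmaCore {H : Subgroup G} (hH : IsCoatom H) {q : ℕ} [hq : Fact q.Prime]
    (hqH : q ∈ sigma H) {B : Subgroup G} (hBH : B ≤ H) (hcop : (Nat.card B).Coprime (Nat.card (sigmaCore H))) :
    ∃ R ≤ sigmaCore H, IsPGroup q R ∧ B ≤ normalizer (R : Set G) ∧ ¬ q ∣ R.index ∧ R ≠ ⊥ ∧ normalizer (R : Set G) ≤ H := by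
  obtain ⟨R, hR⟩ := Coprime.exists_invariant_sylow (hBH.trans (OddMax.le_normalizer_sigmaCore H)) hcop
    (Or.inr (Coprime.isSolvable_of_le (OddMax.sigmaCore_le H) (OddSigma.proper_solvable U.hG hH.1))) q
  set R' := (R : Subgroup (sigmaCore H)).map (sigmaCore H).subtype
  have hR'H : R' ≤ H := (map_subtype_le _).trans (OddMax.sigmaCore_le H)
  have hrel : ¬ q ∣ R'.relIndex H := by
    rw [← relIndex_mul_relIndex R' (sigmaCore H) H (map_subtype_le _) (OddMax.sigmaCore_le H),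
      OddSigma.relIndex_sylow_map]
    exact hq.out.not_dvd_mul R.not_dvd_index ((sigma_hall U hH).2.2 q hq.out hqH)
  refine ⟨R', map_subtype_le _, R.2.map _, hR, sylow_sigmaCore U hH hqH hR'H hrel, fun h => hrel ?_,
    OddMax.normalizer_le_of_mem_sigma hqH (R.2.map _) hR'H hrel⟩
  rw [h, relIndex_bot_left]
  exact hqH.2.1

theorem coprime_sigmaCore (hA : MaxE2 p A) {H : Subgroup G} (hpH : p ∉ sigma H) :
    (Nat.card A).Coprime (Nat.card (sigmaCore H)) := by
  rw [hA.2.1]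
  exact (hp.out.coprime_iff_not_dvd.2 (not_dvd_sigmaCore hpH)).pow_left 2

/-- `p ∉ σ(H)` and `C(A) ≤ H`: then `A` has no fixed points on `H_σ`. -/
theorem sigmaCore_inf_centralizer (hA : MaxE2 p A) {H : Subgroup G} (hH : IsCoatom H) (hpH : p ∉ sigma H)
    (hC : centralizer (A : Set G) ≤ H) : sigmaCore H ⊓ centralizer (A : Set G) = ⊥ := by
  by_contra hne
  obtain ⟨q, hq, hd⟩ := Nat.exists_prime_and_dvd
    ((not_congr (card_eq_one (H := sigmaCore H ⊓ centralizer (A : Set G)))).2 hne)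
  have := Fact.mk hq
  have hqσ : q ∈ sigma H := OddMax.sigmaCore_pi H q hq (hd.trans (card_dvd_of_le inf_le_left))
  have hqp : q ≠ p := fun h => hpH (h ▸ hqσ)
  have hqC : q ∣ Nat.card (centralizer (A : Set G)) := hd.trans (card_dvd_of_le inf_le_right)
  have hAH : A ≤ H := (OddSigma.elementary_le_centralizer hA.1 le_rfl).trans hC
  obtain ⟨R, hRσ, hR, hAR, hRi, -, hNR⟩ := exists_inv_sylow_sigmaCore U hH hqσ hAH (coprime_sigmaCore U hA hpH)
  obtain ⟨P, hP⟩ := hA.isPGroup.exists_le_sylow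
  obtain ⟨Q, hQ, -⟩ := OddTrans.exists_max_ge (q := q) (B := (P : Subgroup G)) (U := ⊥)
    (fun r hr h => absurd (card_bot (G := G) ▸ h : r ∣ 1) hr.not_dvd_one) ((normalizer_eq_top_iff.2 (inferInstance : (⊥ : Subgroup G).Normal)).symm ▸ le_top)
  obtain ⟨hQA, hNP, -⟩ := inherit U hA hqp hqC P.2 hP hQ
  obtain ⟨k, hk, hQk⟩ := conj_of_dvd U hA hqp hqC (sylow_mem_max hR hRi hAR) hQA
  have hNQ : normalizer (Q : Set G) ≤ H := by
    rw [hQk, OddMax.normalizer_conj]
    intro x hx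
    rw [Coprime.mem_conj] at hx
    have := mul_mem (mul_mem (hC hk) (hNR hx)) (inv_mem (hC hk))
    simpa [mul_assoc] using this
  have hNPH : normalizer ((P : Subgroup G) : Set G) ≤ H := hNP.trans (sup_le hC (inf_le_right.trans hNQ))
  have hPH : (P : Subgroup G) ≤ H := le_normalizer.trans hNPH
  refine hpH (OddMax.mem_sigma_iff.2 ⟨(dvd_card hA.2.1).trans (card_dvd_of_le hAH), P, hPH, P.2, ?_, hNPH⟩)
  exact fun h => P.not_dvd_index (h.trans (Dvd.intro _ (relIndex_mul_index hPH)))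

end MaxElem

end Cfsg.Agent.OddTau2
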