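import Cfsg.Agent.Lib.OddOrder.Unique
import Cfsg.Agent.Lib.RankTwo.Auto
import Cfsg.Agent.Lib.RankTwo.Narrow
import Cfsg.Agent.Lib.Transfer.Focal

/-!
`unique_of_scn_three_direct`: a member of `SCN₃(P)` is a uniqueness subgroup, proved without the
solvable signalizer functor theorem.

Let `A ∈ SCN₃(P)` and suppose `r_p(F(M)) ≤ 2` for all maximal `M`. An *owner* is a maximal `L ⊇ A`
with `r_q(F(L)) ≥ 3` for some `q`; it has a noncyclic normal `W ≤ O_q(L)` all of whose noncyclic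
subgroups have `L` as their only maximal overgroup. Either some `H ≤ A` of order `p ^ 2` has all
`O_{p'}(C(h))` inside one owner, or every owner is the only maximal subgroup containing
`C(N(A)')`, so there is only one owner and we are done; without owners, `N(P')` does the job.
-/

set_option autoImplicit false

namespace Cfsg.Agent.OddUniq

open scoped Pointwise commutatorElement
open OddTrans

/-! ### Solvable groups with small Fitting subgroup -/

section Solvable

variable {X : Type*} [Group X] [Finite X] [Group.IsSolvable X]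

/-- A Sylow `t`-subgroup of a normal `W` centralising the other primary parts of `F(X)` and acting
as a `t`-group on `O_t(X)` lies in `O_t(X)`. -/
theorem sylow_le_pCore {t : ℕ} [Fact t.Prime] (W : Subgroup X) [hWn : W.Normal]
    (hcent : ∀ r : ℕ, r.Prime → r ≠ t → W ≤ Subgroup.centralizer (pCore r X : Set X))
    [(Subgroup.centralizer (pCore t X : Set X)).Normal]
    (hWt : IsPGroup t ↥(W.map (QuotientGroup.mk' (Subgroup.centralizer (pCore t X : Set X)))))
    (S : Sylow t W) : (S : Subgroup W).map W.subtype ≤ pCore t X := by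
  set K := pCore t X with hK
  have hKn : K.Normal := Subgroup.sSup_normal _ fun _ h => h.1
  set π := QuotientGroup.mk' (Subgroup.centralizer (K : Set X)) with hπ
  have hSn : (S : Subgroup W).Normal := by
    refine Subgroup.normalizer_eq_top_iff.1 (eq_top_iff.2 fun w _ => ?_)
    set g := π.comp W.subtype with hg
    have hrg : IsPGroup t g.range := by
      refine hWt.to_le ?_
      rintro _ ⟨u, rfl⟩
      exact ⟨u, u.2, rfl⟩
    obtain ⟨⟨_, u, hu, rfl⟩, e⟩ : ∃ y : (S : Subgroup W).map g, (y : X ⧸ _) = g w := by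
      have hsurj : Function.Surjective g.rangeRestrict := g.rangeRestrict_surjective
      have htop : ((S.mapSurjective hsurj : Sylow t g.range) : Subgroup g.range) = ⊤ := by
        refine ((S.mapSurjective hsurj).3 ?_ le_top).symm
        exact hrg.to_subgroup ⊤
      rw [Sylow.coe_mapSurjective] at htop
      have h1 : g.rangeRestrict w ∈ (S : Subgroup W).map g.rangeRestrict :=
        htop.ge (Subgroup.mem_top _)
      obtain ⟨u, hu, e⟩ := h1
      exact ⟨⟨g u, u, hu, rfl⟩, congrArg Subtype.val e⟩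
    simp only at e
    have hwu : ((w * u⁻¹ : W) : X) ∈ Subgroup.centralizer (K : Set X) := by
      rw [← QuotientGroup.eq_one_iff]
      show g (w * u⁻¹) = 1
      rw [map_mul, map_inv, e, mul_inv_cancel]
    have hF : ((w * u⁻¹ : W) : X) ∈ fittingSubgroup X := by
      refine Solvable.centralizer_fitting_le X ?_
      rw [Cores.fittingSubgroup_eq_iSup_pCore]
      have h1 : (⨆ p : Nat.Primes, pCore (p : ℕ) X) ≤
          Subgroup.centralizer ({((w * u⁻¹ : W) : X)} : Set X) := iSup_le fun p => by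
        intro y hy
        rw [Subgroup.mem_centralizer_singleton_iff]
        by_cases hps : (p : ℕ) = t
        · rw [hps] at hy
          exact Subgroup.mem_centralizer_iff.1 hwu y hy
        · exact Subgroup.mem_centralizer_iff.1 (hcent p p.2 hps (w * u⁻¹).2) y hy
      exact Subgroup.mem_centralizer_iff.2 fun y hy =>
        Subgroup.mem_centralizer_singleton_iff.1 (h1 hy)
    set T : Subgroup X := ⨆ p : {q : ℕ // q.Prime ∧ q ≠ t}, pCore (p : ℕ) X with hT
    have hFKT : fittingSubgroup X ≤ K ⊔ T := by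
      rw [Cores.fittingSubgroup_eq_iSup_pCore]
      refine iSup_le fun p => ?_
      by_cases hps : (p : ℕ) = t
      · rw [hps]; exact le_sup_left
      · exact le_sup_of_le_right
          (le_iSup_of_le (⟨p, p.2, hps⟩ : {q : ℕ // q.Prime ∧ q ≠ t}) le_rfl)
    obtain ⟨k, hk, c, hc, hkc⟩ := (Coprime.mem_sup_iff
      (by rw [Subgroup.normalizer_eq_top_iff.2 hKn]; exact le_top)).1 (hFKT hF)
    have hTW : T ≤ Subgroup.centralizer (W : Set X) := iSup_le fun q =>
      Subgroup.le_centralizer_iff.1 (hcent q q.2.1 q.2.2)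
    have hS' : IsPGroup t ((S : Subgroup W).map W.subtype ⊔ K : Subgroup X) :=
      (S.2.map _).to_sup_of_normal_right (Cores.isPGroup_pCore t X)
    have hconj : ∀ x ∈ (S : Subgroup W), (w * u⁻¹) * x * (w * u⁻¹)⁻¹ ∈ (S : Subgroup W) := by
      intro x hx
      have h1 : (((w * u⁻¹) * x * (w * u⁻¹)⁻¹ : W) : X) ∈ (S : Subgroup W).map W.subtype ⊔ K := by
        have hcx : c * (x : X) = (x : X) * c :=
          (Subgroup.mem_centralizer_iff.1 (hTW hc) (x : X) x.2).symm
        have : (((w * u⁻¹) * x * (w * u⁻¹)⁻¹ : W) : X) = k * (x : X) * k⁻¹ := by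
          rw [Subgroup.coe_mul, Subgroup.coe_mul, Subgroup.coe_inv, ← hkc, mul_assoc k c, hcx]
          group
        rw [this]
        exact mul_mem (mul_mem (Subgroup.mem_sup_right hk)
          (Subgroup.mem_sup_left (Subgroup.mem_map_of_mem W.subtype hx)))
          (inv_mem (Subgroup.mem_sup_right hk))
      have hle : (S : Subgroup W) ≤ ((S : Subgroup W).map W.subtype ⊔ K).subgroupOf W :=
        fun y hy => Subgroup.mem_sup_left (Subgroup.mem_map_of_mem W.subtype hy)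
      rw [← S.3 hS'.comap_subtype hle]
      exact h1
    have h1 : w * u⁻¹ ∈ Subgroup.normalizer ((S : Subgroup W) : Set W) :=
      Coprime.mem_normalizer_of_forall hconj
    have := Subgroup.mul_mem _ h1 (Subgroup.le_normalizer hu)
    rwa [inv_mul_cancel_right] at this
  refine Cores.le_pCore_of_isSubnormal ?_ (S.2.map _)
  refine Subgroup.IsSubnormal.step _ W (Subgroup.map_subtype_le _)
    (Subgroup.Normal.isSubnormal hWn) ?_
  rw [Subgroup.subgroupOf, Subgroup.comap_map_eq_self_of_injective W.subtype_injective]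
  exact hSn

/-- If all primary parts of `F(X)` have rank at most 2 then `X' ≤ F(X)`. -/
theorem commutator_le_fitting (hodd : Odd (Nat.card X))
    (hr : ∀ r : ℕ, r.Prime → PRankLE r 2 (pCore r X)) : commutator X ≤ fittingSubgroup X := by
  have hact : ∀ r : ℕ, r.Prime → ∀ [(pCore r X).Normal],
      IsPGroup r ↥((commutator X).map (MulAut.conjNormal (H := pCore r X))) := by
    intro r hrp _
    have : Fact r.Prime := ⟨hrp⟩
    set φ := MulAut.conjNormal (H := pCore r X) with hφ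
    by_cases hr2 : r = 2
    · subst hr2
      have hbot : pCore 2 X = ⊥ := by
        by_contra hne
        exact (Nat.not_even_iff_odd.2 hodd) (even_iff_two_dvd.2
          ((dvd_card_of_le hne (Cores.isPGroup_pCore 2 X) le_rfl).trans
            (Subgroup.card_subgroup_dvd_card _)))
      intro z
      obtain ⟨x, _, hx⟩ := z.2
      refine ⟨0, Subtype.ext ?_⟩
      rw [pow_zero, pow_one, OneMemClass.coe_one, ← hx]
      ext ⟨v, hv⟩
      rw [hbot, Subgroup.mem_bot] at hv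
      simp [hv, φ]
    have h := (RankTwo.commutator_isPGroup hr2 (Cores.isPGroup_pCore r X) (hr r hrp)
      (hodd.of_dvd_nat (Subgroup.card_range_dvd φ)) φ.range.subtype φ.range.subtype_injective).1
    have hle : (commutator X).map φ ≤ (commutator φ.range).map φ.range.subtype := by
      rw [Subgroup.map_subtype_commutator, commutator_def, Subgroup.map_commutator]
      exact Subgroup.commutator_mono (MonoidHom.range_eq_map φ).ge (MonoidHom.range_eq_map φ).ge
    exact (h.map _).to_le hle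
  refine Coprime.le_of_invariant_sylow_le (A := ⊥) bot_le (by simp) (Or.inl inferInstance)
    fun t Q ht hQ hQt _ => ?_
  have : Fact t.Prime := ⟨ht⟩
  -- the elements of `X'` centralising the other parts
  have hWn : ∀ r : ℕ, (pCore r X).Normal := fun r => Subgroup.sSup_normal _ fun _ h => h.1
  set D : Subgroup X := commutator X ⊓ ⨅ r : {q : ℕ // q.Prime ∧ q ≠ t},
    Subgroup.centralizer (pCore (r : ℕ) X : Set X) with hD
  have hDn : D.Normal := by
    have h1 : (⨅ r : {q : ℕ // q.Prime ∧ q ≠ t},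
        Subgroup.centralizer (pCore (r : ℕ) X : Set X)).Normal :=
      Subgroup.normal_iInf_normal fun r => inferInstance
    rw [hD]; infer_instance
  have hQD : Q ≤ D := by
    refine le_inf hQ (le_iInf fun r => fun x hx => ?_)
    have : Fact (r : ℕ).Prime := ⟨r.2.1⟩
    set φ := MulAut.conjNormal (H := pCore (r : ℕ) X)
    have h1 : φ x ∈ (commutator X).map φ := Subgroup.mem_map_of_mem φ (hQ hx)
    obtain ⟨a, ha⟩ := hact r r.2.1 ⟨_, h1⟩
    obtain ⟨b, hb⟩ := hQt ⟨x, hx⟩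
    have h2 : φ x = 1 := by
      refine orderOf_eq_one_iff.1 (Nat.eq_one_of_dvd_coprimes
        (((Nat.coprime_primes r.2.1 ht).2 r.2.2).pow a b) ?_ ?_)
      · exact orderOf_dvd_of_pow_eq_one (by simpa using congrArg Subtype.val ha)
      · refine (orderOf_map_dvd φ x).trans (orderOf_dvd_of_pow_eq_one ?_)
        simpa using congrArg Subtype.val hb
    refine Subgroup.mem_centralizer_iff.2 fun v hv => ?_
    have h3 := congrArg (fun e : MulAut (pCore (r : ℕ) X) => ((e ⟨v, hv⟩ : pCore (r : ℕ) X) : X)) h2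
    simp only [φ, MulAut.conjNormal_apply, MulAut.one_apply] at h3
    rw [mul_inv_eq_iff_eq_mul] at h3
    exact h3.symm
  have hWt : IsPGroup t ↥(D.map (QuotientGroup.mk' (Subgroup.centralizer (pCore t X : Set X)))) := by
    intro z
    obtain ⟨x, hx, hxz⟩ := z.2
    set φ := MulAut.conjNormal (H := pCore t X)
    obtain ⟨a, ha⟩ := hact t ht ⟨φ x, Subgroup.mem_map_of_mem φ hx.1⟩
    refine ⟨a, Subtype.ext ?_⟩
    rw [SubgroupClass.coe_pow, ← hxz, ← map_pow, OneMemClass.coe_one, QuotientGroup.mk'_apply,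
      QuotientGroup.eq_one_iff]
    refine Subgroup.mem_centralizer_iff.2 fun v hv => ?_
    have h2 : φ (x ^ t ^ a) = 1 := by
      rw [map_pow]; simpa using congrArg Subtype.val ha
    have h3 := congrArg (fun e : MulAut (pCore t X) => ((e ⟨v, hv⟩ : pCore t X) : X)) h2
    simp only [φ, MulAut.conjNormal_apply, MulAut.one_apply] at h3
    rw [mul_inv_eq_iff_eq_mul] at h3
    exact h3.symm
  have hcent : ∀ r : ℕ, r.Prime → r ≠ t → D ≤ Subgroup.centralizer (pCore r X : Set X) :=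
    fun r hr' hrt x hx => (iInf_le (fun r : {q : ℕ // q.Prime ∧ q ≠ t} =>
      Subgroup.centralizer (pCore (r : ℕ) X : Set X)) ⟨r, hr', hrt⟩) hx.2
  obtain ⟨S, hS⟩ := (hQt.comap_subtype (K := D)).exists_le_sylow
  intro x hx
  exact Cores.pCore_le_fittingSubgroup t (sylow_le_pCore D hcent hWt S
    ⟨⟨x, hQD hx⟩, hS hx, rfl⟩)

end Solvable

variable {G : Type*} [Group G] [Finite G] {p : ℕ}

theorem commutator_le_fittingOf (hodd : Odd (Nat.card G)) {M : Subgroup G} (hM : Group.IsSolvable M)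
    (hr : ∀ r : ℕ, r.Prime → PRankLE r 2 (fittingOf M)) : ⁅M, M⁆ ≤ fittingOf M := by
  have := hM
  rw [← Subgroup.map_subtype_commutator]
  refine Subgroup.map_mono (commutator_le_fitting
    (hodd.of_dvd_nat (Subgroup.card_subgroup_dvd_card M)) fun r hr' => ?_)
  have : Fact r.Prime := ⟨hr'⟩
  refine pRankLE_of_forall fun E hE hEe => ?_
  rw [← Cores.card_map_subtype M E]
  exact card_le_of_pRankLE (hr r hr')
    ((Subgroup.map_mono hE).trans (pCoreOf_le_fittingOf r M)) (elem_map _ hEe)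

/-- With small Fitting subgroup, `P' ⊴ M` for a Sylow subgroup `P` of `G` inside `M`. -/
theorem le_normalizer_commutator_sylow (hodd : Odd (Nat.card G)) [Fact p.Prime] {M : Subgroup G}
    (hM : Group.IsSolvable M) (hr : ∀ r : ℕ, r.Prime → PRankLE r 2 (fittingOf M))
    (P : Sylow p G) (hPM : (P : Subgroup G) ≤ M) :
    M ≤ Subgroup.normalizer
      ((⁅(P : Subgroup G), (P : Subgroup G)⁆ : Subgroup G) : Set G) := by
  set R := (P : Subgroup G) with hR
  set P' := ⁅R, R⁆ with hP'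
  have hMF := commutator_le_fittingOf hodd hM hr
  have hP'R : P' ≤ R := Subgroup.commutator_le_self R
  have hP'F : P' ≤ pCoreOf p M :=
    le_pCoreOf_of_le_fittingOf ((Subgroup.commutator_mono hPM hPM).trans hMF) (P.2.to_le hP'R)
  have hNR : R ≤ Subgroup.normalizer (P' : Set G) :=
    Coprime.le_normalizer_commutator Subgroup.le_normalizer Subgroup.le_normalizer
  have hF : fittingOf M ≤ Subgroup.normalizer (P' : Set G) := by
    refine fittingOf_le_of_forall fun r hr' => ?_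
    have : Fact r.Prime := ⟨hr'⟩
    by_cases hrp : r = p
    · subst hrp
      refine le_trans ?_ hNR
      obtain ⟨s, hs⟩ : ∃ s : Sylow r M, (s : Subgroup M).map M.subtype = R :=
        ⟨P.subtype hPM, by rw [Sylow.coe_subtype, Subgroup.map_subgroupOf_eq_of_le hPM]⟩
      exact hs ▸ Subgroup.map_mono (Cores.pCore_le_sylow s)
    · refine le_trans ?_ (Subgroup.centralizer_le_normalizer _)
      refine le_trans ?_ (Subgroup.centralizer_le hP'F)
      exact le_centralizer_pCoreOf hrp (pCoreOf_le r M) (pCoreOf_le p M)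
  -- Frattini in `M`
  set N : Subgroup M := R.subgroupOf M ⊔ fittingSubgroup M with hN
  have hNn : N.Normal := by
    refine Subgroup.Normal.of_commutator_le M (le_sup_of_le_right ?_)
    intro x hx
    obtain ⟨y, hy, e⟩ := hMF (by
      rw [← Subgroup.map_subtype_commutator]; exact Subgroup.mem_map_of_mem M.subtype hx)
    rwa [← Subtype.ext (show (y : G) = x from e)]
  have hPN : R.subgroupOf M ≤ N := le_sup_left
  have hPN' : ((P.subtype hPM : Sylow p M) : Subgroup M) ≤ N := (Sylow.coe_subtype P hPM).le.trans hPN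
  have h2 := Sylow.normalizer_sup_eq_top ((P.subtype hPM).subtype hPN')
  rw [Sylow.coe_subtype (P.subtype hPM) hPN', Subgroup.map_subgroupOf_eq_of_le hPN'] at h2
  intro m hm
  have h3 : (⟨m, hm⟩ : M) ∈
      Subgroup.normalizer ((R.subgroupOf M : Subgroup M) : Set M) ⊔ N := by
    rw [show Subgroup.normalizer ((R.subgroupOf M : Subgroup M) : Set M) ⊔ N = ⊤ from h2]
    exact Subgroup.mem_top _
  suffices h4 : Subgroup.normalizer ((R.subgroupOf M : Subgroup M) : Set M) ⊔ N ≤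
      (Subgroup.normalizer (P' : Set G)).subgroupOf M from h4 h3
  refine sup_le (fun x hx => ?_) (sup_le (Subgroup.comap_mono hNR) fun x hx => ?_)
  · have hxR : (x : G) ∈ Subgroup.normalizer (R : Set G) := Coprime.mem_normalizer_of_forall fun y hy =>
      (Subgroup.mem_normalizer_iff.1 hx ⟨y, hPM hy⟩).1 hy
    exact (Coprime.le_normalizer_commutator (X := Subgroup.normalizer (R : Set G)) le_rfl le_rfl) hxR
  · exact hF (Subgroup.mem_map_of_mem M.subtype hx)

omit [Finite G] in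
theorem commutator_eq_top (hs : IsSimpleGroup G) (hna : ¬ IsMulCommutative G) :
    commutator G = ⊤ := by
  rcases hs.eq_bot_or_eq_top_of_normal (commutator G) inferInstance with e | e
  · exact absurd ⟨⟨fun a b => commutatorElement_eq_one_iff_mul_comm.1 (Subgroup.mem_bot.1
      (e ▸ Subgroup.commutator_mem_commutator (Subgroup.mem_top a) (Subgroup.mem_top b)))⟩⟩ hna
  · exact e

theorem ne_top_of_pGroup [Fact p.Prime] (hs : IsSimpleGroup G) (hna : ¬ IsMulCommutative G)
    {R : Subgroup G} (hR : IsPGroup p R) : R ≠ ⊤ := by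
  rintro rfl
  have hG : IsPGroup p G := hR.of_equiv Subgroup.topEquiv
  have : Nontrivial G := hs.toNontrivial
  exact (Subgroup.nontrivial_iff_ne_bot _).1 hG.center_nontrivial (center_eq_bot hs hna)

/-! ### The subgroup `Ω₁(Z₂(Q))` -/

theorem eq_of_le_cyclic {q : ℕ} [hq : Fact q.Prime] {T X : Subgroup G} (hT : IsCyclic T)
    (hexp : ∀ x ∈ T, x ^ q = 1) (hX : X ≤ T) (hX1 : X ≠ ⊥) : X = T := by
  obtain ⟨g, hg⟩ := IsCyclic.exists_generator (α := T)
  have hTc : Nat.card T ≤ q := by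
    rw [← orderOf_eq_card_of_forall_mem_zpowers hg]
    exact Nat.le_of_dvd hq.out.pos (orderOf_dvd_of_pow_eq_one (Subtype.ext (hexp g g.2)))
  obtain ⟨x, hx, hx1⟩ := (Subgroup.bot_or_exists_ne_one X).resolve_left hX1
  refine Subgroup.eq_of_le_of_card_ge hX (hTc.trans ?_)
  rw [← orderOf_eq_prime (hexp x (hX hx)) hx1, ← Nat.card_zpowers]
  exact Subgroup.card_le_of_le (Subgroup.zpowers_le.2 hx)

theorem elem_sup {A B : Subgroup G} (hA : IsElementaryAbelian p A) (hB : IsElementaryAbelian p B)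
    (h : A ≤ Subgroup.centralizer (B : Set G)) : IsElementaryAbelian p (A ⊔ B : Subgroup G) := by
  have hA' := Subgroup.le_centralizer_iff_isMulCommutative.2 hA.1
  have hB' := Subgroup.le_centralizer_iff_isMulCommutative.2 hB.1
  have h1 : A ⊔ B ≤ Subgroup.centralizer (A : Set G) := sup_le hA' (Subgroup.le_centralizer_iff.1 h)
  have h2 : A ⊔ B ≤ Subgroup.centralizer (B : Set G) := sup_le h hB'
  refine ⟨Subgroup.le_centralizer_iff_isMulCommutative.1 (Subgroup.le_centralizer_iff.1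
    (sup_le (Subgroup.le_centralizer_iff.1 h1) (Subgroup.le_centralizer_iff.1 h2))), fun x hx => ?_⟩
  obtain ⟨a, ha, b, hb, rfl⟩ := (Coprime.mem_sup_iff
    ((Subgroup.le_centralizer_iff.1 h).trans (Subgroup.centralizer_le_normalizer _))).1 hx
  rw [(show Commute a b from (Subgroup.mem_centralizer_iff.1 (h ha) b hb).symm).mul_pow,
    hA.2 a ha, hB.2 b hb, one_mul]

theorem exists_wide {q : ℕ} [hq : Fact q.Prime] (hq2 : q ≠ 2) {Q : Subgroup G}
    (hQ : IsPGroup q Q) (hQ3 : ¬ PRankLE q 2 Q) :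
    ∃ W : Subgroup G, W ≤ Q ∧ Subgroup.normalizer (Q : Set G) ≤ Subgroup.normalizer (W : Set G) ∧
      (∀ x ∈ W, x ^ q = 1) ∧
      (∃ U ≤ W, IsElementaryAbelian q U ∧ q ^ 2 ≤ Nat.card U) ∧
      (∀ E ≤ W, IsElementaryAbelian q E → q ^ 2 ≤ Nat.card E →
        ¬ PRankLE q 2 (Subgroup.centralizer (E : Set G))) ∧
      ∀ w ∈ W, ∃ E ≤ W, IsElementaryAbelian q E ∧ q ^ 2 ≤ Nat.card E ∧
        E ≤ Subgroup.centralizer ({w} : Set G) := by
  have := RankTwo.omegaZ2_characteristic (R := Q) hq2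
  set W₀ := RankTwo.omegaZ2 Q q with hW₀
  set W := W₀.map Q.subtype with hW
  set Z := (RankTwo.omegaZ Q q).map Q.subtype with hZ
  have hmem : ∀ {x : Q}, x ∈ W₀ ↔ x ∈ Subgroup.upperCentralSeries Q 2 ∧ x ^ q = 1 :=
    RankTwo.mem_omegaZ2 hq2
  have hZW : Z ≤ W := Subgroup.map_mono fun x hx => by
    obtain ⟨h1, h2⟩ := RankTwo.mem_omegaZ.1 hx
    exact hmem.2 ⟨RankTwo.mem_upperCentralSeries_two.2 fun g => by
      rw [PGroup.commutator_eq_one_of_mem_center h1 g]; exact one_mem _, h2⟩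
  have hZe : IsElementaryAbelian q Z := by
    refine elem_map _ ⟨⟨⟨fun a b => Subtype.ext ?_⟩⟩, fun x hx => (RankTwo.mem_omegaZ.1 hx).2⟩
    exact (Subgroup.mem_center_iff.1 (RankTwo.mem_omegaZ.1 a.2).1 b).symm
  have hZC : ∀ {X : Subgroup G}, X ≤ Q → X ≤ Subgroup.centralizer (Z : Set G) := fun {X} hX x hx =>
    Subgroup.mem_centralizer_iff.2 fun z hz => by
      obtain ⟨z', hz', rfl⟩ := hz
      exact congrArg Subtype.val
        (Subgroup.mem_center_iff.1 (RankTwo.mem_omegaZ.1 hz').1 ⟨x, hX hx⟩).symm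
  have hWQ : W ≤ Q := Subgroup.map_subtype_le _
  have hexp : ∀ x ∈ W, x ^ q = 1 := by
    rintro _ ⟨x, hx, rfl⟩
    rw [← map_pow, (hmem.1 hx).2, map_one]
  have hZbot : Z ≠ ⊥ := by
    rw [hZ, Ne, Subgroup.map_eq_bot_iff_of_injective _ Q.subtype_injective]
    have : Nontrivial Q := by
      rw [Subgroup.nontrivial_iff_ne_bot]
      rintro rfl
      refine hQ3 fun A _ _ => le_trans ?_ (Nat.one_le_pow _ _ hq.out.pos)
      exact Nat.le_of_dvd Nat.one_pos (by
        have := Subgroup.card_subgroup_dvd_card A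
        rwa [Subgroup.card_bot] at this)
    have := hQ.center_nontrivial
    obtain ⟨z, hz⟩ := exists_prime_orderOf_dvd_card' (G := Subgroup.center Q) q (by
      obtain ⟨n, hn, hc⟩ := (hQ.to_subgroup (Subgroup.center Q)).nontrivial_iff_card.1 inferInstance
      exact hc ▸ dvd_pow_self q (Nat.pos_iff_ne_zero.1 hn))
    intro h
    have hzm : (z : Q) ∈ RankTwo.omegaZ Q q := RankTwo.mem_omegaZ.2
      ⟨z.2, by rw [← SubgroupClass.coe_pow, ← hz, pow_orderOf_eq_one]; rfl⟩
    rw [h, Subgroup.mem_bot] at hzm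
    rw [← Subgroup.orderOf_coe, hzm, orderOf_one] at hz
    exact hq.out.one_lt.ne hz
  obtain ⟨E₃, hE₃Q, hE₃, hE₃c⟩ := exists_elem_of_not_pRankLE hQ3
  have h32 : q ^ 2 < q ^ 3 := Nat.pow_lt_pow_right hq.out.one_lt (by norm_num)
  -- a normal `E_{q^2}` inside `W`
  obtain ⟨U₀, hU₀n, hU₀e, hU₀c⟩ := PNormal.exists_normal_card_sq hQ (W := E₃.subgroupOf Q)
    (elem_subgroupOf hE₃) (by rw [Cores.card_subgroupOf hE₃Q]; exact hE₃c)
  have hU₀W : U₀ ≤ W₀ := by
    intro u hu
    refine hmem.2 ⟨RankTwo.mem_upperCentralSeries_two.2 fun g => ?_, hU₀e.2 u hu⟩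
    by_cases hUc : U₀ ≤ Subgroup.center Q
    · rw [PGroup.commutator_eq_one_of_mem_center (hUc hu) g]
      exact one_mem _
    have hne : U₀ ≠ ⊥ := by
      intro h
      rw [h, Subgroup.card_bot] at hU₀c
      exact absurd hU₀c.symm (Nat.one_lt_pow two_ne_zero hq.out.one_lt).ne'
    have := hQ.isNilpotent
    have hi := Cores.inf_center_ne_bot U₀ hne
    have hlt : U₀ ⊓ Subgroup.center Q < U₀ :=
      lt_of_le_of_ne inf_le_left fun h => hUc (h.symm.le.trans inf_le_right)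
    have hcard : Nat.card U₀ ≤ q * Nat.card ↥(U₀ ⊓ Subgroup.center Q) := by
      rw [hU₀c, pow_two]
      refine Nat.mul_le_mul_left q ?_
      exact Nat.le_of_dvd Nat.card_pos
        (dvd_card_of_le hi ((hQ.to_subgroup U₀).to_le inf_le_left) le_rfl)
    rw [← commutatorElement_inv]
    exact inv_mem (PGroup.commutator_mem_of_card hQ hlt hcard hu g).2
  set U := U₀.map Q.subtype with hU
  have hUW : U ≤ W := Subgroup.map_mono hU₀W
  have hUe : IsElementaryAbelian q U := elem_map _ hU₀e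
  have hUc : q ^ 2 ≤ Nat.card U := by rw [hU, Cores.card_map_subtype, hU₀c]
  refine ⟨W, hWQ, Cores.normalizer_le_normalizer_map W₀, hexp, ⟨U, hUW, hUe, hUc⟩, ?_, ?_⟩
  · intro E hEW hE hEc
    rcases Nat.lt_or_ge (q ^ 2) (Nat.card E) with hlt | hle
    · refine fun h => absurd (card_le_of_pRankLE h ?_ hE) (not_le_of_gt hlt)
      exact Subgroup.le_centralizer_iff_isMulCommutative.2 hE.1
    have hE' := elem_sup hE hZe (hZC (hEW.trans hWQ))
    have hEC : E ⊔ Z ≤ Subgroup.centralizer (E : Set G) :=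
      sup_le (Subgroup.le_centralizer_iff_isMulCommutative.2 hE.1)
        (Subgroup.le_centralizer_iff.1 (hZC (hEW.trans hWQ)))
    by_cases hZE : Z ≤ E
    swap
    · refine fun h => absurd (card_le_of_pRankLE h hEC hE') (not_le_of_gt ?_)
      refine lt_of_le_of_lt hEc (lt_of_le_of_ne (Subgroup.card_le_of_le le_sup_left) fun he => ?_)
      exact hZE (le_sup_right.trans (Subgroup.eq_of_le_of_card_ge le_sup_left he.ge).ge)
    have hEn : Q ≤ Subgroup.normalizer (E : Set G) := by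
      intro g hg
      refine Coprime.mem_normalizer_of_forall fun e he => ?_
      obtain ⟨e', he', hee⟩ := hEW he
      have h1 := RankTwo.commutator_mem_omegaZ hq2 he' ⟨g, hg⟩
      have h2 : ⁅e, g⁆ ∈ E := hZE ⟨_, h1, by rw [← hee, map_commutatorElement]; rfl⟩
      have : g * e * g⁻¹ = ⁅e, g⁆⁻¹ * e := by rw [commutatorElement_def]; group
      rw [this]
      exact mul_mem (inv_mem h2) he
    have hX := sq_le_inf_centralizer hQ (hEW.trans hWQ) hEn hE (le_antisymm hle hEc) hE₃Q hE₃c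
    set X := E₃ ⊓ Subgroup.centralizer (E : Set G) with hXdef
    have hXe : IsElementaryAbelian q X := elem_mono hE₃ inf_le_left
    have hXC : X ≤ Subgroup.centralizer (E : Set G) := inf_le_right
    have hXE' := elem_sup hXe hE hXC
    intro h
    have h1 := card_le_of_pRankLE h
      (sup_le hXC (Subgroup.le_centralizer_iff_isMulCommutative.2 hE.1)) hXE'
    have h2 : E = X ⊔ E := Subgroup.eq_of_le_of_card_ge le_sup_right (h1.trans hEc)
    have h3 : X = E := Subgroup.eq_of_le_of_card_ge (h2 ▸ le_sup_left) (hle.trans hX)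
    have h4 := card_le_of_pRankLE h (E := E₃) (fun x hx => Subgroup.mem_centralizer_iff.2 fun e he =>
      Signalizer.commute_of_isMulCommutative hE₃.1 ((h3.ge.trans inf_le_left) he) hx) hE₃
    exact absurd (hE₃c.trans h4) (not_le_of_gt h32)
  · intro w hw
    have hwQ := hWQ hw
    have hwe : IsElementaryAbelian q (Subgroup.zpowers w) := by
      refine ⟨inferInstance, ?_⟩
      rintro _ ⟨i, rfl⟩
      rw [← zpow_natCast, ← zpow_mul, mul_comm, zpow_mul, zpow_natCast, hexp w hw, one_zpow]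
    have hwQ' : Subgroup.zpowers w ≤ Q := Subgroup.zpowers_le.2 hwQ
    have hww : Subgroup.zpowers w ≤ Subgroup.centralizer ({w} : Set G) :=
      Subgroup.zpowers_le.2 (Subgroup.mem_centralizer_singleton_iff.2 rfl)
    by_cases hwZ : w ∈ Z
    · refine ⟨U, hUW, hUe, hUc, fun u hu => Subgroup.mem_centralizer_singleton_iff.2 ?_⟩
      exact (Subgroup.mem_centralizer_iff.1 (hZC (hUW.trans hWQ) hu) w hwZ).symm
    · refine ⟨Z ⊔ Subgroup.zpowers w, sup_le hZW (Subgroup.zpowers_le.2 hw),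
        elem_sup hZe hwe (Subgroup.le_centralizer_iff.1 (hZC hwQ')), ?_,
        sup_le (fun z hz => Subgroup.mem_centralizer_singleton_iff.2
          (Subgroup.mem_centralizer_iff.1 (hZC hwQ' (Subgroup.mem_zpowers w)) z hz)) hww⟩
      obtain ⟨j, hj⟩ := (Signalizer.isPGroup_of_elemAb
        (elem_sup hZe hwe (Subgroup.le_centralizer_iff.1 (hZC hwQ')))).exists_card_eq
      obtain ⟨i, hi⟩ := (Signalizer.isPGroup_of_elemAb hZe).exists_card_eq
      have hi0 : i ≠ 0 := fun h0 => hZbot (Subgroup.eq_bot_of_card_eq _ (by rw [hi, h0, pow_zero]))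
      have hlt : Nat.card Z < Nat.card ↥(Z ⊔ Subgroup.zpowers w) :=
        lt_of_le_of_ne (Subgroup.card_le_of_le le_sup_left) fun he => hwZ
          ((Subgroup.eq_of_le_of_card_ge le_sup_left he.ge).ge
            (Subgroup.mem_sup_right (Subgroup.mem_zpowers w)))
      rw [hi, hj] at hlt
      have := (Nat.pow_lt_pow_iff_right hq.out.one_lt).1 hlt
      rw [hj]
      exact Nat.pow_le_pow_right hq.out.pos (by omega)

/-! ### Owners -/

/-- A maximal `L ⊇ A` with a noncyclic normal `q`-subgroup `W` of exponent `q` whose noncyclic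
subgroups and centralisers of elements belong to `L` alone. -/
structure Owner (p : ℕ) (A L W : Subgroup G) (q : ℕ) : Prop where
  ne : q ≠ p
  coatom : IsCoatom L
  le_L : A ≤ L
  prime : q.Prime
  W_le : W ≤ L
  normal : L ≤ Subgroup.normalizer (W : Set G)
  exp : ∀ x ∈ W, x ^ q = 1
  not_cyclic : ¬ IsCyclic W
  uniq : ∀ T : Subgroup G, T ≤ W → ¬ IsCyclic T → ∀ N : Subgroup G, IsCoatom N → T ≤ N → N = L
  cent : ∀ w ∈ W, w ≠ 1 → Subgroup.centralizer ({w} : Set G) ≤ L

theorem exists_owner (hF : Facts G) {A L : Subgroup G} (hL : IsCoatom L) (hAL : A ≤ L) {q : ℕ}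
    [hq : Fact q.Prime] (hqp : q ≠ p) (hr : ¬ PRankLE q 2 (fittingOf L)) :
    ∃ W : Subgroup G, Owner p A L W q := by
  obtain ⟨E, hEF, hE, hE3⟩ := exists_elem_of_not_pRankLE hr
  have hq2 : q ≠ 2 := ne_two_of_pow_le hF.hodd (by omega) hE hE3
  have hEU : InUniqueMaximal E := unique_of_fitting_rank_three hF hL hr
    (Signalizer.isPGroup_of_elemAb hE) hE.1 (not_pRankLE_of_le le_rfl hE hE3)
  have hEQ : E ≤ pCoreOf q L := le_pCoreOf_of_le_fittingOf hEF (Signalizer.isPGroup_of_elemAb hE)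
  obtain ⟨W, hWQ, hNW, hexp, ⟨U, hUW, hU, hUc⟩, hC, hw⟩ :=
    exists_wide hq2 (isPGroup_pCoreOf q L) (not_pRankLE_of_le hEQ hE hE3)
  have hWp : IsPGroup q W := (isPGroup_pCoreOf q L).to_le hWQ
  have hWL : W ≤ L := hWQ.trans (pCoreOf_le q L)
  have huniq : ∀ T : Subgroup G, T ≤ W → ¬ IsCyclic T → ∀ N : Subgroup G, IsCoatom N →
      T ≤ N → N = L := by
    intro T hTW hT N hN hTN
    obtain ⟨T₂, hT₂, hT₂e, hT₂c⟩ := exists_elem_sq_of_not_isCyclic hq2 (hWp.to_le hTW) hT
    have hT₂U : InUniqueMaximal T₂ := unique_of_rank_three hF hE.1 (not_pRankLE_of_le le_rfl hE hE3)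
      hEU (Signalizer.isPGroup_of_elemAb hT₂e) (not_isCyclic_of_sq_le le_rfl hT₂e hT₂c)
      (hC T₂ (hT₂.trans hTW) hT₂e hT₂c)
    exact unique_eq hT₂U hN (hT₂.trans hTN) hL ((hT₂.trans hTW).trans hWL)
  refine ⟨W, hqp, hL, hAL, hq.out, hWL,
    ((le_normalizer_pCoreOf q L).trans hNW), hexp, not_isCyclic_of_sq_le hUW hU hUc, huniq,
    fun w hwW hw1 => ?_⟩
  obtain ⟨E₂, hE₂, hE₂e, hE₂c, hE₂w⟩ := hw w hwW
  obtain ⟨N, hN, hCN⟩ := exists_coatom_ge
    (centralizer_ne_top hF.hs hF.hna (Set.mem_singleton w) hw1)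
  exact hCN.trans (huniq E₂ hE₂ (not_isCyclic_of_sq_le le_rfl hE₂e hE₂c) N hN
    (hE₂w.trans hCN)).le

section Main

variable [hp : Fact p.Prime] {A B : Subgroup G}

/-- What the proof uses about `A ∈ SCN₃(P)`, with `B ≤ A` elementary of order at least `p ^ 3`. -/
structure Setup (P : Sylow p G) (A B : Subgroup G) : Prop where
  facts : Facts G
  scn : IsSCN (P : Subgroup G) A
  hTH : TransitivityHypothesis A
  B_le : B ≤ A
  B_elem : IsElementaryAbelian p B
  B_card : p ^ 3 ≤ Nat.card B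
  small : ∀ M : Subgroup G, IsCoatom M → PRankLE p 2 (fittingOf M)

variable {P : Sylow p G}

theorem Setup.isPGroup (h : Setup P A B) : IsPGroup p A := P.2.to_le h.scn.1

theorem Setup.pi (h : Setup P A B) : primesNotDvd (Nat.card A) = primesNotDvd p :=
  primesNotDvd_card_of_isPGroup h.isPGroup h.hTH.1

theorem Setup.centralizer_le (h : Setup P A B) {c : G} (hc : c ∈ B) :
    A ≤ Subgroup.centralizer ({c} : Set G) := fun _ hx =>
  Subgroup.mem_centralizer_singleton_iff.2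
    (Signalizer.commute_of_isMulCommutative (scn_isMulCommutative h.scn) hx (h.B_le hc))

theorem Setup.transitive (h : Setup P A B) {q : ℕ} (hq : q.Prime) (hqp : q ≠ p)
    {Q₁ Q₂ : Subgroup G} (h₁ : Q₁ ∈ maxInvSubgroups ⊤ A {q})
    (h₂ : Q₂ ∈ maxInvSubgroups ⊤ A {q}) : ∃ k ∈ coreK A, Q₂ = MulAut.conj k • Q₁ := by
  refine transitive_of_rank_three h.hTH h.facts.hsol h.facts.hs hq ?_ h.facts.hna h.B_elem h.B_card
    (le_inf h.B_le (h.B_le.trans (scn_le_centralizer h.scn))) h₁ h₂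
  intro hd
  exact hqp (Set.mem_singleton_iff.1 (pi_of_isPGroup h.isPGroup q hq hd))

theorem Owner.isPGroup {L W : Subgroup G} {q : ℕ} (o : Owner p A L W q) : IsPGroup q W :=
  fun x => ⟨1, Subtype.ext (by rw [pow_one]; exact o.exp x x.2)⟩

theorem Owner.pi' {L W : Subgroup G} {q : ℕ} (o : Owner p A L W q) {Y : Subgroup G}
    (hY : IsPi {q} Y) : IsPi (primesNotDvd p) Y := fun r hr hd => by
  rw [Set.mem_singleton_iff.1 (hY r hr hd)]
  exact mem_primesNotDvd_prime.2 ⟨o.prime, o.ne⟩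

theorem Owner.ne_bot {L W : Subgroup G} {q : ℕ} (o : Owner p A L W q) : W ≠ ⊥ := fun h =>
  o.not_cyclic (h ▸ inferInstance)

theorem Owner.not_dvd {L W : Subgroup G} {q : ℕ} (o : Owner p A L W q) : ¬ p ∣ Nat.card W := by
  have : Fact q.Prime := ⟨o.prime⟩
  exact fun h => o.ne (Set.mem_singleton_iff.1 (pi_of_isPGroup o.isPGroup p hp.out h)).symm

/-- Some element of `B` has centraliser inside the owner. -/
theorem Owner.exists_inner (h : Setup P A B) {L W : Subgroup G} {q : ℕ} (o : Owner p A L W q) :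
    (∃ H : Subgroup G, H ≤ B ∧ p ^ 2 ≤ Nat.card H ∧
        ∀ b ∈ H, b ≠ 1 → Subgroup.centralizer ({b} : Set G) ≤ L) ∨
      ∃ H₁ H₂ : Subgroup G, ∃ c ∈ B, c ≠ 1 ∧ Subgroup.centralizer ({c} : Set G) ≤ L ∧
        H₁ ≤ B ∧ H₂ ≤ B ∧ p ^ 2 ≤ Nat.card H₁ ∧ p ^ 2 ≤ Nat.card H₂ ∧
        W ⊓ Subgroup.centralizer (H₁ : Set G) ≠ ⊥ ∧ W ⊓ Subgroup.centralizer (H₂ : Set G) ≠ ⊥ ∧
        W ⊓ Subgroup.centralizer (H₁ : Set G) ≠ W ⊓ Subgroup.centralizer (H₂ : Set G) ∧
        IsCyclic ↥(W ⊓ Subgroup.centralizer (H₁ : Set G)) ∧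
        IsCyclic ↥(W ⊓ Subgroup.centralizer (H₂ : Set G)) := by
  have : Fact q.Prime := ⟨o.prime⟩
  have hB1 : B ≠ ⊥ := Signalizer.ne_bot_of_pow_le three_ne_zero h.B_card
  have hBW : B ≤ Subgroup.normalizer (W : Set G) := (h.B_le.trans o.le_L).trans o.normal
  have hH2 : ∀ {H : Subgroup G}, H ≤ B → H.relIndex B = p → p ^ 2 ≤ Nat.card H := fun hH hi => by
    have h1 := h.B_card
    rw [← Signalizer.card_hyperplane_mul hH hi, pow_succ] at h1
    exact Nat.le_of_mul_le_mul_right h1 hp.out.pos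
  by_cases hnc : ∃ H : Subgroup G, H ≤ B ∧ H.relIndex B = p ∧
      ¬ IsCyclic ↥(W ⊓ Subgroup.centralizer (H : Set G))
  · obtain ⟨H, hH, hi, hncyc⟩ := hnc
    refine Or.inl ⟨H, hH, hH2 hH hi, fun b hb hb1 => ?_⟩
    obtain ⟨N, hN, hCN⟩ := exists_coatom_ge
      (centralizer_ne_top h.facts.hs h.facts.hna (Set.mem_singleton b) hb1)
    exact hCN.trans (o.uniq _ inf_le_left hncyc N hN
      ((inf_le_right.trans (Signalizer.centralizer_le_singleton hb)).trans hCN)).le
  push Not at hnc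
  right
  obtain ⟨H₁, hH₁, hi₁, hne₁⟩ : ∃ H : Subgroup G, H ≤ B ∧ H.relIndex B = p ∧
      W ⊓ Subgroup.centralizer (H : Set G) ≠ ⊥ := by
    by_contra hcon
    push Not at hcon
    exact o.ne_bot (le_bot_iff.1 (Signalizer.le_of_hyperplanes h.B_elem hB1 ⊥ W o.not_dvd hBW
      fun H hH hi => (hcon H hH hi).le))
  obtain ⟨H₂, hH₂, hi₂, hne₂⟩ : ∃ H : Subgroup G, H ≤ B ∧ H.relIndex B = p ∧
      ¬ W ⊓ Subgroup.centralizer (H : Set G) ≤ W ⊓ Subgroup.centralizer (H₁ : Set G) := by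
    by_contra hcon
    push Not at hcon
    have := hnc H₁ hH₁ hi₁
    exact o.not_cyclic (Subgroup.isCyclic_of_le (Signalizer.le_of_hyperplanes h.B_elem hB1 _ W
      o.not_dvd hBW fun H hH hi => hcon H hH hi))
  have hW2 : W ⊓ Subgroup.centralizer (H₂ : Set G) ≠ ⊥ := fun h0 => hne₂ (h0 ▸ bot_le)
  obtain ⟨c, hc, hc1⟩ : ∃ c ∈ H₁ ⊓ H₂, c ≠ 1 := by
    by_contra hcon
    push Not at hcon
    have hb : H₁ ⊓ H₂ = ⊥ := (Subgroup.eq_bot_iff_forall _).2 hcon
    have h' := Subgroup.relIndex_inf_le (H := H₁) (K := H₂) (L := B)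
    rw [hi₁, hi₂, hb, Subgroup.relIndex_bot_left] at h'
    have : p * p < p ^ 3 := by
      rw [← pow_two]; exact Nat.pow_lt_pow_right hp.out.one_lt (by norm_num)
    exact absurd (h.B_card.trans h') (not_le_of_gt this)
  refine ⟨H₁, H₂, c, hH₁ hc.1, hc1, ?_, hH₁, hH₂, hH2 hH₁ hi₁, hH2 hH₂ hi₂, hne₁, hW2,
    fun he => hne₂ he.ge, hnc H₁ hH₁ hi₁, hnc H₂ hH₂ hi₂⟩
  obtain ⟨N, hN, hCN⟩ := exists_coatom_ge
    (centralizer_ne_top h.facts.hs h.facts.hna (Set.mem_singleton c) hc1)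
  refine hCN.trans (o.uniq (W ⊓ Subgroup.centralizer ({c} : Set G)) inf_le_left ?_ N hN
    (inf_le_right.trans hCN)).le
  intro hcyc
  have e₁ := eq_of_le_cyclic hcyc (fun x hx => o.exp x hx.1)
    (inf_le_inf_left W (Signalizer.centralizer_le_singleton hc.1)) hne₁
  have e₂ := eq_of_le_cyclic hcyc (fun x hx => o.exp x hx.1)
    (inf_le_inf_left W (Signalizer.centralizer_le_singleton hc.2)) hW2
  exact hne₂ (e₂.trans e₁.symm).le

theorem Owner.exists_centralizer_le (h : Setup P A B) {L W : Subgroup G} {q : ℕ}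
    (o : Owner p A L W q) : ∃ c ∈ B, c ≠ 1 ∧ Subgroup.centralizer ({c} : Set G) ≤ L := by
  rcases o.exists_inner h with ⟨H, hH, hHc, hHL⟩ | ⟨-, -, c, hc, hc1, hcL, -⟩
  · obtain ⟨b, hb, hb1⟩ := (Subgroup.bot_or_exists_ne_one H).resolve_left
      (Signalizer.ne_bot_of_pow_le two_ne_zero hHc)
    exact ⟨b, hH hb, hb1, hHL b hb hb1⟩
  · exact ⟨c, hc, hc1, hcL⟩

theorem Owner.coreK_le (h : Setup P A B) {L W : Subgroup G} {q : ℕ} (o : Owner p A L W q) :
    coreK A ≤ L := by
  obtain ⟨c, hc, -, hcL⟩ := o.exists_centralizer_le h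
  exact ((piCoreOf_le _ _).trans (Signalizer.centralizer_le_singleton (h.B_le hc))).trans hcL

/-- Every `A`-invariant `q`-subgroup lies in the owner, and so does `N(A)`. -/
theorem Owner.inv_le (h : Setup P A B) {L W : Subgroup G} {q : ℕ} (o : Owner p A L W q) :
    (∀ Y : Subgroup G, IsPi {q} Y → A ≤ Subgroup.normalizer (Y : Set G) → Y ≤ L) ∧
      Subgroup.normalizer (A : Set G) ≤ L := by
  have : Fact q.Prime := ⟨o.prime⟩
  obtain ⟨R, hR, hWR⟩ := exists_max_ge (pi_of_isPGroup o.isPGroup) (o.le_L.trans o.normal)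
  have hR1 : R ≠ ⊥ := ne_bot_of_le_ne_bot o.ne_bot hWR
  have hRtop : R ≠ ⊤ := ne_top_of_pi h.hTH (h.pi.symm ▸ o.pi' hR.1.2.1)
  obtain ⟨N, hN, hNN⟩ := exists_coatom_ge (normalizer_ne_top h.facts.hs hR1 hRtop)
  have hRL : R ≤ N := Subgroup.le_normalizer.trans hNN
  obtain rfl : N = L := o.uniq W le_rfl o.not_cyclic N hN (hWR.trans hRL)
  refine ⟨fun Y hY hAY => ?_, ?_⟩
  · obtain ⟨S, hS, hYS⟩ := exists_max_ge hY hAY
    obtain ⟨k, hk, rfl⟩ := h.transitive o.prime o.ne hR hS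
    refine hYS.trans fun x hx => ?_
    rw [Coprime.mem_conj] at hx
    have := mul_mem (mul_mem (o.coreK_le h hk) (hRL hx)) (inv_mem (o.coreK_le h hk))
    simpa [mul_assoc] using this
  · rw [normalizer_eq_sup (q := q) (A := A) (fun Q₁ h₁ Q₂ h₂ => h.transitive o.prime o.ne h₁ h₂) hR]
    exact sup_le (o.coreK_le h) (inf_le_right.trans hNN)

theorem Setup.invariant_le (h : Setup P A B) {M H : Subgroup G} (hM : IsCoatom M) (hH : H ≤ B)
    (hHc : p ^ 2 ≤ Nat.card H)
    (hθ : ∀ b ∈ H, b ≠ 1 → piCoreOf (primesNotDvd p) (Subgroup.centralizer ({b} : Set G)) ≤ M)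
    (hAM : A ≤ M) : InUniqueMaximal A := by
  refine criterion h.facts.hs h.facts.hna h.facts.hsol h.facts.hodd (h.facts.zl p)
    (h.facts.rankTwo p) (h.facts.scnTrans p) (h.facts.scn p) hM hAM h.isPGroup h.hTH.1
    fun Y hY hAY => ?_
  refine Signalizer.le_of_elements (elem_mono h.B_elem hH) hHc M Y
    (fun hd => (hY p hp.out hd).2 dvd_rfl) (((hH.trans h.B_le)).trans hAY) fun b hb hb1 => ?_
  refine le_trans ?_ (hθ b hb hb1)
  have hCA := h.centralizer_le (hH hb)
  rw [← h.pi, ← h.hTH.2.2 _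
    (centralizer_ne_top h.facts.hs h.facts.hna (Set.mem_singleton b) hb1) hCA]
  refine le_sSup ⟨inf_le_right, fun r hr hd =>
    h.pi.symm ▸ hY r hr (hd.trans (Subgroup.card_dvd_of_le inf_le_left)), ?_⟩
  exact Signalizer.le_normalizer_inf hAY (hCA.trans Subgroup.le_normalizer)

/-- If `O_{p'}(C(b))` leaves `L`, then some other owner contains `C(b)`. -/
theorem Owner.other (h : Setup P A B) {L W : Subgroup G} {q : ℕ} (o : Owner p A L W q)
    {H : Subgroup G} (hH : H ≤ B) (hX : W ⊓ Subgroup.centralizer (H : Set G) ≠ ⊥)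
    (hXcyc : IsCyclic ↥(W ⊓ Subgroup.centralizer (H : Set G)))
    (hXA : ¬ W ⊓ Subgroup.centralizer (H : Set G) ≤ Subgroup.centralizer (A : Set G))
    {b : G} (hb : b ∈ H) (hb1 : b ≠ 1)
    (hθ : ¬ piCoreOf (primesNotDvd p) (Subgroup.centralizer ({b} : Set G)) ≤ L) :
    ∃ M V : Subgroup G, ∃ t : ℕ, Owner p A M V t ∧ M ≠ L ∧
      W ⊓ Subgroup.centralizer (H : Set G) ≤ M := by
  have : Fact q.Prime := ⟨o.prime⟩
  set X := W ⊓ Subgroup.centralizer (H : Set G) with hXdef
  obtain ⟨M, hM, hCM⟩ := exists_coatom_ge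
    (centralizer_ne_top h.facts.hs h.facts.hna (Set.mem_singleton b) hb1)
  have hCA : A ≤ Subgroup.centralizer ({b} : Set G) := h.centralizer_le (hH hb)
  have hAM : A ≤ M := hCA.trans hCM
  have hXM : X ≤ M := (inf_le_right.trans (Signalizer.centralizer_le_singleton hb)).trans hCM
  have hne : M ≠ L := fun he => hθ (((piCoreOf_le _ _).trans hCM).trans he.le)
  by_cases hheavy : ∀ r : ℕ, r.Prime → PRankLE r 2 (fittingOf M)
  swap
  · push Not at hheavy
    obtain ⟨t, ht, hrt⟩ := hheavy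
    have : Fact t.Prime := ⟨ht⟩
    obtain ⟨V, oV⟩ := exists_owner (p := p) h.facts hM hAM
      (fun he => hrt (by rw [he]; exact h.small M hM)) hrt
    exact ⟨M, V, t, oV, hne, hXM⟩
  exfalso
  have hMF := commutator_le_fittingOf h.facts.hodd (h.facts.hsol M hM.1) hheavy
  have hAX : A ≤ Subgroup.normalizer (X : Set G) :=
    Signalizer.le_normalizer_inf (o.le_L.trans o.normal)
      ((Subgroup.le_centralizer_iff.1 (fun x hx => Subgroup.mem_centralizer_iff.2 fun a ha =>
        Signalizer.commute_of_isMulCommutative (scn_isMulCommutative h.scn) ha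
          (h.B_le (hH hx)))).trans Subgroup.le_normalizer)
  have hXq : IsPGroup q X := o.isPGroup.to_le inf_le_left
  -- `X = [X, A]` lies in `O_q(M)`
  have hXQ : X ≤ pCoreOf q M := by
    have hle : ⁅X, A⁆ ≤ X := Subgroup.le_normalizer_iff_commutator_le_left.1 hAX
    have hne' : ⁅X, A⁆ ≠ ⊥ := fun h0 =>
      hXA (Subgroup.commutator_eq_bot_iff_le_centralizer.1 h0)
    rw [← eq_of_le_cyclic hXcyc (fun x hx => o.exp x hx.1) hle hne']
    exact le_pCoreOf_of_le_fittingOf ((Subgroup.commutator_mono hXM hAM).trans hMF)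
      (hXq.to_le hle)
  obtain ⟨x, hx, hx1⟩ := (Subgroup.bot_or_exists_ne_one X).resolve_left hX
  have hOr : ∀ r : ℕ, r.Prime → r ≠ p → pCoreOf r M ≤ L := by
    intro r hr hrp
    have : Fact r.Prime := ⟨hr⟩
    by_cases hrq : r = q
    · subst hrq
      exact (o.inv_le h).1 _ (pi_of_isPGroup (isPGroup_pCoreOf r M))
        (hAM.trans (le_normalizer_pCoreOf r M))
    · refine le_trans ?_ (o.cent x hx.1 hx1)
      exact (le_centralizer_pCoreOf hrq (pCoreOf_le r M) (pCoreOf_le q M)).trans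
        (Signalizer.centralizer_le_singleton (hXQ hx))
  set Y := piCoreOf (primesNotDvd p) (Subgroup.centralizer ({b} : Set G)) with hYdef
  have hAY : A ≤ Subgroup.normalizer (Y : Set G) := hCA.trans (le_normalizer_piCoreOf _ _)
  have hcop : (Nat.card A).Coprime (Nat.card Y) :=
    coprime_of_primesNotDvd (h.pi.symm ▸ piCoreOf_pi _ _)
  have hAsol : Group.IsSolvable A := Coprime.isSolvable_of_isPGroup h.isPGroup
  refine hθ ?_
  rw [← Coprime.commutator_sup_centralizer hAY hcop (Or.inl hAsol)]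
  obtain ⟨c, hc, -, hcL⟩ := o.exists_centralizer_le h
  refine sup_le ?_ (inf_le_right.trans
    ((Signalizer.centralizer_le_singleton (h.B_le hc)).trans hcL))
  have hle : ⁅Y, A⁆ ≤ Y := Subgroup.le_normalizer_iff_commutator_le_left.1 hAY
  refine Coprime.le_of_invariant_sylow_le
    (Subgroup.normalizer_commutator_ge_right Y A)
    (hcop.coprime_dvd_right (Subgroup.card_dvd_of_le hle)) (Or.inl hAsol)
    fun r Q hr hQ hQr _ => ?_
  have : Fact r.Prime := ⟨hr⟩
  by_cases hQ1 : Q = ⊥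
  · rw [hQ1]; exact bot_le
  have hrp : r ≠ p := (mem_primesNotDvd_prime.1
    (piCoreOf_pi _ _ r hr (dvd_card_of_le hQ1 hQr (hQ.trans hle)))).2
  exact (le_pCoreOf_of_le_fittingOf (hQ.trans ((Subgroup.commutator_mono
    ((piCoreOf_le _ _).trans hCM) hAM).trans hMF)) hQr).trans (hOr r hr hrp)

theorem Setup.commutator_normalizer_ne_bot (h : Setup P A B) :
    ⁅Subgroup.normalizer (A : Set G), Subgroup.normalizer (A : Set G)⁆ ≠ ⊥ := by
  intro h0
  have hNC : Subgroup.normalizer (A : Set G) ≤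
      Subgroup.centralizer (Subgroup.normalizer (A : Set G) : Set G) :=
    Subgroup.commutator_eq_bot_iff_le_centralizer.1 h0
  have hPA : (P : Subgroup G) = A := le_antisymm
    ((le_inf le_rfl (h.scn.2.1.trans (hNC.trans (Subgroup.centralizer_le
      Subgroup.le_normalizer)))).trans h.scn.2.2.le) h.scn.1
  have : IsMulCommutative (P : Subgroup G) := hPA ▸ scn_isMulCommutative h.scn
  have h2 := Transfer.commutator_inf_eq_normalizer_commutator P
  rw [hPA, h0, bot_inf_eq] at h2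
  rw [commutator_eq_top h.facts.hs h.facts.hna, top_inf_eq] at h2
  exact h.hTH.1 h2

/-- A cyclic subgroup is centralised by the derived group of its normaliser. -/
theorem commutator_le_centralizer_cyclic {X N : Subgroup G} (hX : IsCyclic X)
    (hN : N ≤ Subgroup.normalizer (X : Set G)) : ⁅N, N⁆ ≤ Subgroup.centralizer (X : Set G) := by
  rw [Subgroup.commutator_le]
  intro a ha b hb
  obtain ⟨g, hg⟩ := IsCyclic.exists_generator (α := X)
  have hpow : ∀ {y : G}, y ∈ X → ∃ n : ℤ, y = (g : G) ^ n := fun {y} hy => by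
    obtain ⟨n, hn⟩ := Subgroup.mem_zpowers_iff.1 (hg ⟨y, hy⟩)
    exact ⟨n, by rw [← Subgroup.coe_zpow, hn]⟩
  obtain ⟨i, hi⟩ := hpow ((Subgroup.mem_normalizer_iff.1 (hN ha) _).1 g.2)
  obtain ⟨j, hj⟩ := hpow ((Subgroup.mem_normalizer_iff.1 (hN hb) _).1 g.2)
  refine Subgroup.mem_centralizer_iff.2 fun y hy => ?_
  obtain ⟨n, hn⟩ := hpow
    ((Subgroup.mem_normalizer_iff.1 (inv_mem (mul_mem (hN hb) (hN ha))) y).1 hy)
  have key : ∀ (c d : G) (k l : ℤ), c * g * c⁻¹ = (g : G) ^ k → d * g * d⁻¹ = (g : G) ^ l →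
      (c * d) * (g : G) ^ n * (c * d)⁻¹ = (g : G) ^ (k * l * n) := by
    intro c d k l hc hd
    calc (c * d) * (g : G) ^ n * (c * d)⁻¹ = c * (d * (g : G) ^ n * d⁻¹) * c⁻¹ := by group
      _ = (c * g * c⁻¹) ^ (l * n) := by rw [← conj_zpow, hd, ← zpow_mul, conj_zpow]
      _ = _ := by rw [hc, ← zpow_mul, mul_assoc]
  have hy' : y = (b * a) * (g : G) ^ n * (b * a)⁻¹ := by rw [← hn]; group
  have h1 : ⁅a, b⁆ * y * ⁅a, b⁆⁻¹ = y := by
    calc ⁅a, b⁆ * y * ⁅a, b⁆⁻¹ = (a * b) * (g : G) ^ n * (a * b)⁻¹ := by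
          rw [hy', commutatorElement_def]; group
      _ = y := by rw [hy', key a b i j hi hj, key b a j i hj hi, mul_comm i j]
  exact (mul_inv_eq_iff_eq_mul.1 h1).symm

/-- If neither line of an owner is inside it, the owner is the only maximal subgroup over
`C(N(A)')`. -/
theorem Owner.eq_of_two (h : Setup P A B) {L W : Subgroup G} {q : ℕ} (o : Owner p A L W q)
    {X₁ X₂ M₁ V₁ M₂ V₂ : Subgroup G} {t₁ t₂ : ℕ} (o₁ : Owner p A M₁ V₁ t₁) (hne₁ : M₁ ≠ L)
    (h₁ : X₁ ≤ W) (h₁' : X₁ ≤ M₁) (o₂ : Owner p A M₂ V₂ t₂) (hne₂ : M₂ ≠ L) (h₂ : X₂ ≤ W)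
    (h₂' : X₂ ≤ M₂) (hX₁ : X₁ ≠ ⊥) (hX₂ : X₂ ≠ ⊥) (hc₁ : IsCyclic X₁) (hc₂ : IsCyclic X₂)
    (hne : X₁ ≠ X₂) {N : Subgroup G} (hN : IsCoatom N)
    (hCN : Subgroup.centralizer
      ((⁅Subgroup.normalizer (A : Set G), Subgroup.normalizer (A : Set G)⁆ : Subgroup G) : Set G) ≤
        N) : N = L := by
  have : Fact q.Prime := ⟨o.prime⟩
  have key : ∀ {X M V : Subgroup G} {t : ℕ}, Owner p A M V t → M ≠ L → X ≤ W → X ≤ M → X ≠ ⊥ →
      IsCyclic X → X ≤ N := by
    intro X M V t oM hML hXW hXM hX1 hXc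
    have hcyc : IsCyclic ↥(W ⊓ M) := by
      by_contra hnc
      exact hML (o.uniq _ inf_le_left hnc M oM.coatom inf_le_right)
    have hXeq := eq_of_le_cyclic hcyc (fun x hx => o.exp x hx.1) (le_inf hXW hXM) hX1
    have hNX : Subgroup.normalizer (A : Set G) ≤ Subgroup.normalizer (X : Set G) := by
      rw [hXeq]
      exact Signalizer.le_normalizer_inf ((o.inv_le h).2.trans o.normal)
        ((oM.inv_le h).2.trans Subgroup.le_normalizer)
    exact (Subgroup.le_centralizer_iff.1 (commutator_le_centralizer_cyclic hXc hNX)).trans hCN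
  refine o.uniq (X₁ ⊔ X₂) (sup_le h₁ h₂) (fun hcyc => hne ?_) N hN
    (sup_le (key o₁ hne₁ h₁ h₁' hX₁ hc₁) (key o₂ hne₂ h₂ h₂' hX₂ hc₂))
  have hexp : ∀ x ∈ X₁ ⊔ X₂, x ^ q = 1 := fun x hx => o.exp x (sup_le h₁ h₂ hx)
  exact (eq_of_le_cyclic hcyc hexp le_sup_left hX₁).trans
    (eq_of_le_cyclic hcyc hexp le_sup_right hX₂).symm

/-- An owner either proves the theorem, or is unique over `C(N(A)')` and has a rival. -/
theorem Owner.cases (h : Setup P A B) {L W : Subgroup G} {q : ℕ} (o : Owner p A L W q) :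
    InUniqueMaximal A ∨
      ((∀ N : Subgroup G, IsCoatom N → Subgroup.centralizer
        ((⁅Subgroup.normalizer (A : Set G), Subgroup.normalizer (A : Set G)⁆ : Subgroup G) : Set G) ≤
          N → N = L) ∧
        ∃ M V : Subgroup G, ∃ t : ℕ, Owner p A M V t ∧ M ≠ L) := by
  have : Fact q.Prime := ⟨o.prime⟩
  rcases o.exists_inner h with ⟨H, hH, hHc, hHL⟩ |
    ⟨H₁, H₂, c, hc, hc1, hcL, hH₁, hH₂, hc₁, hc₂, hX₁, hX₂, hne, hcy₁, hcy₂⟩
  · exact Or.inl (h.invariant_le o.coatom hH hHc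
      (fun b hb hb1 => (piCoreOf_le _ _).trans (hHL b hb hb1)) o.le_L)
  by_cases hg₁ : ∀ b ∈ H₁, b ≠ 1 →
      piCoreOf (primesNotDvd p) (Subgroup.centralizer ({b} : Set G)) ≤ L
  · exact Or.inl (h.invariant_le o.coatom hH₁ hc₁ hg₁ o.le_L)
  by_cases hg₂ : ∀ b ∈ H₂, b ≠ 1 →
      piCoreOf (primesNotDvd p) (Subgroup.centralizer ({b} : Set G)) ≤ L
  · exact Or.inl (h.invariant_le o.coatom hH₂ hc₂ hg₂ o.le_L)
  push Not at hg₁ hg₂
  obtain ⟨b₁, hb₁, hb₁1, hθ₁⟩ := hg₁
  obtain ⟨b₂, hb₂, hb₂1, hθ₂⟩ := hg₂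
  have hXA : ∀ {H H' : Subgroup G}, H ≤ B → H' ≤ B →
      W ⊓ Subgroup.centralizer (H : Set G) ≠ ⊥ →
      IsCyclic ↥(W ⊓ Subgroup.centralizer (H' : Set G)) →
      W ⊓ Subgroup.centralizer (H : Set G) ≤ Subgroup.centralizer (A : Set G) →
      W ⊓ Subgroup.centralizer (H : Set G) = W ⊓ Subgroup.centralizer (H' : Set G) := by
    intro H H' hH hH' hX hcy hle
    exact eq_of_le_cyclic hcy (fun x hx => o.exp x hx.1)
      (le_inf inf_le_left (hle.trans (Subgroup.centralizer_le (hH'.trans h.B_le)))) hX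
  obtain ⟨M₁, V₁, t₁, o₁, hne₁, hle₁⟩ := o.other h hH₁ hX₁ hcy₁
    (fun hle => hne (hXA hH₁ hH₂ hX₁ hcy₂ hle)) hb₁ hb₁1 hθ₁
  obtain ⟨M₂, V₂, t₂, o₂, hne₂, hle₂⟩ := o.other h hH₂ hX₂ hcy₂
    (fun hle => hne (hXA hH₂ hH₁ hX₂ hcy₁ hle).symm) hb₂ hb₂1 hθ₂
  exact Or.inr ⟨fun N hN hCN => o.eq_of_two h o₁ hne₁ inf_le_left hle₁ o₂ hne₂ inf_le_left hle₂
    hX₁ hX₂ hcy₁ hcy₂ hne hN hCN, M₁, V₁, t₁, o₁, hne₁⟩

/-- The case without owners. -/
theorem Setup.unique_of_light (h : Setup P A B)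
    (hlight : ∀ M : Subgroup G, IsCoatom M → A ≤ M →
      ∀ r : ℕ, r.Prime → PRankLE r 2 (fittingOf M)) : InUniqueMaximal A := by
  set R := (P : Subgroup G) with hR
  have hPp : IsPGroup p R := P.2
  have hAR : A ≤ R := h.scn.1
  have hR1 : R ≠ ⊥ := ne_bot_of_le_ne_bot h.hTH.1 hAR
  have hRtop : R ≠ ⊤ := by
    intro htop
    refine ne_top_of_pGroup h.facts.hs h.facts.hna hPp htop
  set P' := ⁅R, R⁆ with hP'
  by_cases hab : P' = ⊥
  · -- `P` abelian: it lies in `F(M)` for `M ⊇ N(P)`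
    exfalso
    have hc : IsMulCommutative (P : Subgroup G) :=
      Subgroup.le_centralizer_iff_isMulCommutative.1
        (Subgroup.commutator_eq_bot_iff_le_centralizer.1 hab)
    obtain ⟨M, hM, hNM⟩ := exists_coatom_ge (normalizer_ne_top h.facts.hs hR1 hRtop)
    have hRM : R ≤ M := Subgroup.le_normalizer.trans hNM
    have h2 := Transfer.commutator_inf_eq_normalizer_commutator P
    rw [commutator_eq_top h.facts.hs h.facts.hna, top_inf_eq] at h2
    have hRF : R ≤ fittingOf M := h2.le.trans (inf_le_left.trans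
      ((Subgroup.commutator_mono hNM hNM).trans
        (commutator_le_fittingOf h.facts.hodd (h.facts.hsol M hM.1)
          (hlight M hM (hAR.trans hRM)))))
    exact not_pRankLE_of_le ((h.B_le.trans hAR).trans hRF) h.B_elem h.B_card (h.small M hM)
  have hP'R : P' ≤ R := Subgroup.commutator_le_self R
  have hP'top : P' ≠ ⊤ := fun e => hRtop (top_le_iff.1 (e ▸ hP'R))
  obtain ⟨M₀, hM₀, hNM₀⟩ := exists_coatom_ge (normalizer_ne_top h.facts.hs hab hP'top)
  have hRM₀ : R ≤ M₀ :=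
    (Coprime.le_normalizer_commutator Subgroup.le_normalizer Subgroup.le_normalizer).trans hNM₀
  have huniq : ∀ N : Subgroup G, IsCoatom N → R ≤ N → N = M₀ := fun N hN hRN =>
    ((hN.le_iff.1 ((le_normalizer_commutator_sylow h.facts.hodd (h.facts.hsol N hN.1)
      (hlight N hN (hAR.trans hRN)) P hRN).trans hNM₀)).resolve_left hM₀.1).symm
  have hRY : ∀ Y : Subgroup G, IsPi (primesNotDvd p) Y → R ≤ Subgroup.normalizer (Y : Set G) →
      Y ≤ M₀ := by
    intro Y hY hRY
    by_cases hY1 : Y = ⊥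
    · rw [hY1]; exact bot_le
    obtain ⟨N, hN, hNN⟩ := exists_coatom_ge
      (normalizer_ne_top h.facts.hs hY1 (ne_top_of_pi h.hTH (h.pi.symm ▸ hY)))
    exact huniq N hN (hRY.trans hNN) ▸ Subgroup.le_normalizer.trans hNN
  have hK : coreK A ≤ M₀ := hRY _ (h.pi ▸ piCoreOf_pi _ _) fun r hr =>
    mem_normalizer_piCoreOf (Signalizer.le_normalizer_centralizer h.scn.2.1 hr)
  refine criterion h.facts.hs h.facts.hna h.facts.hsol h.facts.hodd (h.facts.zl p)
    (h.facts.rankTwo p) (h.facts.scnTrans p) (h.facts.scn p) hM₀ (hAR.trans hRM₀) h.isPGroup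
    h.hTH.1 fun Y hY hAY => ?_
  refine Coprime.le_of_invariant_sylow_le hAY
    (coprime_of_primesNotDvd (n := Nat.card A) (h.pi.symm ▸ hY))
    (Or.inl (Coprime.isSolvable_of_isPGroup h.isPGroup)) fun q Q hq hQY hQ hAQ => ?_
  have : Fact q.Prime := ⟨hq⟩
  by_cases hQ1 : Q = ⊥
  · rw [hQ1]; exact bot_le
  have hqm := hY q hq (dvd_card_of_le hQ1 hQ hQY)
  have hqp : q ≠ p := (mem_primesNotDvd_prime.1 hqm).2
  have hqA : ¬ q ∣ Nat.card A := (h.pi.symm ▸ hqm : q ∈ primesNotDvd (Nat.card A)).2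
  obtain ⟨Q₁, hQ₁, hQle⟩ := exists_max_ge (pi_of_isPGroup hQ) hAQ
  have hin : Inherits A A q := ⟨subset_rfl, fun _ h₁ _ h₂ => h.transitive hq hqp h₁ h₂⟩
  have hinR := inherits_of_subnormal h.hTH h.facts.hsol h.facts.hs hq hqA h.facts.hna hAR
    (fun r hr' hd => by
      rw [Set.mem_singleton_iff.1 (pi_of_isPGroup hPp r hr' hd)]
      exact dvd_card_of_le h.hTH.1 h.isPGroup le_rfl)
    (isSubnormal_subgroupOf hPp.isNilpotent) hin
  obtain ⟨Q₀, hQ₀, -⟩ := exists_max_ge (q := q) (B := R) (U := ⊥)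
    (fun r hr' hd => absurd (by simpa using hd) hr'.ne_one)
    (fun b _ => Coprime.mem_normalizer_of_forall fun x hx => by
      rw [Subgroup.mem_bot] at hx ⊢; simp [hx])
  have hQ₀M : Q₀ ≤ M₀ := hRY Q₀ (fun r hr' hd => by
    rw [Set.mem_singleton_iff.1 (hQ₀.1.2.1 r hr' hd)]; exact hqm) hQ₀.1.2.2
  obtain ⟨k, hk, rfl⟩ := h.transitive hq hqp (hinR.1 hQ₀) hQ₁
  refine hQle.trans fun x hx => ?_
  rw [Coprime.mem_conj] at hx
  have := mul_mem (mul_mem (hK hk) (hQ₀M hx)) (inv_mem (hK hk))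
  simpa [mul_assoc] using this

/-- **A member of `SCN₃(P)` is a uniqueness subgroup.** -/
theorem unique_of_scn_three_direct (hF : Facts G) (P : Sylow p G) {A : Subgroup G}
    (hA : IsSCN (P : Subgroup G) A) (hA3 : ¬ PRankLE p 2 A) : InUniqueMaximal A := by
  by_cases hbig : ∃ M : Subgroup G, IsCoatom M ∧ ¬ PRankLE p 2 (fittingOf M)
  · obtain ⟨M, hM, hr⟩ := hbig
    exact unique_of_fitting_rank_three hF hM hr (P.2.to_le hA.1) (scn_isMulCommutative hA) hA3
  push Not at hbig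
  obtain ⟨B, hBA, hB, hB3⟩ := exists_elem_of_not_pRankLE hA3
  have h : Setup P A B := ⟨hF, hA, hF.scnTrans p P A hA (not_pRankLE_mono one_le_two hA3),
    hBA, hB, hB3, hbig⟩
  by_cases hlight : ∀ M : Subgroup G, IsCoatom M → A ≤ M →
      ∀ r : ℕ, r.Prime → PRankLE r 2 (fittingOf M)
  · exact h.unique_of_light hlight
  push Not at hlight
  obtain ⟨L, hL, hAL, q, hq, hr⟩ := hlight
  have : Fact q.Prime := ⟨hq⟩
  obtain ⟨W, o⟩ := exists_owner (p := p) hF hL hAL (fun he => hr (by rw [he]; exact hbig L hL)) hr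
  rcases o.cases h with hu | ⟨hL', M, V, t, oM, hne⟩
  · exact hu
  rcases oM.cases h with hu | ⟨hM', -⟩
  · exact hu
  obtain ⟨d, hd, hd1⟩ := (Subgroup.bot_or_exists_ne_one _).resolve_left
    h.commutator_normalizer_ne_bot
  obtain ⟨N, hN, hCN⟩ := exists_coatom_ge (centralizer_ne_top hF.hs hF.hna
    (S := ((⁅Subgroup.normalizer (A : Set G), Subgroup.normalizer (A : Set G)⁆ : Subgroup G) : Set G))
    hd hd1)
  exact absurd ((hM' N hN hCN).symm.trans (hL' N hN hCN)) hne

end Main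

/-- **The uniqueness theorem**, without the signalizer functor theorem. -/
theorem uniqueness_direct (hF : Facts G)
    {K : Subgroup G} (hK : K ≠ ⊤) (hK2 : ¬ RankLE 1 K)
    (hK3 : ¬ RankLE 2 K ∨ ¬ RankLE 2 (Subgroup.centralizer (K : Set G))) : InUniqueMaximal K := by
  have key : ∀ X : Subgroup G, ¬ RankLE 2 X → ∃ E : Subgroup G, E ≤ X ∧ InUniqueMaximal E := by
    intro X hX
    obtain ⟨q, E, hq, hE, hEX, hE3⟩ := exists_elementary_of_not_rankLE hX
    have : Fact q.Prime := ⟨hq⟩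
    obtain ⟨P, hP⟩ := (Signalizer.isPGroup_of_elemAb hE).exists_le_sylow
    obtain ⟨A, hA, hA3⟩ := hF.scn q P P.2 (not_pRankLE_of_le hP hE hE3)
    refine ⟨E, hEX, unique_of_rank_three hF (scn_isMulCommutative hA) hA3
      (unique_of_scn_three_direct hF P hA hA3) (Signalizer.isPGroup_of_elemAb hE)
      (not_isCyclic_of_sq_le le_rfl hE ((Nat.pow_le_pow_right hq.pos (by omega)).trans hE3))
      (not_pRankLE_of_le (Subgroup.le_centralizer_iff_isMulCommutative.2 hE.1) hE hE3)⟩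
  rcases hK3 with h | h
  · obtain ⟨E, hEK, hEU⟩ := key K h
    exact unique_mono hEU hEK hK
  · obtain ⟨E, hEC, hEU⟩ := key _ h
    exact unique_of_centralizes hF hEU (Subgroup.le_centralizer_iff.1 hEC) hK2

end Cfsg.Agent.OddUniq
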