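import Cfsg.Agent.Lib.OddOrder.UniqueBasic
import Cfsg.Agent.Lib.Coprime.PQ
import Cfsg.Agent.Lib.OddStable.Quadratic

/-!
Bender's method for a maximal subgroup `H` whose Fitting subgroup is not of prime power order.
* `bender` : invariant `π'`-subgroups of a solvable overgroup lie in its `π'`-core
* `no_invariant` : there is no nontrivial invariant `π'`-subgroup
* `eq_of_no_invariant` : then `H` is the only maximal overgroup
-/

set_option autoImplicit false

namespace Cfsg.Agent.OddUniq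

open scoped Pointwise commutatorElement
open OddTrans

variable {G : Type*} [Group G] [Finite G]

theorem exists_prime_ne {F : Subgroup G} (hF2 : 2 ≤ (Nat.card F).primeFactors.card) (r : ℕ) :
    ∃ s : ℕ, s.Prime ∧ s ∣ Nat.card F ∧ s ≠ r := by
  obtain ⟨s, hs, hne⟩ := Finset.exists_mem_ne (s := (Nat.card F).primeFactors) (by omega) r
  exact ⟨s, Nat.prime_of_mem_primeFactors hs, Nat.dvd_of_mem_primeFactors hs, hne⟩

theorem pi'_congr {A F : Subgroup G} (hA : A ≤ F)
    (hπ : ∀ r : ℕ, r.Prime → r ∣ Nat.card F → r ∣ Nat.card A) :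
    primesNotDvd (Nat.card A) = primesNotDvd (Nat.card F) := by
  ext q
  exact and_congr_right fun hq => not_congr
    ⟨fun h => h.trans (Subgroup.card_dvd_of_le hA), hπ q hq⟩

theorem isSolvable_sub {F : Subgroup G} (hF : Group.IsNilpotent F) {A : Subgroup G} (hA : A ≤ F) :
    Group.IsSolvable A :=
  have := hF
  Coprime.isSolvable_of_le hA inferInstance

/-- If `C_F(A) ≤ A`, then `H` has no nontrivial `A`-invariant `π'`-subgroup. -/
theorem inv_eq_bot_of_centralizer_le {H A : Subgroup G} (hsolH : Group.IsSolvable H)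
    (hA : A ≤ fittingOf H) (hC : fittingOf H ⊓ Subgroup.centralizer (A : Set G) ≤ A)
    {Y : Subgroup G} (hYH : Y ≤ H)
    (hY : IsPi (primesNotDvd (Nat.card (fittingOf H))) Y)
    (hAY : A ≤ Subgroup.normalizer (Y : Set G)) : Y = ⊥ := by
  set F := fittingOf H with hF
  have hcop : (Nat.card Y).Coprime (Nat.card F) := (coprime_of_primesNotDvd hY).symm
  have h1 : Y ≤ Subgroup.centralizer (A : Set G) := by
    rw [← Subgroup.commutator_eq_bot_iff_le_centralizer, eq_bot_iff,
      ← Coprime.inf_eq_bot hcop]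
    exact le_inf (Subgroup.le_normalizer_iff_commutator_le_left.1 hAY)
      ((Subgroup.commutator_mono le_rfl hA).trans
        (Subgroup.le_normalizer_iff_commutator_le_right.1
          (hYH.trans (le_normalizer_fittingOf H))))
  have hA1 : A ≤ F ⊓ Subgroup.centralizer (Y : Set G) :=
    le_inf hA (Subgroup.le_centralizer_iff.1 h1)
  have h2 : Y ≤ Subgroup.centralizer (F : Set G) :=
    Coprime.le_centralizer_of_centralizer_le (isNilpotent_fittingOf H)
      (hYH.trans (le_normalizer_fittingOf H)) hcop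
      ((inf_le_inf_left _ (Subgroup.centralizer_le hA1)).trans (hC.trans hA1))
  rw [eq_bot_iff, ← Coprime.inf_eq_bot hcop]
  exact le_inf le_rfl ((le_inf hYH h2).trans (inf_centralizer_fittingOf_le hsolH))

/-- Bender's lemma. -/
theorem bender (hs : IsSimpleGroup G) {H A X Y : Subgroup G} (hH : IsCoatom H)
    (hF2 : 2 ≤ (Nat.card (fittingOf H)).primeFactors.card) (hA : A ≤ fittingOf H)
    (hZA : fittingOf H ⊓ Subgroup.centralizer (fittingOf H : Set G) ≤ A)
    (hP0 : ∀ Y : Subgroup G, Y ≤ H → IsPi (primesNotDvd (Nat.card (fittingOf H))) Y →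
      A ≤ Subgroup.normalizer (Y : Set G) → Y = ⊥)
    (hX : Group.IsSolvable X) (hAX : A ≤ X) (hYX : Y ≤ X)
    (hY : IsPi (primesNotDvd (Nat.card (fittingOf H))) Y)
    (hAY : A ≤ Subgroup.normalizer (Y : Set G)) :
    Y ≤ piCoreOf (primesNotDvd (Nat.card (fittingOf H))) X := by
  set F := fittingOf H with hF
  set π := primesNotDvd (Nat.card F) with hπ
  have hZ : ∀ t : ℕ, zc t F ≤ A := fun t => (zc_le t F).trans hZA
  have hAC : ∀ t : ℕ, A ≤ Subgroup.centralizer (zc t F : Set G) := fun t a ha =>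
    Subgroup.mem_centralizer_iff.2 fun b hb =>
      (Subgroup.mem_centralizer_iff.1 hb.2.1 a (hA ha)).symm
  set f := QuotientGroup.mk' (piCore π X) with hf
  have hsurj : Function.Surjective f := QuotientGroup.mk'_surjective _
  have := hX
  have : Group.IsSolvable (X ⧸ piCore π X) := Group.isSolvable_of_surjective hsurj
  set Y' := Y.subgroupOf X with hY'
  have key : ∀ r : ℕ, r.Prime →
      Y'.map f ≤ Subgroup.centralizer (pCore r (X ⧸ piCore π X) : Set (X ⧸ piCore π X)) := by
    intro r hr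
    have : Fact r.Prime := ⟨hr⟩
    have hWn : (pCore r (X ⧸ piCore π X)).Normal := Subgroup.sSup_normal _ fun _ h => h.1
    by_cases hrF : r ∣ Nat.card F
    swap
    · have h0 : pCore r (X ⧸ piCore π X) ≤ ⊥ := by
        rw [← Cores.piCore_quotient_self π]
        refine Cores.le_piCore hWn fun q hq hd => ?_
        obtain ⟨n, hn⟩ := IsPGroup.iff_card.1 (Cores.isPGroup_pCore r (X ⧸ piCore π X))
        rw [hn] at hd
        rw [(Nat.prime_dvd_prime_iff_eq hq hr).1 (hq.dvd_of_dvd_pow hd)]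
        exact ⟨hr, hrF⟩
      intro y _
      exact Subgroup.mem_centralizer_iff.2 fun w hw => by
        rw [Subgroup.mem_bot.1 (h0 hw), one_mul, mul_one]
    obtain ⟨s, hsp, hsF, hsr⟩ := exists_prime_ne hF2 r
    have : Fact s.Prime := ⟨hsp⟩
    set W := pCore r (X ⧸ piCore π X) with hW
    have hWtop : Subgroup.normalizer (W : Set (X ⧸ piCore π X)) = ⊤ :=
      Subgroup.normalizer_eq_top_iff.2 hWn
    set Zr := (zc r F).subgroupOf X with hZr
    set Zs := (zc s F).subgroupOf X with hZs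
    have hZrp : IsPGroup r Zr := (isPGroup_zc F).comap_subtype
    have hZsp : IsPGroup s Zs := (isPGroup_zc F).comap_subtype
    have hcop : ∀ {T : Subgroup (X ⧸ piCore π X)}, IsPGroup s T → (Nat.card T).Coprime r := by
      intro T hT
      obtain ⟨n, hn⟩ := IsPGroup.iff_card.1 hT
      rw [hn]
      exact ((Nat.coprime_primes hsp hr).2 hsr).pow_left n
    -- elements of `W` fixed by `Zr` are fixed by `Zs`
    have hC : W ⊓ Subgroup.centralizer (Zr.map f : Set (X ⧸ piCore π X)) ≤
        Subgroup.centralizer (Zs.map f : Set (X ⧸ piCore π X)) := by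
      rintro w ⟨hw, hwC⟩
      obtain ⟨x, rfl⟩ := hsurj w
      have hrN : ¬ r ∣ Nat.card (piCore π X) := fun h => (Cores.card_piCore π hr h).2 hrF
      obtain ⟨n, hn, hnx⟩ := Signalizer.exists_fixed_in_coset hZrp
        (N := piCore π X) (by rw [Subgroup.normalizer_eq_top_iff.2 inferInstance]; exact le_top)
        hrN x (fun a ha => by
          refine (QuotientGroup.eq_one_iff _).1 ?_
          show f (a * x * a⁻¹ * x⁻¹) = 1
          rw [map_mul, map_mul, map_mul, Subgroup.mem_centralizer_iff.1 hwC (f a) ⟨a, ha, rfl⟩,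
            map_inv, map_inv, mul_inv_cancel_right, mul_inv_cancel])
      have hfx : f (n * x) = f x := by
        rw [map_mul, show f n = 1 from (QuotientGroup.eq_one_iff n).2 hn, one_mul]
      have hxH : ((n * x : X) : G) ∈ H := by
        refine centralizer_zc_le hs hH (r := r) hrF (Subgroup.mem_centralizer_iff.2 fun b hb => ?_)
        exact congrArg Subtype.val (Subgroup.mem_centralizer_iff.1 hnx ⟨b, hAX (hZ r hb)⟩ hb)
      have hxN : ((n * x : X) : G) ∈ Subgroup.normalizer (zc s F : Set G) :=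
        normalizer_le_normalizer_zc s F (le_normalizer_fittingOf H hxH)
      rw [← hfx]
      refine Subgroup.mem_centralizer_iff.2 ?_
      rintro _ ⟨b, hb, rfl⟩
      have h1 : (n * x) * b * (n * x)⁻¹ * b⁻¹ ∈ Zs :=
        Subgroup.mul_mem _ (show ((n * x : X) : G) * (b : G) * ((n * x : X) : G)⁻¹ ∈ zc s F from
          (Subgroup.mem_normalizer_iff.1 hxN _).1 hb) (Subgroup.inv_mem _ hb)
      have h2 : f ((n * x) * b * (n * x)⁻¹ * b⁻¹) ∈ W := by
        rw [map_mul, map_mul, map_mul, map_inv, map_inv, hfx]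
        have := W.mul_mem hw (hWn.conj_mem _ (inv_mem hw) (f b))
        simpa [mul_assoc] using this
      have h3 : f ((n * x) * b * (n * x)⁻¹ * b⁻¹) = 1 := by
        refine Coprime.eq_one_of_mem_of_mem ?_ (Subgroup.mem_map_of_mem f h1) h2
        obtain ⟨k, hk⟩ := IsPGroup.iff_card.1 (Cores.isPGroup_pCore r (X ⧸ piCore π X))
        rw [hW, hk]
        exact (hcop (hZsp.map f)).pow_right k
      rw [map_mul, map_mul, map_mul, map_inv, map_inv, mul_inv_eq_one, mul_inv_eq_iff_eq_mul] at h3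
      exact h3.symm
    have hPQ : Zr.map f ≤ Subgroup.centralizer (Zs.map f : Set (X ⧸ piCore π X)) := by
      rintro _ ⟨a, ha, rfl⟩
      refine Subgroup.mem_centralizer_iff.2 ?_
      rintro _ ⟨b, hb, rfl⟩
      rw [← map_mul, ← map_mul]
      exact congrArg f (Subtype.ext (Subgroup.mem_centralizer_iff.1 (hAC s (hZ r ha)) b hb))
    have hZW : Zs.map f ≤ Subgroup.centralizer (W : Set (X ⧸ piCore π X)) :=
      Coprime.thompson_pq r (hZrp.map f) (hcop (hZsp.map f)) (Cores.isPGroup_pCore r _) hPQ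
        (by rw [hWtop]; exact le_top) (by rw [hWtop]; exact le_top) hC
    -- `Y = [Y, zc s F]`
    have hYZ : ⁅Y, zc s F⁆ = Y := by
      have hcopY : (Nat.card (zc s F)).Coprime (Nat.card Y) :=
        coprime_of_pi (fun q hq hd =>
          hd.trans (Subgroup.card_dvd_of_le ((hZ s).trans hA))) hY
      have h0 : Y ⊓ Subgroup.centralizer (zc s F : Set G) = ⊥ :=
        hP0 _ (inf_le_right.trans (centralizer_zc_le hs hH hsF))
          (fun q hq hd => hY q hq (hd.trans (Subgroup.card_dvd_of_le inf_le_left)))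
          (Signalizer.le_normalizer_inf hAY ((hAC s).trans Subgroup.le_normalizer))
      have h := Coprime.commutator_sup_centralizer ((hZ s).trans hAY) hcopY
        (Or.inl (Coprime.isSolvable_of_isPGroup (isPGroup_zc F)))
      rwa [h0, sup_bot_eq] at h
    have hYZ' : ⁅Y', Zs⁆ = Y' := Subgroup.map_injective X.subtype_injective (by
      rw [Subgroup.map_commutator, Subgroup.map_subgroupOf_eq_of_le hYX,
        Subgroup.map_subgroupOf_eq_of_le ((hZ s).trans hAX), hYZ])
    calc Y'.map f = ⁅Y'.map f, Zs.map f⁆ := by rw [← Subgroup.map_commutator, hYZ']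
      _ ≤ ⁅(⊤ : Subgroup (X ⧸ piCore π X)),
          Subgroup.centralizer (W : Set (X ⧸ piCore π X))⁆ :=
          Subgroup.commutator_mono le_top hZW
      _ ≤ _ := Subgroup.commutator_le_right _ _
  have hle : Y'.map f ≤ fittingSubgroup (X ⧸ piCore π X) := by
    refine le_trans ?_ (Solvable.centralizer_fitting_le (X ⧸ piCore π X))
    rw [Subgroup.le_centralizer_iff, Cores.fittingSubgroup_eq_iSup_pCore]
    exact iSup_le fun p => Subgroup.le_centralizer_iff.1 (key p p.2)
  have h0 : Y'.map f ≤ ⊥ := by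
    rw [← Cores.piCore_quotient_self π]
    refine Cores.le_piCore_of_isSubnormal (Cores.isSubnormal_of_le_fittingSubgroup hle)
      fun q hq hd => hY q hq ?_
    rw [← Cores.card_subgroupOf hYX]
    exact hd.trans (Subgroup.card_map_dvd _ _)
  intro y hy
  exact ⟨⟨y, hYX hy⟩, (QuotientGroup.eq_one_iff _).1
    (Subgroup.mem_bot.1 (h0 ⟨⟨y, hYX hy⟩, hy, rfl⟩)), rfl⟩

/-- No nontrivial `π'`-subgroup of `G` is normalised by `A`. -/
theorem no_invariant (hs : IsSimpleGroup G) (hna : ¬ IsMulCommutative G)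
    (hsol : ∀ X : Subgroup G, X ≠ ⊤ → Group.IsSolvable X) {H A : Subgroup G} (hH : IsCoatom H)
    (hA : A ≤ fittingOf H) (hTH : TransitivityHypothesis A)
    (hπ : ∀ r : ℕ, r.Prime → r ∣ Nat.card (fittingOf H) → r ∣ Nat.card A)
    {p : ℕ} [Fact p.Prime] {E : Subgroup G} (hE : IsElementaryAbelian p E)
    (hE3 : p ^ 3 ≤ Nat.card E) (hEZ : E ≤ A ⊓ Subgroup.centralizer (A : Set G))
    (hCA : Subgroup.centralizer (A : Set G) ≤ H)
    (hP0 : ∀ Y : Subgroup G, Y ≤ H → IsPi (primesNotDvd (Nat.card (fittingOf H))) Y →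
      A ≤ Subgroup.normalizer (Y : Set G) → Y = ⊥)
    {Y : Subgroup G} (hY : IsPi (primesNotDvd (Nat.card (fittingOf H))) Y)
    (hAY : A ≤ Subgroup.normalizer (Y : Set G)) : Y = ⊥ := by
  have hπ' := pi'_congr hA hπ
  rw [← hπ'] at hP0 hY
  have hK : coreK A = ⊥ := hP0 _ ((piCoreOf_le _ _).trans hCA) (piCoreOf_pi _ _)
    fun a ha => mem_normalizer_piCoreOf
      (Signalizer.le_normalizer_centralizer Subgroup.le_normalizer ha)
  by_contra hY1
  obtain ⟨q, hq, hqY⟩ := Nat.exists_prime_and_dvd (n := Nat.card Y)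
    (fun h => hY1 (Subgroup.eq_bot_of_card_eq _ h))
  have : Fact q.Prime := ⟨hq⟩
  have hqA : ¬ q ∣ Nat.card A := (hY q hq hqY).2
  obtain ⟨S, hSA⟩ := Coprime.exists_invariant_sylow (p := q) hAY
    (coprime_of_primesNotDvd hY) (Or.inl (isSolvable_sub (isNilpotent_fittingOf H) hA))
  obtain ⟨R, hR, hSR⟩ := exists_max_ge (pi_of_isPGroup (S.2.map Y.subtype)) hSA
  have huniq : ∀ {Q₁ Q₂ : Subgroup G}, Q₁ ∈ maxInvSubgroups ⊤ A {q} →
      Q₂ ∈ maxInvSubgroups ⊤ A {q} → Q₂ = Q₁ := by
    intro Q₁ Q₂ h₁ h₂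
    obtain ⟨k, hk, e⟩ := transitive_of_rank_three hTH hsol hs hq hqA hna hE hE3 hEZ h₁ h₂
    rw [hK, Subgroup.mem_bot] at hk
    rw [e, hk, map_one, one_smul]
  have hin : Inherits A A q := ⟨subset_rfl,
    fun Q₁ h₁ Q₂ h₂ => transitive_of_rank_three hTH hsol hs hq hqA hna hE hE3 hEZ h₁ h₂⟩
  have hinF := inherits_of_subnormal hTH hsol hs hq hqA hna hA hπ
    (isSubnormal_subgroupOf (isNilpotent_fittingOf H)) hin
  obtain ⟨Q, hQ, -⟩ := exists_max_ge (q := q) (B := fittingOf H) (U := ⊥)
    (fun r hr hd => absurd (by simpa using hd) hr.ne_one)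
    (fun b _ => Coprime.mem_normalizer_of_forall fun x hx => by
      rw [Subgroup.mem_bot] at hx ⊢; simp [hx])
  obtain rfl : Q = R := huniq hR (hinF.1 hQ)
  have hR1 : Q ≠ ⊥ := by
    refine ne_bot_of_le_ne_bot ?_ hSR
    rw [Ne, Subgroup.map_eq_bot_iff_of_injective _ Y.subtype_injective]
    exact S.ne_bot_of_dvd_card hqY
  have hHQ : H ≤ Subgroup.normalizer (Q : Set G) := fun h hh =>
    Coprime.mem_normalizer_of_conj_eq
      (huniq hR (hinF.1 (conj_mem_max (le_normalizer_fittingOf H hh) hQ)))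
  have hπQ : IsPi (primesNotDvd (Nat.card A)) Q := pi'_of_pi hq hqA hR.1.2.1
  have hN : Subgroup.normalizer (Q : Set G) = H :=
    (hH.le_iff.1 hHQ).resolve_left (normalizer_ne_top hs hR1 (ne_top_of_pi hTH hπQ))
  exact hR1 (hP0 Q (hN ▸ Subgroup.le_normalizer) hπQ hR.1.2.2)

/-- One half of the mutual containment of the primary parts. -/
theorem pCoreOf_le_centralizer_zc (hs : IsSimpleGroup G) {H L : Subgroup G} (hH : IsCoatom H)
    {r s : ℕ} [Fact r.Prime] [Fact s.Prime] (hrs : r ≠ s)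
    (hr : r ∣ Nat.card (fittingOf H)) (hrL : zc r (fittingOf H) ≤ L)
    (hsL : zc s (fittingOf H) ≤ L) :
    pCoreOf r L ≤ Subgroup.centralizer (zc s (fittingOf H) : Set G) := by
  set F := fittingOf H with hF
  have hcopQ : (Nat.card (zc s F)).Coprime r := by
    obtain ⟨n, hn⟩ := IsPGroup.iff_card.1 (isPGroup_zc (r := s) F)
    rw [hn]
    exact ((Nat.coprime_primes Fact.out Fact.out).2 hrs.symm).pow_left n
  have hinf : zc s F ⊓ pCoreOf r L = ⊥ :=
    Coprime.inf_eq_bot (Coprime.coprime_of_isPGroup hcopQ (isPGroup_pCoreOf r L))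
  refine Subgroup.le_centralizer_iff.1 (Coprime.thompson_pq r (isPGroup_zc (r := r) F) hcopQ
    (isPGroup_pCoreOf r L) ?_ (hrL.trans (le_normalizer_pCoreOf r L))
    (hsL.trans (le_normalizer_pCoreOf r L)) ?_)
  · exact fun a ha => Subgroup.mem_centralizer_iff.2 fun b hb =>
      Subgroup.mem_centralizer_iff.1 ha.2.1 b hb.1
  · rw [← Subgroup.commutator_eq_bot_iff_le_centralizer, eq_bot_iff, ← hinf]
    refine le_inf ?_ ((Subgroup.commutator_mono inf_le_left le_rfl).trans
      (Subgroup.le_normalizer_iff_commutator_le_left.1 (hsL.trans (le_normalizer_pCoreOf r L))))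
    refine Subgroup.le_normalizer_iff_commutator_le_right.1 ?_
    exact inf_le_right.trans ((centralizer_zc_le hs hH hr).trans
      ((le_normalizer_fittingOf H).trans (normalizer_le_normalizer_zc s F)))

theorem le_centralizer_pCoreOf {H L : Subgroup G} {q s : ℕ} [Fact q.Prime] [Fact s.Prime]
    (hqs : q ≠ s) (h1 : pCoreOf q H ≤ L) (h2 : pCoreOf s L ≤ H) :
    pCoreOf q H ≤ Subgroup.centralizer (pCoreOf s L : Set G) := by
  have hinf : pCoreOf q H ⊓ pCoreOf s L = ⊥ := by
    refine Coprime.inf_eq_bot (Coprime.coprime_of_isPGroup ?_ (isPGroup_pCoreOf s L))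
    obtain ⟨n, hn⟩ := IsPGroup.iff_card.1 (isPGroup_pCoreOf q H)
    rw [hn]
    exact ((Nat.coprime_primes Fact.out Fact.out).2 hqs).pow_left n
  rw [← Subgroup.commutator_eq_bot_iff_le_centralizer, eq_bot_iff, ← hinf]
  exact le_inf (Subgroup.le_normalizer_iff_commutator_le_left.1
      (h2.trans (le_normalizer_pCoreOf q H)))
    (Subgroup.le_normalizer_iff_commutator_le_right.1 (h1.trans (le_normalizer_pCoreOf s L)))

/-- A quadratic `s`-subgroup on `O_s(L)` centralising the other parts of `F(L)` lies in `O_s(L)`. -/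
theorem le_pCoreOf_of_quadratic (hodd : Odd (Nat.card G)) {L V : Subgroup G}
    (hsolL : Group.IsSolvable L) {s : ℕ} [Fact s.Prime] (hs2 : s ≠ 2) (hVL : V ≤ L)
    (hV : IsPGroup s V) (hquad : ∀ a ∈ V, OddStable.QuadOn a (pCoreOf s L))
    (hcent : ∀ q : ℕ, q.Prime → q ≠ s → V ≤ Subgroup.centralizer (pCoreOf q L : Set G)) :
    V ≤ pCoreOf s L := by
  have := hsolL
  set K := pCore s L with hK
  have hKn : K.Normal := Subgroup.sSup_normal _ fun _ h => h.1
  set π := QuotientGroup.mk' (Subgroup.centralizer (K : Set L)) with hπ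
  set D : Subgroup L := ⨅ q : {q : ℕ // q.Prime ∧ q ≠ s},
    Subgroup.centralizer (pCore (q : ℕ) L : Set L) with hD
  have hDn : D.Normal := Subgroup.normal_iInf_normal fun q => by
    have : (pCore (q : ℕ) L).Normal := Subgroup.sSup_normal _ fun _ h => h.1
    infer_instance
  have hJn : (pCore s (L ⧸ Subgroup.centralizer (K : Set L))).Normal :=
    Subgroup.sSup_normal _ fun _ h => h.1
  set W : Subgroup L := (pCore s (L ⧸ Subgroup.centralizer (K : Set L))).comap π ⊓ D with hW
  have hVW : V.subgroupOf L ≤ W := by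
    intro a ha
    refine ⟨?_, ?_⟩
    · refine OddStable.mem_pCore_quotient_centralizer
        (hodd.of_dvd_nat (Subgroup.card_subgroup_dvd_card L)) hs2 (Cores.isPGroup_pCore s L) ?_
      intro v hv
      exact Subtype.ext (hquad a ha (v : G) ⟨v, hv, rfl⟩)
    · show a ∈ D
      rw [hD, Subgroup.mem_iInf]
      intro q
      exact Subgroup.mem_centralizer_iff.2 fun y hy => Subtype.ext
        (Subgroup.mem_centralizer_iff.1 (hcent q q.2.1 q.2.2 ha) y ⟨y, hy, rfl⟩)
  have hVs : IsPGroup s ((V.subgroupOf L).subgroupOf W) := hV.comap_subtype.comap_subtype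
  obtain ⟨S, hVS⟩ := hVs.exists_le_sylow
  -- `S` is normal in `W`
  have hSn : (S : Subgroup W).Normal := by
    refine Subgroup.normalizer_eq_top_iff.1 (eq_top_iff.2 fun w _ => ?_)
    set g := π.comp W.subtype with hg
    have hrg : IsPGroup s g.range := by
      refine (Cores.isPGroup_pCore s (L ⧸ Subgroup.centralizer (K : Set L))).to_le ?_
      rintro _ ⟨u, rfl⟩
      exact u.2.1
    obtain ⟨⟨_, u, hu, rfl⟩, e⟩ : ∃ y : (S : Subgroup W).map g, (y : L ⧸ _) = g w := by
      have hsurj : Function.Surjective g.rangeRestrict := g.rangeRestrict_surjective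
      have htop : ((S.mapSurjective hsurj : Sylow s g.range) : Subgroup g.range) = ⊤ := by
        refine ((S.mapSurjective hsurj).3 ?_ le_top).symm
        exact hrg.to_subgroup ⊤
      rw [Sylow.coe_mapSurjective] at htop
      have h1 : g.rangeRestrict w ∈ (S : Subgroup W).map g.rangeRestrict :=
        htop.ge (Subgroup.mem_top _)
      obtain ⟨u, hu, e⟩ := h1
      exact ⟨⟨g u, u, hu, rfl⟩, congrArg Subtype.val e⟩
    simp only at e
    have hwu : ((w * u⁻¹ : W) : L) ∈ Subgroup.centralizer (K : Set L) := by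
      rw [← QuotientGroup.eq_one_iff]
      show g (w * u⁻¹) = 1
      rw [map_mul, map_inv, e, mul_inv_cancel]
    have hF : ((w * u⁻¹ : W) : L) ∈ fittingSubgroup L := by
      refine Solvable.centralizer_fitting_le L ?_
      rw [Cores.fittingSubgroup_eq_iSup_pCore]
      have h1 : (⨆ p : Nat.Primes, pCore (p : ℕ) L) ≤
          Subgroup.centralizer ({((w * u⁻¹ : W) : L)} : Set L) := iSup_le fun p => by
        intro y hy
        rw [Subgroup.mem_centralizer_singleton_iff]
        by_cases hps : (p : ℕ) = s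
        · rw [hps] at hy
          exact Subgroup.mem_centralizer_iff.1 hwu y hy
        · have h2 : ((w * u⁻¹ : W) : L) ∈ D := (w * u⁻¹).2.2
          simp only [hD, Subgroup.mem_iInf] at h2
          exact Subgroup.mem_centralizer_iff.1 (h2 ⟨p, p.2, hps⟩) y hy
      exact Subgroup.mem_centralizer_iff.2 fun y hy =>
        Subgroup.mem_centralizer_singleton_iff.1 (h1 hy)
    -- the part in `F(L)` normalises `S`
    set T : Subgroup L := ⨆ p : {q : ℕ // q.Prime ∧ q ≠ s}, pCore (p : ℕ) L with hT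
    have hFKT : fittingSubgroup L ≤ K ⊔ T := by
      rw [Cores.fittingSubgroup_eq_iSup_pCore]
      refine iSup_le fun p => ?_
      by_cases hps : (p : ℕ) = s
      · rw [hps]; exact le_sup_left
      · exact le_sup_of_le_right (le_iSup_of_le (⟨p, p.2, hps⟩ : {q : ℕ // q.Prime ∧ q ≠ s}) le_rfl)
    obtain ⟨k, hk, c, hc, hkc⟩ := (Coprime.mem_sup_iff
      (by rw [Subgroup.normalizer_eq_top_iff.2 hKn]; exact le_top)).1 (hFKT hF)
    have hTD : T ≤ Subgroup.centralizer (D : Set L) := iSup_le fun q =>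
      Subgroup.le_centralizer_iff.1 (iInf_le _ q)
    have hS' : IsPGroup s ((S : Subgroup W).map W.subtype ⊔ K : Subgroup L) :=
      (S.2.map _).to_sup_of_normal_right (Cores.isPGroup_pCore s L)
    have hWn : W.Normal := by rw [hW]; infer_instance
    have hconj : ∀ x ∈ (S : Subgroup W), (w * u⁻¹) * x * (w * u⁻¹)⁻¹ ∈ (S : Subgroup W) := by
      intro x hx
      have h1 : (((w * u⁻¹) * x * (w * u⁻¹)⁻¹ : W) : L) ∈ (S : Subgroup W).map W.subtype ⊔ K := by
        have hcx : c * (x : L) = (x : L) * c :=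
          (Subgroup.mem_centralizer_iff.1 (hTD hc) (x : L) x.2.2).symm
        have : (((w * u⁻¹) * x * (w * u⁻¹)⁻¹ : W) : L) = k * (x : L) * k⁻¹ := by
          rw [Subgroup.coe_mul, Subgroup.coe_mul, Subgroup.coe_inv, ← hkc, mul_assoc k c, hcx]
          group
        rw [this]
        exact mul_mem (mul_mem (Subgroup.mem_sup_right hk)
          (Subgroup.mem_sup_left (Subgroup.mem_map_of_mem W.subtype hx)))
          (inv_mem (Subgroup.mem_sup_right hk))
      have hle : (S : Subgroup W) ≤ ((S : Subgroup W).map W.subtype ⊔ K).subgroupOf W :=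
        fun y hy => Subgroup.mem_sup_left (Subgroup.mem_map_of_mem W.subtype hy)
      rw [← S.3 hS'.comap_subtype hle]
      exact h1
    have h1 : w * u⁻¹ ∈ Subgroup.normalizer ((S : Subgroup W) : Set W) :=
      Coprime.mem_normalizer_of_forall hconj
    have := Subgroup.mul_mem _ h1 (Subgroup.le_normalizer hu)
    rwa [inv_mul_cancel_right] at this
  have hSK : (S : Subgroup W).map W.subtype ≤ K := by
    refine Cores.le_pCore_of_isSubnormal ?_ (S.2.map _)
    have hWn : W.Normal := by rw [hW]; infer_instance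
    refine Subgroup.IsSubnormal.step _ W (Subgroup.map_subtype_le _)
      (Subgroup.Normal.isSubnormal hWn) ?_
    rw [Subgroup.subgroupOf, Subgroup.comap_map_eq_self_of_injective W.subtype_injective]
    exact hSn
  intro x hx
  exact ⟨⟨x, hVL hx⟩, hSK ⟨⟨⟨x, hVL hx⟩, hVW hx⟩, hVS hx, rfl⟩, rfl⟩

theorem pCoreOf_le_pCoreOf (hs : IsSimpleGroup G) (hodd : Odd (Nat.card G)) {H L : Subgroup G}
    (hH : IsCoatom H) (hsolL : Group.IsSolvable L) {r s : ℕ} [Fact r.Prime] [Fact s.Prime]
    (hrs : r ≠ s) (hsF : s ∣ Nat.card (fittingOf H))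
    (hHL : ∀ q : ℕ, q.Prime → pCoreOf q H ≤ L) (hLH : ∀ q : ℕ, q.Prime → pCoreOf q L ≤ H) :
    pCoreOf r H ≤ pCoreOf r L := by
  have hsp := (Fact.out : s.Prime)
  set F := fittingOf H with hF
  have hVs : zc s F ≤ pCoreOf s H :=
    le_pCoreOf_of_le_fittingOf ((zc_le s F).trans inf_le_left) (isPGroup_zc F)
  have hs2 : s ≠ 2 := by
    rintro rfl
    exact (Nat.not_even_iff_odd.2 hodd) ((even_iff_two_dvd).2
      (hsF.trans (Subgroup.card_subgroup_dvd_card _)))
  have hVK : zc s F ≤ pCoreOf s L := by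
    refine le_pCoreOf_of_quadratic hodd hsolL hs2 (hVs.trans (hHL s hsp)) (isPGroup_zc F) ?_ ?_
    · intro a ha v hv
      have hv' : v ∈ Subgroup.normalizer (zc s F : Set G) :=
        normalizer_le_normalizer_zc s F (le_normalizer_fittingOf H (hLH s hsp hv))
      have h1 : a * v * a⁻¹ * v⁻¹ ∈ zc s F := by
        have h2 : a * v * a⁻¹ * v⁻¹ = a * (v * a⁻¹ * v⁻¹) := by group
        rw [h2]
        exact mul_mem ha ((Subgroup.mem_normalizer_iff.1 hv' _).1 (inv_mem ha))
      exact (Subgroup.mem_centralizer_iff.1 h1.2.1 a ha.1)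
    · intro q hq hqs
      have : Fact q.Prime := ⟨hq⟩
      exact hVs.trans (le_centralizer_pCoreOf hqs.symm (hHL s hsp) (hLH q hq))
  set D := L ⊓ Subgroup.centralizer (pCoreOf s L : Set G) with hD
  have hDH : D ≤ H :=
    inf_le_right.trans ((Subgroup.centralizer_le hVK).trans (centralizer_zc_le hs hH hsF))
  exact le_pCoreOf_of_normal_normal
    (le_inf (hHL r Fact.out) (le_centralizer_pCoreOf hrs (hHL r Fact.out) (hLH s hsp)))
    inf_le_left (hDH.trans (le_normalizer_pCoreOf r H))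
    (Signalizer.le_normalizer_inf Subgroup.le_normalizer
      (Signalizer.le_normalizer_centralizer (le_normalizer_pCoreOf s L)))
    (isPGroup_pCoreOf r H)

/-- If no nontrivial `π'`-subgroup is normalised by `A`, then `H` is the only maximal overgroup. -/
theorem eq_of_no_invariant (hs : IsSimpleGroup G) (hna : ¬ IsMulCommutative G)
    (hsol : ∀ X : Subgroup G, X ≠ ⊤ → Group.IsSolvable X) (hodd : Odd (Nat.card G))
    {H L A : Subgroup G} (hH : IsCoatom H) (hL : IsCoatom L)
    (hF2 : 2 ≤ (Nat.card (fittingOf H)).primeFactors.card)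
    (hZA : fittingOf H ⊓ Subgroup.centralizer (fittingOf H : Set G) ≤ A)
    (hinv : ∀ Y : Subgroup G, IsPi (primesNotDvd (Nat.card (fittingOf H))) Y →
      A ≤ Subgroup.normalizer (Y : Set G) → Y = ⊥)
    (hAL : A ≤ L) : L = H := by
  set F := fittingOf H with hF
  have hZ : ∀ t : ℕ, zc t F ≤ L := fun t => ((zc_le t F).trans hZA).trans hAL
  have hzero : ∀ r : ℕ, r.Prime → ¬ r ∣ Nat.card F → pCoreOf r L = ⊥ := fun r hr hrF => by
    have : Fact r.Prime := ⟨hr⟩
    refine hinv _ (fun q hq hd => ?_) (hAL.trans (le_normalizer_pCoreOf r L))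
    rw [Set.mem_singleton_iff.1 (pi_of_isPGroup (isPGroup_pCoreOf r L) q hq hd)]
    exact ⟨hr, hrF⟩
  have hKC : ∀ r s : ℕ, r.Prime → s.Prime → r ≠ s →
      pCoreOf r L ≤ Subgroup.centralizer (zc s F : Set G) := fun r s hr hs' hrs => by
    have : Fact r.Prime := ⟨hr⟩
    have : Fact s.Prime := ⟨hs'⟩
    by_cases hrF : r ∣ Nat.card F
    · exact pCoreOf_le_centralizer_zc hs hH hrs hrF (hZ r) (hZ s)
    · rw [hzero r hr hrF]; exact bot_le
  have hLH : ∀ r : ℕ, r.Prime → pCoreOf r L ≤ H := fun r hr => by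
    obtain ⟨s, hs', hsF, hsr⟩ := exists_prime_ne hF2 r
    have : Fact s.Prime := ⟨hs'⟩
    exact (hKC r s hr hs' hsr.symm).trans (centralizer_zc_le hs hH hsF)
  have hsolL := hsol L hL.1
  have hπL : ∀ s : ℕ, s.Prime → (s ∣ Nat.card (fittingOf L) ↔ s ∣ Nat.card F) := by
    intro s hs'
    have : Fact s.Prime := ⟨hs'⟩
    refine ⟨fun h => ?_, fun h => ?_⟩
    · by_contra hsF
      exact pCoreOf_ne_bot h (hzero s hs' hsF)
    · by_contra hsL
      refine hsL (dvd_card_of_le (zc_ne_bot (isNilpotent_fittingOf H) h) (isPGroup_zc F) ?_)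
      refine le_trans (le_inf (hZ s) ?_) (inf_centralizer_fittingOf_le hsolL)
      rw [Subgroup.le_centralizer_iff]
      refine fittingOf_le_of_forall fun r hr => ?_
      by_cases hrs : r = s
      · subst hrs
        rw [pCoreOf_eq_bot hsL]; exact bot_le
      · exact hKC r s hr hs' hrs
  have hZH : ∀ t : ℕ, zc t (fittingOf L) ≤ H := fun t =>
    ((zc_le t _).trans inf_le_left).trans (fittingOf_le_of_forall hLH)
  have hHL : ∀ r : ℕ, r.Prime → pCoreOf r H ≤ L := fun r hr => by
    have : Fact r.Prime := ⟨hr⟩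
    by_cases hrF : r ∣ Nat.card F
    · obtain ⟨s, hs', hsF, hsr⟩ := exists_prime_ne hF2 r
      have : Fact s.Prime := ⟨hs'⟩
      exact (pCoreOf_le_centralizer_zc hs hL hsr.symm ((hπL r hr).2 hrF) (hZH r) (hZH s)).trans
        (centralizer_zc_le hs hL ((hπL s hs').2 hsF))
    · rw [pCoreOf_eq_bot hrF]; exact bot_le
  have heq : fittingOf H = fittingOf L := by
    refine le_antisymm (fittingOf_le_of_forall fun r hr => ?_)
      (fittingOf_le_of_forall fun r hr => ?_)
    · have : Fact r.Prime := ⟨hr⟩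
      obtain ⟨s, hs', hsF, hsr⟩ := exists_prime_ne hF2 r
      have : Fact s.Prime := ⟨hs'⟩
      exact (pCoreOf_le_pCoreOf hs hodd hH hsolL hsr.symm hsF hHL hLH).trans
        (pCoreOf_le_fittingOf r L)
    · have : Fact r.Prime := ⟨hr⟩
      obtain ⟨s, hs', hsF, hsr⟩ := exists_prime_ne hF2 r
      have : Fact s.Prime := ⟨hs'⟩
      exact (pCoreOf_le_pCoreOf hs hodd hL (hsol H hH.1) hsr.symm ((hπL s hs').2 hsF) hLH hHL).trans
        (pCoreOf_le_fittingOf r H)
  have hne := fittingOf_ne_bot (hsol H hH.1) (coatom_ne_bot hna hH)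
  rw [← normalizer_eq_of_coatom hs hH hne (fittingOf_le H) (le_normalizer_fittingOf H), heq,
    normalizer_eq_of_coatom hs hL (heq ▸ hne) (fittingOf_le L) (le_normalizer_fittingOf L)]

end Cfsg.Agent.OddUniq
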