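import Cfsg.Agent.Lib.OddOrder.SupportR

/-!
The covering of `G^#` by the sets `tilde(M_σ^#)` (Bender-Glauberman 14.6, 16.?) modulo `CoverFacts`.
* `exists_sigma`: every prime divisor of `|G|` lies in some `σ(M)`
* `exists_of_mem_tilde`, `mul_mem_tilde`, `tilde_conj`
* `ncard_tilde` (S1377), `tilde_disjoint`, `cover`, `cover_of_kappa`, `hat_not_mem_tilde` (S1379)
-/

set_option autoImplicit false

namespace Cfsg.Agent.OddMax

open scoped Pointwise

variable {G : Type*} [Group G] [Finite G]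

/-- What the count of BG 14.6 needs beyond `SigFacts`. -/
structure CountFacts (G : Type*) [Group G] [Finite G] : Prop extends SigFacts G where
  /-- statement 1433 -/
  s1433 : ∀ (M N : Subgroup G), IsCoatom M → IsCoatom N → ∀ (x y : G), x ∈ sigmaCore M →
    y ∈ sigmaCore N → x ≠ 1 → y ≠ 1 → x ≠ y →
    ∀ r ∈ supportR M x, ∀ s ∈ supportR N y, x * r ≠ y * s

/-- The facts of BG 13-14 used for the covering theorem, beyond `SigFacts`. -/
structure CoverFacts (G : Type*) [Group G] [Finite G] : Prop extends CountFacts G where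
  /-- statement 1425 -/
  s1425 : ∀ (M : Subgroup G), IsCoatom M → ∀ (Y : Subgroup G), Y ≠ ⊥ →
    (∀ p : ℕ, p.Prime → p ∣ Nat.card Y → p ∈ sigma M) →
    ∃ g : G, Y.map (MulAut.conj g).toMonoidHom ≤ sigmaCore M
  /-- statement 1366 (existence part) -/
  s1366 : ∀ (M : Subgroup G), IsCoatom M → ∀ (K U : Subgroup G),
    IsSigmaDecomposition M K U → K ≠ ⊥ → ∃ Mstar : Subgroup G, IsCoatom Mstar ∧
      K = sigmaCore Mstar ⊓ Subgroup.centralizer
        ((sigmaCore M ⊓ Subgroup.centralizer (K : Set G)) : Set G) ∧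
      IsPiHallOf (kappa Mstar) (sigmaCore M ⊓ Subgroup.centralizer (K : Set G)) Mstar
  /-- statement 1367 -/
  s1367 : ∀ (M : Subgroup G), IsCoatom M → ∀ (K U : Subgroup G),
    IsSigmaDecomposition M K U → K ≠ ⊥ → ∀ (Mstar : Subgroup G), IsCoatom Mstar →
    K = sigmaCore Mstar ⊓ Subgroup.centralizer
      ((sigmaCore M ⊓ Subgroup.centralizer (K : Set G)) : Set G) →
    IsPiHallOf (kappa Mstar) (sigmaCore M ⊓ Subgroup.centralizer (K : Set G)) Mstar →
    (∀ X : Subgroup G, X ≤ sigmaCore M ⊓ Subgroup.centralizer (K : Set G) → (Nat.card X).Prime →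
        Subgroup.centralizer (X : Set G) ≤ M) ∧
      ∀ Y : Subgroup G, Y ≤ K → (Nat.card Y).Prime → Subgroup.centralizer (Y : Set G) ≤ Mstar
  /-- statement 1369 (second part) -/
  s1369 : ∀ (M : Subgroup G), IsCoatom M → ∀ (K U : Subgroup G),
    IsSigmaDecomposition M K U → K ≠ ⊥ → ∀ (Mstar : Subgroup G), IsCoatom Mstar →
    K = sigmaCore Mstar ⊓ Subgroup.centralizer
      ((sigmaCore M ⊓ Subgroup.centralizer (K : Set G)) : Set G) →
    IsPiHallOf (kappa Mstar) (sigmaCore M ⊓ Subgroup.centralizer (K : Set G)) Mstar →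
    ∀ H : Subgroup G, IsCoatom H → (kappa H).Nonempty →
      ∃ g : G, H = M.map (MulAut.conj g).toMonoidHom ∨ H = Mstar.map (MulAut.conj g).toMonoidHom
  /-- statement 1430 (first part) -/
  s1430 : ∀ (M : Subgroup G), IsCoatom M → ∀ (K : Subgroup G), IsPiHallOf (kappa M) K M →
    K ≠ ⊥ → ∀ k ∈ K, k ≠ 1 → sigmaCore M ⊓ Subgroup.centralizer ({k} : Set G) =
      sigmaCore M ⊓ Subgroup.centralizer (K : Set G)

theorem exists_sigma (hG : IsMinSimpleOddOrder G) {p : ℕ} (hp : p.Prime) (hd : p ∣ Nat.card G) :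
    ∃ M : Subgroup G, IsCoatom M ∧ p ∈ sigma M := by
  have := Fact.mk hp
  obtain ⟨P⟩ : Nonempty (Sylow p G) := inferInstance
  have hP1 : (P : Subgroup G) ≠ ⊥ := by
    intro h
    have h2 := congrArg (fun H : Subgroup G => Nat.card H) h
    simp only [P.card_eq_multiplicity, Subgroup.card_bot] at h2
    exact hp.one_lt.ne' ((Nat.pow_eq_one.1 h2).resolve_right
      (hp.factorization_pos_of_dvd Nat.card_pos.ne' hd).ne')
  obtain ⟨M, hM, hNM⟩ := OddSigma.exists_coatom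
    (OddSigma.normalizer_ne_top hG hP1 (OddSigma.top_not_pGroup hG P.2))
  have hPM : (P : Subgroup G) ≤ M := Subgroup.le_normalizer.trans hNM
  refine ⟨M, hM, mem_sigma_iff.2 ⟨?_, P, hPM, P.2, ?_, hNM⟩⟩
  · obtain ⟨k, hk⟩ := P.2.exists_card_eq
    refine (dvd_pow_self p (n := k) ?_).trans (hk ▸ Subgroup.card_dvd_of_le hPM)
    rintro rfl
    exact hP1 (Subgroup.eq_bot_of_card_eq _ (by simpa using hk))
  · exact fun h => P.not_dvd_index (h.trans (Subgroup.relIndex_dvd_index_of_le hPM))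

/-- `tilde(M_σ^#)`. -/
abbrev tildeSigma (M : Subgroup G) : Set G := tildeOf M ((sigmaCore M : Set G) \ {1})

theorem tilde_conj {M : Subgroup G} {z : G} (h : z ∈ tildeSigma M) (y : G) :
    y * z * y⁻¹ ∈ tildeSigma M := by
  obtain ⟨a, ha, r, hr, w, rfl⟩ := h
  exact ⟨a, ha, r, hr, y * w, by group⟩

theorem tilde_conj_iff {M : Subgroup G} {z : G} (y : G) :
    y * z * y⁻¹ ∈ tildeSigma M ↔ z ∈ tildeSigma M :=
  ⟨fun h => by simpa [mul_assoc] using tilde_conj h y⁻¹, fun h => tilde_conj h y⟩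

section

variable (hG : IsMinSimpleOddOrder G)
include hG

theorem mul_mem_tilde (F : SigFacts G) {M : Subgroup G} (hM : IsCoatom M) {g x r : G}
    (hx : x ∈ sigmaCore (MulAut.conj g • M)) (hx1 : x ≠ 1)
    (hr : r ∈ supportR (MulAut.conj g • M) x) : x * r ∈ tildeSigma M := by
  have ha : g⁻¹ * x * g ∈ sigmaCore M := by
    rwa [sigmaCore_conj, Coprime.mem_conj] at hx
  have ha1 : g⁻¹ * x * g ≠ 1 := fun h => hx1 (by
    have h2 : g * (g⁻¹ * x * g) * g⁻¹ = g * 1 * g⁻¹ := by rw [h]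
    simpa [mul_assoc] using h2)
  have he := supportR_conj hG F hM ha ha1 g
  rw [show g * (g⁻¹ * x * g) * g⁻¹ = x by group] at he
  rw [he, Coprime.mem_conj] at hr
  exact ⟨_, ⟨ha, ha1⟩, _, hr, g, by group⟩

theorem exists_of_mem_tilde (F : SigFacts G) {M : Subgroup G} (hM : IsCoatom M) {z : G}
    (hz : z ∈ tildeSigma M) : ∃ g x r : G, x ∈ sigmaCore (MulAut.conj g • M) ∧ x ≠ 1 ∧
      r ∈ supportR (MulAut.conj g • M) x ∧ z = x * r := by
  obtain ⟨a, ⟨ha, ha1⟩, r, hr, w, rfl⟩ := hz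
  refine ⟨w, w * a * w⁻¹, w * r * w⁻¹, ?_, fun h => ha1 (conj_eq_one_iff.1 h), ?_, by group⟩
  · rw [sigmaCore_conj]; exact Coprime.conj_mem_conj.2 ha
  · rw [supportR_conj hG F hM ha ha1]; exact Coprime.conj_mem_conj.2 hr

/-- `x` is a power of `x r` for `r ∈ R(x)`. -/
theorem mem_zpowers_mul (F : SigFacts G) {M : Subgroup G} (hM : IsCoatom M) {x r : G}
    (hx : x ∈ sigmaCore M) (hx1 : x ≠ 1) (hr : r ∈ supportR M x) :
    x ∈ Subgroup.zpowers (x * r) := by
  have hcomm : Commute x r :=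
    (Subgroup.mem_centralizer_singleton_iff.1 (supportR_le_centralizer M x hr)).symm
  have hcop : (orderOf r).Coprime (orderOf x) := by
    by_cases hxM : Subgroup.centralizer ({x} : Set G) ≤ M
    · rw [supportR_eq_bot hxM, Subgroup.mem_bot] at hr
      simp [hr]
    · obtain ⟨N, hN⟩ := exists_signalizer hG F hM hx hx1 hxM
      rw [supportR_eq hG F hM hx hx1 hN hxM] at hr
      exact Nat.coprime_of_dvd fun p hp h1 h2 =>
        (hN.tau2 p hp h2).2.1 (pi_orderOf_of_mem (sigmaCore_pi N) hr.1 p hp h1)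
  obtain ⟨k, hk⟩ := exists_pow_eq_self_of_coprime hcop
  have h : (x ^ orderOf r) ^ k ∈ Subgroup.zpowers (x * r) := by
    rw [show x ^ orderOf r = (x * r) ^ orderOf r by
      rw [hcomm.mul_pow, pow_orderOf_eq_one, mul_one]]
    exact Subgroup.pow_mem _ (Subgroup.pow_mem _ (Subgroup.mem_zpowers _) _) _
  rwa [hk] at h

variable (F : CountFacts G) {M : Subgroup G} (hM : IsCoatom M)
include F hM

theorem tilde_disjoint {N : Subgroup G} (hN : IsCoatom N)
    (hne : ∀ g : G, N ≠ M.map (MulAut.conj g).toMonoidHom) :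
    tildeSigma M ∩ tildeSigma N = ∅ := by
  rw [Set.eq_empty_iff_forall_notMem]
  rintro z ⟨h1, h2⟩
  obtain ⟨g, x, r, hx, hx1, hr, rfl⟩ := exists_of_mem_tilde hG F.toSigFacts hM h1
  obtain ⟨h, y, s, hy, hy1, hs, he⟩ := exists_of_mem_tilde hG F.toSigFacts hN h2
  by_cases hxy : x = y
  · obtain ⟨p, hp, hd, -⟩ := exists_prime_part hx1
    have h3 := pi_orderOf_of_mem (sigmaCore_pi _) hx p hp hd
    have h4 := pi_orderOf_of_mem (sigmaCore_pi _) hy p hp (hxy ▸ hd)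
    rw [sigma_conj] at h3 h4
    obtain ⟨a, ha⟩ := F.sigma_disj M N hM hN ⟨p, h3, h4⟩
    exact hne a ha
  · exact F.s1433 _ _ (OddSigma.isCoatom_conj hM g) (OddSigma.isCoatom_conj hN h) x y hx hy
      hx1 hy1 hxy r hr s hs he

theorem ncard_tilde :
    Set.ncard (tildeSigma M) = (Nat.card (sigmaCore M) - 1) * M.index := by
  classical
  let X : Set G := {x | x ≠ 1 ∧ ∃ y : G, x ∈ sigmaCore (MulAut.conj y • M)}
  let base : X → G := fun x => Classical.choose x.2.2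
  have hbase : ∀ x : X, (x : G) ∈ sigmaCore (MulAut.conj (base x) • M) :=
    fun x => Classical.choose_spec x.2.2
  have hex : ∀ (x : X) (q : G ⧸ M), (x : G) ∈ MulAut.conj q.out • M →
      ∃! r : G, r ∈ supportR (MulAut.conj (base x) • M) (x : G) ∧
        MulAut.conj r • MulAut.conj (base x) • M = MulAut.conj q.out • M := by
    intro x q hxq
    have hxq' : (x : G) ∈ MulAut.conj (q.out * (base x)⁻¹) • MulAut.conj (base x) • M := by
      rwa [Solvable.conj_conj, inv_mul_cancel_right]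
    have h := supportR_existsUnique hG F.toSigFacts (OddSigma.isCoatom_conj hM (base x))
      (hbase x) x.2.1 hxq'
    rwa [Solvable.conj_conj (q.out * (base x)⁻¹), inv_mul_cancel_right] at h
  let α := ((sigmaCore M : Set G) \ {1} : Set G)
  let pt : (G ⧸ M) × α → X := fun p => ⟨p.1.out * p.2 * p.1.out⁻¹,
    fun h => p.2.2.2 (conj_eq_one_iff.1 h), p.1.out, by
      rw [sigmaCore_conj]; exact Coprime.conj_mem_conj.2 p.2.2.1⟩
  have hpt : ∀ p, ((pt p : X) : G) ∈ MulAut.conj p.1.out • M := fun p =>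
    Coprime.conj_mem_conj.2 (sigmaCore_le M p.2.2.1)
  let rr : (G ⧸ M) × α → G := fun p => Classical.choose (hex (pt p) p.1 (hpt p)).exists
  have hrr : ∀ p, rr p ∈ supportR (MulAut.conj (base (pt p)) • M) (pt p : G) ∧
      MulAut.conj (rr p) • MulAut.conj (base (pt p)) • M = MulAut.conj p.1.out • M :=
    fun p => Classical.choose_spec (hex (pt p) p.1 (hpt p)).exists
  have hmem : ∀ p, (pt p : G) * rr p ∈ tildeSigma M := fun p =>
    mul_mem_tilde hG F.toSigFacts hM (hbase (pt p)) (pt p).2.1 (hrr p).1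
  let Φ : (G ⧸ M) × α → tildeSigma M := fun p => ⟨_, hmem p⟩
  have hinj : Function.Injective Φ := by
    intro p p' e
    have e' : (pt p : G) * rr p = pt p' * rr p' := congrArg Subtype.val e
    have hx : pt p = pt p' := Subtype.ext (by_contra fun hne =>
      F.s1433 _ _ (OddSigma.isCoatom_conj hM _) (OddSigma.isCoatom_conj hM _) _ _ (hbase _)
        (hbase _) (pt p).2.1 (pt p').2.1 hne _ (hrr p).1 _ (hrr p').1 e')
    have hr : rr p = rr p' := mul_left_cancel (a := (pt p : G)) (by rw [e', hx])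
    have hq : p.1 = p'.1 := by
      have h1 : MulAut.conj p.1.out • M = MulAut.conj p'.1.out • M := by
        rw [← (hrr p).2, ← (hrr p').2, hr, hx]
      have h2 : p.1.out⁻¹ * p'.1.out ∈ M := OddSigma.mem_of_conj_eq hG hM (by
        rw [← Solvable.conj_conj, ← h1, Solvable.conj_inv_smul])
      rw [← p.1.out_eq', ← p'.1.out_eq']
      exact QuotientGroup.eq.2 h2
    have h2 : p.1.out * (p.2 : G) * p.1.out⁻¹ = p'.1.out * (p'.2 : G) * p'.1.out⁻¹ :=
      congrArg Subtype.val hx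
    rw [hq] at h2
    exact Prod.ext hq (Subtype.ext (mul_left_cancel (mul_right_cancel h2)))
  have hsur : Function.Surjective Φ := by
    rintro ⟨z, hz⟩
    obtain ⟨g, x, r, hx, hx1, hr, rfl⟩ := exists_of_mem_tilde hG F.toSigFacts hM hz
    let x' : X := ⟨x, hx1, g, hx⟩
    set y₀ := base x' with hy₀
    have hR : supportR (MulAut.conj y₀ • M) x = supportR (MulAut.conj g • M) x := by
      have h := supportR_indep hG F.toSigFacts (OddSigma.isCoatom_conj hM g) hx hx1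
        (g := y₀ * g⁻¹) (by rw [Solvable.conj_conj, inv_mul_cancel_right]; exact hbase x')
      rwa [Solvable.conj_conj, inv_mul_cancel_right] at h
    rw [← hR] at hr
    set q : G ⧸ M := QuotientGroup.mk (r * y₀) with hq
    have hqc : MulAut.conj q.out • M = MulAut.conj r • MulAut.conj y₀ • M := by
      obtain ⟨m, hm⟩ := QuotientGroup.mk_out_eq_mul M (r * y₀)
      rw [hq, hm, ← Solvable.conj_conj (r * y₀), Solvable.conj_eq_self m.2, Solvable.conj_conj]
    have hxr : r⁻¹ * x * r = x := by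
      rw [mul_assoc, ← Subgroup.mem_centralizer_singleton_iff.1
        (supportR_le_centralizer _ _ hr), inv_mul_cancel_left]
    have hxq : q.out⁻¹ * x * q.out ∈ sigmaCore M := by
      have : x ∈ sigmaCore (MulAut.conj q.out • M) := by
        rw [hqc, sigmaCore_conj, Coprime.mem_conj, hxr]
        exact hbase x'
      rwa [sigmaCore_conj, Coprime.mem_conj] at this
    have hxq1 : q.out⁻¹ * x * q.out ≠ 1 := fun h => hx1 (by
      have h2 : q.out * (q.out⁻¹ * x * q.out) * q.out⁻¹ = q.out * 1 * q.out⁻¹ := by rw [h]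
      simpa [mul_assoc] using h2)
    let p : (G ⧸ M) × α := (q, ⟨_, hxq, hxq1⟩)
    refine ⟨p, Subtype.ext ?_⟩
    have hp : pt p = x' := Subtype.ext (show q.out * (q.out⁻¹ * x * q.out) * q.out⁻¹ = x by group)
    have hrp : rr p = r := (hex (pt p) p.1 (hpt p)).unique (hrr p)
      (by rw [hp]; exact ⟨hr, hqc.symm⟩)
    show (pt p : G) * rr p = x * r
    rw [hp, hrp]
  rw [← Nat.card_coe_set_eq, ← Nat.card_congr (Equiv.ofBijective Φ ⟨hinj, hsur⟩), Nat.card_prod,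
    Nat.card_coe_set_eq, Set.ncard_sdiff_singleton_of_mem (sigmaCore M).one_mem,
    ← Nat.card_coe_set_eq, Subgroup.index_eq_card, mul_comm]
  rfl

end

section

variable (hG : IsMinSimpleOddOrder G) (F : CoverFacts G) {M : Subgroup G} (hM : IsCoatom M)
include hG F hM

/-- A product of `x ∈ M_σ^#` and a commuting `σ(M)'`-element of `M`. -/
theorem cover_at {x b : G} (hx : x ∈ sigmaCore M) (hx1 : x ≠ 1) (hb : b ∈ M) (hcomm : Commute x b)
    (hbσ : ∀ p : ℕ, p.Prime → p ∣ orderOf b → p ∉ sigma M) :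
    (∃ N : Subgroup G, IsCoatom N ∧ x * b ∈ tildeSigma N) ∨
      (b ≠ 1 ∧ ∀ p : ℕ, p.Prime → p ∣ orderOf b → p ∈ kappa M) := by
  by_cases hb1 : b = 1
  · left
    refine ⟨M, hM, x, ⟨hx, hx1⟩, 1, one_mem _, 1, by simp [hb1]⟩
  rcases F.s1432 M hM x hx hx1 b
    ⟨hb, Subgroup.mem_centralizer_singleton_iff.2 hcomm.symm⟩ hb1 hbσ with
    ⟨h, -⟩ | ⟨-, ⟨L, hL, hLσ⟩, hCM, huniq⟩
  · exact Or.inr ⟨hb1, h⟩
  left
  obtain ⟨g, hg⟩ := F.s1425 L hL (Subgroup.zpowers b)
    (fun h => hb1 (Subgroup.zpowers_eq_bot.1 h)) (fun p hp hd => hLσ p hp (by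
      rwa [Nat.card_zpowers] at hd))
  have hbL : b ∈ sigmaCore (MulAut.conj g⁻¹ • L) := by
    rw [sigmaCore_conj, Coprime.mem_conj, inv_inv]
    exact hg ⟨b, Subgroup.mem_zpowers b, rfl⟩
  have hL' := OddSigma.isCoatom_conj hL g⁻¹
  have hne : ¬ Subgroup.centralizer ({b} : Set G) ≤ MulAut.conj g⁻¹ • L := fun h => by
    obtain ⟨q, hq, hd, -⟩ := exists_prime_part hb1
    refine hbσ q hq hd ?_
    rw [← huniq _ hL' h, sigma_conj]
    exact hLσ q hq hd
  obtain ⟨N', hN'⟩ := exists_signalizer hG F.toSigFacts hL' hbL hb1 hne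
  have hNM : N' = M := huniq _ hN'.coatom hN'.le
  refine ⟨L, hL, ?_⟩
  rw [hcomm.eq]
  refine mul_mem_tilde hG F.toSigFacts hL hbL hb1 ?_
  rw [supportR_eq hG F.toSigFacts hL' hbL hb1 hN' hne, hNM]
  exact ⟨hx, Subgroup.mem_centralizer_singleton_iff.2 hcomm.eq⟩

omit hM in
/-- Every nonidentity element is covered, or is conjugate to a product as in `cover_at` with
`κ(M)`-part. -/
theorem cover {z : G} (hz : z ≠ 1) :
    (∃ N : Subgroup G, IsCoatom N ∧ z ∈ tildeSigma N) ∨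
      ∃ (H : Subgroup G) (y x b : G), IsCoatom H ∧ x ∈ sigmaCore H ∧ x ≠ 1 ∧ b ∈ H ∧
        Commute x b ∧ b ≠ 1 ∧ (∀ p : ℕ, p.Prime → p ∣ orderOf b → p ∈ kappa H) ∧
        z = y * (x * b) * y⁻¹ := by
  obtain ⟨q, hq, hd, -⟩ := exists_prime_part hz
  obtain ⟨M₀, hM₀, hqM⟩ := exists_sigma hG hq (hd.trans (orderOf_dvd_natCard z))
  obtain ⟨a, b, ha, hb, hab, haσ, hbσ⟩ := exists_pi_parts (sigma M₀) z
  have ha1 : a ≠ 1 := by
    rintro rfl
    rw [one_mul] at hab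
    exact hbσ q hq (hab ▸ hd) hqM
  obtain ⟨g, hg⟩ := F.s1425 M₀ hM₀ (Subgroup.zpowers a)
    (fun h => ha1 (Subgroup.zpowers_eq_bot.1 h)) (fun p hp hpd => haσ p hp (by
      rwa [Nat.card_zpowers] at hpd))
  set M := MulAut.conj g⁻¹ • M₀ with hMdef
  have hM : IsCoatom M := OddSigma.isCoatom_conj hM₀ g⁻¹
  have haM : a ∈ sigmaCore M := by
    rw [hMdef, sigmaCore_conj, Coprime.mem_conj, inv_inv]
    exact hg ⟨a, Subgroup.mem_zpowers a, rfl⟩
  have hbM : ∀ p : ℕ, p.Prime → p ∣ orderOf b → p ∉ sigma M := by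
    rw [hMdef, sigma_conj]; exact hbσ
  have hcomm : Commute a b := by
    obtain ⟨i, rfl⟩ := Subgroup.mem_zpowers_iff.1 ha
    obtain ⟨j, rfl⟩ := Subgroup.mem_zpowers_iff.1 hb
    exact (Commute.refl z).zpow_zpow i j
  have finish : ∀ (y b' : G), b' ∈ M → Commute a b' →
      (∀ p : ℕ, p.Prime → p ∣ orderOf b' → p ∉ sigma M) → z = y * (a * b') * y⁻¹ →
      (∃ N : Subgroup G, IsCoatom N ∧ z ∈ tildeSigma N) ∨
      ∃ (H : Subgroup G) (y x b : G), IsCoatom H ∧ x ∈ sigmaCore H ∧ x ≠ 1 ∧ b ∈ H ∧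
        Commute x b ∧ b ≠ 1 ∧ (∀ p : ℕ, p.Prime → p ∣ orderOf b → p ∈ kappa H) ∧
        z = y * (x * b) * y⁻¹ := by
    intro y b' hb' hc hσ' he
    rcases cover_at hG F hM haM ha1 hb' hc hσ' with ⟨N, hN, h⟩ | ⟨h1, h2⟩
    · exact Or.inl ⟨N, hN, he ▸ tilde_conj h y⟩
    · exact Or.inr ⟨M, y, a, b', hM, haM, ha1, hb', hc, h1, h2, he⟩
  set C := Subgroup.centralizer ({a} : Set G) with hC
  have hbC : b ∈ C := Subgroup.mem_centralizer_singleton_iff.2 hcomm.symm
  by_cases hbm : b ∈ M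
  · exact finish 1 b hbm hcomm hbM (by simp [hab])
  have hCM : ¬ C ≤ M := fun h => hbm (h hbC)
  obtain ⟨N, hN⟩ := exists_signalizer hG F.toSigFacts hM haM ha1 hCM
  obtain ⟨s, t, hs, ht, hst, hsσ, htσ⟩ := exists_pi_parts (sigma N) b
  have hsC : s ∈ C := Subgroup.zpowers_le.2 hbC hs
  have htC : t ∈ C := Subgroup.zpowers_le.2 hbC ht
  have hsR : s ∈ sigmaCore N ⊓ C :=
    ⟨mem_sigmaCore_of_sigma F.toSigFacts hN.coatom (hN.le hsC) hsσ, hsC⟩
  by_cases ht1 : t = 1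
  · left
    refine ⟨M, hM, ?_⟩
    rw [← hab, ← hst, ht1, mul_one]
    refine mul_mem_tilde hG F.toSigFacts hM (g := 1) ?_ ha1 ?_
    · rwa [Solvable.conj_one_smul]
    · rw [Solvable.conj_one_smul, supportR_eq hG F.toSigFacts hM haM ha1 hN hCM]
      exact hsR
  -- conjugate `t` into `M` inside `C`
  have : Group.IsSolvable C := Coprime.isSolvable_of_le hN.le
    (OddSigma.proper_solvable hG hN.coatom.1)
  have hHall : IsPiHall (sigma N)ᶜ ((M ⊓ C).subgroupOf C) := by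
    refine ⟨fun p hp hpd hpσ => ?_, fun p hp hpσ hpd => hpσ ?_⟩
    · rw [Cores.card_subgroupOf inf_le_right] at hpd
      refine (F.s1350 N hN.coatom).1.2.2 p hp hpσ ?_
      rw [compl_relIndex_left hN.compl]
      exact hpd.trans (Subgroup.card_dvd_of_le (le_inf inf_le_left (inf_le_right.trans hN.le)))
    · change p ∣ (M ⊓ C).relIndex C at hpd
      rw [compl_relIndex_right hN.compl_centralizer] at hpd
      exact sigmaCore_pi N p hp (hpd.trans (Subgroup.card_dvd_of_le inf_le_left))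
  obtain ⟨u, hu⟩ := Solvable.exists_conj_ge_of_solvable hHall
    (U := Subgroup.zpowers (⟨t, htC⟩ : C))
    (by rw [Nat.card_zpowers, Subgroup.orderOf_mk]; exact htσ)
  have htu : (u : G)⁻¹ * t * u ∈ M ⊓ C := by
    have := Coprime.mem_conj.1 (hu (Subgroup.mem_zpowers (⟨t, htC⟩ : C)))
    exact this
  set t' := (u : G)⁻¹ * t * u with ht'
  set s' := (u : G)⁻¹ * s * u with hs'
  have hot : orderOf t' = orderOf t := by
    simpa [ht'] using orderOf_injective (MulAut.conj ((u : G)⁻¹)).toMonoidHom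
      (MulAut.conj _).injective t
  have htb : orderOf t ∣ orderOf b := orderOf_dvd_of_mem_zpowers ht
  have ht'σ : ∀ p : ℕ, p.Prime → p ∣ orderOf t' → p ∉ sigma M :=
    fun p hp hpd => hbM p hp ((hot ▸ hpd).trans htb)
  have ht'1 : t' ≠ 1 := fun h => ht1 (by
    rw [← orderOf_eq_one_iff, ← hot, h, orderOf_one])
  rcases F.s1432 M hM a haM ha1 t' htu ht'1 ht'σ with ⟨-, h⟩ | ⟨-, -, hCt, -⟩
  · exact absurd h hCM
  have hs'R : s' ∈ sigmaCore N ⊓ C := (Subgroup.mem_normalizer_iff''.1 (hN.normal u.2) s).1 hsR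
  have hs't' : s' * t' = t' * s' := by
    obtain ⟨i, rfl⟩ := Subgroup.mem_zpowers_iff.1 hs
    obtain ⟨j, rfl⟩ := Subgroup.mem_zpowers_iff.1 ht
    rw [hs', ht']
    have h2 : b ^ i * b ^ j = b ^ j * b ^ i := ((Commute.refl b).zpow_zpow i j).eq
    calc _ = (u : G)⁻¹ * (b ^ i * b ^ j) * u := by group
      _ = (u : G)⁻¹ * (b ^ j * b ^ i) * u := by rw [h2]
      _ = _ := by group
  have hs'1 : s' = 1 := by
    have h3 : s' ∈ (M ⊓ C) ⊓ (sigmaCore N ⊓ C) :=
      ⟨⟨hCt (Subgroup.mem_centralizer_singleton_iff.2 hs't'), hs'R.2⟩, hs'R⟩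
    rwa [hN.compl_centralizer.2.2.1, Subgroup.mem_bot] at h3
  refine finish u t' htu.1 (Subgroup.mem_centralizer_singleton_iff.1 htu.2).symm ht'σ ?_
  have hs1 : s = 1 := by
    have h4 : (u : G) * s' * (u : G)⁻¹ = 1 := by rw [hs'1]; group
    rw [← h4, hs']; group
  rw [← hab, ← hst, hs1, one_mul, ht']
  have hua : (u : G) * a = a * u := Subgroup.mem_centralizer_singleton_iff.1 u.2
  calc a * t = a * (u : G) * ((u : G)⁻¹ * t * u) * (u : G)⁻¹ := by group
    _ = (u : G) * a * ((u : G)⁻¹ * t * u) * (u : G)⁻¹ := by rw [hua]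
    _ = _ := by group

end

/-- `Z^ = (K K*) ∖ (K ∪ K*)`. -/
abbrev hatZ (M K : Subgroup G) : Set G :=
  (↑(K ⊔ (sigmaCore M ⊓ Subgroup.centralizer (K : Set G))) : Set G) \
    ((K : Set G) ∪ ↑(sigmaCore M ⊓ Subgroup.centralizer (K : Set G)))

section

variable (hG : IsMinSimpleOddOrder G) (F : CoverFacts G)
include hG F

/-- The `κ`-case of `cover`, at a given pair `(M, K)`. -/
theorem mem_hat_of_kappa {M K : Subgroup G} (hM : IsCoatom M) (hK : IsPiHallOf (kappa M) K M)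
    {x b : G} (hx : x ∈ sigmaCore M) (hx1 : x ≠ 1) (hb : b ∈ M) (hcomm : Commute x b)
    (hb1 : b ≠ 1) (hbκ : ∀ p : ℕ, p.Prime → p ∣ orderOf b → p ∈ kappa M) :
    ∃ y w : G, w ∈ hatZ M K ∧ x * b = y * w * y⁻¹ := by
  have := OddSigma.proper_solvable hG hM.1
  obtain ⟨m, hm⟩ := Solvable.exists_conj_ge_of_solvable (Solvable.isPiHall_subgroupOf hK)
    (U := Subgroup.zpowers (⟨b, hb⟩ : M))
    (by rw [Nat.card_zpowers, Subgroup.orderOf_mk]; exact hbκ)
  have hk : (m : G)⁻¹ * b * m ∈ K := by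
    have h := Coprime.mem_conj.1 (hm (Subgroup.mem_zpowers (⟨b, hb⟩ : M)))
    exact h
  set k := (m : G)⁻¹ * b * m with hkdef
  set x₁ := (m : G)⁻¹ * x * m with hxdef
  have hk1 : k ≠ 1 := fun h => hb1 (by
    have h2 : (m : G) * k * (m : G)⁻¹ = 1 := by rw [h]; group
    rw [← h2, hkdef]; group)
  have hx₁ : x₁ ∈ sigmaCore M :=
    (Subgroup.mem_normalizer_iff''.1 (le_normalizer_sigmaCore M m.2) x).1 hx
  have hKbot : K ≠ ⊥ := fun h => hk1 (by rwa [h, Subgroup.mem_bot] at hk)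
  have hx₁C : x₁ ∈ sigmaCore M ⊓ Subgroup.centralizer (K : Set G) := by
    rw [← F.s1430 M hM K hK hKbot k hk hk1]
    refine ⟨hx₁, Subgroup.mem_centralizer_singleton_iff.2 ?_⟩
    calc x₁ * k = (m : G)⁻¹ * (x * b) * m := by rw [hxdef, hkdef]; group
      _ = (m : G)⁻¹ * (b * x) * m := by rw [hcomm.eq]
      _ = k * x₁ := by rw [hxdef, hkdef]; group
  have hKs : K ⊓ sigmaCore M = ⊥ := Coprime.inf_eq_bot (Nat.coprime_of_dvd fun p hp h1 h2 =>
    (hK.2.1 p hp h1).2.2.1 (sigmaCore_pi M p hp h2))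
  refine ⟨m, x₁ * k, ⟨Subgroup.mul_mem _ ((le_sup_right : _ ≤ K ⊔ _) hx₁C) ((le_sup_left : K ≤ K ⊔ _) hk), ?_⟩,
    by rw [hxdef, hkdef]; group⟩
  rintro (h | h)
  · have h2 : x₁ ∈ K ⊓ sigmaCore M := ⟨by simpa using K.mul_mem h (K.inv_mem hk), hx₁⟩
    rw [hKs, Subgroup.mem_bot] at h2
    apply hx1
    have h3 : (m : G) * x₁ * (m : G)⁻¹ = 1 := by rw [h2]; group
    rw [← h3, hxdef]; group
  · have h2 : k ∈ K ⊓ sigmaCore M :=
      ⟨hk, by simpa using (sigmaCore M).mul_mem ((sigmaCore M).inv_mem hx₁) h.1⟩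
    rw [hKs, Subgroup.mem_bot] at h2
    exact hk1 h2

theorem hatZ_partner {M K Mstar : Subgroup G}
    (hKst : K = sigmaCore Mstar ⊓ Subgroup.centralizer
      ((sigmaCore M ⊓ Subgroup.centralizer (K : Set G)) : Set G)) :
    hatZ Mstar (sigmaCore M ⊓ Subgroup.centralizer (K : Set G)) = hatZ M K := by
  have h : sigmaCore Mstar ⊓ Subgroup.centralizer
      ((sigmaCore M ⊓ Subgroup.centralizer (K : Set G) : Subgroup G) : Set G) = K := hKst.symm
  unfold hatZ
  rw [h, sup_comm, Set.union_comm]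

theorem cover_of_kappa {M K U : Subgroup G} (hM : IsCoatom M) (hKU : IsSigmaDecomposition M K U)
    (hK1 : K ≠ ⊥) {z : G} (hz : z ≠ 1) :
    (∃ N : Subgroup G, IsCoatom N ∧ z ∈ tildeSigma N) ∨
      ∃ y : G, ∃ w ∈ hatZ M K, z = y * w * y⁻¹ := by
  rcases cover hG F hz with h | ⟨H, y, x, b, hH, hx, hx1, hb, hcomm, hb1, hbκ, rfl⟩
  · exact Or.inl h
  obtain ⟨Ms, hMs, hKst, hKstH⟩ := F.s1366 M hM K U hKU hK1
  obtain ⟨q, hq, hd, -⟩ := exists_prime_part hb1
  obtain ⟨g, hg⟩ := F.s1369 M hM K U hKU hK1 Ms hMs hKst hKstH H hH ⟨q, hbκ q hq hd⟩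
  have key : ∀ (M₁ K₁ : Subgroup G), IsCoatom M₁ → IsPiHallOf (kappa M₁) K₁ M₁ →
      H = MulAut.conj g • M₁ →
      (∃ N : Subgroup G, IsCoatom N ∧ y * (x * b) * y⁻¹ ∈ tildeSigma N) ∨
        ∃ y' : G, ∃ w ∈ hatZ M₁ K₁, y * (x * b) * y⁻¹ = y' * w * y'⁻¹ := by
    intro M₁ K₁ hM₁ hK₁ hHM
    have hob : orderOf (g⁻¹ * b * g) = orderOf b := by
      simpa using orderOf_injective (MulAut.conj g⁻¹).toMonoidHom (MulAut.conj _).injective b
    rw [hHM, Coprime.mem_conj] at hb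
    rw [hHM, sigmaCore_conj, Coprime.mem_conj] at hx
    have hc : Commute (g⁻¹ * x * g) (g⁻¹ * b * g) := by
      show g⁻¹ * x * g * (g⁻¹ * b * g) = g⁻¹ * b * g * (g⁻¹ * x * g)
      calc _ = g⁻¹ * (x * b) * g := by group
        _ = g⁻¹ * (b * x) * g := by rw [hcomm.eq]
        _ = _ := by group
    have he : y * (x * b) * y⁻¹ = (y * g) * (g⁻¹ * x * g * (g⁻¹ * b * g)) * (y * g)⁻¹ := by group
    have hx1' : g⁻¹ * x * g ≠ 1 := fun h => hx1 (by
      have h2 : g * (g⁻¹ * x * g) * g⁻¹ = g * 1 * g⁻¹ := by rw [h]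
      simpa [mul_assoc] using h2)
    rcases cover_at hG F hM₁ hx hx1' hb hc (fun p hp hpd => by
        have h3 := (hbκ p hp (hob ▸ hpd)).2.2.1
        rwa [hHM, sigma_conj] at h3) with ⟨N, hN, h⟩ | ⟨h1, h2⟩
    · exact Or.inl ⟨N, hN, he ▸ tilde_conj h _⟩
    · obtain ⟨y', w, hw, hw'⟩ := mem_hat_of_kappa hG F hM₁ hK₁ hx hx1' hb hc h1 h2
      exact Or.inr ⟨y * g * y', w, hw, by rw [he, hw']; group⟩
  rcases hg with hg | hg
  · exact key M K hM hKU.hall hg
  · rcases key Ms _ hMs hKstH hg with h | ⟨y', w, hw, hw'⟩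
    · exact Or.inl h
    · exact Or.inr ⟨y', w, hatZ_partner hG F hKst ▸ hw, hw'⟩

theorem not_mem_tilde_aux {M A B N : Subgroup G} (hM : IsCoatom M) (hN : IsCoatom N)
    (hA : A ≤ sigmaCore M) (hB : B ≤ M) (hBA : B ≤ Subgroup.normalizer (A : Set G))
    (hBσ : ∀ p : ℕ, p.Prime → p ∣ Nat.card B → p ∉ sigma M)
    (hC : ∀ X : Subgroup G, X ≤ A → (Nat.card X).Prime → Subgroup.centralizer (X : Set G) ≤ M)
    {w g x r : G} (hw : w ∈ A ⊔ B) (hwA : w ∉ A)
    (hx : x ∈ sigmaCore (MulAut.conj g • N)) (hx1 : x ≠ 1)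
    (hr : r ∈ supportR (MulAut.conj g • N) x) (he : w = x * r)
    {p : ℕ} (hp : p.Prime) (hpx : p ∣ orderOf x) (hpM : p ∈ sigma M) : False := by
  have h3 := pi_orderOf_of_mem (sigmaCore_pi _) hx p hp hpx
  rw [sigma_conj] at h3
  obtain ⟨a, rfl⟩ := F.sigma_disj M N hM hN ⟨p, hpM, h3⟩
  change x ∈ sigmaCore (MulAut.conj g • MulAut.conj a • M) at hx
  change r ∈ supportR (MulAut.conj g • MulAut.conj a • M) x at hr
  rw [Solvable.conj_conj] at hx hr
  have hxσ : Solvable.IsPiNum (sigma M) (orderOf x) := by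
    have := pi_orderOf_of_mem (sigmaCore_pi _) hx
    rwa [sigma_conj] at this
  have hxw : x ∈ A ⊔ B := Subgroup.zpowers_le.2 hw
    (he ▸ mem_zpowers_mul hG F.toSigFacts (OddSigma.isCoatom_conj hM _) hx hx1 hr)
  have hxMσ : x ∈ sigmaCore M := mem_sigmaCore_of_sigma F.toSigFacts hM
    (sup_le (hA.trans (sigmaCore_le M)) hB hxw) hxσ
  have hxA : x ∈ A := by
    obtain ⟨u, hu, v, hv, huv⟩ := (Coprime.mem_sup_iff hBA).1 hxw
    have h4 : v ∈ B ⊓ sigmaCore M := ⟨hv, by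
      have := (sigmaCore M).mul_mem ((sigmaCore M).inv_mem (hA hu)) hxMσ
      rwa [← huv, inv_mul_cancel_left] at this⟩
    rw [Coprime.inf_eq_bot (Nat.coprime_of_dvd fun q hq h5 h6 =>
      hBσ q hq h5 (sigmaCore_pi M q hq h6)), Subgroup.mem_bot] at h4
    rw [← huv, h4, mul_one]; exact hu
  obtain ⟨q, hq, -, x₀, hx₀, hox₀⟩ := exists_prime_part hx1
  have hCx : Subgroup.centralizer ({x} : Set G) ≤ M := (centralizer_le_of_mem_zpowers hx₀).trans
    (hC _ (Subgroup.zpowers_le.2 (Subgroup.zpowers_le.2 hxA hx₀)) (by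
      rw [Nat.card_zpowers, hox₀]; exact hq))
  rw [Solvable.conj_eq_self (mem_of_centralizer_le hG F.toSigFacts hM hxMσ hx1 hCx
    (sigmaCore_le _ hx)), supportR_eq_bot hCx, Subgroup.mem_bot] at hr
  exact hwA (by rw [he, hr, mul_one]; exact hxA)

theorem hat_not_mem_tilde {M K U : Subgroup G} (hM : IsCoatom M)
    (hKU : IsSigmaDecomposition M K U) (hK1 : K ≠ ⊥) {N : Subgroup G} (hN : IsCoatom N) (y : G)
    {w : G} (hw : w ∈ hatZ M K) : y * w * y⁻¹ ∉ tildeSigma N := by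
  rw [tilde_conj_iff]
  intro h
  obtain ⟨g, x, r, hx, hx1, hr, he⟩ := exists_of_mem_tilde hG F.toSigFacts hN h
  obtain ⟨Ms, hMs, hKst, hKstH⟩ := F.s1366 M hM K U hKU hK1
  obtain ⟨h67a, h67b⟩ := F.s1367 M hM K U hKU hK1 Ms hMs hKst hKstH
  set Kst := sigmaCore M ⊓ Subgroup.centralizer (K : Set G) with hKstdef
  have hKC : K ≤ Subgroup.centralizer (Kst : Set G) := by
    rw [hKst]; exact inf_le_right
  have hKM : K ≤ sigmaCore Ms := by rw [hKst]; exact inf_le_left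
  have hKstC : Kst ≤ Subgroup.centralizer (K : Set G) := inf_le_right
  have hxz : x ∈ K ⊔ Kst := Subgroup.zpowers_le.2 hw.1
    (he ▸ mem_zpowers_mul hG F.toSigFacts (OddSigma.isCoatom_conj hN g) hx hx1 hr)
  obtain ⟨p, hp, hpx, -⟩ := exists_prime_part hx1
  have hpd : p ∣ Nat.card K * Nat.card Kst := by
    refine hpx.trans ?_
    have h1 := orderOf_dvd_natCard (⟨x, hxz⟩ : ↥(K ⊔ Kst))
    rw [Subgroup.orderOf_mk] at h1
    rwa [Coprime.card_sup_of_coprime (hKstC.trans (Subgroup.centralizer_le_normalizer _))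
      (Nat.coprime_of_dvd fun q hq h5 h6 => (hKU.hall.2.1 q hq h5).2.2.1
        (sigmaCore_pi M q hq (h6.trans (Subgroup.card_dvd_of_le inf_le_left))))] at h1
  rcases hp.dvd_mul.1 hpd with hpK | hpK
  · refine not_mem_tilde_aux hG F (A := K) (B := Kst) hMs hN hKM hKstH.1
      (hKstC.trans (Subgroup.centralizer_le_normalizer _))
      (fun q hq hd => (hKstH.2.1 q hq hd).2.2.1) h67b hw.1 (fun h' => hw.2 (Or.inl h'))
      hx hx1 hr he hp hpx (sigmaCore_pi Ms p hp (hpK.trans (Subgroup.card_dvd_of_le hKM)))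
  · exact not_mem_tilde_aux hG F (A := Kst) (B := K) hM hN inf_le_left hKU.hall.1
      (hKC.trans (Subgroup.centralizer_le_normalizer _))
      (fun q hq hd => (hKU.hall.2.1 q hq hd).2.2.1) h67a (by rw [sup_comm]; exact hw.1)
      (fun h' => hw.2 (Or.inr h'))
      hx hx1 hr he hp hpx (sigmaCore_pi M p hp (hpK.trans (Subgroup.card_dvd_of_le inf_le_left)))

end

end Cfsg.Agent.OddMax
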