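import Cfsg.Agent.Lib.OddOrder.Bender
import Cfsg.Agent.Lib.Puig.Relative
import Cfsg.Agent.Lib.Coprime.Generation

/-!
The uniqueness criterion: a nontrivial `p`-subgroup `B` of a maximal subgroup `M` such that every
`B`-invariant `p'`-subgroup lies in `M` has `M` as its only maximal overgroup.

The deep facts used are passed as hypotheses (`ZLFact`, `RankTwoFact`, `SCNTransFact`, `SCNFact`).
-/

set_option autoImplicit false

namespace Cfsg.Agent.OddUniq

open scoped Pointwise commutatorElement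
open OddTrans

variable {G : Type*} [Group G]

/-! ### The centre of the Puig subgroup -/

theorem map_puigIn_subtype {X : Subgroup G} : ∀ (n : ℕ) (T : Subgroup X),
    (Puig.puigIn T n).map X.subtype = Puig.puigIn (T.map X.subtype) n
  | 0, T => by rw [Puig.puigIn_zero, Subgroup.map_bot, Puig.puigIn_zero]
  | n + 1, T => by
    have ih := map_puigIn_subtype n T
    refine le_antisymm ?_ ?_
    · rw [Subgroup.map_le_iff_le_comap]
      refine Puig.puigIn_succ_le fun A hAT hA hX => ?_
      rw [← Subgroup.map_le_iff_le_comap]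
      refine Puig.le_puigIn_succ (Subgroup.map_mono hAT) inferInstance ?_
      rw [← ih]
      exact (Subgroup.map_mono hX).trans (Subgroup.le_normalizer_map _)
    · refine Puig.puigIn_succ_le fun A hAT hA hX => ?_
      have hAX : A ≤ X := hAT.trans (Subgroup.map_subtype_le T)
      rw [← Subgroup.map_subgroupOf_eq_of_le hAX]
      refine Subgroup.map_mono (Puig.le_puigIn_succ ?_ ?_ ?_)
      · intro a ha
        obtain ⟨b, hb, e⟩ := hAT ha
        exact Subtype.ext e ▸ hb
      · exact ⟨⟨fun a b => Subtype.ext (Subtype.ext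
          (congrArg (Subtype.val : A → G) (hA.is_comm.comm ⟨(a : X), a.2⟩ ⟨(b : X), b.2⟩)))⟩⟩
      · intro x hx
        have h := hX (ih ▸ Subgroup.mem_map_of_mem X.subtype hx)
        rw [Subgroup.mem_normalizer_iff] at h ⊢
        exact fun y => h (y : G)

theorem map_puigTop_subtype [Finite G] {X : Subgroup G} (T : Subgroup X) :
    (Puig.puigTop T).map X.subtype = Puig.puigTop (T.map X.subtype) := by
  obtain ⟨k, hk⟩ := Puig.exists_stable T
  obtain ⟨l, hl⟩ := Puig.exists_stable (T.map X.subtype)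
  rw [← (hk (max k l) (le_max_left k l)).2, ← (hl (max k l) (le_max_right k l)).2,
    map_puigIn_subtype]

/-- The centre of the Puig subgroup of `R`, inside `G`. -/
def zl (R : Subgroup G) : Subgroup G :=
  Puig.puigTop R ⊓ Subgroup.centralizer (Puig.puigTop R : Set G)

theorem map_zl [Finite G] {X : Subgroup G} (T : Subgroup X) :
    (zl T).map X.subtype = zl (T.map X.subtype) := by
  ext x
  constructor
  · rintro ⟨y, hy, rfl⟩
    refine ⟨map_puigTop_subtype T ▸ Subgroup.mem_map_of_mem X.subtype hy.1,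
      Subgroup.mem_centralizer_iff.2 fun w hw => ?_⟩
    rw [← map_puigTop_subtype] at hw
    obtain ⟨v, hv, rfl⟩ := hw
    exact congrArg Subtype.val (Subgroup.mem_centralizer_iff.1 hy.2 v hv)
  · rintro ⟨hx, hxC⟩
    rw [← map_puigTop_subtype] at hx
    obtain ⟨y, hy, rfl⟩ := hx
    refine ⟨y, ⟨hy, Subgroup.mem_centralizer_iff.2 fun v hv => Subtype.ext ?_⟩, rfl⟩
    exact Subgroup.mem_centralizer_iff.1 hxC v
      (map_puigTop_subtype T ▸ Subgroup.mem_map_of_mem X.subtype hv)

theorem zl_le (R : Subgroup G) : zl R ≤ R := inf_le_left.trans (Puig.puigTop_le_self R)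

theorem normalizer_le_normalizer_zl [Finite G] (R : Subgroup G) :
    Subgroup.normalizer (R : Set G) ≤ Subgroup.normalizer (zl R : Set G) :=
  Signalizer.le_normalizer_inf (Puig.normalizer_le_normalizer_puigTop R)
    (Signalizer.le_normalizer_centralizer (Puig.normalizer_le_normalizer_puigTop R))

theorem zl_ne_bot [Finite G] {p : ℕ} [Fact p.Prime] {R : Subgroup G} (hR : IsPGroup p R)
    (h : R ≠ ⊥) : zl R ≠ ⊥ := by
  have : Nontrivial R := (Subgroup.nontrivial_iff_ne_bot R).2 h
  have := hR.center_nontrivial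
  obtain ⟨z, hz1⟩ := exists_ne (1 : Subgroup.center R)
  intro h0
  have hzC : ((z : R) : G) ∈ Subgroup.centralizer (Puig.puigTop R : Set G) :=
    Subgroup.mem_centralizer_iff.2 fun y hy => congrArg Subtype.val
      (Subgroup.mem_center_iff.1 z.2 ⟨y, Puig.puigTop_le_self R hy⟩)
  have h1 : ((z : R) : G) ∈ zl R :=
    ⟨Puig.inf_centralizer_puigTop_le hR ⟨(z : R).2, hzC⟩, hzC⟩
  rw [h0, Subgroup.mem_bot] at h1
  exact hz1 (Subtype.ext (Subtype.ext h1))

/-! ### The deep facts used -/

/-- Glauberman's factorisation `X = O_{p'}(X) N_X(Z L(S))`, in every solvable subgroup. -/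
def ZLFact (p : ℕ) (G : Type*) [Group G] : Prop :=
  ∀ (X : Subgroup G) (S : Sylow p X), Group.IsSolvable X →
    X ≤ piCoreOf (primesNotDvd p) X ⊔
      (X ⊓ Subgroup.normalizer (zl ((S : Subgroup X).map X.subtype) : Set G))

/-- Solvable subgroups of `p`-rank at most 2 have `O_{p',p}` of index prime to `p`. -/
def RankTwoFact (p : ℕ) (G : Type*) [Group G] : Prop :=
  ∀ X : Subgroup G, Group.IsSolvable X → PRankLE p 2 X → (pPrimePCore p X).index.Coprime p

/-- Members of `SCN₂(P)` satisfy the transitivity hypothesis. -/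
def SCNTransFact (p : ℕ) (G : Type*) [Group G] : Prop :=
  ∀ (P : Sylow p G) (A : Subgroup G), IsSCN (P : Subgroup G) A → ¬ PRankLE p 1 A →
    TransitivityHypothesis A

/-- A `p`-group of rank at least 3 has a member of `SCN₃`. -/
def SCNFact (p : ℕ) (G : Type*) [Group G] : Prop :=
  ∀ P : Subgroup G, IsPGroup p P → ¬ PRankLE p 2 P →
    ∃ A : Subgroup G, IsSCN P A ∧ ¬ PRankLE p 2 A

/-! ### Ranks and SCN subgroups -/

variable [Finite G] {p : ℕ}

omit [Finite G] in
theorem card_le_of_pRankLE {k : ℕ} {X E : Subgroup G} (h : PRankLE p k X) (hEX : E ≤ X)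
    (hE : IsElementaryAbelian p E) : Nat.card E ≤ p ^ k := by
  have h1 := h (E.subgroupOf X) ⟨⟨fun a b => Subtype.ext (Subtype.ext
      (congrArg (Subtype.val : E → G) (hE.1.is_comm.comm ⟨(a : X), a.2⟩ ⟨(b : X), b.2⟩)))⟩⟩
    fun a ha => Subtype.ext (hE.2 _ ha)
  rwa [Cores.card_subgroupOf hEX] at h1

omit [Finite G] in
theorem pRankLE_of_forall {k : ℕ} {X : Subgroup G}
    (h : ∀ E : Subgroup G, E ≤ X → IsElementaryAbelian p E → Nat.card E ≤ p ^ k) :
    PRankLE p k X := by
  intro E hE hE'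
  have h1 := h (E.map X.subtype) (Subgroup.map_subtype_le E) ⟨inferInstance, ?_⟩
  · rwa [Cores.card_map_subtype] at h1
  · rintro _ ⟨a, ha, rfl⟩
    rw [← map_pow, hE' a ha, map_one]

theorem exists_elem_of_not_pRankLE [hp : Fact p.Prime] {k : ℕ} {X : Subgroup G}
    (h : ¬ PRankLE p k X) :
    ∃ E : Subgroup G, E ≤ X ∧ IsElementaryAbelian p E ∧ p ^ (k + 1) ≤ Nat.card E := by
  by_contra hcon
  push Not at hcon
  refine h (pRankLE_of_forall fun E hEX hE => ?_)
  have hlt := hcon E hEX hE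
  obtain ⟨j, hj⟩ := (Signalizer.isPGroup_of_elemAb hE).exists_card_eq
  rw [hj] at hlt ⊢
  exact Nat.pow_le_pow_right hp.out.pos
    (Nat.lt_succ_iff.1 ((Nat.pow_lt_pow_iff_right hp.out.one_lt).1 hlt))

omit [Finite G] in
theorem not_pRankLE_mono [hp : Fact p.Prime] {k l : ℕ} (hkl : k ≤ l) {X : Subgroup G}
    (h : ¬ PRankLE p l X) : ¬ PRankLE p k X := fun hk => h fun A hA hA' =>
  (hk A hA hA').trans (Nat.pow_le_pow_right hp.out.pos hkl)

omit [Finite G] in
theorem scn_le_centralizer {P A : Subgroup G} (hA : IsSCN P A) :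
    A ≤ Subgroup.centralizer (A : Set G) := hA.2.2.ge.trans inf_le_right

omit [Finite G] in
theorem scn_isMulCommutative {P A : Subgroup G} (hA : IsSCN P A) : IsMulCommutative A :=
  Subgroup.le_centralizer_iff_isMulCommutative.1 (scn_le_centralizer hA)

omit [Finite G] in
theorem primesNotDvd_card_of_isPGroup [hp : Fact p.Prime] [Finite G] {A : Subgroup G}
    (hA : IsPGroup p A) (hA1 : A ≠ ⊥) : primesNotDvd (Nat.card A) = primesNotDvd p := by
  ext q
  refine and_congr_right fun hq => not_congr ⟨fun h => ?_, fun h => ?_⟩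
  · rw [Set.mem_singleton_iff.1 (pi_of_isPGroup hA q hq h)]
  · exact h.trans (dvd_card_of_le hA1 hA le_rfl)

/-- An abelian normal subgroup of a Sylow `p`-subgroup of a solvable group of odd order lies in
`O_{p',p}`. -/
theorem le_pPrimePCore_of_abelian_normal {X : Type*} [Group X] [Finite X] [Group.IsSolvable X]
    (hodd : Odd (Nat.card X)) [Fact p.Prime] (hp2 : p ≠ 2) (S : Sylow p X) {A : Subgroup X}
    (hAS : A ≤ S) (hA : IsMulCommutative A)
    (hAn : (S : Subgroup X) ≤ Subgroup.normalizer (A : Set X)) : A ≤ pPrimePCore p X := by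
  set f := QuotientGroup.mk' (pPrimeCore p X) with hf
  have hsurj : Function.Surjective f := QuotientGroup.mk'_surjective _
  have : Group.IsSolvable (X ⧸ pPrimeCore p X) := Group.isSolvable_of_surjective hsurj
  set R := pCore p (X ⧸ pPrimeCore p X) with hR
  have hRn : R.Normal := Subgroup.sSup_normal _ fun _ h => h.1
  have hRS : R ≤ (S : Subgroup X).map f :=
    (Cores.pCore_le_sylow (S.mapSurjective hsurj)).trans (Sylow.coe_mapSurjective hsurj S).le
  have hRA : R ≤ Subgroup.normalizer (A.map f : Set (X ⧸ pPrimeCore p X)) :=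
    hRS.trans ((Subgroup.map_mono hAn).trans (Subgroup.le_normalizer_map f))
  have hAc : IsMulCommutative (A.map f) := inferInstance
  intro a ha
  have hfa : f a ∈ A.map f := Subgroup.mem_map_of_mem f ha
  have hquad : OddStable.QuadOn (f a) R := by
    intro v hv
    have h1 : f a * v * (f a)⁻¹ * v⁻¹ ∈ A.map f := by
      have h2 : f a * v * (f a)⁻¹ * v⁻¹ = f a * (v * (f a)⁻¹ * v⁻¹) := by group
      rw [h2]
      exact mul_mem hfa ((Subgroup.mem_normalizer_iff.1 (hRA hv) _).1 (inv_mem hfa))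
    exact Signalizer.commute_of_isMulCommutative hAc hfa h1
  have hodd' : Odd (Nat.card (X ⧸ pPrimeCore p X)) :=
    hodd.of_dvd_nat (Subgroup.card_quotient_dvd_card _)
  have h1 := OddStable.mem_pCore_quotient_centralizer hodd' hp2 (Cores.isPGroup_pCore p _) hquad
  have hC : Subgroup.centralizer (R : Set (X ⧸ pPrimeCore p X)) ≤ R :=
    Solvable.centralizer_pCore_le_of_isSolvable (Cores.pPrimeCore_quotient_self p)
  set g := QuotientGroup.mk' (Subgroup.centralizer (R : Set (X ⧸ pPrimeCore p X))) with hg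
  have hJn : (pCore p ((X ⧸ pPrimeCore p X) ⧸
      Subgroup.centralizer (R : Set (X ⧸ pPrimeCore p X)))).Normal :=
    Subgroup.sSup_normal _ fun _ h => h.1
  have hJ : IsPGroup p ↥((pCore p ((X ⧸ pPrimeCore p X) ⧸
      Subgroup.centralizer (R : Set (X ⧸ pPrimeCore p X)))).comap g) :=
    (Cores.isPGroup_pCore p _).comap_of_ker_isPGroup g (by
      rw [QuotientGroup.ker_mk']; exact (Cores.isPGroup_pCore p _).to_le hC)
  exact Cores.le_pCore (hJn.comap g) hJ h1

/-- Frattini argument: `X = O_{p'}(X) N_X(S ∩ O_{p',p}(X))`. -/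
theorem le_piCoreOf_sup_normalizer [hp : Fact p.Prime] (X : Subgroup G) (S : Sylow p X) :
    X ≤ piCoreOf (primesNotDvd p) X ⊔ (X ⊓ Subgroup.normalizer
      ((((S : Subgroup X) ⊓ pPrimePCore p X).map X.subtype : Subgroup G) : Set G)) := by
  set O2 := pPrimePCore p X with hO2
  set T := (S : Subgroup X) ⊓ O2 with hT
  have hpn : (pCore p (X ⧸ pPrimeCore p X)).Normal := Subgroup.sSup_normal _ fun _ h => h.1
  have hO2n : O2.Normal := hpn.comap _
  have h1 : O2 ≤ pPrimeCore p X ⊔ T := by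
    intro x hx
    have h2 := Cores.pCore_le_sylow (S.mapSurjective (QuotientGroup.mk'_surjective
      (pPrimeCore p X))) hx
    rw [Sylow.coe_mapSurjective] at h2
    obtain ⟨s, hs, e⟩ := h2
    have hW : x * s⁻¹ ∈ pPrimeCore p X := by
      rw [← QuotientGroup.eq_one_iff, QuotientGroup.mk_mul, QuotientGroup.mk_inv]
      show (QuotientGroup.mk' (pPrimeCore p X)) x * ((QuotientGroup.mk' (pPrimeCore p X)) s)⁻¹ = 1
      rw [e, mul_inv_cancel]
    have hsO : s ∈ O2 := by
      show (QuotientGroup.mk' (pPrimeCore p X)) s ∈ pCore p (X ⧸ pPrimeCore p X)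
      rw [e]; exact hx
    have := mul_mem (Subgroup.mem_sup_left hW) (Subgroup.mem_sup_right ⟨hs, hsO⟩ :
      s ∈ pPrimeCore p X ⊔ T)
    rwa [inv_mul_cancel_right] at this
  obtain ⟨Q, hQ⟩ := Cores.sylow_inf_isSubnormal S hO2n.isSubnormal
  have hQT : (Q : Subgroup O2).map O2.subtype = T := by
    rw [hQ, Subgroup.subgroupOf_map_subtype]
  have h2 := Sylow.normalizer_sup_eq_top Q
  rw [hQT] at h2
  have h3 : (⊤ : Subgroup X) ≤ pPrimeCore p X ⊔ Subgroup.normalizer (T : Set X) := by
    rw [← h2]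
    exact sup_le le_sup_right (h1.trans (sup_le le_sup_left
      (Subgroup.le_normalizer.trans le_sup_right)))
  intro x hx
  have h4 := Subgroup.mem_map_of_mem X.subtype (h3 (Subgroup.mem_top ⟨x, hx⟩))
  rw [Subgroup.map_sup] at h4
  suffices h5 : (pPrimeCore p X).map X.subtype ⊔
      (Subgroup.normalizer (T : Set X)).map X.subtype ≤
      piCoreOf (primesNotDvd p) X ⊔ (X ⊓ Subgroup.normalizer
        ((T.map X.subtype : Subgroup G) : Set G)) from h5 h4
  refine sup_le ?_ ?_
  · rw [piCoreOf_primesNotDvd_prime]; exact le_sup_left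
  · exact le_sup_of_le_right
      (le_inf (Subgroup.map_subtype_le _) (Subgroup.le_normalizer_map _))

/-! ### The criterion -/

theorem criterion (hs : IsSimpleGroup G) (hna : ¬ IsMulCommutative G)
    (hsol : ∀ X : Subgroup G, X ≠ ⊤ → Group.IsSolvable X) (hodd : Odd (Nat.card G))
    [hp : Fact p.Prime] (hZL : ZLFact p G) (h2 : RankTwoFact p G) (hTr : SCNTransFact p G)
    (hSCN : SCNFact p G) {M B : Subgroup G} (hM : IsCoatom M) (hBM : B ≤ M) (hBp : IsPGroup p B)
    (hB1 : B ≠ ⊥)
    (hW : ∀ Y : Subgroup G, IsPi (primesNotDvd p) Y → B ≤ Subgroup.normalizer (Y : Set G) →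
      Y ≤ M) : InUniqueMaximal B := by
  have hp2 : p ≠ 2 := by
    rintro rfl
    exact (Nat.not_even_iff_odd.2 hodd) (even_iff_two_dvd.2
      ((dvd_card_of_le hB1 hBp le_rfl).trans (Subgroup.card_subgroup_dvd_card B)))
  refine unique_intro hM hBM fun L₀ hL₀ hBL₀ => ?_
  by_contra hne₀
  let Cand : Set (Subgroup G) := {R | IsPGroup p R ∧ R ≤ M ∧
    ∃ L : Subgroup G, IsCoatom L ∧ L ≠ M ∧ R ≤ L ∧ ∃ m ∈ M, MulAut.conj m • B ≤ R}
  obtain ⟨R, hR, hRmax⟩ := (Set.toFinite Cand).exists_maximalFor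
    (fun R : Subgroup G => Nat.card R) _ ⟨B, hBp, hBM, L₀, hL₀, hne₀, hBL₀, 1, one_mem M,
      by rw [map_one, one_smul]⟩
  obtain ⟨hRp, hRM, L, hL, hLM, hRL, m, hm, hBR⟩ := hR
  set B' := MulAut.conj m • B with hB'
  have hW' : ∀ Y : Subgroup G, IsPi (primesNotDvd p) Y →
      B' ≤ Subgroup.normalizer (Y : Set G) → Y ≤ M := by
    intro Y hY hBY y hy
    have h1 : MulAut.conj m⁻¹ • Y ≤ M := by
      refine hW _ (fun q hq hd => hY q hq (by rwa [Coprime.card_conj] at hd)) fun b hb => ?_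
      refine Coprime.mem_normalizer_of_forall fun z hz => ?_
      rw [Coprime.mem_conj, inv_inv] at hz ⊢
      have := (Subgroup.mem_normalizer_iff.1 (hBY (Coprime.conj_mem_conj.2 hb :
        m * b * m⁻¹ ∈ B')) _).1 hz
      group at this ⊢
      exact this
    have h2 : m⁻¹ * y * m ∈ M := h1 (by
      have := (Coprime.conj_mem_conj (g := m⁻¹)).2 hy
      rwa [inv_inv] at this)
    have h3 := M.mul_mem (M.mul_mem hm h2) (M.inv_mem hm)
    group at h3
    simpa using h3
  have hR1 : R ≠ ⊥ := fun h => hB1 (Subgroup.eq_bot_of_card_eq B (by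
    have h1 : Nat.card B' ∣ 1 := by
      have := Subgroup.card_dvd_of_le hBR
      rwa [h, Subgroup.card_bot] at this
    rw [Coprime.card_conj] at h1
    exact Nat.dvd_one.1 h1))
  have hRtop : R ≠ ⊤ := fun h => hM.1 (top_le_iff.1 (h ▸ hRM))
  obtain ⟨S₀, hS₀⟩ := (hRp.comap_subtype (K := M)).exists_le_sylow
  obtain ⟨P, hP⟩ : ∃ P : Subgroup G, P = (S₀ : Subgroup M).map M.subtype := ⟨_, rfl⟩
  have hPM : P ≤ M := hP ▸ Subgroup.map_subtype_le _
  have hPp : IsPGroup p P := hP ▸ S₀.2.map _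
  have hRP : R ≤ P := by
    rw [hP]
    exact fun x hx => ⟨⟨x, hRM hx⟩, hS₀ hx, rfl⟩
  -- an overgroup of `B'` containing a larger `p`-subgroup of `M` lies in `M`
  have key : ∀ {T X : Subgroup G}, IsPGroup p T → R < T → T ≤ M → T ≤ X → X ≠ ⊤ → X ≤ M := by
    intro T X hT hlt hTM hTX hX
    obtain ⟨L', hL', hXL'⟩ := exists_coatom_ge hX
    by_contra hnot
    have h1 : L' ≠ M := fun h => hnot (h ▸ hXL')
    refine absurd (hRmax ⟨hT, hTM, L', hL', h1, hTX.trans hXL', m, hm, hBR.trans hlt.le⟩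
      (Subgroup.card_le_of_le hlt.le)) (not_le_of_gt ?_)
    exact (Subgroup.card_le_of_le hlt.le).lt_of_ne
      fun he => hlt.ne (Subgroup.eq_of_le_of_card_ge hlt.le he.ge)
  -- when `N(R) ≤ M`, `R` is a Sylow subgroup of `L`
  have hSylL : Subgroup.normalizer (R : Set G) ≤ M →
      ∃ S : Sylow p L, (S : Subgroup L).map L.subtype = R := by
    intro hN
    obtain ⟨S, hS⟩ := (hRp.comap_subtype (K := L)).exists_le_sylow
    refine ⟨S, ?_⟩
    have hle : R ≤ (S : Subgroup L).map L.subtype := fun x hx => ⟨⟨x, hRL hx⟩, hS hx, rfl⟩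
    by_contra hne
    have hlt := lt_inf_normalizer (S.2.map L.subtype) (lt_of_le_of_ne hle (Ne.symm hne))
    exact hLM ((hL.le_iff.1
      (key ((S.2.map L.subtype).to_le inf_le_left) hlt (inf_le_right.trans hN)
        (inf_le_left.trans (Subgroup.map_subtype_le _)) hL.1)).resolve_left hM.1).symm
  have hW_L : piCoreOf (primesNotDvd p) L ≤ M :=
    hW' _ (piCoreOf_pi _ _) ((hBR.trans hRL).trans (le_normalizer_piCoreOf _ _))
  have hLle : ∀ {X : Subgroup G}, L ≤ X → X ≤ M → False := fun h1 h2 =>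
    hLM ((hL.le_iff.1 (h1.trans h2)).resolve_left hM.1).symm
  rcases lt_or_eq_of_le hRP with hlt | hRPeq
  · have hlt' := lt_inf_normalizer hPp hlt
    have hN : Subgroup.normalizer (R : Set G) ≤ M :=
      key (hPp.to_le inf_le_left) hlt' (inf_le_left.trans hPM) inf_le_right
        (normalizer_ne_top hs hR1 hRtop)
    obtain ⟨S, hS⟩ := hSylL hN
    have hzN : Subgroup.normalizer (zl R : Set G) ≤ M :=
      key (hPp.to_le inf_le_left) hlt' (inf_le_left.trans hPM)
        (inf_le_right.trans (normalizer_le_normalizer_zl R))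
        (normalizer_ne_top hs (zl_ne_bot hRp hR1)
          fun h => hRtop (top_le_iff.1 (h ▸ zl_le R)))
    have h := hZL L S (hsol L hL.1)
    rw [hS] at h
    exact hLle h (sup_le hW_L (inf_le_right.trans hzN))
  subst hRPeq
  set U := piCoreOf (primesNotDvd p) M with hU
  have hUle : U ≤ M := piCoreOf_le _ _
  have hYU : ∀ Y : Subgroup G, IsPi (primesNotDvd p) Y → R ≤ Subgroup.normalizer (Y : Set G) →
      Y ≤ U := fun Y hY hRY =>
    le_piCoreOf_of_sylow_le_normalizer (hsol M hM.1) S₀ (hP ▸ hRY)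
      (hW' Y hY (hBR.trans hRY)) (pi'_iff_coprime.1 hY)
  by_cases hU1 : U = ⊥
  · have hMz : M ≤ Subgroup.normalizer (zl R : Set G) := by
      have := hZL M S₀ (hsol M hM.1)
      rw [← hP, ← hU, hU1, bot_sup_eq] at this
      exact this.trans inf_le_right
    have hNz := normalizer_eq_of_coatom hs hM (zl_ne_bot hRp hR1) ((zl_le R).trans hRM) hMz
    have hN : Subgroup.normalizer (R : Set G) ≤ M :=
      (normalizer_le_normalizer_zl R).trans hNz.le
    obtain ⟨S, hS⟩ := hSylL hN
    have h := hZL L S (hsol L hL.1)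
    rw [hS] at h
    exact hLle h (sup_le hW_L (inf_le_right.trans hNz.le))
  have hMU : M ≤ Subgroup.normalizer (U : Set G) := le_normalizer_piCoreOf _ _
  have hNU : Subgroup.normalizer (U : Set G) = M := normalizer_eq_of_coatom hs hM hU1 hUle hMU
  have hNR : Subgroup.normalizer (R : Set G) ≤ M := by
    intro g hg
    rw [← hNU]
    refine Coprime.mem_normalizer_of_forall fun x hx => ?_
    refine hYU (MulAut.conj g • U)
      (fun q hq hd => piCoreOf_pi _ _ q hq (by rwa [Coprime.card_conj] at hd)) ?_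
      (Coprime.conj_mem_conj.2 hx)
    intro r hr
    refine Coprime.mem_normalizer_of_forall fun y hy => ?_
    rw [Coprime.mem_conj] at hy ⊢
    have := (Subgroup.mem_normalizer_iff.1
      (hMU (hRM ((Subgroup.mem_normalizer_iff''.1 hg r).1 hr))) _).1 hy
    group at this ⊢
    exact this
  obtain ⟨S, hS⟩ := hSylL hNR
  -- `R` is a Sylow subgroup of `G`
  obtain ⟨SG, hSG⟩ := hRp.exists_le_sylow
  have hSGeq : (SG : Subgroup G) = R := by
    by_contra hne
    have hlt := lt_inf_normalizer SG.2 (lt_of_le_of_ne hSG (Ne.symm hne))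
    obtain ⟨x, hx, hxR⟩ := SetLike.exists_of_lt hlt
    have hle : R ≤ (SG : Subgroup G) ⊓ Subgroup.normalizer (R : Set G) := hlt.le
    have hmem := S₀.3 ((SG.2.to_le inf_le_left).comap_subtype
      (H := (SG : Subgroup G) ⊓ Subgroup.normalizer (R : Set G))) (fun y hy =>
        hle (hP ▸ ⟨y, hy, rfl⟩ : (y : G) ∈ R))
    refine hxR ?_
    rw [hP]
    exact ⟨⟨x, hNR hx.2⟩, hmem.le hx, rfl⟩
  set T := ((S : Subgroup L) ⊓ pPrimePCore p L).map L.subtype with hT
  have hTR : T ≤ R := hS ▸ Subgroup.map_mono inf_le_left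
  suffices hNT : Subgroup.normalizer (T : Set G) ≤ M from
    hLle (le_piCoreOf_sup_normalizer L S) (sup_le hW_L (inf_le_right.trans hNT))
  have : Group.IsSolvable L := hsol L hL.1
  by_cases hr : PRankLE p 2 R
  · have hrL : PRankLE p 2 L := by
      refine pRankLE_of_forall fun E _ hE => ?_
      obtain ⟨SE, hSE⟩ := (Signalizer.isPGroup_of_elemAb hE).exists_le_sylow
      obtain ⟨g, hg⟩ := MulAction.exists_smul_eq G SE SG
      have hgE : MulAut.conj g • E ≤ R := by
        rw [← hSGeq, ← hg]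
        exact Subgroup.pointwise_smul_le_pointwise_smul_iff.2 hSE
      have h := card_le_of_pRankLE hr hgE ⟨?_, ?_⟩
      · rwa [Coprime.card_conj] at h
      · have := hE.1
        exact inferInstanceAs (IsMulCommutative (E.map (MulAut.conj g).toMonoidHom))
      · rintro _ ⟨a, ha, rfl⟩
        show (MulAut.conj g) a ^ p = 1
        rw [← map_pow, hE.2 a ha, map_one]
    have hcop := h2 L inferInstance hrL
    have hSle : (S : Subgroup L) ≤ pPrimePCore p L := by
      have hn : (pPrimePCore p L).Normal :=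
        (Subgroup.sSup_normal _ fun _ h => h.1 : (pCore p (L ⧸ pPrimeCore p L)).Normal).comap _
      intro x hx
      rw [← QuotientGroup.eq_one_iff, ← orderOf_eq_one_iff]
      refine Nat.eq_one_of_dvd_coprimes (b := Nat.card (S : Subgroup L)) ?_
        (orderOf_dvd_natCard _)
        ((orderOf_map_dvd (QuotientGroup.mk' (pPrimePCore p L)) x).trans
          (by
            have h := orderOf_dvd_natCard (⟨x, hx⟩ : (S : Subgroup L))
            rw [Subgroup.orderOf_mk] at h
            exact h))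
      obtain ⟨k, hk⟩ := IsPGroup.iff_card.1 S.2
      rw [hk, ← Subgroup.index_eq_card]
      exact hcop.pow_right k
    rw [hT, inf_eq_left.2 hSle, hS]
    exact hNR
  obtain ⟨A, hA, hA3⟩ := hSCN R hRp hr
  have hAR : A ≤ R := hA.1
  have hAp : IsPGroup p A := hRp.to_le hAR
  have hAc := scn_isMulCommutative hA
  have hTH : TransitivityHypothesis A :=
    hTr SG A (by rw [hSGeq]; exact hA) (not_pRankLE_mono one_le_two hA3)
  have hA1 : A ≠ ⊥ := hTH.1
  have hπA := primesNotDvd_card_of_isPGroup hAp hA1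
  obtain ⟨E, hEA, hE, hE3⟩ := exists_elem_of_not_pRankLE hA3
  have hEZ : E ≤ A ⊓ Subgroup.centralizer (A : Set G) :=
    le_inf hEA (hEA.trans (scn_le_centralizer hA))
  have hK : coreK A ≤ U := by
    refine hYU _ (fun q hq hd => hπA ▸ piCoreOf_pi _ _ q hq hd) fun r hr' => ?_
    exact mem_normalizer_piCoreOf (Signalizer.le_normalizer_centralizer hA.2.1 hr')
  have hAU : ∀ Y : Subgroup G, IsPi (primesNotDvd p) Y → A ≤ Subgroup.normalizer (Y : Set G) →
      Y ≤ U := by
    intro Y hY hAY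
    have hAsol : Group.IsSolvable A := Coprime.isSolvable_of_isPGroup hAp
    refine Coprime.le_of_invariant_sylow_le hAY
      (coprime_of_primesNotDvd (n := Nat.card A) (hπA.symm ▸ hY)) (Or.inl hAsol)
      fun q Q hq hQY hQ hAQ => ?_
    by_cases hqY : q ∣ Nat.card Y
    swap
    · have : Fact q.Prime := ⟨hq⟩
      suffices Q = ⊥ by rw [this]; exact bot_le
      by_contra hQ1
      exact hqY (dvd_card_of_le hQ1 hQ hQY)
    have : Fact q.Prime := ⟨hq⟩
    have hqA : ¬ q ∣ Nat.card A := (hπA.symm ▸ hY q hq hqY : q ∈ primesNotDvd (Nat.card A)).2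
    obtain ⟨Q₁, hQ₁, hQle⟩ := exists_max_ge (pi_of_isPGroup hQ) hAQ
    have hin : Inherits A A q := ⟨subset_rfl,
      fun _ h₁ _ h₂ => transitive_of_rank_three hTH hsol hs hq hqA hna hE hE3 hEZ h₁ h₂⟩
    have hinR := inherits_of_subnormal hTH hsol hs hq hqA hna hAR
      (fun r hr' hd => by
        rw [Set.mem_singleton_iff.1 (pi_of_isPGroup hRp r hr' hd)]
        exact dvd_card_of_le hA1 hAp le_rfl)
      (isSubnormal_subgroupOf hRp.isNilpotent) hin
    obtain ⟨Q₀, hQ₀, -⟩ := exists_max_ge (q := q) (B := R) (U := ⊥)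
      (fun r hr' hd => absurd (by simpa using hd) hr'.ne_one)
      (fun b _ => Coprime.mem_normalizer_of_forall fun x hx => by
        rw [Subgroup.mem_bot] at hx ⊢; simp [hx])
    have hQ₀U : Q₀ ≤ U := by
      refine hYU Q₀ (fun r hr' hd => ?_) hQ₀.1.2.2
      rw [Set.mem_singleton_iff.1 (hQ₀.1.2.1 r hr' hd)]
      exact hY q hq hqY
    obtain ⟨k, hk, e⟩ :=
      transitive_of_rank_three hTH hsol hs hq hqA hna hE hE3 hEZ (hinR.1 hQ₀) hQ₁
    refine hQle.trans (e ▸ ?_)
    refine (Subgroup.pointwise_smul_le_pointwise_smul_iff.2 hQ₀U).trans (le_of_eq ?_)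
    exact Coprime.conj_eq_of_mem_normalizer (Subgroup.le_normalizer (hK hk))
  have hAT : A ≤ T := by
    have h1 : A.subgroupOf L ≤ (S : Subgroup L) := fun x hx => by
      obtain ⟨y, hy, e⟩ := hS.ge (hAR hx)
      exact Subtype.ext e ▸ hy
    have h2' := le_pPrimePCore_of_abelian_normal
      (hodd.of_dvd_nat (Subgroup.card_subgroup_dvd_card L)) hp2 S h1
      ⟨⟨fun a b => Subtype.ext (Subtype.ext (Signalizer.commute_of_isMulCommutative hAc a.2 b.2))⟩⟩
      (fun x hx => Coprime.mem_normalizer_of_forall fun y hy =>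
        (Subgroup.mem_normalizer_iff.1 (hA.2.1 (hS ▸ ⟨x, hx, rfl⟩ : (x : G) ∈ R)) _).1 hy)
    exact fun a ha => ⟨⟨a, hRL (hAR ha)⟩, ⟨h1 ha, h2' ha⟩, rfl⟩
  intro g hg
  rw [← hNU]
  refine Coprime.mem_normalizer_of_forall fun x hx => ?_
  refine hAU (MulAut.conj g • U)
    (fun q hq hd => piCoreOf_pi _ _ q hq (by rwa [Coprime.card_conj] at hd)) ?_
    (Coprime.conj_mem_conj.2 hx)
  intro a ha
  refine Coprime.mem_normalizer_of_forall fun y hy => ?_
  rw [Coprime.mem_conj] at hy ⊢
  have := (Subgroup.mem_normalizer_iff.1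
    (hMU (hRM (hTR ((Subgroup.mem_normalizer_iff''.1 hg a).1 (hAT ha))))) _).1 hy
  group at this ⊢
  exact this

end Cfsg.Agent.OddUniq
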