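import Cfsg.Agent.Lib.OddOrder.SigFacts
import Cfsg.Agent.Lib.OddOrder.Compl

/-!
The signalizer lemma (Bender-Glauberman 14.4) modulo `SigFacts`:
* `exists_signalizer`: for `x ∈ M_σ^#` with `C(x) ≰ M`, the maximal subgroup over `C(x)`
* `exists_conj_eq`: `x ∈ g M g⁻¹` gives `g M g⁻¹ = c M c⁻¹` with `c ∈ C(x)`
* `exists_fusion`, `exists_normal_complement`, `supportR_eq`, `decomp_facts`
-/

set_option autoImplicit false

namespace Cfsg.Agent.OddMax

open scoped Pointwise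

variable {G : Type*} [Group G] [Finite G]

theorem not_isCyclic_of_elementary {q : ℕ} [hq : Fact q.Prime] {A : Subgroup G}
    (hA : IsElementaryAbelian q A) (hc : q ^ 2 ≤ Nat.card A) : ¬ IsCyclic A := by
  intro h
  obtain ⟨a, ha⟩ := h.exists_generator
  have h1 : Nat.card A = orderOf a := (orderOf_eq_card_of_forall_mem_zpowers ha).symm
  have h2 : orderOf a ∣ q := orderOf_dvd_of_pow_eq_one (Subtype.ext (hA.2 _ a.2))
  have h3 := Nat.le_of_dvd hq.out.pos h2
  have h4 : q * 1 < q * q := Nat.mul_lt_mul_of_pos_left hq.out.one_lt hq.out.pos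
  rw [sq, h1] at hc
  omega

theorem prankLE_one_of_cyclic_sylow {p : ℕ} [Fact p.Prime] {M : Subgroup G} (P : Sylow p M)
    (hP : IsCyclic (P : Subgroup M)) : PRankLE p 1 M := by
  refine OddSigma.prankLE_of_sylow P ?_
  by_contra h
  obtain ⟨A, hA, hAe, hc⟩ := OddSigma.exists_elementary h
  refine not_isCyclic_of_elementary hAe hc ?_
  have : IsCyclic ↥((P : Subgroup M).map M.subtype) :=
    (Subgroup.equivMapOfInjective _ M.subtype M.subtype_injective).isCyclic.1 hP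
  exact isCyclic_of_injective (Subgroup.inclusion hA) (Subgroup.inclusion_injective hA)

theorem not_mem_kappa_of_tau2 {p : ℕ} {M : Subgroup G} (hp : p ∈ tau2 M) : p ∉ kappa M := by
  intro hk
  have := Fact.mk hp.1
  obtain ⟨P⟩ : Nonempty (Sylow p M) := inferInstance
  exact hp.2.2.2 (prankLE_one_of_cyclic_sylow P (hk.2.2.2 P).1)

/-- A prime divisor of the order of `x` and the subgroup of that order in `⟨x⟩`. -/
theorem exists_prime_part {x : G} (hx : x ≠ 1) :
    ∃ q, q.Prime ∧ q ∣ orderOf x ∧ ∃ x₀ ∈ Subgroup.zpowers x, orderOf x₀ = q := by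
  obtain ⟨q, hq, hd⟩ := Nat.exists_prime_and_dvd (n := orderOf x)
    fun h => hx (orderOf_eq_one_iff.1 h)
  exact ⟨q, hq, hd, x ^ (orderOf x / q), Subgroup.pow_mem _ (Subgroup.mem_zpowers x) _,
    orderOf_pow_orderOf_div (orderOf_pos x).ne' hd⟩

theorem centralizer_le_of_mem_zpowers {x y : G} (hy : y ∈ Subgroup.zpowers x) :
    Subgroup.centralizer ({x} : Set G) ≤
      Subgroup.centralizer ((Subgroup.zpowers y : Subgroup G) : Set G) := by
  intro c hc z hz
  obtain ⟨i, rfl⟩ := Subgroup.zpowers_le.2 hy hz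
  exact ((show Commute x c from (Subgroup.mem_centralizer_singleton_iff.1 hc).symm).zpow_left i).eq

theorem centralizer_zpowers (x : G) :
    Subgroup.centralizer ((Subgroup.zpowers x : Subgroup G) : Set G) =
      Subgroup.centralizer ({x} : Set G) := by
  refine le_antisymm (Subgroup.centralizer_le ?_)
    (centralizer_le_of_mem_zpowers (Subgroup.mem_zpowers x))
  simp

section

variable (hG : IsMinSimpleOddOrder G) (F : SigFacts G) {M : Subgroup G} (hM : IsCoatom M)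
include hG F hM

omit hG in
theorem sigmaCore_coprime :
    (Nat.card (sigmaCore M)).Coprime ((sigmaCore M).relIndex M) :=
  Nat.coprime_of_dvd fun p hp h1 h2 =>
    (F.s1350 M hM).1.2.2 p hp ((F.s1350 M hM).1.2.1 p hp h1) h2

theorem exists_compl_sigmaCore : ∃ E, IsComplIn E (sigmaCore M) M :=
  have := OddSigma.proper_solvable hG hM.1
  exists_compl (sigmaCore_le M) (le_normalizer_sigmaCore M) (sigmaCore_coprime F hM)

omit hG in
theorem mem_sigmaCore_of_sigma {x : G} (hx : x ∈ M)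
    (h : ∀ p : ℕ, p.Prime → p ∣ orderOf x → p ∈ sigma M) : x ∈ sigmaCore M :=
  mem_of_coprime_relIndex (le_normalizer_sigmaCore M) hx
    (Nat.coprime_of_dvd fun p hp h1 h2 => (F.s1350 M hM).1.2.2 p hp (h p hp h1) h2)

/-- The facts on the maximal subgroup over the normaliser of a subgroup of prime order of `M`,
that prime lying in `σ(M)`. -/
theorem order_q_facts {q : ℕ} [Fact q.Prime] (hq : q ∈ sigma M) {X : Subgroup G}
    (hXc : Nat.card X = q) (hXM : X ≤ M) {N : Subgroup G} (hN : IsCoatom N) (hne : N ≠ M)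
    (hNX : Subgroup.normalizer (X : Set G) ≤ N) :
    (∀ g : G, N ≠ MulAut.conj g • M) ∧ q ∉ sigma N ∧ q ∈ tau2 N ∧
      Group.IsNilpotent (sigmaCore N) ∧ IsComplIn (M ⊓ N) (sigmaCore N) N := by
  have hqp : q.Prime := Fact.out
  have hXp : IsPGroup q X := IsPGroup.of_card (n := 1) (by rw [hXc, pow_one])
  have hX1 : X ≠ ⊥ := by
    intro h; rw [h, Subgroup.card_bot] at hXc; exact hqp.one_lt.ne hXc
  have hXN : X ≤ N := Subgroup.le_normalizer.trans hNX
  obtain ⟨S, hS⟩ := (hXp.comap_of_injective (M ⊓ N).subtype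
    (M ⊓ N).subtype_injective).exists_le_sylow
  have hXS : X ≤ (S : Subgroup ↥(M ⊓ N)).map (M ⊓ N).subtype := fun x hx =>
    ⟨⟨x, hXM hx, hXN hx⟩, hS hx, rfl⟩
  obtain ⟨hnc, -, hidx⟩ := F.s1424 M hM q hq X hXp hX1 hXM N hN hne hNX S hXS
  set T := (S : Subgroup ↥(M ⊓ N)).map (M ⊓ N).subtype with hT
  have hTle : T ≤ M ⊓ N := Subgroup.map_subtype_le _
  have hqN : q ∉ sigma N := fun h => by
    obtain ⟨g, hg⟩ := F.sigma_disj M N hM hN ⟨q, hq, h⟩
    exact hnc g hg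
  obtain ⟨⟨hr2, hr1⟩, -, -⟩ := F.s1409 N hN q hqN X hXc hNX
  have htau : q ∈ tau2 N := ⟨hqp, hqN, hr2, hr1⟩
  obtain ⟨P, hP⟩ := exists_sylow_eq (S.2.map _) (hTle.trans inf_le_right) hidx
  obtain ⟨A, hAT, hA, hAc⟩ := OddSigma.exists_elementary (p := q) (k := 1) (H := T)
    fun h => hr1 (OddSigma.prankLE_of_sylow P (by rw [hP]; exact h))
  have hAM : A ≤ M := hAT.trans (hTle.trans inf_le_left)
  have hAN : A ≤ N := hAT.trans (hTle.trans inf_le_right)
  have hAc2 : Nat.card A = q ^ 2 := le_antisymm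
    (not_lt.1 fun h => OddSigma.not_prankLE_of_le hAN hA h hr2) hAc
  obtain ⟨hnil, -, -, -, he, -⟩ := F.s1417 N hN q htau A ⟨hAN, hA, hAc2⟩
  have hNsM : sigmaCore N ⊓ M = ⊥ := he M hM (Ne.symm hne) hAM
  have hcopA : (Nat.card A).Coprime (Nat.card (sigmaCore N)) := by
    rw [hAc2]
    exact ((hqp.coprime_iff_not_dvd).2
      fun h => hqN (sigmaCore_pi N q hqp h)).pow_left 2
  have := OddSigma.proper_solvable hG hN.1
  obtain ⟨E, hE, hAE⟩ := exists_compl_ge (sigmaCore_le N) (le_normalizer_sigmaCore N)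
    (sigmaCore_coprime F hN) hAN hcopA
  obtain ⟨⟨-, -⟩, ⟨-, hEeq, -⟩, -⟩ := F.s1418 N hN E hE q htau A ⟨hAE, hA, hAc2⟩
  obtain ⟨E', hE'⟩ := exists_compl_sigmaCore hG F hM
  have hNA : Subgroup.normalizer (A : Set G) ≤ M := (F.s1420 M hM E' hE').2.2.1 q A hq
    (Signalizer.isPGroup_of_elemAb hA) hAM (not_isCyclic_of_elementary hA hAc)
  have hEM : E ≤ M := (hEeq ▸ inf_le_right).trans hNA
  refine ⟨hnc, hqN, htau, hnil, ?_⟩
  suffices h : M ⊓ N = E by rwa [h]
  refine le_antisymm (fun m hm => ?_) (le_inf hEM hE.1)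
  obtain ⟨e, he', s, hs, rfl⟩ := hE.2.2.2 m hm.2
  have : s ∈ sigmaCore N ⊓ M := ⟨hs, by simpa using M.mul_mem (M.inv_mem (hEM he')) hm.1⟩
  rw [hNsM, Subgroup.mem_bot] at this
  rwa [this, mul_one]

end

/-- The conclusion of the signalizer lemma on `M`, `x` and the maximal subgroup `N` over `C(x)`. -/
structure IsSignalizer (M : Subgroup G) (x : G) (N : Subgroup G) : Prop where
  coatom : IsCoatom N
  le : Subgroup.centralizer ({x} : Set G) ≤ N
  unique : ∀ L : Subgroup G, IsCoatom L → Subgroup.centralizer ({x} : Set G) ≤ L → L = N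
  not_conj : ∀ g : G, N ≠ MulAut.conj g • M
  fitting_eq : sigmaCore N = fittingHallOf N
  normal : Subgroup.centralizer ({x} : Set G) ≤ Subgroup.normalizer
    ((sigmaCore N ⊓ Subgroup.centralizer ({x} : Set G) : Subgroup G) : Set G)
  compl_centralizer : IsComplIn (M ⊓ Subgroup.centralizer ({x} : Set G))
    (sigmaCore N ⊓ Subgroup.centralizer ({x} : Set G)) (Subgroup.centralizer ({x} : Set G))
  compl : IsComplIn (M ⊓ N) (sigmaCore N) N
  ne_bot : sigmaCore N ⊓ Subgroup.centralizer ({x} : Set G) ≠ ⊥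
  tau2 : ∀ p : ℕ, p.Prime → p ∣ orderOf x → p ∈ Cfsg.tau2 N

theorem IsSignalizer.not_mem {M N : Subgroup G} {x : G} (h : IsSignalizer M x N) (hx : x ≠ 1) :
    x ∉ sigmaCore N := by
  intro hxN
  obtain ⟨q, hq, hd, -⟩ := exists_prime_part hx
  refine (h.tau2 q hq hd).2.1 (sigmaCore_pi N q hq (hd.trans ?_))
  have := orderOf_dvd_natCard (⟨x, hxN⟩ : sigmaCore N)
  rwa [Subgroup.orderOf_mk] at this

section

variable (hG : IsMinSimpleOddOrder G) (F : SigFacts G) {M : Subgroup G} (hM : IsCoatom M)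
  {x : G} (hx : x ∈ sigmaCore M) (hx1 : x ≠ 1)
include hG F hM hx hx1

/-- BG 14.4. -/
theorem exists_signalizer (hxM : ¬ Subgroup.centralizer ({x} : Set G) ≤ M) :
    ∃ N, IsSignalizer M x N := by
  have hxMmem : x ∈ M := sigmaCore_le M hx
  obtain ⟨q, hq, hd, x₀, hx₀, hox₀⟩ := exists_prime_part hx1
  have := Fact.mk hq
  set X := Subgroup.zpowers x₀ with hX
  have hXc : Nat.card X = q := by rw [hX, Nat.card_zpowers, hox₀]
  have hqσ : q ∈ sigma M := sigmaCore_pi M q hq (hd.trans (by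
    have := orderOf_dvd_natCard (⟨x, hx⟩ : sigmaCore M)
    rwa [Subgroup.orderOf_mk] at this))
  have hXM : X ≤ M := Subgroup.zpowers_le.2 (Subgroup.zpowers_le.2 hxMmem hx₀)
  have hX1 : X ≠ ⊥ := by
    intro h; rw [h, Subgroup.card_bot] at hXc; exact hq.one_lt.ne hXc
  obtain ⟨N, hN, hNX⟩ := OddSigma.exists_coatom
    (OddSigma.normalizer_ne_top hG hX1 fun h => hM.1 (top_le_iff.1 (h ▸ hXM)))
  set C := Subgroup.centralizer ({x} : Set G) with hC
  have hCN : C ≤ N := ((centralizer_le_of_mem_zpowers hx₀).trans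
    (Subgroup.centralizer_le_normalizer _)).trans hNX
  have hne : N ≠ M := fun h => hxM (h ▸ hCN)
  obtain ⟨hnc, -, htau, hnil, hcompl⟩ := order_q_facts hG F hM hqσ hXc hXM hN hne hNX
  have hxC : x ∈ C := Subgroup.mem_centralizer_singleton_iff.2 rfl
  have hxE : x ∈ M ⊓ N := ⟨hxMmem, hCN hxC⟩
  have hnE : M ⊓ N ≤ Subgroup.normalizer (sigmaCore N : Set G) :=
    inf_le_right.trans (le_normalizer_sigmaCore N)
  have hcompC : IsComplIn (M ⊓ C) (sigmaCore N ⊓ C) C := by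
    refine ⟨inf_le_right, inf_le_right, ?_, fun c hc => ?_⟩
    · rw [eq_bot_iff, ← hcompl.2.2.1]
      exact fun y hy => ⟨⟨hy.1.1, hCN hy.1.2⟩, hy.2.1⟩
    · obtain ⟨e, he, s, hs, rfl⟩ := hcompl.2.2.2 c (hCN hc)
      obtain ⟨h1, h2⟩ := commute_parts hcompl hnE hxE he hs
        (Subgroup.mem_centralizer_singleton_iff.1 hc).symm
      exact ⟨e, ⟨he.1, Subgroup.mem_centralizer_singleton_iff.2 h1.symm⟩, s,
        ⟨hs, Subgroup.mem_centralizer_singleton_iff.2 h2.symm⟩, rfl⟩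
  have hR : sigmaCore N ⊓ C ≠ ⊥ := by
    intro h
    refine hxM fun c hc => ?_
    obtain ⟨e, he, s, hs, rfl⟩ := hcompC.2.2.2 c hc
    rw [h, Subgroup.mem_bot] at hs
    rw [hs, mul_one]
    exact he.1
  have hxσ : ∀ p : ℕ, p.Prime → p ∣ orderOf x → p ∉ sigma N := fun p hp hpd hpσ => by
    refine (F.s1350 N hN).1.2.2 p hp hpσ ?_
    rw [compl_relIndex_left hcompl]
    refine hpd.trans ?_
    have := orderOf_dvd_natCard (⟨x, hxE⟩ : ↥(M ⊓ N))
    rwa [Subgroup.orderOf_mk] at this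
  obtain ⟨⟨y, hy⟩, hy1⟩ := Subgroup.ne_bot_iff_exists_ne_one.1 hR
  have hy1' : y ≠ 1 := fun h => hy1 (Subtype.ext h)
  have hxy : x ∈ N ⊓ Subgroup.centralizer ({y} : Set G) :=
    ⟨hCN hxC, Subgroup.mem_centralizer_singleton_iff.2
      (Subgroup.mem_centralizer_singleton_iff.1 hy.2).symm⟩
  rcases F.s1432 N hN y hy.1 hy1' x hxy hx1 hxσ with ⟨hk, -⟩ | ⟨ht, -, -, huniq⟩
  · exact absurd (hk q hq hd) (not_mem_kappa_of_tau2 htau)
  refine ⟨N, hN, hCN, huniq, hnc,
    (fittingHallOf_eq_of_nilpotent hG hN (F.s1350 N hN).1 hnil).symm, ?_, hcompC, hcompl, hR, ht⟩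
  intro c hc
  refine Coprime.mem_normalizer_of_forall fun z hz => ⟨?_, C.mul_mem (C.mul_mem hc hz.2) (C.inv_mem hc)⟩
  exact (Subgroup.mem_normalizer_iff.1 (le_normalizer_sigmaCore N (hCN hc)) z).1 hz.1

/-- If `x ∈ g M g⁻¹` then `g M g⁻¹ = c M c⁻¹` for some `c` centralizing `x`. -/
theorem exists_conj_eq {g : G} (hg : x ∈ MulAut.conj g • M) :
    ∃ c ∈ Subgroup.centralizer ({x} : Set G), MulAut.conj g • M = MulAut.conj c • M := by
  have hxMmem : x ∈ M := sigmaCore_le M hx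
  obtain ⟨q, hq, -, x₀, hx₀, hox₀⟩ := exists_prime_part hx1
  have := Fact.mk hq
  have hx₀σ : x₀ ∈ sigmaCore M := Subgroup.zpowers_le.2 hx hx₀
  have hx₀1 : x₀ ≠ 1 := fun h => by rw [h, orderOf_one] at hox₀; exact hq.one_lt.ne hox₀
  set X := Subgroup.zpowers x₀ with hX
  have hXc : Nat.card X = q := by rw [hX, Nat.card_zpowers, hox₀]
  have hqσ : q ∈ sigma M := sigmaCore_pi M q hq (by
    rw [← hXc]; exact Subgroup.card_dvd_of_le (Subgroup.zpowers_le.2 hx₀σ))
  have hXM : X ≤ M := Subgroup.zpowers_le.2 (sigmaCore_le M hx₀σ)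
  have hX1 : X ≠ ⊥ := by
    intro h; rw [h, Subgroup.card_bot] at hXc; exact hq.one_lt.ne hXc
  have hle : X.map (MulAut.conj g⁻¹).toMonoidHom ≤ M := by
    have h1 : X ≤ MulAut.conj g • M :=
      Subgroup.zpowers_le.2 (Subgroup.zpowers_le.2 hg hx₀)
    have h2 : MulAut.conj g⁻¹ • X ≤ MulAut.conj g⁻¹ • MulAut.conj g • M :=
      (conj_le_conj g⁻¹).2 h1
    rwa [Solvable.conj_inv_smul] at h2
  obtain ⟨m, hm, c, hc, hgc⟩ :=
    (F.s1404 M hM q hqσ X (IsPGroup.of_card (n := 1) (by rw [hXc, pow_one])) hX1 hXM).1 g⁻¹ hle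
  have hgM : MulAut.conj g • M = MulAut.conj c⁻¹ • M := by
    have : g = c⁻¹ * m⁻¹ := by rw [← inv_inv g, hgc, mul_inv_rev]
    rw [this, ← Solvable.conj_conj, Solvable.conj_eq_self (M.inv_mem hm)]
  by_cases hX0 : Subgroup.centralizer (X : Set G) ≤ M
  · refine ⟨1, one_mem _, ?_⟩
    rw [hgM, Solvable.conj_eq_self (M.inv_mem (hX0 hc)), Solvable.conj_one_smul]
  rw [hX, centralizer_zpowers] at hX0
  obtain ⟨N, hN⟩ := exists_signalizer hG F hM hx₀σ hx₀1 hX0
  have hxN : x ∈ N := by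
    refine hN.le ?_
    rw [← centralizer_zpowers]
    exact centralizer_le_of_mem_zpowers hx₀ (Subgroup.mem_centralizer_singleton_iff.2 rfl)
  have hcN : c⁻¹ ∈ N := N.inv_mem (hN.le (by rw [← centralizer_zpowers]; exact hc))
  obtain ⟨s, hs, e, he, hse⟩ := (compl_symm hN.compl).2.2.2 _ hcN
  have hgM' : MulAut.conj g • M = MulAut.conj s • M := by
    rw [hgM, hse, ← Solvable.conj_conj, Solvable.conj_eq_self he.1]
  refine ⟨s, Subgroup.mem_centralizer_singleton_iff.2 ?_, hgM'⟩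
  -- `s⁻¹ x s ∈ M ∩ N`, while `x⁻¹ s⁻¹ x s ∈ N_σ`
  have h1 : s⁻¹ * x * s ∈ M ⊓ N := by
    refine ⟨Coprime.mem_conj.1 (hgM' ▸ hg),
      N.mul_mem (N.mul_mem (N.inv_mem (sigmaCore_le N hs)) hxN) (sigmaCore_le N hs)⟩
  have h2 : x⁻¹ * (s⁻¹ * x * s) ∈ (M ⊓ N) ⊓ sigmaCore N := by
    refine ⟨(M ⊓ N).mul_mem ((M ⊓ N).inv_mem ⟨hxMmem, hxN⟩) h1, ?_⟩
    have h3 := (Subgroup.mem_normalizer_iff''.1 (le_normalizer_sigmaCore N hxN) s⁻¹).1
      ((sigmaCore N).inv_mem hs)
    have h4 := (sigmaCore N).mul_mem h3 hs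
    simpa [mul_assoc] using h4
  rw [hN.compl.2.2.1, Subgroup.mem_bot, inv_mul_eq_one] at h2
  calc s * x = s * (s⁻¹ * x * s) := by rw [← h2]
    _ = x * s := by group

/-- Fusion of `x` in `M` is controlled by `M`. -/
theorem exists_fusion {g : G} (hg : g * x * g⁻¹ ∈ M) :
    ∃ m ∈ M, m * x * m⁻¹ = g * x * g⁻¹ := by
  obtain ⟨c, hc, hgc⟩ := exists_conj_eq hG F hM hx hx1 (g := g⁻¹)
    (Coprime.mem_conj.2 (by simpa [mul_assoc] using hg))
  refine ⟨g * c, OddSigma.mem_of_conj_eq hG hM ?_, ?_⟩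
  · rw [← Solvable.conj_conj, ← hgc, Solvable.conj_conj, mul_inv_cancel, Solvable.conj_one_smul]
  · rw [mul_inv_rev, mul_assoc g c x, Subgroup.mem_centralizer_singleton_iff.1 hc]
    group

/-- A complement of `C_M(x)` in `C(x)` is regular on the conjugates of `M` containing `x`. -/
theorem existsUnique_of_compl {R : Subgroup G}
    (hR : IsComplIn (M ⊓ Subgroup.centralizer ({x} : Set G)) R
      (Subgroup.centralizer ({x} : Set G))) {g : G} (hg : x ∈ MulAut.conj g • M) :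
    ∃! r : G, r ∈ R ∧ MulAut.conj r • M = MulAut.conj g • M := by
  set C := Subgroup.centralizer ({x} : Set G) with hC
  obtain ⟨c, hc, hgc⟩ := exists_conj_eq hG F hM hx hx1 hg
  obtain ⟨r, hr, a, ha, hra⟩ := (compl_symm hR).2.2.2 c hc
  refine ⟨r, ⟨hr, ?_⟩, fun r' ⟨hr', hr'M⟩ => ?_⟩
  · rw [hgc, hra, ← Solvable.conj_conj, Solvable.conj_eq_self ha.1]
  · have h1 : MulAut.conj (r⁻¹ * r') • M = M := by
      rw [← Solvable.conj_conj, hr'M, hgc, hra, ← Solvable.conj_conj,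
        Solvable.conj_eq_self ha.1, Solvable.conj_inv_smul]
    have h2 : r⁻¹ * r' ∈ (M ⊓ C) ⊓ R :=
      ⟨⟨OddSigma.mem_of_conj_eq hG hM h1, C.mul_mem (C.inv_mem (hR.2.1 hr)) (hR.2.1 hr')⟩,
        R.mul_mem (R.inv_mem hr) hr'⟩
    rw [hR.2.2.1, Subgroup.mem_bot, inv_mul_eq_one] at h2
    exact h2.symm

/-- BG 14.4, second part. -/
theorem exists_normal_complement :
    (Nat.card ↥(M ⊓ Subgroup.centralizer ({x} : Set G))).Coprime
        ((M ⊓ Subgroup.centralizer ({x} : Set G)).relIndex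
          (Subgroup.centralizer ({x} : Set G))) ∧
      ∃ R : Subgroup G, Subgroup.centralizer ({x} : Set G) ≤ Subgroup.normalizer (R : Set G) ∧
        IsComplIn (M ⊓ Subgroup.centralizer ({x} : Set G)) R
          (Subgroup.centralizer ({x} : Set G)) ∧
        ∀ g : G, x ∈ M.map (MulAut.conj g).toMonoidHom → ∃! r : G, r ∈ R ∧
          M.map (MulAut.conj r).toMonoidHom = M.map (MulAut.conj g).toMonoidHom := by
  set C := Subgroup.centralizer ({x} : Set G) with hC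
  by_cases hxM : C ≤ M
  · have hbot : IsComplIn (M ⊓ C) ⊥ C :=
      ⟨inf_le_right, bot_le, inf_bot_eq _, fun c hc => ⟨c, ⟨hxM hc, hc⟩, 1, one_mem _,
        (mul_one c).symm⟩⟩
    refine ⟨?_, ⊥, by
      rw [Subgroup.normalizer_eq_top_iff.2 (inferInstance : (⊥ : Subgroup G).Normal)]; exact le_top,
      hbot, fun g hg => existsUnique_of_compl hG F hM hx hx1 hbot hg⟩
    rw [compl_relIndex_right hbot, Subgroup.card_bot]
    exact Nat.coprime_one_right _
  obtain ⟨N, hN⟩ := exists_signalizer hG F hM hx hx1 hxM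
  refine ⟨?_, _, hN.normal, hN.compl_centralizer,
    fun g hg => existsUnique_of_compl hG F hM hx hx1 hN.compl_centralizer hg⟩
  rw [compl_relIndex_right hN.compl_centralizer]
  refine Nat.Coprime.coprime_dvd_right (Subgroup.card_dvd_of_le inf_le_left) ?_
  refine Nat.Coprime.coprime_dvd_left (Subgroup.card_dvd_of_le
    (le_inf inf_le_left (inf_le_right.trans hN.le))) ?_
  rw [← compl_relIndex_left hN.compl]
  exact (sigmaCore_coprime F hN.coatom).symm

theorem supportR_eq {N : Subgroup G} (hN : IsSignalizer M x N)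
    (hxM : ¬ Subgroup.centralizer ({x} : Set G) ≤ M) :
    supportR M x = sigmaCore N ⊓ Subgroup.centralizer ({x} : Set G) := by
  have h : ¬ Subgroup.centralizer ({x} : Set G) ≤ M ∧
      ∃! L : Subgroup G, IsCoatom L ∧ Subgroup.centralizer ({x} : Set G) ≤ L :=
    ⟨hxM, N, ⟨hN.coatom, hN.le⟩, fun L hL => hN.unique L hL.1 hL.2⟩
  unfold supportR
  rw [dif_pos h, hN.fitting_eq]
  have h2 := Classical.choose_spec h.2.exists
  rw [hN.unique _ h2.1 h2.2]

/-- The standard factorisations of `N` in BG 14.4. -/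
theorem decomp_facts {N : Subgroup G} (hN : IsSignalizer M x N) {K' U' : Subgroup G}
    (hKU : IsSigmaDecomposition N K' U') :
    U' ≠ ⊥ ∧ x ∈ sigmaA N U' ∧ x ∉ sigmaCore N := by
  have hKN : K' ≤ N := hKU.hall.1
  have hcop : (Nat.card (sigmaCore N)).Coprime (Nat.card K') :=
    Nat.coprime_of_dvd fun p hp h1 h2 =>
      (hKU.hall.2.1 p hp h2).2.2.1 (sigmaCore_pi N p hp h1)
  have hKs : Nat.card ↥(K' ⊔ sigmaCore N) = Nat.card (sigmaCore N) * Nat.card K' := by
    rw [sup_comm]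
    exact Coprime.card_sup_of_coprime (hKN.trans (le_normalizer_sigmaCore N)) hcop
  have hcard := compl_card hKU.compl
  rw [hKs] at hcard
  have hU : U' ≤ N := hKU.compl.1
  have hUs : IsComplIn U' (sigmaCore N) (U' ⊔ sigmaCore N) := by
    refine ⟨le_sup_left, le_sup_right, ?_, fun m hm => ?_⟩
    · rw [eq_bot_iff, ← hKU.compl.2.2.1]
      exact inf_le_inf_left _ le_sup_right
    · rw [sup_comm, Coprime.mem_sup_iff (hU.trans (le_normalizer_sigmaCore N))] at hm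
      obtain ⟨n, hn, u, hu, rfl⟩ := hm
      exact ⟨u, hu, u⁻¹ * n * u,
        (Subgroup.mem_normalizer_iff''.1 (le_normalizer_sigmaCore N (hU hu)) n).1 hn, by group⟩
  have hidx : (U' ⊔ sigmaCore N).relIndex N = Nat.card K' := by
    refine Nat.eq_of_mul_eq_mul_left (Nat.card_pos (α := ↥(U' ⊔ sigmaCore N))) ?_
    rw [card_mul_relIndex (sup_le hU (sigmaCore_le N)), ← hcard, ← compl_card hUs]
    ring
  have hxC : x ∈ Subgroup.centralizer ({x} : Set G) :=
    Subgroup.mem_centralizer_singleton_iff.2 rfl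
  have hxN : x ∈ N := hN.le hxC
  have hxU : x ∈ U' ⊔ sigmaCore N := by
    refine mem_of_coprime_relIndex
      ((F.s1352 N hN.coatom K' hKU.cyclic hKU.hall).2 U' hKU) hxN ?_
    rw [hidx]
    exact Nat.coprime_of_dvd fun p hp h1 h2 =>
      not_mem_kappa_of_tau2 (hN.tau2 p hp h1) (hKU.hall.2.1 p hp h2)
  refine ⟨fun h => hN.not_mem hx1 (by simpa [h] using hxU), ⟨⟨hxN, ?_⟩, hxU⟩, hN.not_mem hx1⟩
  obtain ⟨⟨y, hy⟩, hy1⟩ := Subgroup.ne_bot_iff_exists_ne_one.1 hN.ne_bot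
  exact ⟨y, hy.1, fun h => hy1 (Subtype.ext h),
    (Subgroup.mem_centralizer_singleton_iff.1 hy.2).symm⟩

end

end Cfsg.Agent.OddMax
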