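import Cfsg.Agent.Lib.OddOrder.Sec15Facts
import Cfsg.Agent.Lib.OddOrder.Signalizer
import Cfsg.Agent.Lib.OddOrder.HallFusion

/-!
Consequences of a standard factorisation `M = K U M_σ` (Bender-Glauberman 15), modulo `Sec15Facts`.
* `exists_decomp`, `decomp_compl`, `U_primes`, `U_relIndex`, `kappa_empty_iff`
* `nilpotent_of_U_ne`, `U_centralizer`, `card_K_prime`, `kstar_prime`
* general: `isMulCommutative_sup`, `nilpotent_sup_of_commute`, `hall_normal_of_nilpotent`
-/

set_option autoImplicit false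

namespace Cfsg.Agent.OddMax

open scoped Pointwise

section General

variable {G : Type*} [Group G] [Finite G]

theorem isMulCommutative_sup {A B : Subgroup G} [IsMulCommutative A] [IsMulCommutative B]
    (h : A ≤ Subgroup.centralizer (B : Set G)) : IsMulCommutative ↥(A ⊔ B) := by
  rw [show A ⊔ B = Subgroup.closure ((A : Set G) ∪ B) by
    rw [Subgroup.closure_union, Subgroup.closure_eq, Subgroup.closure_eq]]
  apply Subgroup.isMulCommutative_closure
  rintro a (ha | ha) b (hb | hb)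
  · exact congrArg Subtype.val (mul_comm' (⟨a, ha⟩ : A) ⟨b, hb⟩)
  · exact (Subgroup.mem_centralizer_iff.1 (h ha) b hb).symm
  · exact Subgroup.mem_centralizer_iff.1 (h hb) a ha
  · exact congrArg Subtype.val (mul_comm' (⟨a, ha⟩ : B) ⟨b, hb⟩)

theorem nilpotent_sup_of_commute {A B : Subgroup G} (hA : Group.IsNilpotent A)
    (hB : Group.IsNilpotent B) (h : A ≤ Subgroup.centralizer (B : Set G)) :
    Group.IsNilpotent ↥(A ⊔ B) := by
  set H := A ⊔ B with hH
  have hAB : B ≤ Subgroup.centralizer (A : Set G) := Subgroup.le_centralizer_iff.1 h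
  have hnA : (A.subgroupOf H).Normal := Subgroup.normal_subgroupOf_of_le_normalizer
    (sup_le Subgroup.le_normalizer (hAB.trans (Subgroup.centralizer_le_normalizer _)))
  have hnB : (B.subgroupOf H).Normal := Subgroup.normal_subgroupOf_of_le_normalizer
    (sup_le (h.trans (Subgroup.centralizer_le_normalizer _)) Subgroup.le_normalizer)
  have := hA
  have := hB
  have htop : A.subgroupOf H ⊔ B.subgroupOf H = ⊤ := by
    rw [← Subgroup.subgroupOf_sup le_sup_left le_sup_right, Subgroup.subgroupOf_self]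
  have h3 := Cores.nilpotent_sup (A.subgroupOf H) (B.subgroupOf H)
    (Group.nilpotent_of_mulEquiv (Subgroup.subgroupOfEquivOfLe le_sup_left).symm)
    (Group.nilpotent_of_mulEquiv (Subgroup.subgroupOfEquivOfLe le_sup_right).symm)
  rw [htop] at h3
  exact Group.isNilpotent_top.1 h3

/-- A Hall subgroup of a nilpotent subgroup is normalised by it. -/
theorem hall_normal_of_nilpotent {H L : Subgroup G} (hn : Group.IsNilpotent L) (hHL : H ≤ L)
    (hcop : (Nat.card H).Coprime (H.relIndex L)) : L ≤ Subgroup.normalizer (H : Set G) := by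
  have := hn
  by_contra hne
  set N := L ⊓ Subgroup.normalizer (H : Set G) with hN
  have hlt : N.subgroupOf L < ⊤ := by
    rw [lt_top_iff_ne_top, Ne, Subgroup.subgroupOf_eq_top]
    exact fun h => hne (h.trans inf_le_right)
  obtain ⟨g, hg, hgN⟩ := SetLike.exists_of_lt
    (Group.normalizerCondition_of_isNilpotent (G := L) (N.subgroupOf L) hlt)
  apply hgN
  refine Subgroup.mem_subgroupOf.2 ⟨g.2, Coprime.mem_normalizer_of_forall fun x hx => ?_⟩
  have hxN : x ∈ N := ⟨hHL hx, Subgroup.le_normalizer hx⟩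
  have h1 : (g : G) * x * (g : G)⁻¹ ∈ N :=
    (Subgroup.mem_normalizer_iff.1 hg ⟨x, hHL hx⟩).1 hxN
  refine mem_of_coprime_relIndex (M := N) inf_le_right h1 ?_
  have ho : orderOf ((g : G) * x * (g : G)⁻¹) = orderOf x := by
    simpa using orderOf_injective (MulAut.conj (g : G)).toMonoidHom (MulAut.conj _).injective x
  rw [ho]
  exact (hcop.coprime_dvd_left (Subgroup.orderOf_dvd_natCard H hx)).coprime_dvd_right
    (Dvd.intro _ (Subgroup.relIndex_mul_relIndex H N L (le_inf hHL Subgroup.le_normalizer) inf_le_left))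

end General

universe u

variable {G : Type u} [Group G] [Finite G] (hG : IsMinSimpleOddOrder G) (F : Sec15Facts G)
  {M : Subgroup G} (hM : IsCoatom M)
include hG F hM

omit hG in
theorem exists_decomp : ∃ K U : Subgroup G, IsSigmaDecomposition M K U := by
  obtain ⟨⟨K, hK⟩, hc⟩ := F.s1351 M hM
  obtain ⟨U, hU⟩ := F.s1352_exists M hM K (hc K hK) hK
  exact ⟨K, U, hU⟩

section Decomp

variable {K U : Subgroup G} (hKU : IsSigmaDecomposition M K U)
include hKU

omit hG F hM in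
theorem K_le : K ≤ M := hKU.hall.1

omit hG F hM in
theorem U_le : U ≤ M := hKU.compl.1

omit hG F hM in
theorem K_inf_sigmaCore : K ⊓ sigmaCore M = ⊥ :=
  Coprime.inf_eq_bot (Nat.coprime_of_dvd fun p hp h1 h2 =>
    (hKU.hall.2.1 p hp h1).2.2.1 (sigmaCore_pi M p hp h2))

omit hG F hM in
theorem decomp_compl : IsComplIn (U ⊔ K) (sigmaCore M) M := by
  have hUK : K ≤ Subgroup.normalizer (U : Set G) := hKU.normal
  have hKs : K ≤ Subgroup.normalizer (sigmaCore M : Set G) :=
    (K_le hKU).trans (le_normalizer_sigmaCore M)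
  refine ⟨sup_le (U_le hKU) (K_le hKU), sigmaCore_le M, ?_, fun m hm => ?_⟩
  · rw [Subgroup.eq_bot_iff_forall]
    rintro y ⟨hy, hys⟩
    obtain ⟨u, hu, k, hk, rfl⟩ := (Coprime.mem_sup_iff hUK).1 hy
    have h1 : u ∈ U ⊓ (K ⊔ sigmaCore M) := ⟨hu, by
      simpa using Subgroup.mul_mem _ (Subgroup.mem_sup_right hys)
        (Subgroup.mem_sup_left (K.inv_mem hk) : k⁻¹ ∈ K ⊔ sigmaCore M)⟩
    rw [hKU.compl.2.2.1, Subgroup.mem_bot] at h1
    rw [h1, one_mul] at hys ⊢
    have h2 : k ∈ K ⊓ sigmaCore M := ⟨hk, hys⟩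
    rwa [K_inf_sigmaCore hKU, Subgroup.mem_bot] at h2
  · obtain ⟨u, hu, w, hw, rfl⟩ := hKU.compl.2.2.2 m hm
    rw [sup_comm, Coprime.mem_sup_iff hKs] at hw
    obtain ⟨s, hs, k, hk, rfl⟩ := hw
    exact ⟨u * k, Subgroup.mul_mem_sup hu hk, k⁻¹ * s * k,
      (Subgroup.mem_normalizer_iff''.1 (hKs hk) s).1 hs, by group⟩

omit hG F hM in
theorem decomp_card :
    Nat.card U * (Nat.card (sigmaCore M) * Nat.card K) = Nat.card M := by
  rw [← compl_card hKU.compl, sup_comm K, Coprime.card_sup_of_coprime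
    ((K_le hKU).trans (le_normalizer_sigmaCore M))
    (Nat.coprime_of_dvd fun p hp h1 h2 =>
      (hKU.hall.2.1 p hp h2).2.2.1 (sigmaCore_pi M p hp h1))]

omit hG in
theorem U_primes {p : ℕ} (hp : p.Prime) (hd : p ∣ Nat.card U) :
    p ∉ sigma M ∧ p ∉ kappa M ∧ p ∣ Nat.card M := by
  refine ⟨fun h => (F.s1350 M hM).1.2.2 p hp h ?_, fun h => hKU.hall.2.2 p hp h ?_,
    hd.trans (Subgroup.card_dvd_of_le (U_le hKU))⟩
  · rw [compl_relIndex_left (decomp_compl hKU)]
    exact hd.trans (Subgroup.card_dvd_of_le le_sup_left)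
  · have h1 := card_mul_relIndex (K_le hKU)
    rw [← decomp_card hKU] at h1
    have h2 : K.relIndex M = Nat.card U * Nat.card (sigmaCore M) :=
      Nat.eq_of_mul_eq_mul_left Nat.card_pos (h1.trans (by ring))
    rw [h2]
    exact dvd_mul_of_dvd_left hd _

omit hG F hM in
theorem U_relIndex : (U ⊔ sigmaCore M).relIndex M = Nat.card K := by
  have hUs : IsComplIn U (sigmaCore M) (U ⊔ sigmaCore M) := by
    refine ⟨le_sup_left, le_sup_right, ?_, fun m hm => ?_⟩
    · rw [eq_bot_iff, ← hKU.compl.2.2.1]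
      exact inf_le_inf_left _ le_sup_right
    · rw [sup_comm, Coprime.mem_sup_iff ((U_le hKU).trans (le_normalizer_sigmaCore M))] at hm
      obtain ⟨n, hn, u, hu, rfl⟩ := hm
      exact ⟨u, hu, u⁻¹ * n * u,
        (Subgroup.mem_normalizer_iff''.1 (le_normalizer_sigmaCore M (U_le hKU hu)) n).1 hn,
        by group⟩
  refine Nat.eq_of_mul_eq_mul_left (Nat.card_pos (α := ↥(U ⊔ sigmaCore M))) ?_
  rw [card_mul_relIndex (sup_le (U_le hKU) (sigmaCore_le M)), ← decomp_card hKU, ← compl_card hUs]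
  ring

omit hG F hM in
theorem kappa_empty_iff : kappa M = ∅ ↔ K = ⊥ := by
  constructor
  · intro h
    by_contra hK
    obtain ⟨p, hp, hd⟩ := Nat.exists_prime_and_dvd (mt Subgroup.card_eq_one.1 hK)
    have := hKU.hall.2.1 p hp hd
    rw [h] at this
    exact this
  · intro h
    refine Set.eq_empty_iff_forall_notMem.2 fun p hp => ?_
    refine hKU.hall.2.2 p hp.1 hp ?_
    rw [h, Subgroup.relIndex_bot_left]
    exact hp.2.1

omit hG F hM in
theorem kappa_nonempty_iff : (kappa M).Nonempty ↔ K ≠ ⊥ := by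
  rw [Ne, ← kappa_empty_iff hKU, ← Set.not_nonempty_iff_eq_empty, not_not]

omit hG in
theorem nilpotent_and_centralizer_of_U_ne (hU : U ≠ ⊥) :
    Group.IsNilpotent (sigmaCore M) ∧
      sigmaCore M ⊓ Subgroup.centralizer (U : Set G) = ⊥ := by
  obtain ⟨p, hp, hd⟩ := Nat.exists_prime_and_dvd (mt Subgroup.card_eq_one.1 hU)
  have := Fact.mk hp
  obtain ⟨h1, h2, h3⟩ := U_primes F hM hKU hp hd
  have hP1 : ¬ ∀ q : ℕ, q.Prime → q ∣ Nat.card M → q ∉ sigma M → q ∈ kappa M :=
    fun h => h2 (h p hp h3 h1)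
  obtain ⟨T⟩ : Nonempty (Sylow p U) := inferInstance
  set S₀ := (T : Subgroup U).map U.subtype with hS₀
  have hidx : ¬ p ∣ S₀.relIndex M := by
    rw [← Subgroup.relIndex_mul_relIndex S₀ U M (Subgroup.map_subtype_le _) (U_le hKU)]
    refine hp.not_dvd_mul (sylow_relIndex T) ?_
    rw [compl_relIndex_right hKU.compl, sup_comm, Coprime.card_sup_of_coprime
      ((K_le hKU).trans (le_normalizer_sigmaCore M))
      (Nat.coprime_of_dvd fun q hq h4 h5 =>
        (hKU.hall.2.1 q hq h5).2.2.1 (sigmaCore_pi M q hq h4))]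
    exact hp.not_dvd_mul (fun h => h1 (sigmaCore_pi M p hp h))
      (fun h => h2 (hKU.hall.2.1 p hp h))
  obtain ⟨S, hS⟩ := exists_sylow_eq (T.2.map _) ((Subgroup.map_subtype_le _).trans (U_le hKU)) hidx
  obtain ⟨hc, hn⟩ := F.s1429 M hM hP1 p h3 (by simp [h1, h2]) S
  refine ⟨hn, ?_⟩
  rw [eq_bot_iff, ← hc]
  refine inf_le_inf_left _ (Subgroup.centralizer_le ?_)
  rw [SetLike.coe_subset_coe, Subgroup.closure_le]
  rintro x ⟨hx, -⟩
  rw [hS] at hx
  exact Subgroup.map_subtype_le _ hx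

omit hG in
theorem sigmaCore_ne_bot : sigmaCore M ≠ ⊥ := fun h =>
  F.s1354 M hM K hKU.cyclic hKU.hall (by rw [h, bot_inf_eq])

theorem card_K_prime (hK : K ≠ ⊥) (hU : U ≠ ⊥) : (Nat.card K).Prime := by
  obtain ⟨hn, hc⟩ := nilpotent_and_centralizer_of_U_ne F hM hKU hU
  have hUK : K ≤ Subgroup.normalizer (U : Set G) := hKU.normal
  have hUKi : U ⊓ K = ⊥ := by
    rw [eq_bot_iff, ← hKU.compl.2.2.1]
    exact inf_le_inf_left _ le_sup_left
  have hle : U ⊔ K ≤ M := sup_le (U_le hKU) (K_le hKU)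
  refine (F.s1446 G U K (sigmaCore M) hU hK hUKi hUK (F.s1353 M hM K U hKU)
    (Coprime.isSolvable_of_le hle (OddSigma.proper_solvable hG hM.1)) (OddSigma.odd_card hG _)
    (sigmaCore_ne_bot F hM hKU) hn ((U_le hKU).trans (le_normalizer_sigmaCore M))
    ((K_le hKU).trans (le_normalizer_sigmaCore M)) ?_ hc fun k hk hk1 => ?_).1
  · rw [← compl_relIndex_left (decomp_compl hKU)]
    exact (sigmaCore_coprime F.toSigFacts hM).symm
  · exact F.s1430 M hM K hKU.hall hK k hk hk1

theorem kstar_prime (hK : K ≠ ⊥) (hU : U = ⊥) :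
    (Nat.card ↥(sigmaCore M ⊓ Subgroup.centralizer (K : Set G))).Prime := by
  obtain ⟨Ms, hMs, hKst, hKstH⟩ := F.s1366 M hM K U hKU hK
  have hK' := (F.s1351 Ms hMs).2 _ hKstH
  obtain ⟨Us, hUs⟩ := F.s1352_exists Ms hMs _ hK' hKstH
  refine card_K_prime hG F hMs hUs (F.s1354 M hM K hKU.cyclic hKU.hall) ?_
  exact ((F.s1369 M hM K U hKU hK Ms hMs hKst hKstH).resolve_left (not_not.2 hU)) Us hUs

end Decomp

end Cfsg.Agent.OddMax
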