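import Cfsg.Agent.Lib.OddOrder.Decomp
import Cfsg.Agent.Lib.Cores.Subnormal

/-!
Bender-Glauberman 15.2: the structure of `M` when `M_F ≠ M_σ`, modulo `Sec15Facts`.
* `commutator_le_of_compl`
* `fcore_ne_basic`, `fcore_ne_structure`
-/

set_option autoImplicit false

namespace Cfsg.Agent.OddMax

open scoped Pointwise commutatorElement

section General

variable {G : Type*} [Group G]

/-- If `M = E N` with `N` normal then `M' ≤ E' N`. -/
theorem commutator_le_of_compl {E N M : Subgroup G} (h : IsComplIn E N M)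
    (hn : M ≤ Subgroup.normalizer (N : Set G)) : ⁅M, M⁆ ≤ ⁅E, E⁆ ⊔ N := by
  have := Subgroup.normal_subgroupOf_of_le_normalizer hn
  set f := QuotientGroup.mk' (N.subgroupOf M) with hf
  have htop : (E.subgroupOf M).map f = ⊤ := by
    rw [eq_top_iff]
    intro z _
    obtain ⟨m, rfl⟩ := QuotientGroup.mk'_surjective (N.subgroupOf M) z
    obtain ⟨e, he, n, hn', hm⟩ := h.2.2.2 m m.2
    have hNM : n ∈ M := h.2.1 hn'
    refine ⟨⟨e, h.1 he⟩, he, ?_⟩
    have hm' : m = ⟨e, h.1 he⟩ * ⟨n, hNM⟩ := Subtype.ext hm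
    have h1 : f ⟨n, hNM⟩ = 1 :=
      (QuotientGroup.eq_one_iff (N := N.subgroupOf M) (⟨n, hNM⟩ : M)).2 hn'
    rw [← hf, hm', map_mul, h1, mul_one]
  have h2 : commutator M ≤ ⁅E.subgroupOf M, E.subgroupOf M⁆ ⊔ N.subgroupOf M := by
    have h3 : (commutator M).map f ≤ ⁅E.subgroupOf M, E.subgroupOf M⁆.map f := by
      rw [Subgroup.map_commutator, htop, commutator_def, Subgroup.map_commutator]
      exact Subgroup.commutator_mono le_top le_top
    have h4 := Subgroup.map_le_iff_le_comap.1 h3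
    rwa [Subgroup.comap_map_eq, hf, QuotientGroup.ker_mk'] at h4
  rw [← Subgroup.map_subtype_commutator]
  refine (Subgroup.map_mono h2).trans ?_
  rw [Subgroup.map_sup, Subgroup.map_commutator, Subgroup.map_subgroupOf_eq_of_le h.1,
    Subgroup.map_subgroupOf_eq_of_le h.2.1]

theorem conj_le_centralizer_conj {D X : Subgroup G} (n : G)
    (h : X ≤ Subgroup.centralizer (D : Set G)) :
    MulAut.conj n • X ≤ Subgroup.centralizer ((MulAut.conj n • D : Subgroup G) : Set G) := by
  intro x hx d hd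
  rw [Coprime.mem_conj] at hx
  have hd' : n⁻¹ * d * n ∈ D := Coprime.mem_conj.1 hd
  have e := Subgroup.mem_centralizer_iff.1 (h hx) _ hd'
  calc d * x = n * ((n⁻¹ * d * n) * (n⁻¹ * x * n)) * n⁻¹ := by group
    _ = n * ((n⁻¹ * x * n) * (n⁻¹ * d * n)) * n⁻¹ := by rw [e]
    _ = x * d := by group

theorem inf_centralizer_conj {Q D : Subgroup G} {n : G} (hn : MulAut.conj n • Q = Q) :
    Q ⊓ Subgroup.centralizer ((MulAut.conj n • D : Subgroup G) : Set G) =
      MulAut.conj n • (Q ⊓ Subgroup.centralizer (D : Set G)) := by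
  refine le_antisymm (fun x hx => ?_) (le_inf ?_ ?_)
  · have h1 : MulAut.conj n⁻¹ • (Q ⊓ Subgroup.centralizer ((MulAut.conj n • D : Subgroup G) : Set G))
        ≤ Q ⊓ Subgroup.centralizer (D : Set G) := by
      refine le_inf ?_ ?_
      · calc MulAut.conj n⁻¹ • (Q ⊓ _) ≤ MulAut.conj n⁻¹ • Q :=
              Subgroup.map_mono inf_le_left
          _ = Q := by
            conv_lhs => rw [← hn]
            rw [Solvable.conj_inv_smul]
      · have := conj_le_centralizer_conj n⁻¹ (D := MulAut.conj n • D)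
          (X := Q ⊓ Subgroup.centralizer ((MulAut.conj n • D : Subgroup G) : Set G)) inf_le_right
        rwa [Solvable.conj_inv_smul] at this
    rw [Coprime.mem_conj]
    exact h1 (Coprime.mem_conj.2 (by group; exact hx))
  · conv_rhs => rw [← hn]
    exact Subgroup.map_mono inf_le_left
  · exact conj_le_centralizer_conj n inf_le_right

end General

universe u

variable {G : Type u} [Group G] [Finite G] (hG : IsMinSimpleOddOrder G) (F : Sec15Facts G)
  {M : Subgroup G} (hM : IsCoatom M) {K U : Subgroup G} (hKU : IsSigmaDecomposition M K U)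
  (hne : fittingHallOf M ≠ sigmaCore M)
include hG F hM hKU hne

omit hKU in
theorem not_nilpotent_sigmaCore : ¬ Group.IsNilpotent (sigmaCore M) := fun h =>
  hne (fittingHallOf_eq_of_nilpotent hG hM (F.s1350 M hM).1 h)

theorem fcore_ne_basic : U = ⊥ ∧ K ≠ ⊥ ∧ sigmaCore M = ⁅M, M⁆ ∧
    IsComplIn K (sigmaCore M) M ∧ ⁅sigmaCore M, K⁆ = sigmaCore M := by
  have hU : U = ⊥ := by
    by_contra h
    exact not_nilpotent_sigmaCore hG F hM hne (nilpotent_and_centralizer_of_U_ne F hM hKU h).1
  have hc := decomp_compl hKU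
  rw [hU, bot_sup_eq] at hc
  have hKs := F.s1426 M hM K hc
  have hK : K ≠ ⊥ := by
    intro h
    rw [h, Subgroup.commutator_bot_right] at hKs
    exact sigmaCore_ne_bot F hM hKU hKs.symm
  refine ⟨hU, hK, le_antisymm ?_ ?_, hc, hKs⟩
  · exact hKs.symm.le.trans (Subgroup.commutator_mono (sigmaCore_le M) (K_le hKU))
  · have := hKU.cyclic
    have hKab : ⁅K, K⁆ = ⊥ := Subgroup.commutator_eq_bot_iff_le_centralizer.2 fun a ha b hb =>
      congrArg Subtype.val (mul_comm' (⟨b, hb⟩ : K) ⟨a, ha⟩)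
    have h := commutator_le_of_compl hc (le_normalizer_sigmaCore M)
    rwa [hKab, bot_sup_eq] at h

/-- BG 15.2. -/
theorem fcore_ne_structure : ∃ Q : Subgroup G,
    (Nat.card K).Prime ∧
    (Nat.card ↥(sigmaCore M ⊓ Subgroup.centralizer (K : Set G))).Prime ∧
    Nat.card ↥(sigmaCore M ⊓ Subgroup.centralizer (K : Set G)) ∈ beta M ∧
    sigmaCore M ⊓ Subgroup.centralizer (K : Set G) ≤ Q ∧
    IsPGroup (Nat.card ↥(sigmaCore M ⊓ Subgroup.centralizer (K : Set G))) Q ∧
    Q ≤ fittingHallOf M ∧ Q ≤ sigmaCore M ∧ M ≤ Subgroup.normalizer (Q : Set G) ∧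
    ¬ Nat.card ↥(sigmaCore M ⊓ Subgroup.centralizer (K : Set G)) ∣ Q.relIndex (sigmaCore M) ∧
    (∃ D : Subgroup G, IsComplIn Q D (sigmaCore M)) ∧
    ∀ D : Subgroup G, IsComplIn Q D (sigmaCore M) →
      Group.IsNilpotent D ∧
      ⁅D, D⁆ ≤ Subgroup.centralizer (Q : Set G) ∧
      M ≤ Subgroup.normalizer ((Q ⊓ Subgroup.centralizer (D : Set G) : Subgroup G) : Set G) ∧
      Q ⊓ Subgroup.centralizer (D : Set G) < Q ∧
      Nat.card Q = Nat.card ↥(Q ⊓ Subgroup.centralizer (D : Set G)) *
        Nat.card ↥(sigmaCore M ⊓ Subgroup.centralizer (K : Set G)) ^ Nat.card K ∧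
      (∀ a ∈ Q, ∀ b ∈ Q,
        a ^ Nat.card ↥(sigmaCore M ⊓ Subgroup.centralizer (K : Set G)) ∈
          Q ⊓ Subgroup.centralizer (D : Set G) ∧
        a * b * a⁻¹ * b⁻¹ ∈ Q ⊓ Subgroup.centralizer (D : Set G)) ∧
      ∀ N : Subgroup G, Q ⊓ Subgroup.centralizer (D : Set G) < N → N < Q →
        ¬ M ≤ Subgroup.normalizer (N : Set G) := by
  classical
  obtain ⟨hU, hK, -, hcompl, hMsK⟩ := fcore_ne_basic hG F hM hKU hne
  have hsolM : Group.IsSolvable M := OddSigma.proper_solvable hG hM.1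
  have hnn := not_nilpotent_sigmaCore hG F hM hne
  have hq := kstar_prime hG F hM hKU hK hU
  set Ks := sigmaCore M ⊓ Subgroup.centralizer (K : Set G) with hKs
  set q := Nat.card Ks with hqdef
  have := Fact.mk hq
  have hKM := K_le hKU
  have hsM := sigmaCore_le M
  have hnM := le_normalizer_sigmaCore M
  have hqσ : q ∈ sigma M := sigmaCore_pi M q hq (Subgroup.card_dvd_of_le inf_le_left)
  have hcopK : (Nat.card K).Coprime (Nat.card (sigmaCore M)) :=
    Nat.coprime_of_dvd fun p hp h1 h2 => (hKU.hall.2.1 p hp h1).2.2.1 (sigmaCore_pi M p hp h2)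
  have hCk := F.s1430 M hM K hKU.hall hK
  -- `F(M_σ)` meets `C(K)`
  set Fi := fittingOf (sigmaCore M) with hFi
  have hKsFi : Ks ≤ Fi := by
    have hFC : Fi ⊓ Subgroup.centralizer (K : Set G) ≠ ⊥ := by
      intro hbot
      have hn : ((sigmaCore M).subgroupOf M).Normal :=
        Subgroup.normal_subgroupOf_of_le_normalizer hnM
      set Mx := (sigmaCore M).subgroupOf M with hMx
      have hmapM : Mx.map M.subtype = sigmaCore M := Subgroup.map_subgroupOf_eq_of_le hsM
      have hFMx : (fittingOf Mx).map M.subtype ≤ Fi := by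
        refine le_fittingOf ?_ ?_ (Cores.isNilpotent_map _ (fittingOf_nilpotent Mx))
        · exact (Subgroup.map_mono (fittingOf_le Mx)).trans hmapM.le
        · calc sigmaCore M = Mx.map M.subtype := hmapM.symm
            _ ≤ (Subgroup.normalizer (fittingOf Mx : Set M)).map M.subtype :=
              Subgroup.map_mono (le_normalizer_fittingOf Mx)
            _ ≤ _ := Subgroup.le_normalizer_map _
      have h45 := F.s1445 M (OddSigma.odd_card hG M) Mx (K.subgroupOf M) ?_ ?_ ?_ ?_
      · refine hnn ?_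
        have h1 : ⁅Mx, K.subgroupOf M⁆.map M.subtype = sigmaCore M := by
          rw [Subgroup.map_commutator, hmapM, Subgroup.map_subgroupOf_eq_of_le hKM, hMsK]
        exact Cores.isNilpotent_of_le (h1 ▸ (Subgroup.map_mono h45).trans hFMx)
          (fittingOf_nilpotent _)
      · rw [hMx, ← Subgroup.subgroupOf_sup hsM hKM, sup_comm, compl_eq_sup hcompl,
          Subgroup.subgroupOf_self]
      · rw [hMx, Cores.card_subgroupOf hsM, Cores.card_subgroupOf hKM]
        exact hcopK.symm
      · intro x hx hx1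
        ext y
        have h2 := SetLike.ext_iff.1 (hCk x hx fun e => hx1 (Subtype.ext e)) (y : G)
        constructor
        · rintro ⟨hy, hyc⟩
          obtain ⟨-, hyK⟩ := h2.1 ⟨hy, Subgroup.mem_centralizer_singleton_iff.2
            (congrArg Subtype.val (Subgroup.mem_centralizer_singleton_iff.1 hyc))⟩
          exact ⟨hy, fun k hk => Subtype.ext (hyK k hk)⟩
        · rintro ⟨hy, hyc⟩
          obtain ⟨-, hyx⟩ := h2.2 ⟨hy, fun k hk => congrArg Subtype.val (hyc ⟨k, hKM hk⟩ hk)⟩
          exact ⟨hy, Subgroup.mem_centralizer_singleton_iff.2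
            (Subtype.ext (Subgroup.mem_centralizer_singleton_iff.1 hyx))⟩
      · rw [Subgroup.eq_bot_iff_forall]
        rintro z ⟨hz, hzc⟩
        have h3 : (z : G) ∈ Fi ⊓ Subgroup.centralizer (K : Set G) :=
          ⟨hFMx ⟨z, hz, rfl⟩, fun k hk => congrArg Subtype.val (hzc ⟨k, hKM hk⟩ hk)⟩
        rw [hbot, Subgroup.mem_bot] at h3
        exact Subtype.ext h3
    have hle : Fi ⊓ Subgroup.centralizer (K : Set G) ≤ Ks :=
      inf_le_inf_right _ (fittingOf_le _)
    have hcard := ((Nat.dvd_prime hq).1 (Subgroup.card_dvd_of_le hle)).resolve_left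
      fun h => hFC (Subgroup.card_eq_one.1 h)
    rw [← Subgroup.eq_of_le_of_card_ge hle (by rw [hcard])]
    exact inf_le_left
  -- `Q = O_q(M_σ)`
  set Q := (pCore q (sigmaCore M)).map (sigmaCore M).subtype with hQdef
  have hQs : Q ≤ sigmaCore M := Subgroup.map_subtype_le _
  have hQp : IsPGroup q Q := (Cores.isPGroup_pCore q (sigmaCore M)).map _
  have hMQ : M ≤ Subgroup.normalizer (Q : Set G) :=
    hnM.trans (Cores.normalizer_le_normalizer_map (pCore q (sigmaCore M)))
  have hKsQ : Ks ≤ Q := by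
    intro y hy
    obtain ⟨y', hy', rfl⟩ := hKsFi hy
    refine ⟨y', Cores.le_pCore_of_isSubnormal (Cores.isSubnormal_of_le_fittingSubgroup
      (Subgroup.zpowers_le.2 hy')) ?_ (Subgroup.mem_zpowers y'), rfl⟩
    obtain ⟨i, -, hi⟩ := (Nat.dvd_prime_pow (i := orderOf y') (m := 1) hq).1 (by
      rw [pow_one, ← Subgroup.orderOf_coe]; exact Subgroup.orderOf_dvd_natCard Ks hy)
    exact IsPGroup.of_card (n := i) (by rw [Nat.card_zpowers, hi])
  -- the quotient `M_σ / Q`
  have hnQ : (Q.subgroupOf M).Normal := Subgroup.normal_subgroupOf_of_le_normalizer hMQ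
  set f := QuotientGroup.mk' (Q.subgroupOf M) with hfdef
  set H := ((sigmaCore M).subgroupOf M).map f with hH
  have hHnil : Group.IsNilpotent H := by
    obtain ⟨p, hp, hpk⟩ := Nat.exists_prime_and_dvd (mt Subgroup.card_eq_one.1 hK)
    have := Fact.mk hp
    obtain ⟨⟨k, hk⟩, hok⟩ := exists_prime_orderOf_dvd_card' p hpk
    rw [Subgroup.orderOf_mk] at hok
    have hk1 : k ≠ 1 := fun e => hp.one_lt.ne (by rw [← hok, e, orderOf_one])
    set A := Subgroup.zpowers (⟨k, hKM hk⟩ : M) with hA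
    have hcA : Nat.card A = p := by rw [hA, Nat.card_zpowers, Subgroup.orderOf_mk, hok]
    have hAn : A ≤ Subgroup.normalizer ((sigmaCore M).subgroupOf M : Set M) := fun a _ =>
      Subgroup.normalizer_eq_top_iff.2
        (Subgroup.normal_subgroupOf_of_le_normalizer hnM) ▸ Subgroup.mem_top a
    have hcop : (Nat.card A).Coprime (Nat.card ((sigmaCore M).subgroupOf M)) := by
      rw [hcA, Cores.card_subgroupOf hsM]
      exact hcopK.coprime_dvd_left hpk
    have hAd : A ⊓ f.ker = ⊥ := by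
      refine Coprime.inf_eq_bot ?_
      rw [hcA, hfdef, QuotientGroup.ker_mk', Cores.card_subgroupOf (hQs.trans hsM)]
      exact (hcopK.coprime_dvd_left hpk).coprime_dvd_right (Subgroup.card_dvd_of_le hQs)
    refine nilpotent_of_fpf (A := A.map f) ?_
      ((Subgroup.map_mono hAn).trans (Subgroup.le_normalizer_map f)) ?_ inferInstance
    · rw [Solvable.card_map_of_disjoint f A hAd, hcA]; exact hp
    · refine le_bot_iff.1 ((map_inf_centralizer_le (N := Q.subgroupOf M) (Subgroup.comap_mono hQs) hAn hcop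
        (Or.inr inferInstance)).trans ?_)
      rw [le_bot_iff, Subgroup.map_eq_bot_iff, QuotientGroup.ker_mk']
      rintro y ⟨hy, hyc⟩
      refine Subgroup.mem_subgroupOf.2 (hKsQ ?_)
      exact (hCk k hk hk1).le ⟨hy, Subgroup.mem_centralizer_singleton_iff.2
        (congrArg Subtype.val (hyc _ (Subgroup.mem_zpowers (⟨k, hKM hk⟩ : M)))).symm⟩
  set g : sigmaCore M →* M ⧸ Q.subgroupOf M := f.comp (Subgroup.inclusion hsM) with hg
  have hgker : ∀ y : sigmaCore M, g y = 1 ↔ (y : G) ∈ Q := fun y =>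
    QuotientGroup.eq_one_iff (N := Q.subgroupOf M) (Subgroup.inclusion hsM y)
  have hgn : Group.IsNilpotent g.range := by
    refine Cores.isNilpotent_of_le ?_ hHnil
    rintro _ ⟨y, rfl⟩
    exact ⟨Subgroup.inclusion hsM y, y.2, rfl⟩
  have hQidx : ¬ q ∣ Q.relIndex (sigmaCore M) := by
    rw [hQdef, relIndex_eq_index]
    obtain ⟨S⟩ : Nonempty (Sylow q (sigmaCore M)) := inferInstance
    have hsur := g.rangeRestrict_surjective
    have hSn : ((S.mapSurjective hsur : Sylow q g.range) : Subgroup g.range).Normal :=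
      (Group.isNilpotent_of_finite_tfae.out 0 3 rfl rfl).1 hgn q inferInstance _
    rw [Sylow.coe_mapSurjective] at hSn
    have hker : g.rangeRestrict.ker ≤ (S : Subgroup (sigmaCore M)) := by
      intro y hy
      have h1 : g y = 1 := congrArg Subtype.val (MonoidHom.mem_ker.1 hy)
      obtain ⟨y', hy', e⟩ := (hgker y).1 h1
      rw [← Subtype.ext e]
      exact Cores.pCore_le_sylow S hy'
    have hSn' : (S : Subgroup (sigmaCore M)).Normal := by
      rw [← Subgroup.comap_map_eq_self hker]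
      exact hSn.comap _
    exact fun h => S.not_dvd_index (by rwa [Cores.pCore_eq_sylow S] at h)
  have hQF : Q ≤ fittingHallOf M := by
    refine le_fittingHallOf (hQs.trans hsM) hMQ hQp.isNilpotent ?_
    obtain ⟨i, hi⟩ := hQp.exists_card_eq
    rw [hi]
    refine Nat.Coprime.pow_left _ ((hq.coprime_iff_not_dvd).2 ?_)
    rw [← Subgroup.relIndex_mul_relIndex Q (sigmaCore M) M hQs hsM]
    exact hq.not_dvd_mul hQidx ((F.s1350 M hM).1.2.2 q hq hqσ)
  have hQcop : (Nat.card Q).Coprime (Q.relIndex (sigmaCore M)) := by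
    obtain ⟨i, hi⟩ := hQp.exists_card_eq
    rw [hi]
    exact ((hq.coprime_iff_not_dvd).2 hQidx).pow_left _
  -- complements of `Q`
  have hDnil : ∀ D : Subgroup G, IsComplIn Q D (sigmaCore M) → Group.IsNilpotent D := by
    intro D hD
    have hinj : Function.Injective (g.comp (Subgroup.inclusion hD.2.1)) := by
      rw [← MonoidHom.ker_eq_bot_iff, Subgroup.eq_bot_iff_forall]
      intro d hd
      have h1 : (d : G) ∈ Q ⊓ D := ⟨(hgker _).1 hd, d.2⟩
      rw [hD.2.2.1, Subgroup.mem_bot] at h1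
      exact Subtype.ext h1
    have hle : (g.comp (Subgroup.inclusion hD.2.1)).range ≤ g.range := by
      rintro _ ⟨d, rfl⟩; exact ⟨_, rfl⟩
    have := Cores.isNilpotent_of_le hle hgn
    exact Group.nilpotent_of_mulEquiv (MonoidHom.ofInjective hinj).symm
  have hsolMs : Group.IsSolvable (sigmaCore M) := Coprime.isSolvable_of_le hsM hsolM
  obtain ⟨D₀, hD₀⟩ := exists_compl hQs (hsM.trans hMQ) hQcop
  obtain ⟨D, hD, hKD⟩ : ∃ D, IsComplIn Q D (sigmaCore M) ∧
      K ≤ Subgroup.normalizer (D : Set G) := by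
    obtain ⟨n, hn, hnK⟩ := Coprime.exists_invariant_conj (A := K) (K := sigmaCore M)
      (hKM.trans hnM) hcopK (Or.inr hsolMs) (P := D₀) fun a ha => by
        have hD₀Q : (Nat.card D₀).Coprime (Nat.card Q) := by
          rw [← compl_relIndex_left hD₀]; exact hQcop.symm
        have hsup : Q ⊔ D₀ = sigmaCore M := by rw [sup_comm]; exact compl_eq_sup hD₀
        obtain ⟨m, hm, hme⟩ := Coprime.exists_conj_eq_of_le_sup (N := Q) (H := D₀)
          (L := MulAut.conj a • D₀) (hD₀.1.trans (hsM.trans hMQ)) hD₀Q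
          (Or.inl (Coprime.isSolvable_of_le hD₀.1 hsolMs))
          (by
            rw [hsup]
            intro y hy
            rw [Coprime.mem_conj] at hy
            have h1 := (Subgroup.mem_normalizer_iff.1 (hnM (hKM ha)) _).1 (hD₀.1 hy)
            group at h1
            simpa using h1)
          (Coprime.card_conj a D₀)
        exact ⟨m, hQs hm, hme.symm⟩
    refine ⟨_, compl_symm (isComplIn_of_card (E := MulAut.conj n • D₀) hQs ?_ hQcop
      (hsM.trans hMQ) ?_), hnK⟩
    · intro y hy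
      rw [Coprime.mem_conj] at hy
      have := (sigmaCore M).mul_mem ((sigmaCore M).mul_mem hn (hD₀.1 hy)) ((sigmaCore M).inv_mem hn)
      group at this
      simpa using this
    · rw [Coprime.card_conj, compl_relIndex_left hD₀]
  have hQD : D ≤ Subgroup.normalizer (Q : Set G) := hD.2.1.trans (hsM.trans hMQ)
  have hne' : ¬ D ≤ Subgroup.centralizer (Q : Set G) := fun h => hnn (by
    rw [← compl_eq_sup hD, sup_comm]
    exact nilpotent_sup_of_commute (hDnil D hD) hQp.isNilpotent h)
  have hqD : ¬ q ∣ Nat.card D := by rw [← compl_relIndex_right hD]; exact hQidx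
  have hDM : D ≤ M := hD.2.1.trans hsM
  have hQM : Q ≤ M := hQs.trans hsM
  have hKsM : Ks ≤ M := hKsQ.trans hQM
  have hcent : ∀ {A : Subgroup G}, A ≤ M → ∀ y : M,
      y ∈ Subgroup.centralizer (A.subgroupOf M : Set M) ↔
        (y : G) ∈ Subgroup.centralizer (A : Set G) := fun {A} hA y =>
    ⟨fun h a ha => congrArg Subtype.val (h ⟨a, hA ha⟩ ha), fun h a ha => Subtype.ext (h _ ha)⟩
  have hinfC : (Q ⊓ Subgroup.centralizer (D : Set G)).subgroupOf M =
      Q.subgroupOf M ⊓ Subgroup.centralizer (D.subgroupOf M : Set M) := by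
    ext y
    exact and_congr Iff.rfl (hcent hDM y).symm
  obtain ⟨hKp, hlt, hnorm, hcard, hpow, hmin, hDD⟩ :=
    prime_action_structure (X := M) (OddSigma.odd_card hG M) (q := q) (Q.subgroupOf M)
      (D.subgroupOf M) (K.subgroupOf M) (Ks.subgroupOf M)
      (hQp.comap_of_injective M.subtype M.subtype_injective)
      (by rwa [Cores.card_subgroupOf hDM])
      (by
        rw [Cores.card_subgroupOf hKM]
        exact fun h => (hKU.hall.2.1 q hq h).2.2.1 hqσ)
      (fun h => hK (by rw [← Subgroup.map_subgroupOf_eq_of_le hKM, h, Subgroup.map_bot]))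
      (fun a ha => Coprime.mem_normalizer_of_forall fun y hy =>
        (Subgroup.mem_normalizer_iff.1 (hKD ha) (y : G)).1 hy)
      (Subgroup.comap_mono hKsQ)
      (by rw [Cores.card_subgroupOf hKsM])
      (fun k hk hk1 => by
        rw [← Subgroup.subgroupOf_sup hQM hDM, compl_eq_sup hD]
        ext y
        have h2 := SetLike.ext_iff.1 (hCk k hk fun e => hk1 (Subtype.ext e)) (y : G)
        constructor
        · rintro ⟨hy, hyc⟩
          exact h2.1 ⟨hy, Subgroup.mem_centralizer_singleton_iff.2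
            (congrArg Subtype.val (Subgroup.mem_centralizer_singleton_iff.1 hyc))⟩
        · intro hy
          obtain ⟨hy1, hyc⟩ := h2.2 hy
          exact ⟨hy1, Subgroup.mem_centralizer_singleton_iff.2
            (Subtype.ext (Subgroup.mem_centralizer_singleton_iff.1 hyc))⟩)
      (fun h => hne' fun d hd =>
        fun y hy => congrArg Subtype.val (h (x := (⟨d, hDM hd⟩ : M)) hd ⟨y, hQM hy⟩ hy))
      (fun N _ => F.s1446 (M ⧸ N))
  rw [Cores.card_subgroupOf hKM] at hKp
  have hQ0M : Q ⊓ Subgroup.centralizer (D : Set G) ≤ M := inf_le_left.trans hQM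
  rw [← hinfC] at hlt hnorm hcard hpow hmin
  have hQDK : Q.subgroupOf M ⊔ D.subgroupOf M ⊔ K.subgroupOf M = ⊤ := by
    rw [← Subgroup.subgroupOf_sup hQM hDM, compl_eq_sup hD, ← Subgroup.subgroupOf_sup hsM hKM,
      sup_comm, compl_eq_sup hcompl, Subgroup.subgroupOf_self]
  rw [hQDK] at hnorm
  have hnorm0 : M ≤ Subgroup.normalizer
      ((Q ⊓ Subgroup.centralizer (D : Set G) : Subgroup G) : Set G) := by
    have h := (Subgroup.map_mono hnorm).trans
      (Subgroup.le_normalizer_map (H := (Q ⊓ Subgroup.centralizer (D : Set G)).subgroupOf M) M.subtype)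
    rwa [Subgroup.map_subgroupOf_eq_of_le hQ0M, ← MonoidHom.range_eq_map,
      Subgroup.range_subtype] at h
  rw [Cores.card_subgroupOf hQM, Cores.card_subgroupOf hQ0M, Cores.card_subgroupOf hKM] at hcard
  have hlt0 : Q ⊓ Subgroup.centralizer (D : Set G) < Q := by
    refine lt_of_le_not_ge inf_le_left fun h => hlt.not_ge ?_
    exact Subgroup.comap_mono h
  have hDD0 : ⁅D, D⁆ ≤ Subgroup.centralizer (Q : Set G) := by
    have h1 : ⁅D.subgroupOf M, D.subgroupOf M⁆.map M.subtype = ⁅D, D⁆ := by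
      rw [Subgroup.map_commutator, Subgroup.map_subgroupOf_eq_of_le hDM]
    rw [← h1]
    rintro _ ⟨y, hy, rfl⟩
    exact (hcent hQM y).1 (hDD hy)
  have hbeta : q ∈ beta M := by
    by_contra hb
    obtain ⟨P, N, hN, hc⟩ :=
      F.s1414 M hM q hq (hqσ.2.1) hb
    have hPQ : (P : Subgroup (sigmaCore M)).map (sigmaCore M).subtype = Q := by
      have hle : Q ≤ (P : Subgroup (sigmaCore M)).map (sigmaCore M).subtype :=
        Subgroup.map_mono (Cores.pCore_le_sylow P)
      refine (Subgroup.eq_of_le_of_card_ge hle ?_).symm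
      obtain ⟨i, hi⟩ := (P.2.map (sigmaCore M).subtype).exists_card_eq
      refine Nat.le_of_dvd Nat.card_pos ?_
      refine (Nat.Coprime.dvd_mul_right (k := Nat.card _) (n := Q.relIndex (sigmaCore M)) ?_).1 ?_
      · rw [hi]; exact ((hq.coprime_iff_not_dvd).2 hQidx).pow_left _
      · rw [card_mul_relIndex hQs]
        exact Subgroup.card_dvd_of_le (Subgroup.map_subtype_le _)
    refine hne' ?_
    set N' := N.map (sigmaCore M).subtype with hN'
    have hN's : N' ≤ sigmaCore M := Subgroup.map_subtype_le _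
    have hNn : sigmaCore M ≤ Subgroup.normalizer (N' : Set G) := le_normalizer_map_of_normal N
    have hdisj : ∀ x ∈ N', ∀ y ∈ Q, x * y = y * x := by
      intro x hx y hy
      have h1 : x * y * x⁻¹ * y⁻¹ ∈ N' ⊓ Q := by
        refine ⟨?_, Q.mul_mem ((Subgroup.mem_normalizer_iff.1 (hMQ (hsM (hN's hx))) y).1 hy)
          (Q.inv_mem hy)⟩
        rw [show x * y * x⁻¹ * y⁻¹ = x * (y * x⁻¹ * y⁻¹) by group]
        exact N'.mul_mem hx ((Subgroup.mem_normalizer_iff.1 (hNn (hQs hy)) _).1 (N'.inv_mem hx))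
      have h2 : N' ⊓ Q = ⊥ := by
        rw [← hPQ, hN', ← Subgroup.map_inf _ _ _ (sigmaCore M).subtype_injective,
          hc.disjoint.eq_bot, Subgroup.map_bot]
      rw [h2, Subgroup.mem_bot] at h1
      rw [← mul_inv_eq_one]
      calc x * y * (y * x)⁻¹ = x * y * x⁻¹ * y⁻¹ := by group
        _ = 1 := h1
    intro d hd
    have hdN : d ∈ N' := by
      refine mem_of_coprime_relIndex hNn (hD.2.1 hd) ?_
      have hidx : N'.relIndex (sigmaCore M) = Nat.card Q := by
        rw [hN', relIndex_eq_index, hc.symm.index_eq_card, ← hPQ,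
          Subgroup.card_map_of_injective (sigmaCore M).subtype_injective]
      rw [hidx]
      obtain ⟨i, hi⟩ := hQp.exists_card_eq
      rw [hi]
      exact (((hq.coprime_iff_not_dvd).2
        fun h => hqD (h.trans (Subgroup.orderOf_dvd_natCard D hd))).symm).pow_right _
    exact fun y hy => (hdisj d hdN y hy).symm
  refine ⟨Q, hKp, hq, hbeta, hKsQ, hQp, hQF, hQs, hMQ, hQidx, ⟨D, hD⟩, fun D' hD' => ?_⟩
  obtain ⟨n, hn, hnD⟩ := Coprime.exists_conj_eq_of_le_sup (N := Q) (H := D) (L := D') hQD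
    (by rw [← compl_relIndex_right hD]; exact hQcop.symm)
    (Or.inl (Coprime.isSolvable_of_le hD.2.1 hsolMs))
    (by rw [compl_eq_sup hD]; exact hD'.2.1)
    (by rw [← compl_relIndex_right hD, ← compl_relIndex_right hD'])
  have hnQ' : MulAut.conj n • Q = Q := Solvable.conj_eq_self hn
  have hQ0 : Q ⊓ Subgroup.centralizer (D' : Set G) = Q ⊓ Subgroup.centralizer (D : Set G) := by
    rw [← hnD, inf_centralizer_conj hnQ']
    exact Coprime.conj_eq_of_mem_normalizer (hnorm0 (hQM hn))
  rw [hQ0]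
  refine ⟨hDnil D' hD', ?_, hnorm0, hlt0, hcard, fun a ha b hb => ?_, fun N hN1 hN2 hMN => ?_⟩
  · rw [← hnD]
    have h2 : ⁅MulAut.conj n • D, MulAut.conj n • D⁆ = MulAut.conj n • ⁅D, D⁆ :=
      (Subgroup.map_commutator D D (MulAut.conj n).toMonoidHom).symm
    rw [h2, ← hnQ']
    exact conj_le_centralizer_conj n hDD0
  · exact hpow ⟨a, hQM ha⟩ ha ⟨b, hQM hb⟩ hb
  · refine hmin (N.subgroupOf M) ?_ ?_ ?_
    · refine lt_of_le_not_ge (Subgroup.comap_mono hN1.le) fun h => hN1.not_ge fun y hy =>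
        (h (x := (⟨y, hQM (hN2.le hy)⟩ : M)) hy)
    · exact lt_of_le_not_ge (Subgroup.comap_mono hN2.le) fun h => hN2.not_ge fun y hy =>
        (h (x := (⟨y, hQM hy⟩ : M)) hy)
    · exact fun a _ => Coprime.mem_normalizer_of_forall fun y hy =>
        (Subgroup.mem_normalizer_iff.1 (hMN a.2) (y : G)).1 hy

end Cfsg.Agent.OddMax
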