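import Cfsg.Agent.Lib.OddOrder.PLengthOne
import Cfsg.Agent.Lib.OddOrder.UniqueBasic
import Cfsg.Agent.Lib.Coprime.Abelian
import Cfsg.Agent.Lib.Transfer.Residual

/-!
Auxiliary lemmas for Bender-Glauberman 3.6 (helper38), namespace `Cfsg.Agent.PLengthComm`:
groups of `p`-length one, small facts about subgroups, and Frobenius averaging
(`mem_of_frobenius`).
-/

set_option autoImplicit false

namespace Cfsg.Agent.PLengthComm

open Cfsg.Agent.Coprime
open scoped IsMulCommutative

variable {p : ℕ} [hp : Fact p.Prime]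

section PLength

variable {A : Type*} [Group A] [Finite A]

omit [Finite A] in
/-- Elements of `O_{p',p}` have a `p`-power in `O_{p'}`. -/
theorem exists_pow_mem_pPrimeCore {x : A} (hx : x ∈ pPrimePCore p A) :
    ∃ k, x ^ p ^ k ∈ pPrimeCore p A := by
  obtain ⟨k, hk⟩ := Cores.isPGroup_pCore p (A ⧸ pPrimeCore p A) ⟨_, hx⟩
  refine ⟨k, (QuotientGroup.eq_one_iff _).mp ?_⟩
  exact (map_pow (QuotientGroup.mk' (pPrimeCore p A)) x _).trans (congrArg Subtype.val hk)

theorem coprime_card_of_forall {N : Subgroup A} (h : ∀ x ∈ N, orderOf x = p → False) :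
    (Nat.card N).Coprime p := by
  refine ((hp.out.coprime_iff_not_dvd).mpr fun hd => ?_).symm
  obtain ⟨x, hx⟩ := exists_prime_orderOf_dvd_card' (G := N) p hd
  exact h x x.2 ((Subgroup.orderOf_coe x).trans hx)

theorem eq_one_of_mem_pPrimeCore {x : A} (hx : x ∈ pPrimeCore p A) {k : ℕ} (hk : x ^ p ^ k = 1) :
    x = 1 := by
  have hcop : (Nat.card (pPrimeCore p A)).Coprime p := Cores.coprime_card_pPrimeCore p
  refine orderOf_eq_one_iff.mp (Nat.eq_one_of_dvd_coprimes (hcop.pow_right k) ?_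
    (orderOf_dvd_of_pow_eq_one hk))
  exact Subgroup.orderOf_dvd_natCard _ hx

/-- `p`-length one passes back over a kernel of order prime to `p`. -/
theorem pLengthLE_of_coprime_ker {B : Type*} [Group B] [Finite B] (f : A →* B)
    (hf : Function.Surjective f) (hk : (Nat.card f.ker).Coprime p) (hB : PLengthLE p 1 B) :
    PLengthLE p 1 A := by
  set N := (pPrimeCore p B).comap f with hN
  set K := (pPrimePCore p B).comap f with hK
  have hKn : (pPrimePCore p B).Normal :=
    inferInstanceAs ((pCore p (B ⧸ pPrimeCore p B)).comap (QuotientGroup.mk' _)).Normal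
  have hNn : N.Normal := Subgroup.Normal.comap inferInstance f
  have hKn' : K.Normal := Subgroup.Normal.comap hKn f
  have hcop : (Nat.card N).Coprime p := by
    refine coprime_card_of_forall fun x hx hxo => ?_
    have h1 : x ^ p ^ 1 = 1 := by rw [pow_one, ← hxo]; exact pow_orderOf_eq_one x
    have h2 : f x = 1 := eq_one_of_mem_pPrimeCore hx (k := 1) (by rw [← map_pow, h1, map_one])
    have h3 : p ∣ Nat.card f.ker := hxo ▸ Subgroup.orderOf_dvd_natCard _ (MonoidHom.mem_ker.mpr h2)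
    exact hp.out.one_lt.ne' (Nat.eq_one_of_dvd_coprimes hk h3 dvd_rfl)
  obtain ⟨j, hj⟩ := PLengthOne.relIndex_eq_pow (p := p) (G := B)
  refine PLengthOne.of_normal_pair hcop (j := j) (K := K) ?_ ?_
  · rw [Subgroup.relIndex_comap, Subgroup.map_comap_eq_self_of_surjective hf, hj]
  · rw [hK, Subgroup.index_comap_of_surjective _ hf]
    exact PLengthOne.pLengthLE_one_iff.mp hB

/-- A subdirect product of groups of `p`-length one has `p`-length one. -/
theorem pLengthLE_of_inf_ker_eq_bot {B C : Type*} [Group B] [Finite B] [Group C] [Finite C]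
    (f : A →* B) (hf : Function.Surjective f) (g : A →* C) (hg : Function.Surjective g)
    (h : f.ker ⊓ g.ker = ⊥) (hB : PLengthLE p 1 B) (hC : PLengthLE p 1 C) : PLengthLE p 1 A := by
  set Kf := (pPrimePCore p B).comap f
  set Kg := (pPrimePCore p C).comap g
  set N := (pPrimeCore p B).comap f ⊓ (pPrimeCore p C).comap g with hN
  have hBn : (pPrimePCore p B).Normal :=
    inferInstanceAs ((pCore p (B ⧸ pPrimeCore p B)).comap (QuotientGroup.mk' _)).Normal
  have hCn : (pPrimePCore p C).Normal :=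
    inferInstanceAs ((pCore p (C ⧸ pPrimeCore p C)).comap (QuotientGroup.mk' _)).Normal
  have hKfn : Kf.Normal := Subgroup.Normal.comap hBn f
  have hKgn : Kg.Normal := Subgroup.Normal.comap hCn g
  have hNn : N.Normal := inferInstanceAs
    ((pPrimeCore p B).comap f ⊓ (pPrimeCore p C).comap g).Normal
  have hcop : (Nat.card N).Coprime p := by
    refine coprime_card_of_forall fun x hx hxo => ?_
    have h1 : x ^ p ^ 1 = 1 := by rw [pow_one, ← hxo]; exact pow_orderOf_eq_one x
    have h2 : x ∈ f.ker ⊓ g.ker :=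
      ⟨eq_one_of_mem_pPrimeCore hx.1 (k := 1) (by rw [← map_pow, h1, map_one]),
        eq_one_of_mem_pPrimeCore hx.2 (k := 1) (by rw [← map_pow, h1, map_one])⟩
    rw [h, Subgroup.mem_bot] at h2
    rw [h2, orderOf_one] at hxo
    exact hp.out.one_lt.ne hxo
  have hKK : (Kf ⊓ Kg).Normal := inferInstance
  have hpg : IsPGroup p (↥(Kf ⊓ Kg) ⧸ N.subgroupOf (Kf ⊓ Kg)) := by
    intro y
    induction y using QuotientGroup.induction_on with
    | _ x =>
      obtain ⟨k₁, hk₁⟩ := exists_pow_mem_pPrimeCore (A := B) x.2.1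
      obtain ⟨k₂, hk₂⟩ := exists_pow_mem_pPrimeCore (A := C) x.2.2
      refine ⟨k₁ + k₂, ?_⟩
      rw [← QuotientGroup.mk_pow, QuotientGroup.eq_one_iff, Subgroup.mem_subgroupOf,
        SubgroupClass.coe_pow]
      refine ⟨?_, ?_⟩
      · show f ((x : A) ^ p ^ (k₁ + k₂)) ∈ pPrimeCore p B
        rw [map_pow, pow_add, pow_mul]
        exact pow_mem hk₁ _
      · show g ((x : A) ^ p ^ (k₁ + k₂)) ∈ pPrimeCore p C
        rw [map_pow, pow_add, mul_comm, pow_mul]
        exact pow_mem hk₂ _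
  obtain ⟨j, hj⟩ := hpg.exists_card_eq
  refine PLengthOne.of_normal_pair hcop (j := j) (K := Kf ⊓ Kg) hj ?_
  have h1 : (Kf ⊓ Kg).index = Kg.relIndex Kf * Kf.index := by
    rw [← Subgroup.relIndex_mul_index (inf_le_left : Kf ⊓ Kg ≤ Kf), Subgroup.inf_relIndex_left]
  rw [h1]
  refine Nat.Coprime.mul_left ?_ ?_
  · refine Nat.Coprime.coprime_dvd_left (Subgroup.relIndex_dvd_index_of_normal Kg Kf) ?_
    rw [Subgroup.index_comap_of_surjective _ hg]
    exact PLengthOne.pLengthLE_one_iff.mp hC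
  · rw [Subgroup.index_comap_of_surjective _ hf]
    exact PLengthOne.pLengthLE_one_iff.mp hB

/-- With `O_{p'} = 1` and `p`-length one every `p`-subgroup lies in `O_p`. -/
theorem le_pCore_of_pLengthLE (h : PLengthLE p 1 A) (hO : pPrimeCore p A = ⊥) {Q : Subgroup A}
    (hQ : IsPGroup p Q) : Q ≤ pCore p A := by
  have hKn : (pPrimePCore p A).Normal :=
    inferInstanceAs ((pCore p (A ⧸ pPrimeCore p A)).comap (QuotientGroup.mk' _)).Normal
  obtain ⟨j, hj⟩ := PLengthOne.relIndex_eq_pow (p := p) (G := A)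
  rw [hO, Subgroup.relIndex_bot_left] at hj
  have hle : pPrimePCore p A ≤ pCore p A := Cores.le_pCore hKn (IsPGroup.of_card hj)
  intro x hx
  obtain ⟨k, hk⟩ := hQ ⟨x, hx⟩
  have hk' : x ^ p ^ k = 1 := congrArg Subtype.val hk
  refine hle (Transfer.mem_of_pow_mem_of_coprime
    ((PLengthOne.pLengthLE_one_iff.mp h).symm.pow_left k).symm
    (Subgroup.pow_index_mem _ x) ?_)
  rw [hk']
  exact one_mem _

/-- If all `p`-subgroups lie in `O_p` then the `p`-length is one. -/
theorem pLengthLE_of_le_pCore (h : ∀ Q : Subgroup A, IsPGroup p Q → Q ≤ pCore p A) :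
    PLengthLE p 1 A := by
  obtain ⟨P⟩ := (inferInstance : Nonempty (Sylow p A))
  obtain ⟨j, hj⟩ := (Cores.isPGroup_pCore p A).exists_card_eq
  have : (pCore p A).Normal := Subgroup.sSup_normal _ fun _ h => h.1
  refine PLengthOne.of_normal_pair (N := ⊥) (K := pCore p A) (j := j) (by simp)
    (by rw [Subgroup.relIndex_bot_left, hj]) ?_
  exact ((hp.out.coprime_iff_not_dvd.mpr P.not_dvd_index).symm).coprime_dvd_left
    (Subgroup.index_dvd_of_le (h P P.2))

end PLength

variable {G : Type*} [Group G] [Finite G]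

/-- A normal `p`-subgroup of `H` lies in `O_p(H)`. -/
theorem le_pCoreOf {N H : Subgroup G} (hNH : N ≤ H) (hn : H ≤ Subgroup.normalizer (N : Set G))
    (hN : IsPGroup p N) : N ≤ pCoreOf p H := by
  intro x hx
  exact ⟨⟨x, hNH hx⟩,
    Cores.le_pCore (Cores.subgroupOf_normal_of_le_normalizer hn) (hN.comap_subtype) hx, rfl⟩

theorem pPrimeCore_eq_bot {T : Subgroup G} (hO : ∀ N : Subgroup G, N ≤ T →
    T ≤ Subgroup.normalizer (N : Set G) → (Nat.card N).Coprime p → N = ⊥) :
    pPrimeCore p T = ⊥ := by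
  have h := hO ((pPrimeCore p T).map T.subtype) (Subgroup.map_subtype_le _)
    (OddUniq.le_normalizer_map_subtype T _)
    (by rw [Cores.card_map_subtype]; exact Cores.coprime_card_pPrimeCore p)
  rwa [Subgroup.map_eq_bot_iff_of_injective _ T.subtype_injective] at h

/-- `p`-length one and no normal `p'`-subgroup: the `p`-subgroups of `T` lie in `O_p(T)`. -/
theorem le_pCoreOf_of_pLengthLE {T Q : Subgroup G} (h : PLengthLE p 1 T)
    (hO : ∀ N : Subgroup G, N ≤ T → T ≤ Subgroup.normalizer (N : Set G) →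
      (Nat.card N).Coprime p → N = ⊥)
    (hQT : Q ≤ T) (hQ : IsPGroup p Q) : Q ≤ pCoreOf p T := by
  intro x hx
  exact ⟨⟨x, hQT hx⟩,
    le_pCore_of_pLengthLE h (pPrimeCore_eq_bot hO) (hQ.comap_subtype (K := T)) hx, rfl⟩

omit hp in
/-- `|N B|` divides `|N| |B|` when `B` normalises `N`. -/
theorem card_sup_dvd_of_le_normalizer {N B : Subgroup G}
    (h : B ≤ Subgroup.normalizer (N : Set G)) :
    Nat.card ↥(N ⊔ B) ∣ Nat.card N * Nat.card B := by
  set Y := Subgroup.normalizer (N : Set G)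
  have hN : N ≤ Y := Subgroup.le_normalizer
  have : (N.subgroupOf Y).Normal := Cores.subgroupOf_normal_of_le_normalizer le_rfl
  have h1 := Cores.card_sup_dvd (B.subgroupOf Y) (N.subgroupOf Y)
  rw [← Subgroup.subgroupOf_sup h hN, Cores.card_subgroupOf h, Cores.card_subgroupOf hN,
    Cores.card_subgroupOf (sup_le h hN), sup_comm, mul_comm] at h1
  exact h1

/-- Two nontrivial `p`-subgroups of a cyclic group meet. -/
theorem inf_ne_bot_of_isCyclic {C A B : Subgroup G} (hC : IsCyclic C) (hA : A ≤ C) (hB : B ≤ C)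
    (hAp : IsPGroup p A) (hBp : IsPGroup p B) (hA1 : A ≠ ⊥) (hB1 : B ≠ ⊥) : A ⊓ B ≠ ⊥ := by
  classical
  cases nonempty_fintype C
  have hex : ∀ X : Subgroup G, IsPGroup p X → X ≠ ⊥ → ∃ a ∈ X, orderOf a = p := by
    intro X hX hX1
    obtain ⟨a, ha⟩ := exists_prime_orderOf_dvd_card' (G := X) p
      ((hX.card_eq_or_dvd).resolve_left fun h => hX1 (Subgroup.eq_bot_of_card_eq X h))
    exact ⟨a, a.2, (Subgroup.orderOf_coe a).trans ha⟩
  obtain ⟨a, ha, hao⟩ := hex A hAp hA1
  obtain ⟨b, hb, hbo⟩ := hex B hBp hB1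
  let a' : C := ⟨a, hA ha⟩
  let b' : C := ⟨b, hB hb⟩
  have hao' : orderOf a' = p := (Subgroup.orderOf_mk a _).trans hao
  have hbo' : orderOf b' = p := (Subgroup.orderOf_mk b _).trans hbo
  have hb' : b' ∈ Subgroup.zpowers a' := by
    by_contra hnb
    have hle := IsCyclic.card_pow_eq_one_le (α := C) hp.out.pos
    have hsub : insert b' (Finset.univ.filter fun x : C => x ∈ Subgroup.zpowers a') ⊆
        Finset.univ.filter fun x : C => x ^ p = 1 := by
      intro x hx
      rw [Finset.mem_filter]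
      refine ⟨Finset.mem_univ _, orderOf_dvd_iff_pow_eq_one.mp ?_⟩
      rcases Finset.mem_insert.mp hx with rfl | hx
      · rw [hbo']
      · obtain ⟨i, rfl⟩ := Subgroup.mem_zpowers_iff.mp (Finset.mem_filter.mp hx).2
        exact hao' ▸ orderOf_dvd_of_pow_eq_one (by
          rw [← zpow_natCast, ← zpow_mul, mul_comm, zpow_mul, zpow_natCast, pow_orderOf_eq_one,
            one_zpow])
    have h1 := (Finset.card_le_card hsub).trans hle
    rw [Finset.card_insert_of_notMem (by simp [hnb]), ← Fintype.card_subtype] at h1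
    have h2 : Nat.card (Subgroup.zpowers a') = p := by rw [Nat.card_zpowers, hao']
    rw [Nat.card_eq_fintype_card] at h2
    omega
  obtain ⟨i, hi⟩ := Subgroup.mem_zpowers_iff.mp hb'
  intro hbot
  have hb2 : b ∈ A ⊓ B := ⟨by
    have h1 := congrArg Subtype.val hi
    simp only [SubgroupClass.coe_zpow, a', b'] at h1
    exact h1 ▸ zpow_mem ha i, hb⟩
  rw [hbot, Subgroup.mem_bot] at hb2
  rw [hb2, orderOf_one] at hbo
  exact hp.out.one_lt.ne hbo

omit hp in
/-- In a Frobenius group `Q X` acting on an abelian `V` with `C_V(Q) = 1`, the subgroup generated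
by the `Q`-translates of `C_V(X)` is all of `V` (coprime orders). -/
theorem mem_of_frobenius {Q X V U : Subgroup G} [IsMulCommutative V]
    (hXQ : X ≤ Subgroup.normalizer (Q : Set G)) (hQV : Q ≤ Subgroup.normalizer (V : Set G))
    (hXV : X ≤ Subgroup.normalizer (V : Set G))
    (hfree : ∀ x ∈ X, x ≠ 1 → Q ⊓ Subgroup.centralizer ({x} : Set G) = ⊥)
    (hQfix : V ⊓ Subgroup.centralizer (Q : Set G) = ⊥)
    (hcop : (Nat.card Q).Coprime (Nat.card V))
    (hU : ∀ a ∈ Q, ∀ w ∈ V ⊓ Subgroup.centralizer (X : Set G), a * w * a⁻¹ ∈ U) :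
    V ≤ U := by
  classical
  intro v₀ hv₀
  refine mem_of_pow_mem_of_mem hv₀ hcop ?_
  set v : V := ⟨v₀, hv₀⟩
  cases nonempty_fintype Q
  cases nonempty_fintype X
  have hQ1 : ∀ w : V, ∏ a : Q, conjAut hQV a w = 1 := fun w => by
    have := conjProd_mem_centralizer hQV w
    rw [hQfix, Subgroup.mem_bot, OneMemClass.coe_eq_one, conjProd_apply] at this
    exact this
  have htot : ∏ x : X, ∏ a : Q, conjAut hQV a (conjAut hXV x (conjAut hQV a⁻¹ v)) ∈
      U.subgroupOf V := by
    rw [Finset.prod_comm]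
    refine Subgroup.prod_mem _ fun a _ => ?_
    rw [← map_prod, Subgroup.mem_subgroupOf, coe_conjAut]
    refine hU a a.2 _ ?_
    rw [← conjProd_apply]
    exact conjProd_mem_centralizer hXV _
  rw [Finset.prod_eq_single (1 : X)] at htot
  · have h1 : ∏ a : Q, conjAut hQV a (conjAut hXV 1 (conjAut hQV a⁻¹ v)) = v ^ Nat.card Q := by
      simp [Nat.card_eq_fintype_card]
    rw [h1, Subgroup.mem_subgroupOf, SubgroupClass.coe_pow] at htot
    exact htot
  · intro x _ hx
    have hx1 : (x : G) ≠ 1 := fun h => hx (OneMemClass.coe_eq_one.1 h)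
    -- `a ↦ [a, x]` permutes `Q`
    let f : Q → Q := fun a => ⟨(a : G) * ((x : G) * (a : G)⁻¹ * (x : G)⁻¹), mul_mem a.2
      ((Subgroup.mem_normalizer_iff.1 (hXQ x.2) _).1 (inv_mem a.2))⟩
    have hf : Function.Bijective f := by
      refine Finite.injective_iff_bijective.1 fun a b h => ?_
      have h' : (a : G) * ((x : G) * (a : G)⁻¹ * (x : G)⁻¹) =
          (b : G) * ((x : G) * (b : G)⁻¹ * (x : G)⁻¹) := congrArg Subtype.val h
      have hc : (b : G)⁻¹ * a ∈ Q ⊓ Subgroup.centralizer ({(x : G)} : Set G) := by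
        refine Subgroup.mem_inf.2 ⟨Q.mul_mem (Q.inv_mem b.2) a.2,
          Subgroup.mem_centralizer_singleton_iff.2 ?_⟩
        calc (b : G)⁻¹ * a * x
            = (b : G)⁻¹ * ((a : G) * ((x : G) * (a : G)⁻¹ * (x : G)⁻¹)) * x * a := by group
          _ = (b : G)⁻¹ * ((b : G) * ((x : G) * (b : G)⁻¹ * (x : G)⁻¹)) * x * a := by rw [h']
          _ = x * ((b : G)⁻¹ * a) := by group
      rw [hfree _ x.2 hx1, Subgroup.mem_bot, inv_mul_eq_one] at hc
      exact Subtype.ext hc.symm
    refine Eq.trans (Fintype.prod_bijective f hf _ (fun c => conjAut hQV c (conjAut hXV x v))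
      fun a => ?_) (hQ1 _)
    apply Subtype.ext
    simp only [coe_conjAut, Subgroup.coe_inv, f]
    group
  · simp

end Cfsg.Agent.PLengthComm
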