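import Cfsg.Agent.Lib.OddOrder.Compl
import Cfsg.Agent.Lib.Coprime.Invariant
import Cfsg.Agent.Lib.Coprime.Abelian
import Cfsg.Agent.Lib.Coprime.Frattini
import Cfsg.Agent.Lib.Frobenius.Basic
import Cfsg.Agent.Lib.FPF.Chief
import Cfsg.Agent.Lib.PGroup.Basic

/-!
The group-theoretic core of Bender-Glauberman 15.2: a group `D` extended by a group `K` acting
prime-ly on `Q D`, where `Q` is a normal `q`-subgroup and `|C_{QD}(K)| = q`.
* `nilpotent_of_fpf`, `le_centralizer_of_nilpotent_sup`, `map_inf_centralizer_le`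
* `prime_action_structure`
-/

set_option autoImplicit false

namespace Cfsg.Agent.OddMax

open scoped Pointwise commutatorElement

variable {X : Type*} [Group X] [Finite X]

/-- Thompson's theorem in the solvable case, internal form. -/
theorem nilpotent_of_fpf {A H : Subgroup X} (hA : (Nat.card A).Prime)
    (hAH : A ≤ Subgroup.normalizer (H : Set X)) (hfix : H ⊓ Subgroup.centralizer (A : Set X) = ⊥)
    (hs : Group.IsSolvable H) : Group.IsNilpotent H := by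
  have := Fact.mk hA
  refine FPF.isNilpotent_of_fpf_prime (A := A) (p := Nat.card A) rfl (Nat.card H) H le_rfl hs
    (Coprime.conjAut hAH) fun g hg => ?_
  have h : (g : X) ∈ H ⊓ Subgroup.centralizer (A : Set X) := ⟨g.2, fun a ha => by
    have h1 := congrArg Subtype.val (hg ⟨a, ha⟩)
    rw [Coprime.coe_conjAut] at h1
    exact mul_inv_eq_iff_eq_mul.1 h1⟩
  rw [hfix, Subgroup.mem_bot] at h
  exact Subtype.ext h

/-- In a nilpotent group a `q`-subgroup commutes with a subgroup of order prime to `q`. -/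
theorem le_centralizer_of_nilpotent_sup {q : ℕ} [hq : Fact q.Prime] {Q D : Subgroup X}
    (hn : Group.IsNilpotent ↥(Q ⊔ D)) (hQ : IsPGroup q Q) (hD : ¬ q ∣ Nat.card D) :
    D ≤ Subgroup.centralizer (Q : Set X) := by
  set H := Q ⊔ D with hH
  let C : Subgroup D := (Subgroup.centralizer (Q : Set X)).subgroupOf D
  suffices h : C = ⊤ from fun d hd => (h ▸ Subgroup.mem_top (⟨d, hd⟩ : D) : (⟨d, hd⟩ : D) ∈ C)
  refine Subgroup.index_eq_one.1 (by_contra fun hi => ?_)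
  obtain ⟨r, hr, hrd⟩ := Nat.exists_prime_and_dvd hi
  have := Fact.mk hr
  have hrq : r ≠ q := fun h => hD (h ▸ hrd.trans C.index_dvd_card)
  obtain ⟨P⟩ : Nonempty (Sylow r D) := inferInstance
  have hnorm : ∀ (p : ℕ) [Fact p.Prime] (S : Sylow p H), (S : Subgroup H).Normal :=
    fun p _ S => (Group.isNilpotent_of_finite_tfae.out 0 3 rfl rfl).1 hn p ‹_› S
  have key : ∀ (p : ℕ) [Fact p.Prime] (y : H), IsPGroup p (Subgroup.zpowers y) →
      y ∈ pCore p H := by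
    intro p _ y hy
    obtain ⟨S, hS⟩ := hy.exists_le_sylow
    have := hnorm p S
    rw [Cores.pCore_eq_sylow S]
    exact hS (Subgroup.mem_zpowers y)
  refine P.not_dvd_index (hrd.trans (Subgroup.index_dvd_of_le ?_))
  intro d hd
  refine Subgroup.mem_centralizer_iff.2 fun x hx => ?_
  have hxH : x ∈ H := (le_sup_left : Q ≤ H) hx
  have hdH : (d : X) ∈ H := (le_sup_right : D ≤ H) d.2
  have hx' : IsPGroup q (Subgroup.zpowers (⟨x, hxH⟩ : H)) := by
    obtain ⟨n, hn'⟩ := hQ ⟨x, hx⟩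
    obtain ⟨k, -, hk⟩ := (Nat.dvd_prime_pow hq.out).1
      (orderOf_dvd_of_pow_eq_one (congrArg Subtype.val hn'))
    exact IsPGroup.of_card (n := k) (by rw [Nat.card_zpowers, Subgroup.orderOf_mk]; exact hk)
  have hd' : IsPGroup r (Subgroup.zpowers (⟨d, hdH⟩ : H)) := by
    obtain ⟨n, hn'⟩ := P.2 ⟨d, hd⟩
    obtain ⟨k, -, hk⟩ := (Nat.dvd_prime_pow hr).1
      (orderOf_dvd_of_pow_eq_one (congrArg (fun z : (P : Subgroup D) => ((z : D) : X)) hn'))
    exact IsPGroup.of_card (n := k) (by rw [Nat.card_zpowers, Subgroup.orderOf_mk]; exact hk)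
  exact congrArg Subtype.val (Cores.pCore_commute hrq.symm (key q _ hx') (key r _ hd')).eq

/-- Fixed points in a quotient come from fixed points (coprime action). -/
theorem map_inf_centralizer_le {N H A : Subgroup X} [N.Normal] (hNH : N ≤ H)
    (hAH : A ≤ Subgroup.normalizer (H : Set X)) (hcop : (Nat.card A).Coprime (Nat.card H))
    (hsolv : Group.IsSolvable A ∨ Group.IsSolvable H) :
    H.map (QuotientGroup.mk' N) ⊓
        Subgroup.centralizer ((A.map (QuotientGroup.mk' N) : Subgroup (X ⧸ N)) : Set (X ⧸ N)) ≤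
      (H ⊓ Subgroup.centralizer (A : Set X)).map (QuotientGroup.mk' N) := by
  rintro z ⟨⟨y, hy, rfl⟩, hz⟩
  have hfix : ∀ a ∈ A, a * y * a⁻¹ * y⁻¹ ∈ N := by
    intro a ha
    have h1 : QuotientGroup.mk' N a * QuotientGroup.mk' N y =
        QuotientGroup.mk' N y * QuotientGroup.mk' N a :=
      Subgroup.mem_centralizer_iff.1 hz _ ⟨a, ha, rfl⟩
    have h2 : QuotientGroup.mk' N (a * y * a⁻¹ * y⁻¹) = 1 := by
      rw [map_mul, map_mul, map_mul, h1, map_inv, map_inv, mul_inv_cancel_right, mul_inv_cancel]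
    exact (QuotientGroup.eq_one_iff _).1 h2
  obtain ⟨c, hc, hcy⟩ := Coprime.exists_mem_centralizer_of_coset hAH hcop hsolv hNH
    (fun a _ => Subgroup.normalizer_eq_top_iff.2 ‹N.Normal› ▸ Subgroup.mem_top a) hy hfix
  refine ⟨c, hc, ?_⟩
  have h3 : QuotientGroup.mk' N (c * y⁻¹) = 1 := (QuotientGroup.eq_one_iff _).2 hcy
  rwa [map_mul, map_inv, mul_inv_eq_one] at h3

theorem centralizer_conj_mem {B : Subgroup X} {g z : X}
    (hg : g ∈ Subgroup.normalizer (B : Set X)) (hz : z ∈ Subgroup.centralizer (B : Set X)) :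
    g * z * g⁻¹ ∈ Subgroup.centralizer (B : Set X) := by
  intro b hb
  have h := hz _ ((Subgroup.mem_normalizer_iff''.1 hg b).1 hb)
  calc b * (g * z * g⁻¹) = g * (g⁻¹ * b * g * z) * g⁻¹ := by group
    _ = g * (z * (g⁻¹ * b * g)) * g⁻¹ := by rw [h]
    _ = g * z * g⁻¹ * b := by group

/-- The hypothesis form of statement 1446. -/
def PrimeActionHyp (X : Type*) [Group X] [Finite X] : Prop :=
  ∀ (K R M : Subgroup X), K ≠ ⊥ → R ≠ ⊥ → K ⊓ R = ⊥ → R ≤ Subgroup.normalizer (K : Set X) →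
    (∀ r ∈ R, r ≠ 1 → K ⊓ Subgroup.centralizer ({r} : Set X) = ⊥) →
    Group.IsSolvable ↥(K ⊔ R) → Odd (Nat.card ↥(K ⊔ R)) → M ≠ ⊥ → Group.IsNilpotent M →
    K ≤ Subgroup.normalizer (M : Set X) → R ≤ Subgroup.normalizer (M : Set X) →
    (Nat.card ↥(K ⊔ R)).Coprime (Nat.card M) → M ⊓ Subgroup.centralizer (K : Set X) = ⊥ →
    (∀ x ∈ R, x ≠ 1 → M ⊓ Subgroup.centralizer ({x} : Set X) =
      M ⊓ Subgroup.centralizer (R : Set X)) →
    (Nat.card R).Prime ∧ Nat.card M = Nat.card ↥(M ⊓ Subgroup.centralizer (R : Set X)) ^ Nat.card R ∧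
      (IsCyclic ↥(M ⊓ Subgroup.centralizer (R : Set X)) → ⁅K, K⁆ ≤ Subgroup.centralizer (M : Set X))

/-- BG 15.2, group-theoretic core. -/
theorem prime_action_structure [Group.IsSolvable X] (hodd : Odd (Nat.card X)) {q : ℕ}
    [hq : Fact q.Prime] (Q D K Z : Subgroup X) [hQn : Q.Normal] (hQ : IsPGroup q Q)
    (hD : ¬ q ∣ Nat.card D) (hK : ¬ q ∣ Nat.card K) (hK1 : K ≠ ⊥)
    (hKD : K ≤ Subgroup.normalizer (D : Set X)) (hZQ : Z ≤ Q) (hZ : Nat.card Z = q)
    (hC : ∀ k ∈ K, k ≠ 1 → (Q ⊔ D) ⊓ Subgroup.centralizer ({k} : Set X) = Z)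
    (hne : ¬ D ≤ Subgroup.centralizer (Q : Set X))
    (h1446 : ∀ (N : Subgroup X) [N.Normal], PrimeActionHyp (X ⧸ N)) :
    (Nat.card K).Prime ∧ Q ⊓ Subgroup.centralizer (D : Set X) < Q ∧
      Q ⊔ D ⊔ K ≤ Subgroup.normalizer ((Q ⊓ Subgroup.centralizer (D : Set X) : Subgroup X) : Set X) ∧
      Nat.card Q = Nat.card ↥(Q ⊓ Subgroup.centralizer (D : Set X)) * q ^ Nat.card K ∧
      (∀ a ∈ Q, ∀ b ∈ Q, a ^ q ∈ Q ⊓ Subgroup.centralizer (D : Set X) ∧
        a * b * a⁻¹ * b⁻¹ ∈ Q ⊓ Subgroup.centralizer (D : Set X)) ∧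
      (∀ N : Subgroup X, Q ⊓ Subgroup.centralizer (D : Set X) < N → N < Q →
        ¬ D ⊔ K ≤ Subgroup.normalizer (N : Set X)) ∧
      ⁅D, D⁆ ≤ Subgroup.centralizer (Q : Set X) := by
  classical
  set P : Subgroup X := (frattini Q).map Q.subtype with hPdef
  have hPQ : P ≤ Q := Subgroup.map_subtype_le _
  have : P.Normal := Cores.map_subtype_normal_of_characteristic Q _
  set f := QuotientGroup.mk' P with hf
  set V := Q.map f with hV
  set Db := D.map f with hDb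
  set Kb := K.map f with hKb
  have hf1 : ∀ {y : X}, f y = 1 ↔ y ∈ P := fun {y} => QuotientGroup.eq_one_iff y
  have hPp : IsPGroup q P := hQ.to_le hPQ
  have hcopD : (Nat.card D).Coprime (Nat.card Q) := by
    obtain ⟨n, hn⟩ := hQ.exists_card_eq
    rw [hn]; exact ((hq.out.coprime_iff_not_dvd).2 hD).symm.pow_right n
  have hcopK : (Nat.card K).Coprime (Nat.card Q) := by
    obtain ⟨n, hn⟩ := hQ.exists_card_eq
    rw [hn]; exact ((hq.out.coprime_iff_not_dvd).2 hK).symm.pow_right n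
  have hDP : D ⊓ P = ⊥ := Coprime.inf_eq_bot
    (hcopD.coprime_dvd_right (Subgroup.card_dvd_of_le hPQ))
  have hKP : K ⊓ P = ⊥ := Coprime.inf_eq_bot
    (hcopK.coprime_dvd_right (Subgroup.card_dvd_of_le hPQ))
  have hDQ : D ⊓ Q = ⊥ := Coprime.inf_eq_bot hcopD
  have hQD : D ≤ Subgroup.normalizer (Q : Set X) := fun d _ =>
    Subgroup.normalizer_eq_top_iff.2 hQn ▸ Subgroup.mem_top d
  have hfpf : ∀ k ∈ K, k ≠ 1 → D ⊓ Subgroup.centralizer ({k} : Set X) = ⊥ := by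
    intro k hk hk1
    rw [eq_bot_iff, ← hDQ]
    intro y hy
    refine ⟨hy.1, hZQ ?_⟩
    rw [← hC k hk hk1]
    exact ⟨Subgroup.mem_sup_right hy.1, hy.2⟩
  have hKDdisj : D ⊓ K = ⊥ := by
    rw [Subgroup.eq_bot_iff_forall]
    rintro k ⟨hkD, hkK⟩
    by_contra hk1
    have h : k ∈ D ⊓ Subgroup.centralizer ({k} : Set X) :=
      ⟨hkD, Subgroup.mem_centralizer_singleton_iff.2 rfl⟩
    rw [hfpf k hkK hk1, Subgroup.mem_bot] at h
    exact hk1 h
  have hcopDK : (Nat.card K).Coprime (Nat.card D) := by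
    refine Frobenius.FPF.coprime (fun k hk hk1 d hd e => ?_) hKD
    have h : d ∈ D ⊓ Subgroup.centralizer ({k} : Set X) :=
      ⟨hd, Subgroup.mem_centralizer_singleton_iff.2 e.symm⟩
    rwa [hfpf k hk hk1, Subgroup.mem_bot] at h
  have hZK : Z ≤ Subgroup.centralizer (K : Set X) := by
    intro z hz k hk
    by_cases hk1 : k = 1
    · rw [hk1, one_mul, mul_one]
    have h : z ∈ (Q ⊔ D) ⊓ Subgroup.centralizer ({k} : Set X) := by rw [hC k hk hk1]; exact hz
    exact (Subgroup.mem_centralizer_singleton_iff.1 h.2).symm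
  have hVab : IsMulCommutative V := by
    refine ⟨⟨?_⟩⟩
    rintro ⟨_, a, ha, rfl⟩ ⟨_, b, hb, rfl⟩
    apply Subtype.ext
    show f a * f b = f b * f a
    rw [← commutatorElement_eq_one_iff_mul_comm, ← map_commutatorElement, hf1]
    exact ⟨⁅(⟨a, ha⟩ : Q), ⟨b, hb⟩⁆, PGroup.commutatorElement_mem_frattini hQ _ _,
      map_commutatorElement _ _ _⟩
  have hn : ∀ {A B : Subgroup X}, A ≤ Subgroup.normalizer (B : Set X) →
      A.map f ≤ Subgroup.normalizer (B.map f : Set (X ⧸ P)) := fun {A B} h =>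
    (Subgroup.map_mono h).trans (Subgroup.le_normalizer_map f)
  have hDbV : Db ≤ Subgroup.normalizer (V : Set (X ⧸ P)) := hn hQD
  have hKbV : Kb ≤ Subgroup.normalizer (V : Set (X ⧸ P)) := hn fun k _ =>
    Subgroup.normalizer_eq_top_iff.2 hQn ▸ Subgroup.mem_top k
  have hKbDb : Kb ≤ Subgroup.normalizer (Db : Set (X ⧸ P)) := hn hKD
  have hker : f.ker = P := QuotientGroup.ker_mk' P
  have hcDb : Nat.card Db = Nat.card D := by
    rw [hDb, Solvable.card_map_of_disjoint f D (by rw [hker]; exact hDP)]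
  have hcKb : Nat.card Kb = Nat.card K := by
    rw [hKb, Solvable.card_map_of_disjoint f K (by rw [hker]; exact hKP)]
  have hcV : Nat.card V ∣ Nat.card Q := Subgroup.card_map_dvd _ _
  set C₀ := V ⊓ Subgroup.centralizer (Db : Set (X ⧸ P)) with hC₀
  set W := ⁅V, Db⁆ with hW
  have hcopVD : (Nat.card Db).Coprime (Nat.card V) := by
    rw [hcDb]; exact hcopD.coprime_dvd_right hcV
  have hinf : C₀ ⊓ W = ⊥ := Coprime.abelian_inf_eq_bot hDbV hcopVD
  have hsup : C₀ ⊔ W = V := Coprime.abelian_sup_eq hDbV hcopVD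
  have hWV : W ≤ V := hsup ▸ le_sup_right
  have hcompl : IsComplIn C₀ W V := by
    refine ⟨inf_le_left, hWV, hinf, fun v hv => ?_⟩
    have hWC : W ≤ Subgroup.normalizer (C₀ : Set (X ⧸ P)) := fun w hw => by
      refine Coprime.mem_normalizer_of_forall fun c hc => ?_
      have e : w * c = c * w := congrArg Subtype.val
        (hVab.is_comm.comm (⟨w, hWV hw⟩ : V) ⟨c, hc.1⟩)
      rw [e, mul_inv_cancel_right]; exact hc
    rw [← hsup, Coprime.mem_sup_iff hWC] at hv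
    obtain ⟨c, hc, w, hw, rfl⟩ := hv
    exact ⟨c, hc, w, hw, rfl⟩
  have hKbW : Kb ≤ Subgroup.normalizer (W : Set (X ⧸ P)) := fun k hk => by
    refine Coprime.mem_normalizer_of_conj_eq ?_
    show (⁅V, Db⁆).map (MulAut.conj k).toMonoidHom = ⁅V, Db⁆
    rw [Subgroup.map_commutator,
      show V.map (MulAut.conj k).toMonoidHom = V from Coprime.conj_eq_of_mem_normalizer (hKbV hk),
      show Db.map (MulAut.conj k).toMonoidHom = Db from Coprime.conj_eq_of_mem_normalizer (hKbDb hk)]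
  have hDbW : Db ≤ Subgroup.normalizer (W : Set (X ⧸ P)) :=
    Subgroup.normalizer_commutator_ge_right V Db
  have hW1 : W ≠ ⊥ := by
    intro h
    refine hne (Coprime.le_centralizer_of_forall_mem_frattini hQD ?_ fun d hd y hy => ?_)
    · rw [← Subgroup.card_map_of_injective Q.subtype_injective]
      exact hcopD.coprime_dvd_right (Subgroup.card_dvd_of_le hPQ)
    · rw [show (frattini Q).map Q.subtype = P from rfl, ← hf1, map_mul, map_mul, map_mul,
        map_inv, map_inv]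
      have h2 := Subgroup.commutator_eq_bot_iff_le_centralizer.1 h (Subgroup.mem_map_of_mem f hy)
      rw [h2 _ (Subgroup.mem_map_of_mem f hd)]
      group
  set Zb := Z.map f with hZb
  have hVC : ∀ k ∈ K, k ≠ 1 →
      V ⊓ Subgroup.centralizer ({f k} : Set (X ⧸ P)) ≤ Zb := by
    intro k hk hk1
    have hle := map_inf_centralizer_le (N := P) (H := Q) (A := Subgroup.zpowers k) hPQ
      (fun a _ => Subgroup.normalizer_eq_top_iff.2 hQn ▸ Subgroup.mem_top a)
      (hcopK.coprime_dvd_left (Subgroup.card_dvd_of_le (Subgroup.zpowers_le.2 hk)))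
      (Or.inr inferInstance)
    intro v hv
    have h := hle ⟨hv.1, ?_⟩
    · refine Subgroup.map_mono ?_ h
      intro y hy
      rw [← hC k hk hk1]
      exact ⟨Subgroup.mem_sup_left hy.1,
        Subgroup.centralizer_le (by simp) hy.2⟩
    · rintro _ ⟨a, ⟨i, rfl⟩, rfl⟩
      show f (k ^ i) * v = v * f (k ^ i)
      rw [map_zpow]
      exact ((show Commute (f k) v from
        (Subgroup.mem_centralizer_singleton_iff.1 hv.2).symm).zpow_left i).eq
  have hZbK : Zb ≤ Subgroup.centralizer (Kb : Set (X ⧸ P)) := by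
    rintro _ ⟨z, hz, rfl⟩ _ ⟨k, hk, rfl⟩
    rw [← map_mul, ← map_mul, hZK hz k hk]
  obtain ⟨k₀, hk₀, hk₀1⟩ : ∃ k ∈ K, k ≠ 1 := by
    obtain ⟨⟨k, hk⟩, h⟩ := Subgroup.ne_bot_iff_exists_ne_one.1 hK1
    exact ⟨k, hk, fun e => h (Subtype.ext e)⟩
  have hDb1 : Db ≠ ⊥ := fun h => hW1 (by rw [hW, h, Subgroup.commutator_bot_right])
  -- statement 1446 on an invariant subgroup of `W`
  have hpow : ∀ W' : Subgroup (X ⧸ P), W' ≤ W → W' ≠ ⊥ →
      Db ≤ Subgroup.normalizer (W' : Set (X ⧸ P)) → Kb ≤ Subgroup.normalizer (W' : Set (X ⧸ P)) →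
      (Nat.card K).Prime ∧ Nat.card W' = q ^ Nat.card K ∧ Zb ≤ W' ∧ Nat.card Zb = q ∧
        ⁅Db, Db⁆ ≤ Subgroup.centralizer (W' : Set (X ⧸ P)) := by
    intro W' hW'W hW'1 hDW' hKW'
    have hW'V : W' ≤ V := hW'W.trans hWV
    have hfix : ∀ x ∈ Kb, x ≠ 1 → W' ⊓ Subgroup.centralizer ({x} : Set (X ⧸ P)) =
        W' ⊓ Subgroup.centralizer (Kb : Set (X ⧸ P)) := by
      rintro _ ⟨k, hk, rfl⟩ hx1
      refine le_antisymm (fun w hw => ⟨hw.1, hZbK (hVC k hk (fun e => hx1 (by rw [e, map_one]))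
        ⟨hW'V hw.1, hw.2⟩)⟩) fun w hw => ⟨hw.1, Subgroup.mem_centralizer_singleton_iff.2
          (hw.2 _ ⟨k, hk, rfl⟩).symm⟩
    have hfpfb : ∀ r ∈ Kb, r ≠ 1 → Db ⊓ Subgroup.centralizer ({r} : Set (X ⧸ P)) = ⊥ := by
      rintro _ ⟨k, hk, rfl⟩ hr1
      rw [Subgroup.eq_bot_iff_forall]
      rintro _ ⟨⟨d, hd, rfl⟩, hc⟩
      have h1 : f (k * d * k⁻¹ * d⁻¹) = 1 := by
        rw [map_mul, map_mul, map_mul, map_inv, map_inv,
          ← Subgroup.mem_centralizer_singleton_iff.1 hc]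
        group
      have h2 : k * d * k⁻¹ * d⁻¹ ∈ D ⊓ P :=
        ⟨D.mul_mem ((Subgroup.mem_normalizer_iff.1 (hKD hk) d).1 hd) (D.inv_mem hd), hf1.1 h1⟩
      rw [hDP, Subgroup.mem_bot, mul_inv_eq_one, mul_inv_eq_iff_eq_mul] at h2
      have h3 : d ∈ D ⊓ Subgroup.centralizer ({k} : Set X) :=
        ⟨hd, Subgroup.mem_centralizer_singleton_iff.2 h2.symm⟩
      rw [hfpf k hk (fun e => hr1 (by rw [e, map_one])), Subgroup.mem_bot] at h3
      rw [h3, map_one]
    have hcopb : (Nat.card Db).Coprime (Nat.card Kb) := by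
      rw [hcDb, hcKb]; exact hcopDK.symm
    have hcard : Nat.card ↥(Db ⊔ Kb) = Nat.card D * Nat.card K := by
      rw [Coprime.card_sup_of_coprime hKbDb hcopb, hcDb, hcKb]
    have hcopW : (Nat.card ↥(Db ⊔ Kb)).Coprime (Nat.card W') := by
      rw [hcard]
      exact (hcopD.mul_left hcopK).coprime_dvd_right ((Subgroup.card_dvd_of_le hW'V).trans hcV)
    have hCD : W' ⊓ Subgroup.centralizer (Db : Set (X ⧸ P)) = ⊥ := by
      rw [eq_bot_iff, ← hinf]
      exact fun w hw => ⟨⟨hW'V hw.1, hw.2⟩, hW'W hw.1⟩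
    have hnil : Group.IsNilpotent W' :=
      Cores.isNilpotent_of_le hW'V (Cores.isNilpotent_of_isMulCommutative V)
    have hoddb : Odd (Nat.card ↥(Db ⊔ Kb)) := by
      rw [hcard]
      exact (hodd.of_dvd_nat (Subgroup.card_subgroup_dvd_card D)).mul
        (hodd.of_dvd_nat (Subgroup.card_subgroup_dvd_card K))
    have hKb1 : Kb ≠ ⊥ := fun h => hK1 (by
      rw [← Subgroup.card_eq_one, hcKb] at h
      exact Subgroup.card_eq_one.1 h)
    obtain ⟨hp, hc, hc3⟩ := h1446 P Db Kb W' hDb1 hKb1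
      (Coprime.inf_eq_bot hcopb) hKbDb hfpfb inferInstance hoddb hW'1 hnil hDW' hKW' hcopW hCD hfix
    rw [hcKb] at hp hc
    have hle : W' ⊓ Subgroup.centralizer (Kb : Set (X ⧸ P)) ≤ Zb := by
      intro w hw
      refine hVC k₀ hk₀ hk₀1 ⟨hW'V hw.1, Subgroup.mem_centralizer_singleton_iff.2 ?_⟩
      exact (hw.2 _ ⟨k₀, hk₀, rfl⟩).symm
    have hZbq : Nat.card Zb ∣ q := hZ ▸ Subgroup.card_map_dvd _ _
    have hne1 : Nat.card ↥(W' ⊓ Subgroup.centralizer (Kb : Set (X ⧸ P))) ≠ 1 := by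
      intro h1
      rw [h1, one_pow, Subgroup.card_eq_one] at hc
      exact hW'1 hc
    have h2 := (Nat.dvd_prime hq.out).1 ((Subgroup.card_dvd_of_le hle).trans hZbq)
    have h3 : Nat.card ↥(W' ⊓ Subgroup.centralizer (Kb : Set (X ⧸ P))) = q := h2.resolve_left hne1
    have h4 : Nat.card Zb = q := ((Nat.dvd_prime hq.out).1 hZbq).resolve_left fun h =>
      hne1 (Nat.dvd_one.1 (h ▸ Subgroup.card_dvd_of_le hle))
    refine ⟨hp, by rw [hc, h3], ?_, h4, hc3 (isCyclic_of_prime_card (h3.trans rfl))⟩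
    rw [← Subgroup.eq_of_le_of_card_ge hle (by rw [h3, h4])]
    exact inf_le_left
  obtain ⟨hKp, hWc, hZbW, hZbc, hWd⟩ := hpow W le_rfl hW1 hDbW hKbW
  set Q₁ := Q ⊓ (Subgroup.centralizer (Db : Set (X ⧸ P))).comap f with hQ₁
  have hPQ₁ : P ≤ Q₁ := fun y hy => ⟨hPQ hy, by
    change f y ∈ Subgroup.centralizer (Db : Set (X ⧸ P))
    rw [hf1.2 hy]; exact one_mem _⟩
  have hnormQ₁ : ∀ g ∈ Q ⊔ D ⊔ K, g ∈ Subgroup.normalizer (Q₁ : Set X) := by
    suffices h : Q ⊔ D ⊔ K ≤ Subgroup.normalizer (Q₁ : Set X) from h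
    have hgen : ∀ g : X, f g ∈ Subgroup.normalizer (Db : Set (X ⧸ P)) →
        g ∈ Subgroup.normalizer (Q₁ : Set X) := fun g hg =>
      Coprime.mem_normalizer_of_forall fun y hy => ⟨hQn.conj_mem y hy.1 g, by
        change f (g * y * g⁻¹) ∈ Subgroup.centralizer (Db : Set (X ⧸ P))
        rw [map_mul, map_mul, map_inv]
        exact centralizer_conj_mem hg hy.2⟩
    refine sup_le (sup_le (fun g hg => ?_) fun g hg => ?_) fun g hg => ?_
    · refine Coprime.mem_normalizer_of_forall fun y hy => ⟨hQn.conj_mem y hy.1 g, ?_⟩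
      change f (g * y * g⁻¹) ∈ Subgroup.centralizer (Db : Set (X ⧸ P))
      rw [map_mul, map_mul, map_inv]
      have e : f g * f y = f y * f g := congrArg Subtype.val
        (hVab.is_comm.comm (⟨f g, g, hg, rfl⟩ : V) ⟨f y, y, hy.1, rfl⟩)
      rw [e, mul_inv_cancel_right]
      exact hy.2
    · exact hgen g (Subgroup.le_normalizer ⟨g, hg, rfl⟩)
    · exact hgen g (hKbDb ⟨g, hg, rfl⟩)
  have hQ₁Z : Q₁ ⊓ Z = ⊥ := by
    have h1 := Solvable.card_eq_card_map_mul f Z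
    rw [← hZb, hZbc, hZ] at h1
    have h2 : Z ⊓ f.ker = ⊥ := Subgroup.card_eq_one.1 <| by
      have h3 : q * Nat.card ↥(Z ⊓ f.ker) = q * 1 := by rw [mul_one]; exact h1.symm
      exact Nat.eq_of_mul_eq_mul_left hq.out.pos h3
    rw [eq_bot_iff, ← h2]
    intro z hz
    refine ⟨hz.2, ?_⟩
    have h4 : f z ∈ C₀ ⊓ W := ⟨⟨⟨z, hz.1.1, rfl⟩, hz.1.2⟩, hZbW ⟨z, hz.2, rfl⟩⟩
    rw [hinf, Subgroup.mem_bot] at h4
    exact h4
  have hQ₁D : D ≤ Subgroup.normalizer (Q₁ : Set X) := fun d hd =>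
    hnormQ₁ d (Subgroup.mem_sup_left (Subgroup.mem_sup_right hd))
  have hcent : D ≤ Subgroup.centralizer (Q₁ : Set X) := by
    obtain ⟨p, hp, hpk, k, hk, hok⟩ := exists_prime_and_element hK1
    refine le_centralizer_of_nilpotent_sup (q := q) ?_ (hQ.to_le inf_le_left) hD
    refine nilpotent_of_fpf (A := Subgroup.zpowers k) (by rw [Nat.card_zpowers, hok]; exact hp) ?_
      ?_ inferInstance
    · rw [Subgroup.zpowers_le]
      have h5 : k ∈ Subgroup.normalizer (Q₁ : Set X) := hnormQ₁ k (Subgroup.mem_sup_right hk)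
      refine Coprime.mem_normalizer_of_forall fun y hy => ?_
      obtain ⟨u, hu, d, hd, rfl⟩ := (Coprime.mem_sup_iff hQ₁D).1 hy
      rw [show k * (u * d) * k⁻¹ = (k * u * k⁻¹) * (k * d * k⁻¹) by group]
      exact Subgroup.mul_mem_sup ((Subgroup.mem_normalizer_iff.1 h5 u).1 hu)
        ((Subgroup.mem_normalizer_iff.1 (hKD hk) d).1 hd)
    · have hk1 : k ≠ 1 := fun e => hp.one_lt.ne (by rw [← hok, e, orderOf_one])
      rw [Subgroup.eq_bot_iff_forall]
      rintro y ⟨hy, hyc⟩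
      obtain ⟨u, hu, d, hd, rfl⟩ := (Coprime.mem_sup_iff hQ₁D).1 hy
      have hyZ : u * d ∈ Z := by
        rw [← hC k hk hk1]
        exact ⟨Subgroup.mul_mem_sup hu.1 hd, Subgroup.centralizer_le (by simp) hyc⟩
      have hd1 : d ∈ D ⊓ Q := ⟨hd, by
        simpa using Q.mul_mem (Q.inv_mem hu.1) (hZQ hyZ)⟩
      rw [hDQ, Subgroup.mem_bot] at hd1
      rw [hd1, mul_one] at hyZ ⊢
      have h6 : u ∈ Q₁ ⊓ Z := ⟨hu, hyZ⟩
      rwa [hQ₁Z, Subgroup.mem_bot] at h6
  have hQ₀ : Q ⊓ Subgroup.centralizer (D : Set X) = Q₁ := by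
    refine le_antisymm (fun y hy => ⟨hy.1, ?_⟩) fun y hy => ⟨hy.1, fun d hd => (hcent hd y hy).symm⟩
    change f y ∈ Subgroup.centralizer (Db : Set (X ⧸ P))
    rintro _ ⟨d, hd, rfl⟩
    rw [← map_mul, ← map_mul, hy.2 d hd]
  rw [hQ₀]
  have hlt : Q₁ < Q := by
    refine lt_of_le_of_ne inf_le_left fun e => ?_
    refine hne fun d hd => ?_
    intro y hy
    exact hcent hd y (e.symm ▸ hy)
  have hmapQ₁ : Q₁.map f = C₀ := by
    refine le_antisymm ?_ ?_
    · rintro _ ⟨y, hy, rfl⟩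
      exact ⟨⟨y, hy.1, rfl⟩, hy.2⟩
    · rintro _ ⟨⟨y, hy, rfl⟩, hc⟩
      exact ⟨y, ⟨hy, hc⟩, rfl⟩
  refine ⟨hKp, hlt, hnormQ₁, ?_, fun a ha b hb => ⟨hPQ₁ ?_, hPQ₁ ?_⟩, fun N hQN hNQ hnorm => ?_,
    ?_⟩
  · have h1 := Solvable.card_eq_card_map_mul f Q
    have h2 := Solvable.card_eq_card_map_mul f Q₁
    rw [hker, inf_eq_right.2 hPQ, ← hV, ← compl_card hcompl, hWc] at h1
    rw [hker, inf_eq_right.2 hPQ₁, hmapQ₁] at h2
    rw [h1, h2]; ring
  · exact ⟨(⟨a, ha⟩ : Q) ^ q, PGroup.pow_mem_frattini hQ _, rfl⟩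
  · exact ⟨⁅(⟨a, ha⟩ : Q), ⟨b, hb⟩⁆, PGroup.commutatorElement_mem_frattini hQ _ _,
      by rw [map_commutatorElement, commutatorElement_def]; rfl⟩
  · have hN : D ≤ Subgroup.normalizer (N : Set X) ∧ K ≤ Subgroup.normalizer (N : Set X) :=
      ⟨le_sup_left.trans hnorm, le_sup_right.trans hnorm⟩
    set W' := N.map f ⊓ W with hW'
    have hnW' : ∀ {A : Subgroup (X ⧸ P)}, A ≤ Subgroup.normalizer (N.map f : Set (X ⧸ P)) →
        A ≤ Subgroup.normalizer (W : Set (X ⧸ P)) →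
        A ≤ Subgroup.normalizer (W' : Set (X ⧸ P)) := fun {A} h1 h2 a ha =>
      Coprime.mem_normalizer_of_forall fun y hy =>
        ⟨(Subgroup.mem_normalizer_iff.1 (h1 ha) y).1 hy.1,
          (Subgroup.mem_normalizer_iff.1 (h2 ha) y).1 hy.2⟩
    have hW'1 : W' ≠ ⊥ := by
      intro h
      refine hQN.not_ge fun y hy => ⟨hNQ.le hy, ?_⟩
      change f y ∈ Subgroup.centralizer (Db : Set (X ⧸ P))
      obtain ⟨c, hc, w, hw, e⟩ := hcompl.2.2.2 (f y) ⟨y, hNQ.le hy, rfl⟩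
      have hcN : c ∈ N.map f := Subgroup.map_mono hQN.le (hmapQ₁.symm ▸ hc)
      have h2 : w ∈ W' := ⟨by
        have := (N.map f).mul_mem ((N.map f).inv_mem hcN) (Subgroup.mem_map_of_mem f hy)
        rwa [e, inv_mul_cancel_left] at this, hw⟩
      rw [h, Subgroup.mem_bot] at h2
      rw [e, h2, mul_one]
      exact hc.2
    obtain ⟨-, hW'c, -, -, -⟩ := hpow W' inf_le_right hW'1
      (hnW' (hn hN.1) hDbW) (hnW' (hn hN.2) hKbW)
    have hWN : W ≤ N.map f := by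
      rw [← Subgroup.eq_of_le_of_card_ge (inf_le_right : W' ≤ W) (by rw [hW'c, hWc])]
      exact inf_le_left
    refine hNQ.not_ge fun y hy => ?_
    obtain ⟨c, hc, w, hw, e⟩ := hcompl.2.2.2 (f y) ⟨y, hy, rfl⟩
    have hyN : f y ∈ N.map f :=
      e ▸ Subgroup.mul_mem _ (Subgroup.map_mono hQN.le (hmapQ₁.symm ▸ hc)) (hWN hw)
    obtain ⟨n, hn', hny⟩ := hyN
    have h7 : n⁻¹ * y ∈ P := hf1.1 (by rw [map_mul, map_inv, hny, inv_mul_cancel])
    simpa using N.mul_mem hn' (hQN.le (hPQ₁ h7))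
  · have hDD : ⁅D, D⁆ ≤ D := Subgroup.commutator_le.2 fun a ha b hb =>
      D.mul_mem (D.mul_mem (D.mul_mem ha hb) (D.inv_mem ha)) (D.inv_mem hb)
    refine Coprime.le_centralizer_of_forall_mem_frattini (hDD.trans hQD) ?_ fun d hd y hy => ?_
    · rw [← Subgroup.card_map_of_injective Q.subtype_injective]
      exact (hcopD.coprime_dvd_left (Subgroup.card_dvd_of_le hDD)).coprime_dvd_right
        (Subgroup.card_dvd_of_le hPQ)
    · rw [show (frattini Q).map Q.subtype = P from rfl, ← hf1, map_mul, map_mul, map_mul,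
        map_inv, map_inv]
      have hfd : f d ∈ ⁅Db, Db⁆ := by
        rw [hDb, ← Subgroup.map_commutator]
        exact Subgroup.mem_map_of_mem f hd
      obtain ⟨c, hc, w, hw, e⟩ := hcompl.2.2.2 (f y) ⟨y, hy, rfl⟩
      have h1 : c * f d = f d * c := (hc.2 _ (Subgroup.mem_map_of_mem f (hDD hd))).symm
      have h2 : w * f d = f d * w := hWd hfd w hw
      have h3 : f d * (c * w) = c * w * f d := by rw [mul_assoc c, h2, ← mul_assoc c, h1, mul_assoc]
      rw [e, h3]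
      group
where
  exists_prime_and_element {K : Subgroup X} (h : K ≠ ⊥) :
      ∃ p, p.Prime ∧ p ∣ Nat.card K ∧ ∃ k ∈ K, orderOf k = p := by
    obtain ⟨p, hp, hd⟩ := Nat.exists_prime_and_dvd (mt Subgroup.card_eq_one.1 h)
    have := Fact.mk hp
    obtain ⟨k, hk⟩ := exists_prime_orderOf_dvd_card' p hd
    exact ⟨p, hp, hd, k, k.2, by rw [Subgroup.orderOf_coe]; exact hk⟩

end Cfsg.Agent.OddMax
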