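import Cfsg.Agent.S1545
import Cfsg.Agent.Lib.OddOrder.PLengthCommAux
import Cfsg.Agent.Lib.OddOrder.PrimeAction
import Cfsg.Agent.Lib.FPF.Thompson
import Cfsg.Agent.Lib.HallHigman.PrimeOrderGroup
import Cfsg.Agent.Lib.Coprime.Frattini
import Cfsg.Agent.Lib.PGroup.Basic

/-!
Bender-Glauberman 3.10 (helper38): a Frobenius group `K R` acting coprimely on a nilpotent group
`M` with `C_M(K) = 1` and `C_M(x) = C_M(R)` for `x ∈ R - {1}`.

Main results (namespace `Cfsg.Agent.FrobAction`):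
* `card_formula`    : `|M| = |C_M(R)| ^ |R|`
* `prime_of_fix_eq` : `R` has prime order
* `derived_le_centralizer` : if `C_M(R)` is cyclic then `[K, K]` centralises `M`
-/

set_option autoImplicit false

namespace Cfsg.Agent.FrobAction

open Cfsg.Agent.Coprime
open scoped IsMulCommutative commutatorElement

variable {G : Type*} [Group G] [Finite G]

omit [Finite G] in
theorem inf_eq_bot_of_free {K R : Subgroup G}
    (hfree : ∀ r ∈ R, r ≠ 1 → K ⊓ Subgroup.centralizer ({r} : Set G) = ⊥) : K ⊓ R = ⊥ := by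
  refine (Subgroup.eq_bot_iff_forall _).mpr fun x hx => ?_
  by_contra hx1
  have h : x ∈ K ⊓ Subgroup.centralizer ({x} : Set G) :=
    Subgroup.mem_inf.mpr ⟨hx.1, Subgroup.mem_centralizer_singleton_iff.mpr rfl⟩
  rw [hfree x hx.2 hx1, Subgroup.mem_bot] at h
  exact hx1 h

/-- `|M| = |C_M(R)| ^ |R|`. -/
theorem card_formula {K R M : Subgroup G} (hK1 : K ≠ ⊥) (hR1 : R ≠ ⊥)
    (hRK : R ≤ Subgroup.normalizer (K : Set G))
    (hfree : ∀ r ∈ R, r ≠ 1 → K ⊓ Subgroup.centralizer ({r} : Set G) = ⊥)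
    (hKM : K ≤ Subgroup.normalizer (M : Set G)) (hRM : R ≤ Subgroup.normalizer (M : Set G))
    (hM : Group.IsSolvable M) (hcop : (Nat.card ↥(K ⊔ R)).Coprime (Nat.card M))
    (hCK : M ⊓ Subgroup.centralizer (K : Set G) = ⊥) :
    Nat.card M = Nat.card ↥(M ⊓ Subgroup.centralizer (R : Set G)) ^ Nat.card R := by
  have h := Cfsg.Agent.S1545.result K R M hK1 hR1 (inf_eq_bot_of_free hfree)
    (fun e he u hu => (Subgroup.mem_normalizer_iff.mp (hRK he) u).mp hu)
    (fun e he he1 u hu hc => by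
      have h1 : u ∈ K ⊓ Subgroup.centralizer ({e} : Set G) :=
        Subgroup.mem_inf.mpr ⟨hu, Subgroup.mem_centralizer_singleton_iff.mpr hc.symm⟩
      rwa [hfree e he he1, Subgroup.mem_bot] at h1)
    (fun x hx y hy => (Subgroup.mem_normalizer_iff.mp (sup_le hKM hRM hx) y).mp hy)
    (Coprime.inf_eq_bot hcop.symm) hM hcop.symm
  have h0 : M ⊓ Subgroup.centralizer ((K ⊔ R : Subgroup G) : Set G) = ⊥ :=
    eq_bot_iff.mpr ((inf_le_inf_left _ (Subgroup.centralizer_le (show K ≤ K ⊔ R from le_sup_left))).trans hCK.le)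
  rwa [h0, hCK, Subgroup.card_bot, one_pow, one_mul, mul_one] at h

/-- If all nontrivial elements of `R` have the fixed group of `R` then `R` has prime order. -/
theorem prime_of_fix_eq {K R M : Subgroup G} (hK1 : K ≠ ⊥) (hR1 : R ≠ ⊥)
    (hRK : R ≤ Subgroup.normalizer (K : Set G))
    (hfree : ∀ r ∈ R, r ≠ 1 → K ⊓ Subgroup.centralizer ({r} : Set G) = ⊥)
    (hKM : K ≤ Subgroup.normalizer (M : Set G)) (hRM : R ≤ Subgroup.normalizer (M : Set G))
    (hM : Group.IsSolvable M) (hM1 : M ≠ ⊥) (hcop : (Nat.card ↥(K ⊔ R)).Coprime (Nat.card M))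
    (hCK : M ⊓ Subgroup.centralizer (K : Set G) = ⊥)
    (hpr : ∀ x ∈ R, x ≠ 1 → M ⊓ Subgroup.centralizer ({x} : Set G) =
      M ⊓ Subgroup.centralizer (R : Set G)) :
    (Nat.card R).Prime := by
  obtain ⟨r, hr, hrd⟩ := Nat.exists_prime_and_dvd (mt Subgroup.card_eq_one.1 hR1)
  have := Fact.mk hr
  obtain ⟨x, hx⟩ := exists_prime_orderOf_dvd_card' r hrd
  have hxo : orderOf (x : G) = r := (Subgroup.orderOf_coe x).trans hx
  have hx1 : (x : G) ≠ 1 := fun h => by rw [h, orderOf_one] at hxo; exact hr.one_lt.ne hxo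
  have hle : Subgroup.zpowers (x : G) ≤ R := Subgroup.zpowers_le.mpr x.2
  have h1 := card_formula hK1 hR1 hRK hfree hKM hRM hM hcop hCK
  have h2 := card_formula (R := Subgroup.zpowers (x : G)) hK1
    (Subgroup.zpowers_ne_bot.mpr hx1) (hle.trans hRK) (fun y hy => hfree y (hle hy)) hKM
    (hle.trans hRM) hM
    (hcop.coprime_dvd_left (Subgroup.card_dvd_of_le (sup_le_sup_left hle _))) hCK
  rw [HallHigman.centralizer_zpowers_eq, hpr x x.2 hx1, h1, Nat.card_zpowers, hxo] at h2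
  have hC : 2 ≤ Nat.card ↥(M ⊓ Subgroup.centralizer (R : Set G)) := by
    refine (Subgroup.one_lt_card_iff_ne_bot _).mpr fun h => hM1 ?_
    rw [h, Subgroup.card_bot, one_pow] at h1
    exact Subgroup.eq_bot_of_card_eq M h1
  rwa [Nat.pow_right_injective hC h2]

/-- The elementary abelian case. -/
theorem elementary_case {q : ℕ} [hq : Fact q.Prime] {K R V : Subgroup G} (hR1 : R ≠ ⊥)
    (hRK : R ≤ Subgroup.normalizer (K : Set G))
    (hfree : ∀ r ∈ R, r ≠ 1 → K ⊓ Subgroup.centralizer ({r} : Set G) = ⊥)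
    (hKn : Group.IsNilpotent K) (hV : IsMulCommutative V)
    (hKV : K ≤ Subgroup.normalizer (V : Set G)) (hRV : R ≤ Subgroup.normalizer (V : Set G))
    (hcop : (Nat.card ↥(K ⊔ R)).Coprime (Nat.card V))
    (hCK : V ⊓ Subgroup.centralizer (K : Set G) = ⊥)
    (hC : Nat.card ↥(V ⊓ Subgroup.centralizer (R : Set G)) ∣ q) :
    ⁅K, K⁆ ≤ Subgroup.centralizer (V : Set G) := by
  classical
  by_contra hne
  have hK1 : K ≠ ⊥ := fun h => hne (by rw [h, Subgroup.commutator_bot_left]; exact bot_le)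
  let cK : K →* MulAut V := conjAut hKV
  have hcK : ∀ (k : K), cK k = 1 → (k : G) ∈ Subgroup.centralizer (V : Set G) := fun k hk => by
    refine Subgroup.mem_centralizer_iff.mpr fun v hv => ?_
    have h : (k : G) * v * (k : G)⁻¹ = v := congrArg Subtype.val (DFunLike.congr_fun hk (⟨v, hv⟩ : V))
    exact (mul_inv_eq_iff_eq_mul.mp h).symm
  -- it suffices that the image of `K` is abelian
  suffices hab : ∀ a b : K, cK a * cK b = cK b * cK a by
    refine hne (Subgroup.commutator_le.mpr fun a ha b hb => ?_)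
    refine hcK (⁅(⟨a, ha⟩ : K), ⟨b, hb⟩⁆) ?_
    rw [map_commutatorElement]
    exact commutatorElement_eq_one_iff_mul_comm.mpr (hab _ _)
  by_cases htriv : ∀ k, cK k = 1
  · intro a b; rw [htriv a, htriv b]
  push Not at htriv
  obtain ⟨k₀, hk₀⟩ := htriv
  have hVs : Group.IsSolvable V := Group.isSolvable_of_comm fun a b => mul_comm a b
  have hcard := card_formula hK1 hR1 hRK hfree hKV hRV hVs hcop hCK
  have hC1 : Nat.card ↥(V ⊓ Subgroup.centralizer (R : Set G)) = q := by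
    refine ((Nat.dvd_prime hq.out).mp hC).resolve_left fun h1 => hk₀ ?_
    rw [h1, one_pow] at hcard
    have : Subsingleton V := (Nat.card_eq_one_iff_unique.mp hcard).1
    exact MulEquiv.ext fun v => Subsingleton.elim _ _
  -- the preimage `D` of the centre of the image
  let D₀ : Subgroup K := (Subgroup.center cK.range).comap cK.rangeRestrict
  have hD₀ : ∀ {d : K}, d ∈ D₀ ↔ ∀ k, cK k * cK d = cK d * cK k := by
    intro d
    simp only [D₀, Subgroup.mem_comap, Subgroup.mem_center_iff]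
    exact ⟨fun h k => congrArg Subtype.val (h (cK.rangeRestrict k)),
      fun h ⟨g, k, hk⟩ => Subtype.ext (by subst hk; exact h k)⟩
  obtain ⟨d₀, hd₀, hd₀1⟩ : ∃ d ∈ D₀, cK d ≠ 1 := by
    have : Group.IsNilpotent cK.range :=
      have := hKn
      Group.nilpotent_of_surjective cK.rangeRestrict cK.rangeRestrict_surjective
    have : Nontrivial cK.range :=
      ⟨⟨cK.rangeRestrict k₀, 1, fun h => hk₀ (congrArg Subtype.val h)⟩⟩
    obtain ⟨z, hz, hz1⟩ := (Subgroup.bot_or_exists_ne_one _).resolve_left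
      (Group.IsNilpotent.center_ne_bot (G := cK.range))
    obtain ⟨d, rfl⟩ := cK.rangeRestrict_surjective z
    exact ⟨d, hz, fun h => hz1 (Subtype.ext h)⟩
  set D : Subgroup G := D₀.map K.subtype with hDdef
  have hDK : D ≤ K := Subgroup.map_subtype_le _
  have hKD : K ≤ Subgroup.normalizer (D : Set G) := OddUniq.le_normalizer_map_subtype K D₀
  have hRD : R ≤ Subgroup.normalizer (D : Set G) := by
    refine Signalizer.le_normalizer_of_conj_mem fun a ha z hz => ?_
    obtain ⟨d, hd, rfl⟩ := hz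
    let ρ : MulAut V := conjAut hRV ⟨a, ha⟩
    have hρ : ∀ k k' : K, (k' : G) = a * k * a⁻¹ → cK k' = ρ * cK k * ρ⁻¹ := by
      intro k k' e
      rw [eq_mul_inv_iff_mul_eq]
      ext v
      show (k' : G) * (a * v * a⁻¹) * (k' : G)⁻¹ = a * ((k : G) * v * (k : G)⁻¹) * a⁻¹
      rw [e]; group
    refine ⟨⟨a * d * a⁻¹, (Subgroup.mem_normalizer_iff.mp (hRK ha) _).mp d.2⟩, hD₀.mpr fun k => ?_,
      rfl⟩
    have hk : a⁻¹ * (k : G) * a ∈ K := (Subgroup.mem_normalizer_iff''.mp (hRK ha) _).mp k.2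
    have hd' : (a * d * a⁻¹ : G) ∈ K := (Subgroup.mem_normalizer_iff.mp (hRK ha) _).mp d.2
    rw [hρ ⟨_, hk⟩ k (by simp [mul_assoc]), hρ d ⟨_, hd'⟩ rfl]
    calc ρ * cK ⟨_, hk⟩ * ρ⁻¹ * (ρ * cK d * ρ⁻¹) = ρ * (cK ⟨_, hk⟩ * cK d) * ρ⁻¹ := by group
      _ = ρ * (cK d * cK ⟨_, hk⟩) * ρ⁻¹ := by rw [hD₀.mp hd]
      _ = ρ * cK d * ρ⁻¹ * (ρ * cK ⟨_, hk⟩ * ρ⁻¹) := by group
  -- `C_V(D) = 1`
  have hDfix : V ⊓ Subgroup.centralizer (D : Set G) = ⊥ := by
    set C₀ := V ⊓ Subgroup.centralizer (D : Set G) with hC₀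
    by_contra hne₀
    have hnC : ∀ {A : Subgroup G}, A ≤ Subgroup.normalizer (V : Set G) →
        A ≤ Subgroup.normalizer (D : Set G) → A ≤ Subgroup.normalizer (C₀ : Set G) :=
      fun h1 h2 => Signalizer.le_normalizer_inf h1 (Signalizer.le_normalizer_centralizer h2)
    have hcard₀ := card_formula hK1 hR1 hRK hfree (hnC hKV hKD) (hnC hRV hRD)
      (Coprime.isSolvable_of_le inf_le_left hVs)
      (hcop.coprime_dvd_right (Subgroup.card_dvd_of_le inf_le_left))
      (eq_bot_iff.mpr ((inf_le_inf_right _ inf_le_left).trans hCK.le))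
    have hle : C₀ ⊓ Subgroup.centralizer (R : Set G) ≤ V ⊓ Subgroup.centralizer (R : Set G) :=
      inf_le_inf_right _ inf_le_left
    have heq : Nat.card ↥(C₀ ⊓ Subgroup.centralizer (R : Set G)) = q := by
      refine ((Nat.dvd_prime hq.out).mp (hC1 ▸ Subgroup.card_dvd_of_le hle)).resolve_left fun h1 => ?_
      rw [h1, one_pow] at hcard₀
      exact hne₀ (Subgroup.eq_bot_of_card_eq C₀ hcard₀)
    have hCV : C₀ = V := Subgroup.eq_of_le_of_card_ge inf_le_left
      (by rw [hcard, hC1, hcard₀, heq])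
    refine hd₀1 (MulEquiv.ext fun v => Subtype.ext ?_)
    show (d₀ : G) * v * (d₀ : G)⁻¹ = v
    have h := Subgroup.mem_centralizer_iff.mp (hCV.ge v.2).2 d₀ ⟨d₀, hd₀, rfl⟩
    rw [h]; group
  have hcyc : IsCyclic ↥(V ⊓ Subgroup.centralizer (R : Set G)) :=
    isCyclic_of_prime_card (p := q) hC1
  obtain ⟨g₀, hg₀⟩ := IsCyclic.exists_generator (α := ↥(V ⊓ Subgroup.centralizer (R : Set G)))
  let v₀ : V := ⟨g₀, g₀.2.1⟩
  have hDV : D ≤ Subgroup.normalizer (V : Set G) := hDK.trans hKV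
  have hspan : ∀ T : Subgroup V, (∀ d ∈ D₀, cK d v₀ ∈ T) → T = ⊤ := by
    intro T hT
    refine top_le_iff.mp fun w _ => ?_
    have h := PLengthComm.mem_of_frobenius (U := T.map V.subtype) hRD hDV hRV
      (fun x hx hx1 => eq_bot_iff.mpr ((inf_le_inf_right _ hDK).trans (hfree x hx hx1).le)) hDfix
      (hcop.coprime_dvd_left (Subgroup.card_dvd_of_le (hDK.trans le_sup_left)))
      (fun a ha u hu => ?_) w.2
    · obtain ⟨w', hw', e⟩ := h
      rwa [← Subtype.ext (show (w' : G) = w from e)]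
    · obtain ⟨d, hd, rfl⟩ := ha
      obtain ⟨i, hi⟩ := Subgroup.mem_zpowers_iff.mp (hg₀ ⟨u, hu⟩)
      have hu' : u = (g₀ : G) ^ i := by rw [← Subgroup.coe_zpow, hi]
      refine ⟨(cK d v₀) ^ i, zpow_mem (hT d hd) i, ?_⟩
      simp [cK, v₀, hu', coe_conjAut, conj_zpow]
  have hpoly : ∀ u : V, ∃ φ : V →* V, φ v₀ = u ∧ ∀ (k : K) (w : V), φ (cK k w) = cK k (φ w) := by
    let T : Subgroup V :=
      { carrier := {u | ∃ φ : V →* V, φ v₀ = u ∧ ∀ (k : K) (w : V), φ (cK k w) = cK k (φ w)}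
        one_mem' := ⟨1, rfl, fun k w => by simp⟩
        mul_mem' := by
          rintro a b ⟨φ, hφ, hφk⟩ ⟨ψ, hψ, hψk⟩
          exact ⟨φ * ψ, by simp [hφ, hψ], fun k w => by simp [hφk, hψk]⟩
        inv_mem' := by
          rintro a ⟨φ, hφ, hφk⟩
          exact ⟨φ⁻¹, by simp [hφ], fun k w => by simp [hφk]⟩ }
    have hT : T = ⊤ := hspan T fun d hd => ⟨(cK d).toMonoidHom, rfl, fun k w => by
      show cK d (cK k w) = cK k (cK d w)
      rw [← MulAut.mul_apply, ← MulAut.mul_apply, hD₀.mp hd k]⟩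
    intro u
    exact (hT ▸ Subgroup.mem_top u : u ∈ T)
  intro a b
  obtain ⟨φ, hφ, hφk⟩ := hpoly (cK b v₀)
  have heq : φ = (cK b).toMonoidHom := by
    have h : φ.eqLocus (cK b).toMonoidHom = ⊤ := hspan _ fun d hd => by
      show φ (cK d v₀) = cK b (cK d v₀)
      rw [hφk, hφ, ← MulAut.mul_apply, ← MulAut.mul_apply, hD₀.mp hd b]
    exact MonoidHom.eq_of_eqOn_top fun x _ => (h ▸ Subgroup.mem_top x :
      x ∈ φ.eqLocus (cK b).toMonoidHom)
  ext w
  have h := hφk a w
  rw [heq] at h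
  exact congrArg Subtype.val h.symm

/-- The nilpotent case with `M` normal. -/
theorem normal_case {K R M : Subgroup G} [M.Normal] (hR1 : R ≠ ⊥)
    (hRK : R ≤ Subgroup.normalizer (K : Set G))
    (hfree : ∀ r ∈ R, r ≠ 1 → K ⊓ Subgroup.centralizer ({r} : Set G) = ⊥)
    (hKn : Group.IsNilpotent K) (hMn : Group.IsNilpotent M)
    (hcop : (Nat.card ↥(K ⊔ R)).Coprime (Nat.card M))
    (hCK : M ⊓ Subgroup.centralizer (K : Set G) = ⊥)
    (hC : IsCyclic ↥(M ⊓ Subgroup.centralizer (R : Set G))) :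
    ⁅K, K⁆ ≤ Subgroup.centralizer (M : Set G) := by
  classical
  rw [Subgroup.le_centralizer_iff]
  refine (OddUniq.le_fittingOf le_rfl Subgroup.le_normalizer hMn).trans
    (OddUniq.fittingOf_le_of_forall fun l hl => ?_)
  have := Fact.mk hl
  rw [Subgroup.le_centralizer_iff]
  set P := pCoreOf l M with hPdef
  have hPn : P.Normal := Cores.map_subtype_normal_of_characteristic M _
  have hPp : IsPGroup l P := OddUniq.isPGroup_pCoreOf l M
  have hPM : P ≤ M := OddUniq.pCoreOf_le l M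
  set Φ := (frattini P).map P.subtype with hΦdef
  have : Φ.Normal := Cores.map_subtype_normal_of_characteristic P _
  have hΦP : Φ ≤ P := Subgroup.map_subtype_le _
  set f := QuotientGroup.mk' Φ with hf
  have hnP : ∀ X : Subgroup G, X ≤ Subgroup.normalizer (P : Set G) := fun X => by
    rw [Subgroup.normalizer_eq_top_iff.mpr hPn]; exact le_top
  have hinj : ∀ y ∈ K ⊔ R, f y = 1 → y = 1 := by
    intro y hy h1
    have h2 : y ∈ (K ⊔ R) ⊓ Φ := Subgroup.mem_inf.mpr ⟨hy, (QuotientGroup.eq_one_iff _).mp h1⟩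
    rwa [Coprime.inf_eq_bot (hcop.coprime_dvd_right (Subgroup.card_dvd_of_le (hΦP.trans hPM))),
      Subgroup.mem_bot] at h2
  have hfree' : ∀ r ∈ R.map f, r ≠ 1 →
      K.map f ⊓ Subgroup.centralizer ({r} : Set (G ⧸ Φ)) = ⊥ := by
    rintro _ ⟨r, hr, rfl⟩ hr1
    refine (Subgroup.eq_bot_iff_forall _).mpr ?_
    rintro _ ⟨⟨k, hk, rfl⟩, hc⟩
    have h1 : ⁅k, r⁆ = 1 := by
      refine hinj _ ?_ ?_
      · exact mul_mem (mul_mem (mul_mem (Subgroup.mem_sup_left hk) (Subgroup.mem_sup_right hr))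
          (inv_mem (Subgroup.mem_sup_left hk))) (inv_mem (Subgroup.mem_sup_right hr))
      · rw [map_commutatorElement]
        exact commutatorElement_eq_one_iff_mul_comm.mpr (Subgroup.mem_centralizer_singleton_iff.mp hc)
    have h2 : k ∈ K ⊓ Subgroup.centralizer ({r} : Set G) := Subgroup.mem_inf.mpr
      ⟨hk, Subgroup.mem_centralizer_singleton_iff.mpr (commutatorElement_eq_one_iff_mul_comm.mp h1)⟩
    rw [hfree r hr (fun h => hr1 (by rw [h, map_one])), Subgroup.mem_bot] at h2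
    rw [h2, map_one]
  have hR1' : R.map f ≠ ⊥ := fun h => hR1 ((Subgroup.eq_bot_iff_forall _).mpr fun r hr =>
    hinj r (Subgroup.mem_sup_right hr) (Subgroup.mem_bot.mp (h ▸ Subgroup.mem_map_of_mem f hr)))
  have hab : IsMulCommutative (P.map f) := by
    refine ⟨⟨fun a b => ?_⟩⟩
    obtain ⟨x, hx, hxa⟩ := a.2
    obtain ⟨y, hy, hyb⟩ := b.2
    refine Subtype.ext ?_
    rw [Subgroup.coe_mul, Subgroup.coe_mul, ← hxa, ← hyb]
    refine commutatorElement_eq_one_iff_mul_comm.mp ?_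
    rw [← map_commutatorElement]
    exact (QuotientGroup.eq_one_iff _).mpr
      ⟨⁅(⟨x, hx⟩ : P), ⟨y, hy⟩⁆, PGroup.commutatorElement_mem_frattini hPp _ _, rfl⟩
  have hcopP : ∀ {A : Subgroup G}, A ≤ K ⊔ R → (Nat.card A).Coprime (Nat.card P) := fun hA =>
    (hcop.coprime_dvd_left (Subgroup.card_dvd_of_le hA)).coprime_dvd_right
      (Subgroup.card_dvd_of_le hPM)
  have hlift : ∀ {A : Subgroup G}, A ≤ K ⊔ R →
      P.map f ⊓ Subgroup.centralizer (A.map f : Set (G ⧸ Φ)) ≤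
        (P ⊓ Subgroup.centralizer (A : Set G)).map f := fun {A} hA =>
    OddMax.map_inf_centralizer_le hΦP (hnP A) (hcopP hA)
      (Or.inr (Solvable.isSolvable_of_isPGroup hPp))
  have hCK' : P.map f ⊓ Subgroup.centralizer (K.map f : Set (G ⧸ Φ)) = ⊥ := by
    refine eq_bot_iff.mpr ((hlift le_sup_left).trans ?_)
    rw [eq_bot_iff.mpr ((inf_le_inf_right _ hPM).trans hCK.le), Subgroup.map_bot]
  have hC' : Nat.card ↥(P.map f ⊓ Subgroup.centralizer (R.map f : Set (G ⧸ Φ))) ∣ l := by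
    have : IsCyclic ↥(P ⊓ Subgroup.centralizer (R : Set G)) :=
      have := hC
      isCyclic_of_injective (Subgroup.inclusion (inf_le_inf_right _ hPM))
        (Subgroup.inclusion_injective _)
    have : IsCyclic ↥((P ⊓ Subgroup.centralizer (R : Set G)).map f) :=
      isCyclic_of_surjective _ (f.subgroupMap_surjective _)
    refine (Subgroup.card_dvd_of_le (hlift le_sup_right)).trans ?_
    obtain ⟨g, hg⟩ := IsCyclic.exists_generator
      (α := ↥((P ⊓ Subgroup.centralizer (R : Set G)).map f))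
    rw [← orderOf_eq_card_of_forall_mem_zpowers hg]
    refine orderOf_dvd_of_pow_eq_one (Subtype.ext ?_)
    obtain ⟨x, hx, e⟩ := g.2
    rw [SubgroupClass.coe_pow, ← e, ← map_pow]
    exact (QuotientGroup.eq_one_iff _).mpr
      ⟨(⟨x, hx.1⟩ : P) ^ l, PGroup.pow_mem_frattini hPp _, rfl⟩
  have hmap : ∀ {A B : Subgroup G}, A ≤ Subgroup.normalizer (B : Set G) →
      A.map f ≤ Subgroup.normalizer ((B.map f : Subgroup (G ⧸ Φ)) : Set (G ⧸ Φ)) :=
    fun h => (Subgroup.map_mono h).trans (Subgroup.le_normalizer_map f)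
  have h1 := elementary_case (q := l) hR1' (hmap hRK) hfree' (Cores.isNilpotent_map f hKn) hab
    (hmap (hnP K)) (hmap (hnP R)) (by
      rw [← Subgroup.map_sup]
      exact ((hcop.coprime_dvd_right (Subgroup.card_dvd_of_le hPM)).coprime_dvd_left
        (Subgroup.card_map_dvd _ f)).coprime_dvd_right (Subgroup.card_map_dvd P f)) hCK' hC'
  refine Coprime.le_centralizer_of_forall_mem_frattini (hnP _) ?_ fun a ha v hv => ?_
  · rw [← Cores.card_map_subtype, ← hΦdef]
    exact (hcopP ((Subgroup.commutator_le_self K).trans le_sup_left)).coprime_dvd_right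
      (Subgroup.card_dvd_of_le hΦP)
  · rw [← hΦdef, ← QuotientGroup.eq_one_iff (N := Φ)]
    have h2 := h1 (show f a ∈ ⁅K.map f, K.map f⁆ by
      rw [← Subgroup.map_commutator]; exact ⟨a, ha, rfl⟩)
    have h3 := Subgroup.mem_centralizer_iff.mp h2 (f v) ⟨v, hv, rfl⟩
    change f (a * v * a⁻¹ * v⁻¹) = 1
    rw [map_mul, map_mul, map_mul, ← h3, map_inv, map_inv, mul_inv_cancel_right, mul_inv_cancel]

/-- If `C_M(R)` is cyclic then `[K, K]` centralises `M`. -/
theorem derived_le_centralizer {K R M : Subgroup G} (hR : (Nat.card R).Prime)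
    (hRK : R ≤ Subgroup.normalizer (K : Set G))
    (hfree : ∀ r ∈ R, r ≠ 1 → K ⊓ Subgroup.centralizer ({r} : Set G) = ⊥)
    (hMn : Group.IsNilpotent M)
    (hKM : K ≤ Subgroup.normalizer (M : Set G)) (hRM : R ≤ Subgroup.normalizer (M : Set G))
    (hcop : (Nat.card ↥(K ⊔ R)).Coprime (Nat.card M))
    (hCK : M ⊓ Subgroup.centralizer (K : Set G) = ⊥)
    (hC : IsCyclic ↥(M ⊓ Subgroup.centralizer (R : Set G))) :
    ⁅K, K⁆ ≤ Subgroup.centralizer (M : Set G) := by
  have : Fact (Nat.card R).Prime := ⟨hR⟩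
  have hR1 : R ≠ ⊥ := fun h => hR.one_lt.ne' (Subgroup.card_eq_one.mpr h)
  have hKn : Group.IsNilpotent K := FPF.nilpotent_of_fpf_prime (A := R) (p := Nat.card R) rfl K
    (conjAut hRK) fun g hg => by
      obtain ⟨r, hr, hr1⟩ := (Subgroup.bot_or_exists_ne_one R).resolve_left hR1
      have h : (r : G) * g * r⁻¹ = g := congrArg Subtype.val (hg ⟨r, hr⟩)
      have h2 : (g : G) ∈ K ⊓ Subgroup.centralizer ({r} : Set G) := Subgroup.mem_inf.mpr
        ⟨g.2, Subgroup.mem_centralizer_singleton_iff.mpr (mul_inv_eq_iff_eq_mul.mp h).symm⟩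
      rw [hfree r hr hr1, Subgroup.mem_bot] at h2
      exact OneMemClass.coe_eq_one.mp h2
  set W := Subgroup.normalizer (M : Set G) with hW
  have hMW : M ≤ W := Subgroup.le_normalizer
  have : (M.subgroupOf W).Normal := Cores.subgroupOf_normal_of_le_normalizer le_rfl
  have hcen : ∀ {A B : Subgroup G}, A ≤ W → B ≤ W →
      A.subgroupOf W ⊓ Subgroup.centralizer (B.subgroupOf W : Set W) =
        (A ⊓ Subgroup.centralizer (B : Set G)).subgroupOf W := by
    intro A B _ hB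
    ext x
    simp only [Subgroup.mem_inf, Subgroup.mem_subgroupOf, Subgroup.mem_centralizer_iff,
      SetLike.mem_coe]
    exact and_congr_right fun _ => ⟨fun h b hb => congrArg Subtype.val (h ⟨b, hB hb⟩ hb),
      fun h b hb => Subtype.ext (h b hb)⟩
  have hRK' : R.subgroupOf W ≤ Subgroup.normalizer (K.subgroupOf W : Set W) := fun x hx =>
    Subgroup.mem_normalizer_iff.mpr fun y => Subgroup.mem_normalizer_iff.mp (hRK hx) y
  have hfree' : ∀ r ∈ R.subgroupOf W, r ≠ 1 →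
      K.subgroupOf W ⊓ Subgroup.centralizer ({r} : Set W) = ⊥ := by
    intro r hr hr1
    refine (Subgroup.eq_bot_iff_forall _).mpr fun x hx => ?_
    have h : (x : G) ∈ K ⊓ Subgroup.centralizer ({(r : G)} : Set G) := Subgroup.mem_inf.mpr
      ⟨hx.1, Subgroup.mem_centralizer_singleton_iff.mpr
        (congrArg Subtype.val (Subgroup.mem_centralizer_singleton_iff.mp hx.2))⟩
    rw [hfree r hr (fun h => hr1 (OneMemClass.coe_eq_one.mp h)), Subgroup.mem_bot] at h
    exact OneMemClass.coe_eq_one.mp h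
  have hKn' : Group.IsNilpotent (K.subgroupOf W) :=
    Group.nilpotent_of_mulEquiv (_h := hKn) (Subgroup.subgroupOfEquivOfLe hKM).symm
  have hMn' : Group.IsNilpotent (M.subgroupOf W) :=
    Group.nilpotent_of_mulEquiv (_h := hMn) (Subgroup.subgroupOfEquivOfLe hMW).symm
  have hC' : IsCyclic ↥(M.subgroupOf W ⊓ Subgroup.centralizer (R.subgroupOf W : Set W)) := by
    rw [hcen hMW hRM]
    exact (Subgroup.subgroupOfEquivOfLe (inf_le_left.trans hMW)).isCyclic.mpr hC
  have h := normal_case (G := W) (K := K.subgroupOf W) (R := R.subgroupOf W) (M := M.subgroupOf W)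
    (fun h => hR1 (by
      rw [Subgroup.subgroupOf_eq_bot] at h
      exact disjoint_self.mp (h.mono_right hRM)))
    hRK' hfree' hKn' hMn'
    (by rw [← Subgroup.subgroupOf_sup hKM hRM, Cores.card_subgroupOf (sup_le hKM hRM),
      Cores.card_subgroupOf hMW]; exact hcop)
    (by rw [hcen hMW hKM, hCK, Subgroup.bot_subgroupOf]) hC'
  refine Subgroup.commutator_le.mpr fun a ha b hb => Subgroup.mem_centralizer_iff.mpr fun m hm => ?_
  have h1 := h (Subgroup.commutator_mem_commutator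
    (show (⟨a, hKM ha⟩ : W) ∈ K.subgroupOf W from ha)
    (show (⟨b, hKM hb⟩ : W) ∈ K.subgroupOf W from hb))
  exact congrArg Subtype.val (Subgroup.mem_centralizer_iff.mp h1 ⟨m, hMW hm⟩ hm)

end Cfsg.Agent.FrobAction
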