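import Cfsg.Agent.Lib.OddOrder.PLengthCommFinal
import Cfsg.Agent.Lib.Solvable.Fitting
import Cfsg.Agent.Lib.Coprime.Generation
import Cfsg.Agent.Lib.Coprime.Frattini

/-!
Bender-Glauberman 3.6 (helper38): if `R` acts coprimely on the solvable group `H` of odd order and
some `R₀ ≤ R` of prime order has a fixed group with cyclic Sylow subgroups, then `[H, R]` has
`p`-length one for every prime `p`. Main result: `pLengthLE_commutator`.
-/

set_option autoImplicit false

universe u

namespace Cfsg.Agent.PLengthComm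

open Cfsg.Agent.Coprime

variable {p : ℕ} [hp : Fact p.Prime]

/-- The statement for all configurations below a given size. -/
def CommClaim (p n : ℕ) : Prop :=
  ∀ (Y : Type u) [Group Y] [Finite Y] (H R R₀ : Subgroup Y), Nat.card H + Nat.card R < n →
    R ≤ Subgroup.normalizer (H : Set Y) → (Nat.card H).Coprime (Nat.card R) →
    Group.IsSolvable ↥(H ⊔ R) → Odd (Nat.card ↥(H ⊔ R)) → R₀ ≤ R → (Nat.card R₀).Prime →
    IsZGroup ↥(H ⊓ Subgroup.centralizer (R₀ : Set Y)) → PLengthLE p 1 ↥⁅H, R⁆

theorem isPGroup_of_forall {G : Type*} [Group G] [Finite G] {M : Subgroup G}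
    (h : ∀ x ∈ M, (orderOf x).Coprime p → x = 1) : IsPGroup p M := by
  intro x
  set n := orderOf (x : G)
  have hn : n ≠ 0 := (orderOf_pos (x : G)).ne'
  refine ⟨n.factorization p, Subtype.ext (h _ (pow_mem x.2 _) ?_)⟩
  rw [SubgroupClass.coe_pow, orderOf_pow_of_dvd (pow_ne_zero _ hp.out.ne_zero) (Nat.ordProj_dvd n p)]
  exact (Nat.coprime_ordCompl hp.out hn).symm

theorem card_map_eq {G B : Type*} [Group G] [Finite G] [Group B] (f : G →* B) {X : Subgroup G}
    (h : X ⊓ f.ker = ⊥) : Nat.card (X.map f) = Nat.card X := by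
  rw [← Subgroup.relIndex_ker, ← Subgroup.inf_relIndex_left, h, Subgroup.relIndex_bot_left]

/-- In a group `T` of `p`-length one with `O_{p'}(T) = 1`, `p`-subgroups lie in `O_p(T)`. -/
theorem le_pCoreOf' {G : Type*} [Group G] [Finite G] {T Q : Subgroup G} (h : PLengthLE p 1 T)
    (hO : (pPrimeCore p T).map T.subtype = ⊥) (hQT : Q ≤ T) (hQ : IsPGroup p Q) :
    Q ≤ pCoreOf p T := by
  rw [Subgroup.map_eq_bot_iff_of_injective _ T.subtype_injective] at hO
  intro x hx
  exact ⟨⟨x, hQT hx⟩, le_pCore_of_pLengthLE h hO (hQ.comap_subtype (K := T)) hx, rfl⟩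

omit hp in
theorem le_normalizer_pPrimeCore {G : Type*} [Group G] (T : Subgroup G) :
    Subgroup.normalizer (T : Set G) ≤
      Subgroup.normalizer (((pPrimeCore p T).map T.subtype : Subgroup G) : Set G) :=
  Cores.normalizer_le_normalizer_map _

theorem mem_pCore_centralizer {G : Type*} [Group G] [Finite G] [Group.IsSolvable G]
    {H : Subgroup G} (hO : pPrimeCore p H = ⊥) :
    H ⊓ Subgroup.centralizer (pCoreOf p H : Set G) ≤ pCoreOf p H := by
  intro x hx
  have hx' : (⟨x, hx.1⟩ : H) ∈ Subgroup.centralizer (pCore p H : Set H) :=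
    Subgroup.mem_centralizer_iff.mpr fun y hy =>
      Subtype.ext (Subgroup.mem_centralizer_iff.mp hx.2 y ⟨y, hy, rfl⟩)
  exact ⟨_, Solvable.centralizer_pCore_le_of_isSolvable hO hx', rfl⟩

section Step

variable {G : Type u} [Group G] [Finite G] [Group.IsSolvable G]

/-- The inductive step inside `G = H R`. -/
theorem step (hodd : Odd (Nat.card G)) (H R R₀ : Subgroup G) [H.Normal] (htop : H ⊔ R = ⊤)
    (hcop : (Nat.card H).Coprime (Nat.card R)) (hR₀ : R₀ ≤ R) (hR₀p : (Nat.card R₀).Prime)
    (hZ : IsZGroup ↥(H ⊓ Subgroup.centralizer (R₀ : Set G)))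
    (IH : CommClaim.{u} p (Nat.card H + Nat.card R)) : PLengthLE p 1 ↥⁅H, R⁆ := by
  classical
  have hnH : ∀ X : Subgroup G, X ≤ Subgroup.normalizer (H : Set G) := fun X => by
    rw [Subgroup.normalizer_eq_top_iff.mpr ‹H.Normal›]; exact le_top
  have hsub : ∀ (H' R' : Subgroup G), H' ≤ H → R' ≤ R → R₀ ≤ R' →
      R' ≤ Subgroup.normalizer (H' : Set G) →
      Nat.card H' + Nat.card R' < Nat.card H + Nat.card R → PLengthLE p 1 ↥⁅H', R'⁆ := by
    intro H' R' hH hR h0 hN hlt
    refine IH G H' R' R₀ hlt hN ((hcop.coprime_dvd_left (Subgroup.card_dvd_of_le hH)).coprime_dvd_right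
      (Subgroup.card_dvd_of_le hR)) inferInstance
      (hodd.of_dvd_nat (Subgroup.card_subgroup_dvd_card _)) h0 hR₀p ?_
    have := hZ
    exact IsZGroup.of_injective (Subgroup.inclusion_injective (inf_le_inf_right _ hH))
  have hRH : R ≤ Subgroup.normalizer (H : Set G) := hnH R
  have hsolv : Group.IsSolvable R ∨ Group.IsSolvable H := Or.inl inferInstance
  have hcc : ⁅⁅H, R⁆, R⁆ = ⁅H, R⁆ :=
    Coprime.commutator_commutator_eq hRH hcop.symm hsolv
  have hle : ⁅H, R⁆ ≤ H := Coprime.commutator_le_left' hRH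
  by_cases hHR : ⁅H, R⁆ ≠ H
  · rw [← hcc]
    refine hsub _ R hle le_rfl hR₀ (Subgroup.normalizer_commutator_ge_right H R) ?_
    refine Nat.add_lt_add_right (lt_of_le_of_ne (Subgroup.card_le_of_le hle) fun h => hHR ?_) _
    exact Subgroup.eq_of_le_of_card_ge hle h.ge
  push Not at hHR
  rw [hHR]
  by_contra hbad
  have hpH : p ∣ Nat.card H := by
    by_contra h
    exact hbad (PLengthOne.of_not_dvd h)
  have hoddH : Odd (Nat.card H) := hodd.of_dvd_nat (Subgroup.card_subgroup_dvd_card H)
  have hp2 : p ≠ 2 := by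
    rintro rfl
    exact Nat.not_even_iff_odd.mpr hoddH (even_iff_two_dvd.mpr hpH)
  have hH1 : H ≠ ⊥ := fun h => by
    rw [h, Subgroup.card_bot] at hpH
    exact hp.out.one_lt.ne' (Nat.dvd_one.mp hpH)
  -- proper quotients
  have hquot : ∀ (N : Subgroup G) [N.Normal], N ≤ H → N ≠ ⊥ →
      PLengthLE p 1 ↥(H.map (QuotientGroup.mk' N)) := by
    intro N _ hNH hN1
    set f := QuotientGroup.mk' N with hf
    have hker : f.ker = N := QuotientGroup.ker_mk' N
    have hlt : Nat.card (H.map f) < Nat.card H := by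
      have h1 := Cores.card_map_mul_ker f H (hker.le.trans hNH)
      rw [← h1, hker]
      exact lt_mul_of_one_lt_right Nat.card_pos (Subgroup.one_lt_card_iff_ne_bot _ |>.mpr hN1)
    have hR0 : R₀ ⊓ f.ker = ⊥ := by
      rw [hker]
      exact Coprime.inf_eq_bot ((hcop.symm.coprime_dvd_left (Subgroup.card_dvd_of_le hR₀))
        |>.coprime_dvd_right (Subgroup.card_dvd_of_le hNH))
    have hZ' : IsZGroup ↥(H.map f ⊓ Subgroup.centralizer (R₀.map f : Set (G ⧸ N))) := by
      have := hZ
      have : IsZGroup ↥((H ⊓ Subgroup.centralizer (R₀ : Set G)).map f) :=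
        IsZGroup.of_surjective (f.subgroupMap_surjective _)
      exact IsZGroup.of_injective (Subgroup.inclusion_injective
        (OddMax.map_inf_centralizer_le hNH (hnH R₀)
          (hcop.symm.coprime_dvd_left (Subgroup.card_dvd_of_le hR₀)) (Or.inl inferInstance)))
    have h := IH (G ⧸ N) (H.map f) (R.map f) (R₀.map f)
      (Nat.add_lt_add_of_lt_of_le hlt (Nat.le_of_dvd Nat.card_pos (Subgroup.card_map_dvd R f)))
      ((Subgroup.map_mono hRH).trans (Subgroup.le_normalizer_map f))
      ((hcop.coprime_dvd_left (Subgroup.card_map_dvd H f)).coprime_dvd_right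
        (Subgroup.card_map_dvd R f))
      inferInstance
      ((hodd.of_dvd_nat (Subgroup.card_quotient_dvd_card N)).of_dvd_nat
        (Subgroup.card_subgroup_dvd_card _))
      (Subgroup.map_mono hR₀) (by rw [card_map_eq f hR0]; exact hR₀p) hZ'
    rwa [← Subgroup.map_commutator, hHR] at h
  -- `O_{p'}(H) = 1`
  have hO : pPrimeCore p H = ⊥ := by
    by_contra h
    set N := (pPrimeCore p H).map H.subtype
    have : N.Normal := Cores.map_subtype_normal_of_characteristic H _
    have hN1 : N ≠ ⊥ := fun h' =>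
      h ((Subgroup.map_eq_bot_iff_of_injective _ H.subtype_injective).mp h')
    set f := QuotientGroup.mk' N
    refine hbad (pLengthLE_of_coprime_ker (f.subgroupMap H) (f.subgroupMap_surjective H) ?_
      (hquot N (Subgroup.map_subtype_le _) hN1))
    refine (Cores.coprime_card_pPrimeCore (G := H) p).coprime_dvd_left (Subgroup.card_dvd_of_le ?_)
    intro x hx
    have h1 : f (x : G) = 1 := congrArg Subtype.val (MonoidHom.mem_ker.mp hx)
    obtain ⟨y, hy, hyx⟩ := (QuotientGroup.eq_one_iff _).mp h1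
    rwa [← Subtype.ext hyx]
  have hO' : ∀ N : Subgroup G, N ≤ H → H ≤ Subgroup.normalizer (N : Set G) →
      (Nat.card N).Coprime p → N = ⊥ := by
    intro N hNH hn hc
    have h1 := Cores.le_pPrimeCore (Cores.subgroupOf_normal_of_le_normalizer hn)
      (p := p) (N := N.subgroupOf H) (by rwa [Cores.card_subgroupOf hNH])
    rw [hO, le_bot_iff, Subgroup.subgroupOf_eq_bot] at h1
    exact disjoint_self.mp (h1.mono_right hNH)
  set V := pCoreOf p H with hVdef
  have hVH : V ≤ H := OddUniq.pCoreOf_le p H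
  have hVn : V.Normal := Cores.map_subtype_normal_of_characteristic H _
  have hVp : IsPGroup p V := OddUniq.isPGroup_pCoreOf p H
  have hnV : ∀ X : Subgroup G, X ≤ Subgroup.normalizer (V : Set G) := fun X => by
    rw [Subgroup.normalizer_eq_top_iff.mpr hVn]; exact le_top
  have hcent : H ⊓ Subgroup.centralizer (V : Set G) ≤ V := mem_pCore_centralizer hO
  have hallp : (∀ Q : Subgroup G, Q ≤ H → IsPGroup p Q → Q ≤ V) → False := by
    refine fun h => hbad (pLengthLE_of_le_pCore fun Q hQ x hx => ?_)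
    obtain ⟨y, hy, hyx⟩ := h _ (Subgroup.map_subtype_le Q) (hQ.map _) ⟨x, hx, rfl⟩
    rwa [← Subtype.ext hyx]
  have hV1 : V ≠ ⊥ := fun h => hH1 (le_bot_iff.mp (by
    rw [← h]
    exact (le_inf le_rfl (by rw [h]; intro x _; simp [Subgroup.mem_centralizer_iff])).trans hcent))
  -- `Φ(V) = 1`
  have hFr : (frattini V).map V.subtype = ⊥ := by
    by_contra hΦ1
    set Φ := (frattini V).map V.subtype with hΦdef
    have : Φ.Normal := Cores.map_subtype_normal_of_characteristic V _
    have hΦV : Φ ≤ V := Subgroup.map_subtype_le _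
    set f := QuotientGroup.mk' Φ with hf
    have hker : f.ker = Φ := QuotientGroup.ker_mk' Φ
    set L := H.map f with hL
    have hLO : (pPrimeCore p L).map L.subtype = ⊥ := by
      set N' := (pPrimeCore p L).map L.subtype with hN'
      have hN'L : N' ≤ L := Subgroup.map_subtype_le _
      have hN'c : (Nat.card N').Coprime p := by
        rw [hN', Cores.card_map_subtype]; exact Cores.coprime_card_pPrimeCore p
      set M := N'.comap f ⊓ H with hM
      have hHM : H ≤ Subgroup.normalizer (M : Set G) := by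
        refine Signalizer.le_normalizer_inf (fun g hg => ?_) Subgroup.le_normalizer
        refine Subgroup.le_normalizer_comap f ?_
        exact (OddUniq.le_normalizer_map_subtype L _) ⟨g, hg, rfl⟩
      have hMp : IsPGroup p M := by
        refine isPGroup_of_forall fun x hx hox => ?_
        have h1 : Subgroup.zpowers x ≤ Subgroup.centralizer (V : Set G) := by
          refine Coprime.le_centralizer_of_forall_mem_frattini (hnV _) ?_ fun a ha v hv => ?_
          · obtain ⟨j, hj⟩ := (hVp.to_subgroup (frattini V)).exists_card_eq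
            rw [Nat.card_zpowers, hj]
            exact hox.pow_right j
          have haM : a ∈ M := (Subgroup.zpowers_le.mpr hx) ha
          have hvM : a * v * a⁻¹ * v⁻¹ ∈ M := by
            rw [mul_assoc, mul_assoc]
            refine mul_mem haM ?_
            rw [← mul_assoc]
            exact (Subgroup.mem_normalizer_iff.mp (hHM (hVH hv)) _).mp (inv_mem haM)
          have hvV : a * v * a⁻¹ * v⁻¹ ∈ V := mul_mem (hVn.conj_mem v hv a) (inv_mem hv)
          rw [← QuotientGroup.eq_one_iff (N := Φ)]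
          have h2 : f (a * v * a⁻¹ * v⁻¹) ∈ N' ⊓ V.map f :=
            Subgroup.mem_inf.mpr ⟨(Subgroup.mem_inf.mp hvM).1, ⟨_, hvV, rfl⟩⟩
          have h3 : N' ⊓ V.map f = ⊥ := by
            obtain ⟨j, hj⟩ := (hVp.map f).exists_card_eq
            exact Coprime.inf_eq_bot (by rw [hj]; exact hN'c.pow_right j)
          rwa [h3, Subgroup.mem_bot] at h2
        have h4 : x ∈ V := hcent ⟨hx.2, h1 (Subgroup.mem_zpowers x)⟩
        obtain ⟨j, hj⟩ := hVp.exists_card_eq
        refine orderOf_eq_one_iff.mp (Nat.eq_one_of_dvd_coprimes (hox.pow_right j) dvd_rfl ?_)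
        exact hj ▸ Subgroup.orderOf_dvd_natCard V h4
      have hMV : M.map f = N' := by
        refine le_antisymm ((Subgroup.map_mono inf_le_left).trans (Subgroup.map_comap_le _ _)) ?_
        intro y hy
        obtain ⟨x, hx, rfl⟩ := hN'L hy
        exact ⟨x, ⟨hy, hx⟩, rfl⟩
      have h5 : IsPGroup p N' := hMV ▸ hMp.map f
      obtain ⟨j, hj⟩ := h5.exists_card_eq
      refine Subgroup.eq_bot_of_card_eq _ (Nat.eq_one_of_dvd_coprimes (hN'c.pow_right j) dvd_rfl ?_)
      rw [hj]
    refine hallp fun Q hQH hQ => ?_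
    have h1 : Q.map f ≤ pCoreOf p L := le_pCoreOf' (hquot Φ (hΦV.trans hVH) hΦ1) hLO
      (Subgroup.map_mono hQH) (hQ.map f)
    have h2 : (pCoreOf p L).comap f ⊓ H ≤ V := by
      refine le_pCoreOf inf_le_right ?_ ?_
      · refine Signalizer.le_normalizer_inf (fun g hg => ?_) Subgroup.le_normalizer
        exact Subgroup.le_normalizer_comap f (OddUniq.le_normalizer_pCoreOf p L ⟨g, hg, rfl⟩)
      · refine IsPGroup.to_le ?_ inf_le_left
        exact (OddUniq.isPGroup_pCoreOf p L).comap_of_ker_isPGroup f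
          (by rw [hker]; exact hVp.to_le hΦV)
    exact (le_inf (Subgroup.map_le_iff_le_comap.mp h1) hQH).trans h2
  have hVe : IsElementaryAbelian p V := by
    have hbot : ∀ x : V, x ∈ frattini V → x = 1 := fun x hx => by
      have h1 : (x : G) ∈ (frattini V).map V.subtype := ⟨x, hx, rfl⟩
      rw [hFr, Subgroup.mem_bot] at h1
      exact OneMemClass.coe_eq_one.mp h1
    refine ⟨⟨⟨fun a b => commutatorElement_eq_one_iff_mul_comm.mp
      (hbot _ (PGroup.commutatorElement_mem_frattini hVp a b))⟩⟩, fun a ha => ?_⟩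
    exact congrArg Subtype.val (hbot _ (PGroup.pow_mem_frattini hVp ⟨a, ha⟩))
  have hdec : ∀ N U : Subgroup G, N.Normal → U.Normal → N ≤ V → U ≤ V → N ⊓ U = ⊥ →
      N = ⊥ ∨ U = ⊥ := by
    intro N U hN hU hNV hUV hNU
    by_contra h
    push Not at h
    refine hbad (pLengthLE_of_inf_ker_eq_bot ((QuotientGroup.mk' N).subgroupMap H)
      (MonoidHom.subgroupMap_surjective _ H) ((QuotientGroup.mk' U).subgroupMap H)
      (MonoidHom.subgroupMap_surjective _ H) ?_ (hquot N (hNV.trans hVH) h.1)
      (hquot U (hUV.trans hVH) h.2))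
    refine (Subgroup.eq_bot_iff_forall _).mpr fun x hx => ?_
    have h1 : (x : G) ∈ N ⊓ U := Subgroup.mem_inf.mpr
      ⟨(QuotientGroup.eq_one_iff _).mp (congrArg Subtype.val (MonoidHom.mem_ker.mp hx.1)),
        (QuotientGroup.eq_one_iff _).mp (congrArg Subtype.val (MonoidHom.mem_ker.mp hx.2))⟩
    rw [hNU, Subgroup.mem_bot] at h1
    exact OneMemClass.coe_eq_one.mp h1
  -- the quotient by `V`
  set f := QuotientGroup.mk' V with hf
  have hker : f.ker = V := QuotientGroup.ker_mk' V
  set Hb := H.map f with hHb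
  have hHbn : Hb.Normal := ‹H.Normal›.map f (QuotientGroup.mk'_surjective V)
  have hHbp : pCore p Hb = ⊥ := by
    rw [← Subgroup.map_eq_bot_iff_of_injective _ Hb.subtype_injective, eq_bot_iff]
    intro y hy
    obtain ⟨x, hx, rfl⟩ := OddUniq.pCoreOf_le p Hb hy
    have h2 : (pCoreOf p Hb).comap f ⊓ H ≤ V := by
      refine le_pCoreOf inf_le_right ?_ ?_
      · refine Signalizer.le_normalizer_inf (fun g hg => ?_) Subgroup.le_normalizer
        exact Subgroup.le_normalizer_comap f (OddUniq.le_normalizer_pCoreOf p Hb ⟨g, hg, rfl⟩)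
      · refine IsPGroup.to_le ?_ inf_le_left
        exact (OddUniq.isPGroup_pCoreOf p Hb).comap_of_ker_isPGroup f (by rw [hker]; exact hVp)
    exact Subgroup.mem_bot.mpr ((QuotientGroup.eq_one_iff x).mpr (h2 ⟨hy, hx⟩))
  set Kb := (pPrimeCore p Hb).map Hb.subtype with hKb
  have hKbn : Kb.Normal := Cores.map_subtype_normal_of_characteristic Hb _
  have hKbH : Kb ≤ Hb := Subgroup.map_subtype_le _
  have hKbc : (Nat.card Kb).Coprime p := by
    rw [hKb, Cores.card_map_subtype]; exact Cores.coprime_card_pPrimeCore p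
  have hKbcent : Hb ⊓ Subgroup.centralizer (Kb : Set (G ⧸ V)) ≤ Kb := by
    intro y hy
    have hy' : (⟨y, hy.1⟩ : Hb) ∈ Subgroup.centralizer (pPrimeCore p Hb : Set Hb) :=
      Subgroup.mem_centralizer_iff.mpr fun z hz =>
        Subtype.ext (Subgroup.mem_centralizer_iff.mp hy.2 z ⟨z, hz, rfl⟩)
    have h1 := Solvable.centralizer_piCore_le (π := ({p}ᶜ : Set ℕ))
      (Solvable.isPiSeparable_of_isSolvable (G := Hb) _)
      (by rw [compl_compl, ← Cores.pCore_eq_piCore, hHbp])
    rw [Solvable.piCore_compl_singleton_eq_pPrimeCore] at h1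
    exact ⟨_, h1 hy', rfl⟩
  -- an invariant Sylow subgroup
  obtain ⟨Ps, hPR⟩ := Coprime.exists_invariant_sylow hRH hcop.symm hsolv p
  set P := (Ps : Subgroup H).map H.subtype with hPdef
  have hPH : P ≤ H := Subgroup.map_subtype_le _
  have hPp : IsPGroup p P := Ps.2.map _
  have hVP : V ≤ P := Subgroup.map_mono (Cores.pCore_le_sylow Ps)
  set Pb := P.map f with hPb
  set Rb := R.map f with hRb
  have hPbKb : ∀ X : Subgroup (G ⧸ V), X ≤ Kb → IsPGroup p X → X = ⊥ := fun X hX hXp => by
    obtain ⟨j, hj⟩ := hXp.exists_card_eq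
    refine Subgroup.eq_bot_of_card_eq _
      (Nat.eq_one_of_dvd_coprimes (hKbc.pow_right j) (Subgroup.card_dvd_of_le hX) ?_)
    rw [hj]
  have hPRV : ¬ ⁅P, R⁆ ≤ V := by
    intro hle'
    -- then `R` centralises `O_p(H/K)`, absurd
    set K := Kb.comap f with hKdef
    have hKn : K.Normal := Subgroup.Normal.comap hKbn f
    have hVK : V ≤ K := by rw [← hker]; exact MonoidHom.ker_le_comap _ _
    have hKH : K ≤ H := by
      refine (Subgroup.comap_mono hKbH).trans (le_of_eq ?_)
      rw [hHb, Subgroup.comap_map_eq_self (hker.le.trans hVH)]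
    set g := QuotientGroup.mk' K with hg
    have hkg : g.ker = K := QuotientGroup.ker_mk' K
    set L := H.map g with hL
    have hLn : L.Normal := ‹H.Normal›.map g (QuotientGroup.mk'_surjective K)
    have hK1 : K ≠ ⊥ := fun h => hV1 (le_bot_iff.mp (h ▸ hVK))
    have hLp := hquot K hKH hK1
    have hLO : (pPrimeCore p L).map L.subtype = ⊥ := by
      set N' := (pPrimeCore p L).map L.subtype with hN'
      have hN'L : N' ≤ L := Subgroup.map_subtype_le _
      have hN'n : N'.Normal := Cores.map_subtype_normal_of_characteristic L _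
      have hN'c : (Nat.card N').Coprime p := by
        rw [hN', Cores.card_map_subtype]; exact Cores.coprime_card_pPrimeCore p
      set M := N'.comap g with hM
      have hMn : M.Normal := Subgroup.Normal.comap hN'n g
      have hMH : M ≤ H := by
        refine (Subgroup.comap_mono hN'L).trans (le_of_eq ?_)
        rw [hL, Subgroup.comap_map_eq_self (hkg.le.trans hKH)]
      have hKM : K ≤ M := by rw [← hkg]; exact MonoidHom.ker_le_comap _ _
      have h1 := Cores.card_map_mul_ker g M (hkg.le.trans hKM)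
      have h2 := Cores.card_map_mul_ker f M (hker.le.trans (hVK.trans hKM))
      have h3 := Cores.card_map_mul_ker f K (hker.le.trans hVK)
      rw [hkg, hM, Subgroup.map_comap_eq_self_of_surjective (QuotientGroup.mk'_surjective K)] at h1
      rw [hKdef, Subgroup.map_comap_eq_self_of_surjective (QuotientGroup.mk'_surjective V)] at h3
      rw [← hKdef] at h3
      rw [hker] at h2 h3
      have h4 : Nat.card (M.map f) = Nat.card Kb * Nat.card N' := by
        refine Nat.eq_of_mul_eq_mul_right (Nat.card_pos (α := V)) ?_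
        rw [h2, hM, ← h1, ← h3]
        ring
      have h5 : M.map f ≤ Kb := by
        intro y hy
        have hyH : y ∈ Hb := Subgroup.map_mono hMH hy
        have h6 : (M.map f).subgroupOf Hb ≤ pPrimeCore p Hb := Cores.le_pPrimeCore
          (Cores.subgroupOf_normal_of_le_normalizer
            ((Subgroup.map_mono (le_top.trans (Subgroup.normalizer_eq_top_iff.mpr hMn).ge)).trans
              (Subgroup.le_normalizer_map f)))
          (by rw [Cores.card_subgroupOf (Subgroup.map_mono hMH), h4]
              exact hKbc.mul_left hN'c)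
        exact ⟨⟨y, hyH⟩, h6 hy, rfl⟩
      have h7 : M ≤ K := Subgroup.map_le_iff_le_comap.mp h5
      rw [eq_bot_iff, ← Subgroup.map_comap_eq_self_of_surjective
        (QuotientGroup.mk'_surjective K) N', ← hM]
      exact (Subgroup.map_mono h7).trans (by rw [Subgroup.map_le_iff_le_comap]; exact hkg.ge)
    set O := pCoreOf p L with hOdef
    have hOn : O.Normal := Cores.map_subtype_normal_of_characteristic L _
    have hPO : P.map g ≤ O := le_pCoreOf' hLp hLO (Subgroup.map_mono hPH) (hPp.map g)
    have hOP : O ≤ P.map g := by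
      refine (Subgroup.eq_of_le_of_card_ge hPO ?_).ge
      refine Nat.le_of_dvd Nat.card_pos ?_
      obtain ⟨j, hj⟩ := (OddUniq.isPGroup_pCoreOf p L).exists_card_eq
      have hidx : Nat.card O ∣ Nat.card (P.map g) * (P.map g).relIndex L := by
        have h := Subgroup.relIndex_mul_relIndex ⊥ (P.map g) L bot_le (Subgroup.map_mono hPH)
        rw [Subgroup.relIndex_bot_left, Subgroup.relIndex_bot_left] at h
        rw [h]
        exact Subgroup.card_dvd_of_le (OddUniq.pCoreOf_le p L)
      refine Nat.Coprime.dvd_of_dvd_mul_right ?_ hidx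
      rw [hj]
      refine Nat.Coprime.pow_left j (hp.out.coprime_iff_not_dvd.mpr fun hd => ?_)
      have hd1 : (P.map g).relIndex L ∣ P.relIndex H := by
        rw [hL, Subgroup.relIndex_map_map, sup_eq_left.mpr (hkg.le.trans hKH)]
        exact Subgroup.relIndex_dvd_of_le_left _ le_sup_left
      have hd2 : P.relIndex H = (Ps : Subgroup H).index := by
        rw [hPdef, Subgroup.relIndex, Subgroup.subgroupOf,
          Subgroup.comap_map_eq_self_of_injective H.subtype_injective]
      exact Ps.not_dvd_index (hd2 ▸ hd.trans hd1)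
    have hRC : R.map g ≤ Subgroup.centralizer (O : Set (G ⧸ K)) := by
      rw [Subgroup.le_centralizer_iff]
      refine hOP.trans (Subgroup.commutator_eq_bot_iff_le_centralizer.mp ?_)
      rw [← Subgroup.map_commutator, Subgroup.map_eq_bot_iff, hkg]
      exact hle'.trans hVK
    have hLC : L ≤ Subgroup.centralizer (O : Set (G ⧸ K)) := by
      have hCn : (Subgroup.centralizer (O : Set (G ⧸ K))).Normal := Subgroup.normal_centralizer
      have h1 : L = ⁅L, R.map g⁆ := by rw [hL, ← Subgroup.map_commutator, hHR]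
      rw [h1]
      exact (Subgroup.commutator_mono le_rfl hRC).trans (Subgroup.commutator_le_right _ _)
    have hLO' : L ≤ O := (le_inf le_rfl hLC).trans (mem_pCore_centralizer
      ((Subgroup.map_eq_bot_iff_of_injective _ L.subtype_injective).mp hLO))
    have hL1 : L = ⊥ := by
      rw [hL, ← hHR, Subgroup.map_commutator, Subgroup.commutator_eq_bot_iff_le_centralizer]
      exact hLO'.trans (Subgroup.le_centralizer_iff.mp hRC)
    rw [hL, Subgroup.map_eq_bot_iff, hkg] at hL1
    refine hallp fun Q hQH hQ => ?_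
    have h8 : Q.map f ≤ Kb := Subgroup.map_le_iff_le_comap.mpr (hQH.trans hL1)
    have h9 := hPbKb _ h8 (hQ.map f)
    rwa [Subgroup.map_eq_bot_iff, hker] at h9
  -- a `q`-subgroup of `O_{p'}(H/V)` moved by `[P, R]`
  have hKbN : ∀ X : Subgroup (G ⧸ V), X ≤ Subgroup.normalizer (Kb : Set (G ⧸ V)) := fun X => by
    rw [Subgroup.normalizer_eq_top_iff.mpr hKbn]; exact le_top
  have hRbPb : Rb ≤ Subgroup.normalizer (Pb : Set (G ⧸ V)) :=
    (Subgroup.map_mono hPR).trans (Subgroup.le_normalizer_map f)
  have hcopA : (Nat.card ↥(Pb ⊔ Rb)).Coprime (Nat.card Kb) := by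
    refine Nat.Coprime.coprime_dvd_left (card_sup_dvd_of_le_normalizer hRbPb) ?_
    refine Nat.Coprime.mul_left ?_ ?_
    · obtain ⟨j, hj⟩ := (hPp.map f).exists_card_eq
      rw [hPb, hj]
      exact (hKbc.symm).pow_left j
    · refine (hcop.symm.coprime_dvd_left (Subgroup.card_map_dvd R f)).coprime_dvd_right ?_
      exact (Subgroup.card_dvd_of_le hKbH).trans (Subgroup.card_map_dvd H f)
  obtain ⟨q, Sb, hq, hSbK, hSbq, hSbN, hSbC⟩ : ∃ (q : ℕ) (Sb : Subgroup (G ⧸ V)), q.Prime ∧
      Sb ≤ Kb ∧ IsPGroup q Sb ∧ Pb ⊔ Rb ≤ Subgroup.normalizer (Sb : Set (G ⧸ V)) ∧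
      ¬ Sb ≤ Subgroup.centralizer ((⁅P, R⁆.map f : Subgroup (G ⧸ V)) : Set (G ⧸ V)) := by
    by_contra hnone
    push Not at hnone
    have h1 : Kb ≤ Subgroup.centralizer ((⁅P, R⁆.map f : Subgroup (G ⧸ V)) : Set (G ⧸ V)) :=
      Coprime.le_of_invariant_sylow_le (hKbN _) hcopA (Or.inl inferInstance)
        fun q Q hq hQ hQq hQn => hnone q Q hq hQ hQq hQn
    rw [Subgroup.le_centralizer_iff] at h1
    have hPRP : ⁅P, R⁆ ≤ P := Coprime.commutator_le_left' hPR
    have h2 := hPbKb _ ((le_inf (Subgroup.map_mono (hPRP.trans hPH)) h1).trans hKbcent)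
      ((hPp.to_le hPRP).map f)
    rw [Subgroup.map_eq_bot_iff, hker] at h2
    exact hPRV h2
  have := Fact.mk hq
  have hSb1 : Sb ≠ ⊥ := fun h => hSbC (h ▸ bot_le)
  have hqd : q ∣ Nat.card Kb := OddUniq.dvd_card_of_le hSb1 hSbq hSbK
  have hqp : q ≠ p := fun h => by
    subst h
    exact hq.one_lt.ne' (Nat.eq_one_of_dvd_coprimes hKbc hqd dvd_rfl)
  have hq2 : q ≠ 2 := by
    rintro rfl
    exact Nat.not_even_iff_odd.mpr ((hodd.of_dvd_nat (Subgroup.card_quotient_dvd_card V)).of_dvd_nat
      (Subgroup.card_subgroup_dvd_card Kb)) (even_iff_two_dvd.mpr hqd)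
  set X := Sb.comap f with hXdef
  have hXH : X ≤ H := by
    refine (Subgroup.comap_mono (hSbK.trans hKbH)).trans (le_of_eq ?_)
    rw [hHb, Subgroup.comap_map_eq_self (hker.le.trans hVH)]
  have hVX : V ≤ X := by rw [← hker]; exact MonoidHom.ker_le_comap _ _
  have hXN : P ⊔ R ≤ Subgroup.normalizer (X : Set G) := by
    refine le_trans (Subgroup.map_le_iff_le_comap.mp ?_) (Subgroup.le_normalizer_comap f)
    rw [Subgroup.map_sup]
    exact hSbN
  obtain ⟨Ss, hSR⟩ := Coprime.exists_invariant_sylow (le_sup_right.trans hXN)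
    (hcop.symm.coprime_dvd_right (Subgroup.card_dvd_of_le hXH)) (Or.inl inferInstance) q
  set S := (Ss : Subgroup X).map X.subtype with hSdef
  have hSX : S ≤ X := Subgroup.map_subtype_le _
  have hSq : IsPGroup q S := Ss.2.map _
  have hcopVS : (Nat.card V).Coprime (Nat.card S) := by
    obtain ⟨a, ha⟩ := hVp.exists_card_eq
    obtain ⟨b, hb⟩ := hSq.exists_card_eq
    rw [ha, hb]; exact Nat.coprime_pow_primes _ _ hp.out hq hqp.symm
  have hXS : V ⊔ S = X := by
    refine Subgroup.eq_of_le_of_card_ge (sup_le hVX hSX) ?_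
    refine Nat.le_of_dvd Nat.card_pos ?_
    rw [Coprime.card_sup_of_coprime (hnV S) hcopVS, ← Cores.card_map_mul_ker f X (hker.le.trans hVX),
      hker, hXdef, Subgroup.map_comap_eq_self_of_surjective (QuotientGroup.mk'_surjective V),
      mul_comm]
    refine mul_dvd_mul_left _ ?_
    obtain ⟨j, hj⟩ := hSbq.exists_card_eq
    have h1 : q ^ j ∣ Nat.card X := by
      rw [← Cores.card_map_mul_ker f X (hker.le.trans hVX), hXdef,
        Subgroup.map_comap_eq_self_of_surjective (QuotientGroup.mk'_surjective V), hj]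
      exact dvd_mul_right _ _
    rw [hj, hSdef, Subgroup.card_map_of_injective X.subtype_injective]
    exact Ss.pow_dvd_card_of_pow_dvd_card h1
  have hSbS : S.map f = Sb := by
    have h1 := congrArg (Subgroup.map f) hXS
    rwa [Subgroup.map_sup, (Subgroup.map_eq_bot_iff V).mpr hker.ge, bot_sup_eq, hXdef,
      Subgroup.map_comap_eq_self_of_surjective (QuotientGroup.mk'_surjective V)] at h1
  set P₁ := P ⊓ Subgroup.normalizer (S : Set G) with hP₁
  have hP : P ≤ V ⊔ P₁ := by
    intro x hx
    have hconj : S.map (MulAut.conj x).toMonoidHom ≤ V ⊔ S := by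
      rw [hXS]
      exact (Subgroup.map_mono hSX).trans
        (Subgroup.mem_normalizer_iff_map_conj_eq.mp (hXN (Subgroup.mem_sup_left hx))).le
    obtain ⟨n, hn, he⟩ := Coprime.exists_conj_eq_of_le_sup (hnV S) hcopVS.symm
      (Or.inl inferInstance) hconj
      (Subgroup.card_map_of_injective (MulAut.conj x).injective)
    rw [show x = n * (n⁻¹ * x) by group]
    refine Subgroup.mul_mem_sup hn (Subgroup.mem_inf.mpr ⟨mul_mem (inv_mem (hVP hn)) hx, ?_⟩)
    refine map_conj_eq_iff.mp ?_
    have he' : S.map (MulAut.conj n).toMonoidHom = S.map (MulAut.conj x).toMonoidHom := he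
    rw [map_conj_mul, ← he', ← map_conj_mul, inv_mul_cancel, map_conj_one]
  have hPb₁ : P₁.map f = Pb := le_antisymm (Subgroup.map_mono inf_le_left) (by
    refine (Subgroup.map_mono hP).trans ?_
    rw [Subgroup.map_sup, (Subgroup.map_eq_bot_iff V).mpr hker.ge, bot_sup_eq])
  have hP₁p : IsPGroup p P₁ := hPp.to_le inf_le_left
  have c : Config p q H R R₀ V S P₁ :=
    { p_odd := hp2
      q_odd := hq2
      qp := hqp
      H_normal := inferInstance
      R_odd := hodd.of_dvd_nat (Subgroup.card_subgroup_dvd_card R)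
      cop := hcop
      top := htop
      R0_le := hR₀
      R0_prime := hR₀p
      zgroup := hZ
      V_normal := hVn
      V_le := hVH
      V_elem := hVe
      cent := hcent
      dec := hdec
      S_le := hSX.trans hXH
      S_q := hSq
      P_le := inf_le_left.trans hPH
      P_p := hP₁p
      P_S := inf_le_right
      R_S := hSR
      R_P := Signalizer.le_normalizer_inf hPR (hSR.trans Subgroup.le_normalizer)
      not_cent := fun h => hSbC (by
        rw [Subgroup.le_centralizer_iff, ← hSbS, Subgroup.map_commutator, ← hPb, ← hPb₁,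
          ← Subgroup.map_commutator]
        refine (Subgroup.map_mono h).trans ?_
        rintro _ ⟨z, hz, rfl⟩
        refine Subgroup.mem_centralizer_iff.mpr ?_
        rintro _ ⟨s, hs, rfl⟩
        rw [← map_mul, ← map_mul, Subgroup.mem_centralizer_iff.mp hz s hs])
      key := ?_
      R0_case := ?_ }
  · exact Config.false (hp := hp) c
  · intro S' P' hS' hP' hS'R hP'R hP'S hne
    set H₁ := V ⊔ S' ⊔ P' with hH₁
    have hH₁H : H₁ ≤ H :=
      sup_le (sup_le hVH ((hS'.trans hSX).trans hXH)) (hP'.trans (inf_le_left.trans hPH))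
    have hRH₁ : R ≤ Subgroup.normalizer (H₁ : Set G) :=
      (le_inf ((le_inf (hnV R) hS'R).trans
        (Subgroup.normalizer_inf_normalizer_le_normalizer_sup _ _)) hP'R).trans
        (Subgroup.normalizer_inf_normalizer_le_normalizer_sup _ _)
    have hlt : Nat.card H₁ < Nat.card H := lt_of_le_of_ne (Subgroup.card_le_of_le hH₁H)
      fun h => hne (Subgroup.eq_of_le_of_card_ge hH₁H h.ge)
    have hT := hsub H₁ R hH₁H le_rfl hR₀ hRH₁ (Nat.add_lt_add_right hlt _)
    set T := ⁅H₁, R⁆ with hTdef
    have hTH₁ : T ≤ H₁ := Coprime.commutator_le_left' hRH₁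
    have hH₁T : H₁ ≤ Subgroup.normalizer (T : Set G) := Subgroup.normalizer_commutator_ge_left H₁ R
    have hTO : (pPrimeCore p T).map T.subtype = ⊥ := by
      set N := (pPrimeCore p T).map T.subtype with hN
      have hNc : (Nat.card N).Coprime p := by
        rw [hN, Cores.card_map_subtype]; exact Cores.coprime_card_pPrimeCore p
      have hVN : V ≤ Subgroup.normalizer (N : Set G) :=
        ((le_sup_left.trans le_sup_left).trans hH₁T).trans (le_normalizer_pPrimeCore T)
      obtain ⟨j, hj⟩ := hVp.exists_card_eq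
      have hd : N ⊓ V = ⊥ := Coprime.inf_eq_bot (by rw [hj]; exact hNc.pow_right j)
      have h1 : N ≤ V := by
        refine (le_inf (((Subgroup.map_subtype_le _).trans hTH₁).trans hH₁H) ?_).trans hcent
        rw [← Subgroup.commutator_eq_bot_iff_le_centralizer, ← le_bot_iff, ← hd]
        exact le_inf (Subgroup.le_normalizer_iff_commutator_le_left.mp hVN)
          (Subgroup.le_normalizer_iff_commutator_le_right.mp (hnV N))
      rw [← hd, inf_eq_left.mpr h1]
    have hPT : ⁅P', R⁆ ≤ pCoreOf p T := le_pCoreOf' hT hTO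
      (Subgroup.commutator_mono le_sup_right le_rfl)
      ((hP₁p.to_le hP').to_le (Coprime.commutator_le_left' hP'R))
    rw [← Subgroup.commutator_eq_bot_iff_le_centralizer, ← le_bot_iff]
    have hd : pCoreOf p T ⊓ S' = ⊥ := by
      obtain ⟨a, ha⟩ := (OddUniq.isPGroup_pCoreOf p T).exists_card_eq
      obtain ⟨b, hb⟩ := (hSq.to_le hS').exists_card_eq
      exact Coprime.inf_eq_bot (by rw [ha, hb]; exact Nat.coprime_pow_primes _ _ hp.out hq hqp.symm)
    rw [← hd]
    refine le_inf ?_ ?_
    · refine (Subgroup.commutator_mono hPT le_rfl).trans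
        (Subgroup.le_normalizer_iff_commutator_le_left.mp ?_)
      exact ((le_sup_right.trans le_sup_left).trans hH₁T).trans (Cores.normalizer_le_normalizer_map _)
    · exact Subgroup.le_normalizer_iff_commutator_le_right.mp
        ((Coprime.commutator_le_left' hP'R).trans hP'S)
  · intro hne
    have hlt : Nat.card R₀ < Nat.card R := lt_of_le_of_ne (Subgroup.card_le_of_le hR₀)
      fun h => hne (Subgroup.eq_of_le_of_card_ge hR₀ h.ge)
    have hT := hsub H R₀ le_rfl hR₀ le_rfl (hnH R₀) (Nat.add_lt_add_left hlt _)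
    set T := ⁅H, R₀⁆ with hTdef
    have hTH : T ≤ H := Coprime.commutator_le_left' (hnH R₀)
    have hHT : H ≤ Subgroup.normalizer (T : Set G) := Subgroup.normalizer_commutator_ge_left H R₀
    have hTO : (pPrimeCore p T).map T.subtype = ⊥ :=
      hO' _ ((Subgroup.map_subtype_le _).trans hTH) (hHT.trans (le_normalizer_pPrimeCore T))
        (by rw [Cores.card_map_subtype]; exact Cores.coprime_card_pPrimeCore p)
    refine (le_pCoreOf' hT hTO (Subgroup.commutator_mono (inf_le_left.trans hPH) le_rfl)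
      (hP₁p.to_le (Coprime.commutator_le_left' ?_))).trans (le_pCoreOf
        ((OddUniq.pCoreOf_le p T).trans hTH) (hHT.trans (Cores.normalizer_le_normalizer_map _))
        (OddUniq.isPGroup_pCoreOf p T))
    exact hR₀.trans (Signalizer.le_normalizer_inf hPR (hSR.trans Subgroup.le_normalizer))

end Step

theorem claim (n : ℕ) : CommClaim.{u} p n := by
  induction n using Nat.strong_induction_on with
  | _ n IH =>
  intro Y _ _ H R R₀ hlt hN hcop hsolv hodd hR₀ hR₀p hZ
  set W := H ⊔ R with hW
  have := hsolv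
  set H' := H.subgroupOf W
  set R' := R.subgroupOf W
  set R₀' := R₀.subgroupOf W
  have hHW : H ≤ W := le_sup_left
  have hRW : R ≤ W := le_sup_right
  have : H'.Normal :=
    Cores.subgroupOf_normal_of_le_normalizer (sup_le Subgroup.le_normalizer hN)
  have htop : H' ⊔ R' = ⊤ := by
    rw [← Subgroup.subgroupOf_sup hHW hRW, Subgroup.subgroupOf_self]
  have hcH : Nat.card H' = Nat.card H := Cores.card_subgroupOf hHW
  have hcR : Nat.card R' = Nat.card R := Cores.card_subgroupOf hRW
  have hR0' : Nat.card R₀' = Nat.card R₀ := Cores.card_subgroupOf (hR₀.trans hRW)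
  have hZ' : IsZGroup ↥(H' ⊓ Subgroup.centralizer (R₀' : Set W)) := by
    have := hZ
    refine IsZGroup.of_injective
      (f := (W.subtype.comp (Subgroup.subtype _)).codRestrict
        (H ⊓ Subgroup.centralizer (R₀ : Set Y)) fun x => Subgroup.mem_inf.mpr ⟨x.2.1, ?_⟩) ?_
    · exact Subgroup.mem_centralizer_iff.mpr fun y hy =>
        congrArg Subtype.val (Subgroup.mem_centralizer_iff.mp x.2.2
          ⟨y, hRW (hR₀ hy)⟩ (show y ∈ R₀ from hy))
    · intro a b h
      exact Subtype.ext (Subtype.ext (congrArg Subtype.val h :))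
  have h := step (p := p) (G := W) hodd H' R' R₀' htop (by rw [hcH, hcR]; exact hcop)
    (fun x hx => hR₀ hx) (hR0'.symm ▸ hR₀p) hZ'
    (IH _ (by rw [hcH, hcR]; exact hlt))
  have h2 : (⁅H', R'⁆ : Subgroup W).map W.subtype = ⁅H, R⁆ := by
    rw [Subgroup.map_commutator, Subgroup.subgroupOf_map_subtype, Subgroup.subgroupOf_map_subtype,
      inf_eq_left.mpr hHW, inf_eq_left.mpr hRW]
  rw [← h2]
  let e := Subgroup.equivMapOfInjective (⁅H', R'⁆ : Subgroup W) W.subtype W.subtype_injective
  exact PLengthOne.of_injective e.symm.toMonoidHom e.symm.injective h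

/-- Bender-Glauberman 3.6. -/
theorem pLengthLE_commutator {G : Type u} [Group G] [Finite G] [Group.IsSolvable G]
    (hodd : Odd (Nat.card G)) (H R R₀ : Subgroup G) (hRH : R ≤ Subgroup.normalizer (H : Set G))
    (hcop : (Nat.card H).Coprime (Nat.card R)) (hR₀ : R₀ ≤ R) (hR₀p : (Nat.card R₀).Prime)
    (hZ : IsZGroup ↥(H ⊓ Subgroup.centralizer (R₀ : Set G))) : PLengthLE p 1 ↥⁅H, R⁆ :=
  claim (p := p) _ G H R R₀ (Nat.lt_succ_self _) hRH hcop inferInstance
    (hodd.of_dvd_nat (Subgroup.card_subgroup_dvd_card _)) hR₀ hR₀p hZ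

end Cfsg.Agent.PLengthComm
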