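import Cfsg.Agent.Lib.OddOrder.PLengthCommAux
import Cfsg.Agent.Lib.OddOrder.UniqueSCN
import Cfsg.Agent.Lib.OddOrder.PrimeAction
import Cfsg.Agent.Lib.FpfAction.Basic
import Cfsg.Agent.Lib.HallHigman.PrimeOrderGroup
import Cfsg.Agent.Lib.PGroup.Omega

/-!
The final configuration in the proof of Bender-Glauberman 3.6 is impossible (helper38):
`H = V S P₁` with `V = O_p(H)` elementary abelian, `S` a `q`-group, `P₁` a `p`-group, all invariant
under the coprime group `R`. Main result: `Config.false`.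
-/

set_option autoImplicit false

namespace Cfsg.Agent.PLengthComm

open Cfsg.Agent.Coprime
open scoped commutatorElement IsMulCommutative

variable {G : Type*} [Group G] [Finite G]

/-- A minimal counterexample to BG 3.6, after the general reductions. -/
structure Config (p q : ℕ) (H R R₀ V S P₁ : Subgroup G) : Prop where
  p_odd : p ≠ 2
  q_odd : q ≠ 2
  qp : q ≠ p
  H_normal : H.Normal
  R_odd : Odd (Nat.card R)
  cop : (Nat.card H).Coprime (Nat.card R)
  top : H ⊔ R = ⊤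
  R0_le : R₀ ≤ R
  R0_prime : (Nat.card R₀).Prime
  zgroup : IsZGroup ↥(H ⊓ Subgroup.centralizer (R₀ : Set G))
  V_normal : V.Normal
  V_le : V ≤ H
  V_elem : IsElementaryAbelian p V
  cent : H ⊓ Subgroup.centralizer (V : Set G) ≤ V
  dec : ∀ N U : Subgroup G, N.Normal → U.Normal → N ≤ V → U ≤ V → N ⊓ U = ⊥ → N = ⊥ ∨ U = ⊥
  S_le : S ≤ H
  S_q : IsPGroup q S
  P_le : P₁ ≤ H
  P_p : IsPGroup p P₁
  P_S : P₁ ≤ Subgroup.normalizer (S : Set G)
  R_S : R ≤ Subgroup.normalizer (S : Set G)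
  R_P : R ≤ Subgroup.normalizer (P₁ : Set G)
  not_cent : ¬ ⁅P₁, R⁆ ≤ Subgroup.centralizer (S : Set G)
  key : ∀ S' P' : Subgroup G, S' ≤ S → P' ≤ P₁ → R ≤ Subgroup.normalizer (S' : Set G) →
    R ≤ Subgroup.normalizer (P' : Set G) → P' ≤ Subgroup.normalizer (S' : Set G) →
    V ⊔ S' ⊔ P' ≠ H → ⁅P', R⁆ ≤ Subgroup.centralizer (S' : Set G)
  R0_case : R₀ ≠ R → ⁅P₁, R₀⁆ ≤ V

omit [Finite G] in
theorem exp_of_closure {S : Subgroup G} {n : ℕ}
    (hmul : ∀ a ∈ S, ∀ b ∈ S, (a * b) ^ n = a ^ n * b ^ n) {T : Set G} (hTS : T ⊆ S)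
    (hT : ∀ x ∈ T, x ^ n = 1) {x : G} (hx : x ∈ Subgroup.closure T) : x ^ n = 1 := by
  suffices h : x ∈ S ∧ x ^ n = 1 from h.2
  induction hx using Subgroup.closure_induction with
  | mem x hx => exact ⟨hTS hx, hT x hx⟩
  | one => exact ⟨one_mem _, one_pow n⟩
  | mul x y _ _ hx hy => exact ⟨mul_mem hx.1 hy.1, by rw [hmul x hx.1 y hy.1, hx.2, hy.2, one_mul]⟩
  | inv x _ hx => exact ⟨inv_mem hx.1, by rw [inv_pow, hx.2, inv_one]⟩

namespace Config

variable {p q : ℕ} [hp : Fact p.Prime] [hq : Fact q.Prime] {H R R₀ V S P₁ : Subgroup G}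

theorem cop_SV (c : Config p q H R R₀ V S P₁) : (Nat.card S).Coprime (Nat.card V) := by
  obtain ⟨a, ha⟩ := c.S_q.exists_card_eq
  obtain ⟨b, hb⟩ := (Signalizer.isPGroup_of_elemAb c.V_elem).exists_card_eq
  rw [ha, hb]
  exact Nat.coprime_pow_primes _ _ hq.out hp.out c.qp

theorem cop_SP (c : Config p q H R R₀ V S P₁) : (Nat.card S).Coprime (Nat.card P₁) := by
  obtain ⟨a, ha⟩ := c.S_q.exists_card_eq
  obtain ⟨b, hb⟩ := c.P_p.exists_card_eq
  rw [ha, hb]
  exact Nat.coprime_pow_primes _ _ hq.out hp.out c.qp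

theorem cop_R (c : Config p q H R R₀ V S P₁) {X : Subgroup G} (hX : X ≤ H) :
    (Nat.card R).Coprime (Nat.card X) :=
  (c.cop.coprime_dvd_left (Subgroup.card_dvd_of_le hX)).symm

theorem cop_R0 (c : Config p q H R R₀ V S P₁) {X : Subgroup G} (hX : X ≤ H) :
    (Nat.card R₀).Coprime (Nat.card X) :=
  (c.cop_R hX).coprime_dvd_left (Subgroup.card_dvd_of_le c.R0_le)

theorem comm_V (c : Config p q H R R₀ V S P₁) : IsMulCommutative V := c.V_elem.1

theorem le_normalizer_V (c : Config p q H R R₀ V S P₁) (X : Subgroup G) :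
    X ≤ Subgroup.normalizer (V : Set G) := by
  rw [Subgroup.normalizer_eq_top_iff.mpr c.V_normal]; exact le_top

theorem S_inf_centralizer (c : Config p q H R R₀ V S P₁) :
    S ⊓ Subgroup.centralizer (V : Set G) = ⊥ := by
  refine eq_bot_iff.mpr fun x hx => ?_
  have h1 : x ∈ S ⊓ V := ⟨hx.1, c.cent ⟨c.S_le hx.1, hx.2⟩⟩
  rwa [Coprime.inf_eq_bot c.cop_SV] at h1

theorem P_ne_bot (c : Config p q H R R₀ V S P₁) : P₁ ≠ ⊥ := fun h => c.not_cent (by
  rw [h, Subgroup.commutator_bot_left]; exact bot_le)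

theorem S_ne_bot (c : Config p q H R R₀ V S P₁) : S ≠ ⊥ := fun h => c.not_cent (fun x _ =>
  Subgroup.mem_centralizer_iff.mpr fun y hy => by
    rw [h] at hy
    rw [Subgroup.mem_bot.mp hy, one_mul, mul_one])

theorem H_eq (c : Config p q H R R₀ V S P₁) : V ⊔ S ⊔ P₁ = H := by
  by_contra h
  exact c.not_cent (c.key S P₁ le_rfl le_rfl c.R_S c.R_P c.P_S h)

theorem normal_of_invariant (c : Config p q H R R₀ V S P₁) {X : Subgroup G}
    (hV : V ≤ Subgroup.normalizer (X : Set G)) (hS : S ≤ Subgroup.normalizer (X : Set G))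
    (hP : P₁ ≤ Subgroup.normalizer (X : Set G)) (hR : R ≤ Subgroup.normalizer (X : Set G)) :
    X.Normal := by
  refine Subgroup.normalizer_eq_top_iff.mp (top_le_iff.mp ?_)
  rw [← c.top, ← c.H_eq]
  exact sup_le (sup_le (sup_le hV hS) hP) hR

omit [Finite G] hp hq in
theorem normalizes_centralizer {X Y : Subgroup G} (h : X ≤ Subgroup.normalizer (Y : Set G)) :
    X ≤ Subgroup.normalizer ((Subgroup.centralizer (Y : Set G) : Subgroup G) : Set G) := by
  intro g hg
  rw [Subgroup.mem_normalizer_iff]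
  intro x
  have hN := Subgroup.mem_normalizer_iff.mp (h hg)
  simp only [Subgroup.mem_centralizer_iff]
  constructor
  · intro hx y hy
    have h1 := hx _ ((hN (g⁻¹ * y * g)).mpr (by simpa [mul_assoc] using hy))
    calc y * (g * x * g⁻¹) = g * ((g⁻¹ * y * g) * x) * g⁻¹ := by group
      _ = g * (x * (g⁻¹ * y * g)) * g⁻¹ := by rw [h1]
      _ = g * x * g⁻¹ * y := by group
  · intro hx y hy
    have h1 := hx _ ((hN y).mp hy)
    calc y * x = g⁻¹ * ((g * y * g⁻¹) * (g * x * g⁻¹)) * g := by group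
      _ = g⁻¹ * ((g * x * g⁻¹) * (g * y * g⁻¹)) * g := by rw [h1]
      _ = x * y := by group

/-- No proper part of `V` is centralised by a nontrivial invariant subgroup of `S`. -/
theorem V_inf_centralizer_eq_bot (c : Config p q H R R₀ V S P₁) {Y : Subgroup G} (hY : Y ≤ S)
    (hYS : S ≤ Subgroup.normalizer (Y : Set G)) (hYP : P₁ ≤ Subgroup.normalizer (Y : Set G))
    (hYR : R ≤ Subgroup.normalizer (Y : Set G)) (hY1 : Y ≠ ⊥) :
    V ⊓ Subgroup.centralizer (Y : Set G) = ⊥ := by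
  have := c.comm_V
  have hcop : (Nat.card Y).Coprime (Nat.card V) :=
    c.cop_SV.coprime_dvd_left (Subgroup.card_dvd_of_le hY)
  have habV : ∀ {X : Subgroup G}, X ≤ V → V ≤ Subgroup.normalizer (X : Set G) := fun {X} hX =>
    ((Subgroup.le_centralizer_iff_isMulCommutative.mpr c.comm_V).trans
      (Subgroup.centralizer_le hX)).trans (Subgroup.centralizer_le_normalizer _)
  have hUle : ⁅V, Y⁆ ≤ V := Subgroup.le_normalizer_iff_commutator_le_left.mp (c.le_normalizer_V Y)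
  have hN : (V ⊓ Subgroup.centralizer (Y : Set G)).Normal := c.normal_of_invariant
    (habV inf_le_left)
    (Signalizer.le_normalizer_inf (c.le_normalizer_V S) (normalizes_centralizer hYS))
    (Signalizer.le_normalizer_inf (c.le_normalizer_V _) (normalizes_centralizer hYP))
    (Signalizer.le_normalizer_inf (c.le_normalizer_V _) (normalizes_centralizer hYR))
  have hU : (⁅V, Y⁆ : Subgroup G).Normal := c.normal_of_invariant (habV hUle)
    (Coprime.le_normalizer_commutator (c.le_normalizer_V S) hYS)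
    (Coprime.le_normalizer_commutator (c.le_normalizer_V _) hYP)
    (Coprime.le_normalizer_commutator (c.le_normalizer_V _) hYR)
  refine (c.dec _ _ hN hU inf_le_left hUle
    (Coprime.abelian_inf_eq_bot (c.le_normalizer_V Y) hcop)).resolve_right fun h0 => hY1 ?_
  rw [← le_bot_iff, ← c.S_inf_centralizer]
  exact le_inf hY (Subgroup.le_centralizer_iff.mp
    (Subgroup.commutator_eq_bot_iff_le_centralizer.mp h0))

theorem V_inf_centralizer_S (c : Config p q H R R₀ V S P₁) :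
    V ⊓ Subgroup.centralizer (S : Set G) = ⊥ :=
  c.V_inf_centralizer_eq_bot le_rfl Subgroup.le_normalizer c.P_S c.R_S c.S_ne_bot

theorem P_inf_V (c : Config p q H R R₀ V S P₁) : P₁ ⊓ V = ⊥ := by
  refine eq_bot_iff.mpr fun x hx => ?_
  rw [← c.V_inf_centralizer_S]
  refine ⟨hx.2, Subgroup.mem_centralizer_iff.mpr fun s hs => ?_⟩
  replace hs : s ∈ S := hs
  have h1 : ⁅x, s⁆ ∈ S ⊓ V := by
    refine Subgroup.mem_inf.mpr ⟨?_, ?_⟩
    · rw [commutatorElement_def]
      exact mul_mem ((Subgroup.mem_normalizer_iff.mp (c.P_S hx.1) s).mp hs) (inv_mem hs)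
    · rw [commutatorElement_def, show x * s * x⁻¹ * s⁻¹ = x * (s * x⁻¹ * s⁻¹) by group]
      exact mul_mem (Subgroup.mem_inf.mp hx).2
        (c.V_normal.conj_mem _ (inv_mem (Subgroup.mem_inf.mp hx).2) s)
  rw [Coprime.inf_eq_bot c.cop_SV, Subgroup.mem_bot] at h1
  exact (commutatorElement_eq_one_iff_mul_comm.mp h1).symm

theorem isPGroup_VP (c : Config p q H R R₀ V S P₁) : IsPGroup p ↥(V ⊔ P₁) := by
  have := c.V_normal
  exact (Signalizer.isPGroup_of_elemAb c.V_elem).to_sup_of_normal_left c.P_p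

theorem isCyclic_inf_R0 (c : Config p q H R R₀ V S P₁) {r : ℕ} [Fact r.Prime] {X : Subgroup G}
    (hX : X ≤ H) (hXp : IsPGroup r X) : IsCyclic ↥(X ⊓ Subgroup.centralizer (R₀ : Set G)) := by
  have := c.zgroup
  set C := H ⊓ Subgroup.centralizer (R₀ : Set G)
  have hle : X ⊓ Subgroup.centralizer (R₀ : Set G) ≤ C := inf_le_inf_right _ hX
  have hsub : IsPGroup r ((X ⊓ Subgroup.centralizer (R₀ : Set G)).subgroupOf C) :=
    (hXp.to_le inf_le_left).comap_subtype
  have := hsub.isCyclic_of_isZGroup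
  exact (Subgroup.subgroupOfEquivOfLe hle).isCyclic.mp inferInstance

theorem commutator_P_R_le (c : Config p q H R R₀ V S P₁) (h : IsCyclic S) : False := by
  refine c.not_cent ?_
  refine (Subgroup.commutator_mono ?_ ?_).trans
    (OddUniq.commutator_le_centralizer_cyclic (N := P₁ ⊔ R) h (sup_le c.P_S c.R_S))
  · exact le_sup_left
  · exact le_sup_right

theorem S_not_le_centralizer (c : Config p q H R R₀ V S P₁) :
    ¬ S ≤ Subgroup.centralizer (R₀ : Set G) := fun h => by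
  have h1 := c.isCyclic_inf_R0 c.S_le c.S_q
  rw [inf_eq_left.mpr h] at h1
  exact c.commutator_P_R_le h1

theorem V_inf_R0_ne_bot (c : Config p q H R R₀ V S P₁) :
    V ⊓ Subgroup.centralizer (R₀ : Set G) ≠ ⊥ := by
  intro hbot
  have : Fact (Nat.card R₀).Prime := ⟨c.R0_prime⟩
  have hpr : p ≠ Nat.card R₀ := fun h => hp.out.one_lt.ne' (Nat.eq_one_of_dvd_coprimes
    (c.cop_R0 c.P_le) (h ▸ dvd_rfl)
    (OddUniq.dvd_card_of_le c.P_ne_bot c.P_p le_rfl))
  have hqr : q ≠ Nat.card R₀ := fun h => hq.out.one_lt.ne' (Nat.eq_one_of_dvd_coprimes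
    (c.cop_R0 c.S_le) (h ▸ dvd_rfl)
    (OddUniq.dvd_card_of_le c.S_ne_bot c.S_q le_rfl))
  have h1 := HallHigman.commutator_le_centralizer_of_fpf hp.out c.qp.symm hpr hqr c.q_odd rfl
    c.S_q c.V_elem (c.le_normalizer_V R₀) (c.le_normalizer_V S) (c.R0_le.trans c.R_S) hbot
  refine c.S_not_le_centralizer (Subgroup.le_centralizer_iff.mp
    (Subgroup.commutator_eq_bot_iff_le_centralizer.mp (le_bot_iff.mp ?_)))
  rw [← c.S_inf_centralizer]
  exact le_inf (Subgroup.le_normalizer_iff_commutator_le_right.mp (c.R0_le.trans c.R_S)) h1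

theorem P_inf_R0 (c : Config p q H R R₀ V S P₁) :
    P₁ ⊓ Subgroup.centralizer (R₀ : Set G) = ⊥ := by
  by_contra h
  have hcyc := c.isCyclic_inf_R0 (sup_le c.V_le c.P_le) c.isPGroup_VP
  refine inf_ne_bot_of_isCyclic hcyc (inf_le_inf_right _ le_sup_left)
    (inf_le_inf_right _ le_sup_right) ((Signalizer.isPGroup_of_elemAb c.V_elem).to_le inf_le_left)
    (c.P_p.to_le inf_le_left) c.V_inf_R0_ne_bot h (le_bot_iff.mp ?_)
  refine (le_inf (inf_le_right.trans inf_le_left) (inf_le_left.trans inf_le_left)).trans ?_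
  exact c.P_inf_V.le

theorem R_eq (c : Config p q H R R₀ V S P₁) : R₀ = R := by
  by_contra h
  refine c.P_ne_bot (le_bot_iff.mp ?_)
  rw [← c.P_inf_R0]
  refine le_inf le_rfl (Subgroup.commutator_eq_bot_iff_le_centralizer.mp (le_bot_iff.mp ?_))
  rw [← c.P_inf_V]
  exact le_inf (Subgroup.le_normalizer_iff_commutator_le_left.mp (c.R0_le.trans c.R_P))
    (c.R0_case h)

theorem R_prime (c : Config p q H R R₀ V S P₁) : (Nat.card R).Prime := c.R_eq ▸ c.R0_prime

theorem P_inf_R (c : Config p q H R R₀ V S P₁) :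
    P₁ ⊓ Subgroup.centralizer (R : Set G) = ⊥ := c.R_eq ▸ c.P_inf_R0

theorem comm_PR (c : Config p q H R R₀ V S P₁) : ⁅P₁, R⁆ = P₁ := by
  have h := Coprime.commutator_sup_centralizer c.R_P (c.cop_R c.P_le)
    (Or.inr (Coprime.isSolvable_of_isPGroup c.P_p))
  rwa [c.P_inf_R, sup_bot_eq] at h

theorem centralizer_eq (c : Config p q H R R₀ V S P₁) {x : G} (hx : x ∈ R) (hx1 : x ≠ 1) :
    Subgroup.centralizer ({x} : Set G) = Subgroup.centralizer (R : Set G) := by
  rw [← HallHigman.centralizer_zpowers_eq]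
  have h : Subgroup.zpowers x = R := by
    refine Subgroup.eq_of_le_of_card_ge (Subgroup.zpowers_le.mpr hx) ?_
    rw [Nat.card_zpowers]
    rcases (Nat.dvd_prime c.R_prime).mp (Subgroup.orderOf_dvd_natCard R hx) with h | h
    · exact absurd (orderOf_eq_one_iff.mp h) hx1
    · exact h.ge
  rw [h]

theorem small (c : Config p q H R R₀ V S P₁) {S' : Subgroup G} (h : S' < S)
    (hR : R ≤ Subgroup.normalizer (S' : Set G)) (hP : P₁ ≤ Subgroup.normalizer (S' : Set G)) :
    S' ≤ Subgroup.centralizer (P₁ : Set G) := by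
  rw [Subgroup.le_centralizer_iff]
  conv_lhs => rw [← c.comm_PR]
  refine c.key S' P₁ h.le le_rfl hR c.R_P hP fun he => ?_
  refine h.not_ge (Subgroup.eq_of_le_of_card_ge h.le (Nat.le_of_dvd Nat.card_pos ?_)).ge
  have h1 : Nat.card S ∣ Nat.card S' * (Nat.card V * Nat.card P₁) := by
    refine (Subgroup.card_dvd_of_le c.S_le).trans ?_
    rw [← he, sup_assoc, sup_comm, ← mul_assoc, mul_comm (Nat.card S'), mul_assoc, mul_comm]
    have := c.V_normal
    exact (Cores.card_sup_dvd (S' ⊔ P₁) V).trans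
      (mul_dvd_mul_right (card_sup_dvd_of_le_normalizer hP) _)
  exact (Nat.Coprime.mul_right c.cop_SV c.cop_SP).dvd_of_dvd_mul_right h1

theorem comm_SP (c : Config p q H R R₀ V S P₁) : ⁅S, P₁⁆ = S := by
  have hle : ⁅S, P₁⁆ ≤ S := Subgroup.le_normalizer_iff_commutator_le_left.mp c.P_S
  by_contra hne
  have h1 := c.small (lt_of_le_of_ne hle hne) (Coprime.le_normalizer_commutator c.R_S c.R_P)
    (Subgroup.normalizer_commutator_ge_right S P₁)
  have h2 := Coprime.commutator_commutator_eq c.P_S c.cop_SP.symm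
    (Or.inr (Coprime.isSolvable_of_isPGroup c.S_q))
  rw [Subgroup.commutator_eq_bot_iff_le_centralizer.mpr h1, eq_comm,
    Subgroup.commutator_eq_bot_iff_le_centralizer, Subgroup.le_centralizer_iff] at h2
  exact c.not_cent ((Coprime.commutator_le_left' c.R_P).trans h2)

theorem inv_fix (c : Config p q H R R₀ V S P₁) :
    R ≤ Subgroup.normalizer ((S ⊓ Subgroup.centralizer (P₁ : Set G) : Subgroup G) : Set G) ∧
      P₁ ≤ Subgroup.normalizer ((S ⊓ Subgroup.centralizer (P₁ : Set G) : Subgroup G) : Set G) :=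
  ⟨Signalizer.le_normalizer_inf c.R_S (normalizes_centralizer c.R_P),
    (Subgroup.le_centralizer_iff.mp inf_le_right).trans (Subgroup.centralizer_le_normalizer _)⟩

theorem derived_le (c : Config p q H R R₀ V S P₁) : ⁅S, S⁆ ≤ Subgroup.centralizer (P₁ : Set G) := by
  have : Group.IsSolvable S := Coprime.isSolvable_of_isPGroup c.S_q
  exact c.small (Solvable.commutator_lt_of_solvable c.S_ne_bot)
    (Coprime.le_normalizer_commutator c.R_S c.R_S) (Coprime.le_normalizer_commutator c.P_S c.P_S)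

theorem fix_central (c : Config p q H R R₀ V S P₁) :
    S ⊓ Subgroup.centralizer (P₁ : Set G) ≤ Subgroup.centralizer (S : Set G) := by
  set D := S ⊓ Subgroup.centralizer (P₁ : Set G)
  have h1 : ⁅⁅P₁, D⁆, S⁆ = ⊥ := by
    rw [show ⁅P₁, D⁆ = ⊥ from Subgroup.commutator_eq_bot_iff_le_centralizer.mpr
      (Subgroup.le_centralizer_iff.mp inf_le_right), Subgroup.commutator_bot_left]
  have h2 : ⁅⁅D, S⁆, P₁⁆ = ⊥ := Subgroup.commutator_eq_bot_iff_le_centralizer.mpr
    ((Subgroup.commutator_mono inf_le_left le_rfl).trans c.derived_le)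
  have h3 : ⁅⁅S, P₁⁆, D⁆ = ⊥ := Subgroup.commutator_commutator_eq_bot_of_rotate h1 h2
  rw [c.comm_SP, Subgroup.commutator_eq_bot_iff_le_centralizer] at h3
  exact Subgroup.le_centralizer_iff.mp h3

theorem pow_mem_fix (c : Config p q H R R₀ V S P₁) {s : G} (hs : s ∈ S) :
    s ^ q ∈ S ⊓ Subgroup.centralizer (P₁ : Set G) := by
  refine ⟨pow_mem hs q, ?_⟩
  set Φ := (frattini S).map S.subtype with hΦ
  have hmem : s ^ q ∈ Φ := ⟨(⟨s, hs⟩ : S) ^ q, PGroup.pow_mem_frattini c.S_q _, rfl⟩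
  have hlt : Φ < S := by
    refine lt_of_le_of_ne (Subgroup.map_subtype_le _) fun he => c.S_ne_bot ?_
    have h1 : frattini S = ⊤ := Subgroup.map_injective S.subtype_injective
      (he.trans (by rw [← MonoidHom.range_eq_map, Subgroup.range_subtype]))
    have h2 : (⊥ : Subgroup S) = ⊤ := PGroup.eq_top_of_sup_frattini (by rw [h1, bot_sup_eq])
    have h3 := congrArg (fun X : Subgroup S => Nat.card X) h2
    simp only [Subgroup.card_bot, Subgroup.card_top] at h3
    exact Subgroup.eq_bot_of_card_eq S h3.symm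
  exact c.small hlt (c.R_S.trans (Cores.normalizer_le_normalizer_map _))
    (c.P_S.trans (Cores.normalizer_le_normalizer_map _)) hmem

theorem exponent (c : Config p q H R R₀ V S P₁) : ∀ s ∈ S, s ^ q = 1 := by
  have hmul : ∀ a ∈ S, ∀ b ∈ S, (a * b) ^ q = a ^ q * b ^ q := by
    intro a ha b hb
    have hD : ⁅b, a⁆ ∈ S ⊓ Subgroup.centralizer (P₁ : Set G) :=
      ⟨Subgroup.commutator_le_self S (Subgroup.commutator_mem_commutator hb ha),
        c.derived_le (Subgroup.commutator_mem_commutator hb ha)⟩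
    have hc : ∀ {z : G}, z ∈ S → Commute z ⁅b, a⁆ := fun {z} hz =>
      Subgroup.mem_centralizer_iff.mp (c.fix_central hD) z hz
    refine PGroup.mul_pow_prime_eq hq.out c.q_odd (hc ha) (hc hb) ?_
    rw [← PGroup.commutator_pow_left (hc hb) q]
    exact commutatorElement_eq_one_iff_mul_comm.mpr
      (Subgroup.mem_centralizer_iff.mp (c.fix_central (c.pow_mem_fix hb)) a ha).symm
  intro s hs
  rw [← c.comm_SP, Subgroup.commutator_def] at hs
  refine exp_of_closure hmul ?_ ?_ hs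
  · rintro _ ⟨a, ha, b, hb, rfl⟩
    exact Subgroup.le_normalizer_iff_commutator_le_left.mp c.P_S
      (Subgroup.commutator_mem_commutator ha hb)
  · rintro _ ⟨a, ha, b, hb, rfl⟩
    have hb' : b * a⁻¹ * b⁻¹ ∈ S := (Subgroup.mem_normalizer_iff.mp (c.P_S hb) _).mp (inv_mem ha)
    rw [show ⁅a, b⁆ = a * (b * a⁻¹ * b⁻¹) by rw [commutatorElement_def]; group, hmul a ha _ hb',
      conj_pow, inv_pow]
    have h : b * a ^ q = a ^ q * b :=
      Subgroup.mem_centralizer_iff.mp (c.pow_mem_fix ha).2 b hb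
    calc a ^ q * (b * (a ^ q)⁻¹ * b⁻¹) = a ^ q * b * (a ^ q)⁻¹ * b⁻¹ := by group
      _ = b * a ^ q * (a ^ q)⁻¹ * b⁻¹ := by rw [h]
      _ = 1 := by group

theorem card_dvd_of_fixed (c : Config p q H R R₀ V S P₁) :
    Nat.card ↥(S ⊓ Subgroup.centralizer (R : Set G)) ∣ q := by
  have hcyc : IsCyclic ↥(S ⊓ Subgroup.centralizer (R : Set G)) :=
    c.R_eq ▸ c.isCyclic_inf_R0 c.S_le c.S_q
  obtain ⟨g, hg⟩ := IsCyclic.exists_generator (α := ↥(S ⊓ Subgroup.centralizer (R : Set G)))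
  rw [← orderOf_eq_card_of_forall_mem_zpowers hg]
  exact orderOf_dvd_of_pow_eq_one (Subtype.ext (c.exponent g g.2.1))

theorem exists_fixed_not_mem (c : Config p q H R R₀ V S P₁) :
    ∃ s ∈ S ⊓ Subgroup.centralizer (R : Set G), s ∉ Subgroup.centralizer (P₁ : Set G) := by
  set D := S ⊓ Subgroup.centralizer (P₁ : Set G) with hD
  by_contra hcon
  push Not at hcon
  set W := V ⊔ D with hW
  have hDS : S ≤ Subgroup.normalizer (D : Set G) :=
    (Subgroup.le_centralizer_iff.mp c.fix_central).trans (Subgroup.centralizer_le_normalizer _)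
  have hWn : W.Normal := by
    refine c.normal_of_invariant ((le_sup_left : V ≤ W).trans Subgroup.le_normalizer) ?_ ?_ ?_ <;>
      refine (le_inf (c.le_normalizer_V _) ?_).trans (Subgroup.normalizer_inf_normalizer_le_normalizer_sup _ _)
    · exact hDS
    · exact c.inv_fix.2
    · exact c.inv_fix.1
  have hWS : ∀ s ∈ S, s ∈ W → s ∈ D := by
    intro s hs hsW
    obtain ⟨v, hv, d, hd, rfl⟩ := (Coprime.mem_sup_iff (c.le_normalizer_V D)).mp hsW
    have hv' : v ∈ S ⊓ V := ⟨by simpa using mul_mem hs (inv_mem hd.1), hv⟩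
    rw [Coprime.inf_eq_bot c.cop_SV, Subgroup.mem_bot] at hv'
    rw [hv', one_mul]; exact hd
  have hWP : ∀ x ∈ P₁, x ∈ W → x = 1 := by
    intro x hx hxW
    obtain ⟨v, hv, d, hd, e⟩ := (Coprime.mem_sup_iff (c.le_normalizer_V D)).mp hxW
    have hd' : d ∈ S ⊓ (V ⊔ P₁) := by
      refine ⟨hd.1, ?_⟩
      rw [show d = v⁻¹ * x by rw [← e]; group]
      exact mul_mem (Subgroup.mem_sup_left (inv_mem hv)) (Subgroup.mem_sup_right hx)
    have hcop : (Nat.card S).Coprime (Nat.card ↥(V ⊔ P₁)) := by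
      obtain ⟨a, ha⟩ := c.S_q.exists_card_eq
      obtain ⟨b, hb⟩ := c.isPGroup_VP.exists_card_eq
      rw [ha, hb]; exact Nat.coprime_pow_primes _ _ hq.out hp.out c.qp
    rw [Coprime.inf_eq_bot hcop, Subgroup.mem_bot] at hd'
    rw [hd', mul_one] at e
    have h1 : x ∈ P₁ ⊓ V := ⟨hx, e ▸ hv⟩
    rwa [c.P_inf_V, Subgroup.mem_bot] at h1
  set f := QuotientGroup.mk' W with hf
  have hmem : ∀ {y : G}, f y = 1 ↔ y ∈ W := fun {y} => QuotientGroup.eq_one_iff y
  set Sb := S.map f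
  set Pb := P₁.map f
  set Rb := R.map f
  have : IsMulCommutative Sb := by
    refine Subgroup.le_centralizer_iff_isMulCommutative.mp ?_
    rw [← Subgroup.commutator_eq_bot_iff_le_centralizer, ← Subgroup.map_commutator,
      Subgroup.map_eq_bot_iff, QuotientGroup.ker_mk']
    exact (le_inf (Subgroup.commutator_le_self S) c.derived_le).trans le_sup_right
  have hnorm : ∀ {X Y : Subgroup G}, X ≤ Subgroup.normalizer (Y : Set G) →
      X.map f ≤ Subgroup.normalizer ((Y.map f : Subgroup (G ⧸ W)) : Set (G ⧸ W)) :=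
    fun h => (Subgroup.map_mono h).trans (Subgroup.le_normalizer_map f)
  have hlift : ∀ {A : Subgroup G}, A ≤ Subgroup.normalizer (S : Set G) →
      A ≤ Subgroup.normalizer (D : Set G) → (Nat.card A).Coprime (Nat.card S) →
      S ⊓ Subgroup.centralizer (A : Set G) ≤ D →
      Sb ⊓ Subgroup.centralizer ((A.map f : Subgroup (G ⧸ W)) : Set (G ⧸ W)) = ⊥ := by
    intro A hAS hAD hcop hAfix
    refine eq_bot_iff.mpr ?_
    rintro z ⟨⟨s, hs, rfl⟩, hz⟩
    have hfix : ∀ a ∈ A, s⁻¹ * a * s * a⁻¹ ∈ D := fun a ha => by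
      refine hWS _ ?_ (hmem.mp ?_)
      · simpa [mul_assoc] using mul_mem (inv_mem hs) ((Subgroup.mem_normalizer_iff.mp (hAS ha) s).mp hs)
      · rw [map_mul, map_mul, map_mul, map_inv, map_inv]
        have h := Subgroup.mem_centralizer_iff.mp hz (f a) ⟨a, ha, rfl⟩
        calc (f s)⁻¹ * f a * f s * (f a)⁻¹ = (f s)⁻¹ * (f a * f s) * (f a)⁻¹ := by group
          _ = (f s)⁻¹ * (f s * f a) * (f a)⁻¹ := by rw [h]
          _ = 1 := by group
    obtain ⟨d, hd, hds⟩ := Coprime.exists_mem_centralizer_of_coset' hAS hcop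
      (Or.inr (Coprime.isSolvable_of_isPGroup c.S_q)) inf_le_left hAD hs hfix
    have h1 : s ∈ D := by
      have h2 := mul_mem (hAfix hd) (inv_mem hds)
      rwa [mul_inv_rev, inv_inv, mul_inv_cancel_left] at h2
    rw [Subgroup.mem_bot]
    exact hmem.mpr (Subgroup.mem_sup_right h1)
  refine c.not_cent (Subgroup.le_centralizer_iff.mpr ?_)
  suffices hSD : S ≤ D from (hSD.trans inf_le_right).trans
    (Subgroup.centralizer_le (Coprime.commutator_le_left' c.R_P))
  intro s hs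
  refine hWS s hs (hmem.mp ?_)
  have hfree : ∀ x ∈ Rb, x ≠ 1 → Pb ⊓ Subgroup.centralizer ({x} : Set (G ⧸ W)) = ⊥ := by
    rintro _ ⟨x, hx, rfl⟩ hx1
    refine eq_bot_iff.mpr ?_
    rintro z ⟨⟨u, hu, rfl⟩, hz⟩
    have h1 : ⁅u, x⁆ = 1 := by
      refine hWP _ ?_ (hmem.mp ?_)
      · exact Subgroup.le_normalizer_iff_commutator_le_left.mp c.R_P
          (Subgroup.commutator_mem_commutator hu hx)
      · rw [map_commutatorElement]
        exact commutatorElement_eq_one_iff_mul_comm.mpr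
          (Subgroup.mem_centralizer_singleton_iff.mp hz)
    have hx0 : x ≠ 1 := fun h => hx1 (by rw [h, map_one])
    have h2 : u ∈ P₁ ⊓ Subgroup.centralizer ({x} : Set G) :=
      ⟨hu, Subgroup.mem_centralizer_singleton_iff.mpr (commutatorElement_eq_one_iff_mul_comm.mp h1)⟩
    rw [c.centralizer_eq hx hx0, c.P_inf_R, Subgroup.mem_bot] at h2
    rw [Subgroup.mem_bot, h2, map_one]
  have h1 := FpfAction.pow_card_eq_one (Q := Pb) (X := Rb) (V := Sb) (hnorm c.R_P) (hnorm c.P_S)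
    (hnorm c.R_S) hfree (hlift c.P_S c.inv_fix.2 c.cop_SP.symm le_rfl)
    (hlift c.R_S c.inv_fix.1 (c.cop_R c.S_le) fun y hy => ⟨hy.1, hcon y hy⟩)
    ⟨f s, Subgroup.mem_map_of_mem f hs⟩
  have hcop : (Nat.card Pb).Coprime (Nat.card Sb) :=
    (c.cop_SP.symm.coprime_dvd_left (Subgroup.card_map_dvd P₁ f)).coprime_dvd_right
      (Subgroup.card_map_dvd S f)
  refine Subgroup.mem_bot.mp (Coprime.mem_of_pow_mem_of_mem (H := ⊥)
    (Subgroup.mem_map_of_mem f hs) hcop ?_)
  rw [Subgroup.mem_bot]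
  exact congrArg Subtype.val h1

theorem fix_inf_R (c : Config p q H R R₀ V S P₁) :
    S ⊓ Subgroup.centralizer (P₁ : Set G) ⊓ Subgroup.centralizer (R : Set G) = ⊥ := by
  obtain ⟨s, hs, hsP⟩ := c.exists_fixed_not_mem
  set X := S ⊓ Subgroup.centralizer (P₁ : Set G) ⊓ Subgroup.centralizer (R : Set G) with hX
  have hle : X ≤ S ⊓ Subgroup.centralizer (R : Set G) := inf_le_inf_right _ inf_le_left
  rcases (Nat.dvd_prime hq.out).mp ((Subgroup.card_dvd_of_le hle).trans c.card_dvd_of_fixed)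
    with h | h
  · exact Subgroup.eq_bot_of_card_eq X h
  · have h1 := Subgroup.eq_of_le_of_card_ge hle
      ((Nat.le_of_dvd hq.out.pos c.card_dvd_of_fixed).trans h.ge)
    exact absurd (h1.ge hs).1.2 hsP

theorem card_V_fixed (c : Config p q H R R₀ V S P₁) :
    Nat.card ↥(V ⊓ Subgroup.centralizer (R : Set G)) = p := by
  have hne : V ⊓ Subgroup.centralizer (R : Set G) ≠ ⊥ := c.R_eq ▸ c.V_inf_R0_ne_bot
  have hcyc : IsCyclic ↥(V ⊓ Subgroup.centralizer (R : Set G)) :=
    c.R_eq ▸ c.isCyclic_inf_R0 c.V_le (Signalizer.isPGroup_of_elemAb c.V_elem)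
  obtain ⟨g, hg⟩ := IsCyclic.exists_generator (α := ↥(V ⊓ Subgroup.centralizer (R : Set G)))
  have hd : orderOf g ∣ p := orderOf_dvd_of_pow_eq_one (Subtype.ext (c.V_elem.2 g g.2.1))
  rw [orderOf_eq_card_of_forall_mem_zpowers hg] at hd
  exact ((Nat.dvd_prime hp.out).mp hd).resolve_left fun h => hne (Subgroup.eq_bot_of_card_eq _ h)

/-- `S` is abelian and `P₁` centralises nothing in it. -/
theorem abelian (c : Config p q H R R₀ V S P₁) :
    IsMulCommutative S ∧ S ⊓ Subgroup.centralizer (P₁ : Set G) = ⊥ := by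
  set D := S ⊓ Subgroup.centralizer (P₁ : Set G) with hD
  suffices hab : IsMulCommutative S by
    refine ⟨hab, ?_⟩
    have h := Coprime.abelian_inf_eq_bot c.P_S c.cop_SP.symm
    rwa [c.comm_SP, inf_eq_left.mpr inf_le_left] at h
  refine Subgroup.le_centralizer_iff_isMulCommutative.mp ?_
  rw [← Subgroup.commutator_eq_bot_iff_le_centralizer]
  by_cases hD1 : D = ⊥
  · exact le_bot_iff.mp ((le_inf (Subgroup.commutator_le_self S) c.derived_le).trans hD1.le)
  have := c.comm_V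
  have : IsCyclic ↥(V ⊓ Subgroup.centralizer (R : Set G)) :=
    isCyclic_of_prime_card (p := p) c.card_V_fixed
  obtain ⟨v, hv⟩ := IsCyclic.exists_generator (α := ↥(V ⊓ Subgroup.centralizer (R : Set G)))
  have hDS : S ≤ Subgroup.normalizer (D : Set G) :=
    (Subgroup.le_centralizer_iff.mp c.fix_central).trans (Subgroup.centralizer_le_normalizer _)
  have hfixD : V ⊓ Subgroup.centralizer (D : Set G) = ⊥ :=
    c.V_inf_centralizer_eq_bot inf_le_left hDS c.inv_fix.2 c.inv_fix.1 hD1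
  have hfree : ∀ x ∈ R, x ≠ 1 → D ⊓ Subgroup.centralizer ({x} : Set G) = ⊥ := fun x hx hx1 => by
    rw [c.centralizer_eq hx hx1]; exact c.fix_inf_R
  have hcopD : (Nat.card D).Coprime (Nat.card V) :=
    c.cop_SV.coprime_dvd_left (Subgroup.card_dvd_of_le inf_le_left)
  let cj : S →* MulAut V := conjAut (c.le_normalizer_V S)
  let cd : D →* MulAut V := conjAut (c.le_normalizer_V D)
  let v₀ : V := ⟨v, v.2.1⟩
  have hspan : ∀ T : Subgroup V, (∀ d : D, cd d v₀ ∈ T) → T = ⊤ := by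
    intro T hT
    refine top_le_iff.mp fun w _ => ?_
    have h := mem_of_frobenius (U := T.map V.subtype) c.inv_fix.1 (c.le_normalizer_V D)
      (c.le_normalizer_V R) hfree hfixD hcopD (fun a ha u hu => ?_) w.2
    · obtain ⟨w', hw', e⟩ := h
      rwa [← Subtype.ext (show (w' : G) = w from e)]
    · obtain ⟨i, hi⟩ := Subgroup.mem_zpowers_iff.mp (hv ⟨u, hu⟩)
      have hu' : u = (v : G) ^ i := by rw [← Subgroup.coe_zpow, hi]
      refine ⟨(cd ⟨a, ha⟩ v₀) ^ i, zpow_mem (hT ⟨a, ha⟩) i, ?_⟩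
      simp [cd, v₀, hu', coe_conjAut, conj_zpow]
  have hcomm : ∀ (b : S) (d : D) (w : V), cj b (cd d w) = cd d (cj b w) := by
    intro b d w
    apply Subtype.ext
    simp only [cj, cd, coe_conjAut]
    have h : (b : G) * d = d * b := Subgroup.mem_centralizer_iff.mp (c.fix_central d.2) b b.2
    calc (b : G) * (d * w * (d : G)⁻¹) * (b : G)⁻¹ = (b * d) * w * ((b : G) * d)⁻¹ := by group
      _ = (d * b) * w * ((d : G) * b)⁻¹ := by rw [h]
      _ = _ := by group
  have hpoly : ∀ u : V, ∃ φ : V →* V, φ v₀ = u ∧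
      (∀ (b : S) (w : V), φ (cj b w) = cj b (φ w)) ∧ ∀ (d : D) (w : V), φ (cd d w) = cd d (φ w) := by
    let T : Subgroup V :=
      { carrier := {u | ∃ φ : V →* V, φ v₀ = u ∧
          (∀ (b : S) (w : V), φ (cj b w) = cj b (φ w)) ∧
            ∀ (d : D) (w : V), φ (cd d w) = cd d (φ w)}
        one_mem' := ⟨1, rfl, fun b w => by simp, fun d w => by simp⟩
        mul_mem' := by
          rintro a b ⟨φ, hφ, hφb, hφd⟩ ⟨ψ, hψ, hψb, hψd⟩
          exact ⟨φ * ψ, by simp [hφ, hψ], fun b w => by simp [hφb, hψb],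
            fun d w => by simp [hφd, hψd]⟩
        inv_mem' := by
          rintro a ⟨φ, hφ, hφb, hφd⟩
          exact ⟨φ⁻¹, by simp [hφ], fun b w => by simp [hφb], fun d w => by simp [hφd]⟩ }
    have hT : T = ⊤ := hspan T fun d => by
      refine ⟨(cd d).toMonoidHom, rfl, fun b w => (hcomm b d w).symm, fun e w => ?_⟩
      show cd d (cd e w) = cd e (cd d w)
      rw [← MulAut.mul_apply, ← MulAut.mul_apply, ← map_mul, ← map_mul]
      congr 2
      exact Subtype.ext (Subgroup.mem_centralizer_iff.mp (c.fix_central e.2) d d.2.1)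
    intro u
    exact (hT ▸ Subgroup.mem_top u : u ∈ T)
  rw [eq_bot_iff, ← c.S_inf_centralizer]
  refine le_inf (Subgroup.commutator_le_self S) (Subgroup.commutator_le.mpr fun a ha b hb => ?_)
  obtain ⟨φ, hφ, hφb, hφd⟩ := hpoly (cj ⟨b, hb⟩ v₀)
  have heq : φ = (cj ⟨b, hb⟩).toMonoidHom := by
    have h : φ.eqLocus (cj ⟨b, hb⟩).toMonoidHom = ⊤ := hspan _ fun d => by
      show φ (cd d v₀) = cj ⟨b, hb⟩ (cd d v₀)
      rw [hφd, hφ, hcomm]
    exact MonoidHom.eq_of_eqOn_top (fun x _ => (h ▸ Subgroup.mem_top x :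
      x ∈ φ.eqLocus (cj ⟨b, hb⟩).toMonoidHom))
  refine Subgroup.mem_centralizer_iff.mpr fun w hw => ?_
  have h1 : ∀ u : V, cj ⟨b, hb⟩ (cj ⟨a, ha⟩ u) = cj ⟨a, ha⟩ (cj ⟨b, hb⟩ u) := fun u => by
    have := hφb ⟨a, ha⟩ u
    rwa [heq] at this
  set u₁ : V := (cj ⟨b, hb⟩).symm ((cj ⟨a, ha⟩).symm ⟨w, hw⟩) with hu₁
  have h2 : cj ⟨a, ha⟩ (cj ⟨b, hb⟩ u₁) = ⟨w, hw⟩ := by simp [u₁]
  have h2' : cj ⟨b, hb⟩ (cj ⟨a, ha⟩ u₁) = ⟨w, hw⟩ := (h1 u₁).trans h2
  have e1 : a * (b * (u₁ : G) * b⁻¹) * a⁻¹ = w := by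
    simpa [cj, coe_conjAut] using congrArg Subtype.val h2
  have e2 : b * (a * (u₁ : G) * a⁻¹) * b⁻¹ = w := by
    simpa [cj, coe_conjAut] using congrArg Subtype.val h2'
  have e : ⁅a, b⁆ * w * ⁅a, b⁆⁻¹ = w := by
    conv_lhs => rw [← e2]
    conv_rhs => rw [← e1]
    rw [commutatorElement_def]
    group
  exact (mul_inv_eq_iff_eq_mul.mp e).symm

end Config

end Cfsg.Agent.PLengthComm
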