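import Cfsg.Agent.Lib.OddOrder.PLengthCommCore

/-!
The final step in the proof of Bender-Glauberman 3.6 (helper38): `Config.false`.
With `S` elementary abelian, `P₁ R` permutes transitively the hyperplanes `T` of `S` with
`C_V(T) ≠ 1`, and both possible shapes of this set lead to a contradiction.
-/

set_option autoImplicit false

namespace Cfsg.Agent.PLengthComm

open Cfsg.Agent.Coprime
open scoped IsMulCommutative

variable {G : Type*} [Group G] [Finite G]

omit [Finite G] in
theorem map_conj_mul (g h : G) (T : Subgroup G) :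
    T.map (MulAut.conj (g * h)).toMonoidHom =
      (T.map (MulAut.conj h).toMonoidHom).map (MulAut.conj g).toMonoidHom := by
  rw [Subgroup.map_map]
  congr 1
  ext x
  simp [mul_assoc]

omit [Finite G] in
theorem map_conj_one (T : Subgroup G) : T.map (MulAut.conj (1 : G)).toMonoidHom = T := by
  ext x
  simp

omit [Finite G] in
theorem map_conj_eq_iff {g : G} {T : Subgroup G} :
    T.map (MulAut.conj g).toMonoidHom = T ↔ g ∈ Subgroup.normalizer (T : Set G) :=
  Subgroup.mem_normalizer_iff_map_conj_eq.symm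

/-- The averaging map commutes with an element commuting with the averaging group. -/
theorem conjProd_commute {T V : Subgroup G} [IsMulCommutative V]
    (hTV : T ≤ Subgroup.normalizer (V : Set G)) {g : G}
    (hg : g ∈ Subgroup.normalizer (V : Set G)) (hc : ∀ t ∈ T, g * t = t * g) {x y : V}
    (hy : (y : G) = g * x * g⁻¹) :
    (conjProd hTV y : G) = g * (conjProd hTV x : G) * g⁻¹ := by
  cases nonempty_fintype T
  set a : MulAut V := V.normalizerMonoidHom ⟨g, hg⟩ with ha
  have h1 : ∀ z : V, ((a z : V) : G) = g * z * g⁻¹ := fun _ => rfl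
  have h2 : y = a x := Subtype.ext (hy.trans (h1 x).symm)
  have h3 : conjProd hTV y = a (conjProd hTV x) := by
    rw [conjProd_apply, conjProd_apply, map_prod, h2]
    refine Finset.prod_congr rfl fun t _ => Subtype.ext ?_
    rw [coe_conjAut, h1, h1, coe_conjAut]
    have h := hc t t.2
    calc (t : G) * (g * x * g⁻¹) * (t : G)⁻¹ = (t * g) * x * ((t : G) * g)⁻¹ := by group
      _ = (g * t) * x * (g * (t : G))⁻¹ := by rw [h]
      _ = g * (t * x * (t : G)⁻¹) * g⁻¹ := by group
  rw [h3, h1]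

namespace Config

variable {p q : ℕ} [hp : Fact p.Prime] [hq : Fact q.Prime] {H R R₀ V S P₁ : Subgroup G}

/-- The hyperplanes of `S` with a fixed point on `V`. -/
structure Good (q : ℕ) (V S T : Subgroup G) : Prop where
  le : T ≤ S
  idx : T.relIndex S = q
  ne : V ⊓ Subgroup.centralizer (T : Set G) ≠ ⊥

omit [Finite G] in
theorem mem_fix_conj {g w : G} {T : Subgroup G}
    (hgV : g ∈ Subgroup.normalizer (V : Set G))
    (hw : w ∈ V ⊓ Subgroup.centralizer (T : Set G)) :
    g * w * g⁻¹ ∈ V ⊓ Subgroup.centralizer (T.map (MulAut.conj g).toMonoidHom : Set G) := by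
  refine Subgroup.mem_inf.mpr ⟨(Subgroup.mem_normalizer_iff.mp hgV w).mp hw.1, ?_⟩
  rw [Signalizer.mem_centralizer_iff_conj]
  rintro _ ⟨t, ht, rfl⟩
  have h := Signalizer.mem_centralizer_iff_conj.mp hw.2 t ht
  simp only [MulEquiv.coe_toMonoidHom, MulAut.conj_apply]
  calc g * t * g⁻¹ * (g * w * g⁻¹) * (g * t * g⁻¹)⁻¹ = g * (t * w * t⁻¹) * g⁻¹ := by group
    _ = g * w * g⁻¹ := by rw [h]

omit [Finite G] hp hq in
theorem good_conj {g : G} {T : Subgroup G} (hgV : g ∈ Subgroup.normalizer (V : Set G))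
    (hgS : g ∈ Subgroup.normalizer (S : Set G)) (hT : Good q V S T) :
    Good q V S (T.map (MulAut.conj g).toMonoidHom) := by
  have hS := map_conj_eq_iff.mpr hgS
  refine ⟨?_, ?_, fun h => hT.ne ((Subgroup.eq_bot_iff_forall _).mpr fun w hw => ?_)⟩
  · exact (Subgroup.map_mono hT.le).trans hS.le
  · conv_lhs => rw [← hS]
    rw [Subgroup.relIndex_map_map_of_injective _ _ (MulAut.conj g).injective]
    exact hT.idx
  · have h1 := mem_fix_conj hgV hw
    rw [h, Subgroup.mem_bot] at h1
    calc w = g⁻¹ * (g * w * g⁻¹) * g := by group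
      _ = 1 := by rw [h1]; group

theorem sup_eq_of_ne (c : Config p q H R R₀ V S P₁) {T T' : Subgroup G} (hT : Good q V S T)
    (hT' : Good q V S T') (hne : T ≠ T') : T ⊔ T' = S := by
  refine le_antisymm (sup_le hT.le hT'.le) ?_
  have h := Subgroup.relIndex_mul_relIndex T (T ⊔ T') S le_sup_left (sup_le hT.le hT'.le)
  rw [hT.idx] at h
  rcases (Nat.dvd_prime hq.out).mp (Dvd.intro _ h) with h1 | h1
  · refine absurd ?_ hne
    have h2 : T' ≤ T := le_sup_right.trans (Subgroup.relIndex_eq_one.mp h1)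
    refine (Subgroup.eq_of_le_of_card_ge h2 (le_of_eq ?_)).symm
    have e1 := Subgroup.relIndex_mul_relIndex ⊥ T S bot_le hT.le
    have e2 := Subgroup.relIndex_mul_relIndex ⊥ T' S bot_le hT'.le
    rw [Subgroup.relIndex_bot_left, Subgroup.relIndex_bot_left, hT.idx] at e1
    rw [Subgroup.relIndex_bot_left, Subgroup.relIndex_bot_left, hT'.idx] at e2
    exact Nat.eq_of_mul_eq_mul_right hq.out.pos (e1.trans e2.symm)
  · rw [h1, Nat.mul_eq_left hq.out.ne_zero] at h
    exact Subgroup.relIndex_eq_one.mp h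

theorem cop_TV (c : Config p q H R R₀ V S P₁) {T : Subgroup G} (hT : T ≤ S) :
    (Nat.card T).Coprime (Nat.card V) :=
  c.cop_SV.coprime_dvd_left (Subgroup.card_dvd_of_le hT)

/-- The projection to `C_V(T)` kills `C_V(T')` for the other hyperplanes `T'`. -/
theorem proj_other (c : Config p q H R R₀ V S P₁) [IsMulCommutative V] {T T' : Subgroup G}
    (hT : Good q V S T) (hT' : Good q V S T') (hne : T ≠ T') {x : V}
    (hx : (x : G) ∈ Subgroup.centralizer (T' : Set G)) :
    conjProd (c.le_normalizer_V T) x = 1 := by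
  have := c.abelian.1
  refine OneMemClass.coe_eq_one.mp ?_
  rw [← Subgroup.mem_bot, ← c.V_inf_centralizer_S]
  refine Subgroup.mem_inf.mpr ⟨(conjProd (c.le_normalizer_V T) x).2, ?_⟩
  refine Subgroup.centralizer_le (c.sup_eq_of_ne hT hT' hne).ge ?_
  rw [Subgroup.sup_eq_closure, Subgroup.centralizer_closure, Subgroup.mem_centralizer_iff]
  rintro t (ht | ht)
  · exact Subgroup.mem_centralizer_iff.mp (conjProd_mem_centralizer (c.le_normalizer_V T) x).2 t ht
  · have h := Signalizer.mem_centralizer_iff_conj.mp hx t ht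
    have h2 := conjProd_commute (c.le_normalizer_V T) (g := t) (c.le_normalizer_V T' ht)
      (fun u hu => Signalizer.commute_of_isMulCommutative this (hT'.le ht) (hT.le hu))
      (x := x) (y := x) h.symm
    exact (mul_inv_eq_iff_eq_mul.mp h2.symm)

theorem proj_self (c : Config p q H R R₀ V S P₁) [IsMulCommutative V] {T : Subgroup G}
    (hT : Good q V S T) {x : V} (hx : (x : G) ∈ Subgroup.centralizer (T : Set G))
    (h1 : conjProd (c.le_normalizer_V T) x = 1) : x = 1 := by
  rw [conjProd_of_mem_centralizer _ hx] at h1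
  refine Subtype.ext (Subgroup.mem_bot.mp
    (Coprime.mem_of_pow_mem_of_mem (H := ⊥) x.2 (c.cop_TV hT.le) ?_))
  rw [Subgroup.mem_bot, ← SubgroupClass.coe_pow, h1, Subgroup.coe_one]

/-- Only `1` is killed by all projections. -/
theorem eq_one_of_proj (c : Config p q H R R₀ V S P₁) [IsMulCommutative V] {x : V}
    (hx : ∀ T : Subgroup G, Good q V S T → conjProd (c.le_normalizer_V T) x = 1) : x = 1 := by
  have hab := c.abelian.1
  let K₀ : Subgroup V :=
    ⨅ (T : Subgroup G) (_ : Good q V S T), (conjProd (c.le_normalizer_V T)).ker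
  have hK : ∀ {y : V}, y ∈ K₀ ↔
      ∀ T : Subgroup G, Good q V S T → conjProd (c.le_normalizer_V T) y = 1 := by
    intro y; simp [K₀, Subgroup.mem_iInf]
  set K := K₀.map V.subtype with hKdef
  have hq' : ¬ q ∣ Nat.card K := fun hd => by
    have h1 : q ∣ Nat.card V := hd.trans (Subgroup.card_dvd_of_le (Subgroup.map_subtype_le _))
    obtain ⟨b, hb⟩ := (Signalizer.isPGroup_of_elemAb c.V_elem).exists_card_eq
    rw [hb] at h1
    exact c.qp ((Nat.prime_dvd_prime_iff_eq hq.out hp.out).mp (hq.out.dvd_of_dvd_pow h1))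
  have hSK : S ≤ Subgroup.normalizer (K : Set G) := by
    refine Signalizer.le_normalizer_of_conj_mem fun s hs z hz => ?_
    obtain ⟨y, hy, rfl⟩ := hz
    refine ⟨conjAut (c.le_normalizer_V S) ⟨s, hs⟩ y, hK.mpr fun T hT => ?_, rfl⟩
    refine OneMemClass.coe_eq_one.mp ?_
    rw [conjProd_commute (c.le_normalizer_V T) (g := s) (x := y) (c.le_normalizer_V S hs)
      (fun t ht => Signalizer.commute_of_isMulCommutative hab hs (hT.le ht))
      (coe_conjAut _ _ _), hK.mp hy T hT]
    simp
  have hKb : K ≤ ⊥ := by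
    refine Signalizer.le_of_hyperplanes (p := q) ⟨hab, c.exponent⟩ c.S_ne_bot ⊥ K hq' hSK
      fun T hT hidx => ?_
    rintro z ⟨⟨y, hy, rfl⟩, hz⟩
    rw [Subgroup.mem_bot]
    by_contra hy1
    have hgood : Good q V S T := ⟨hT, hidx, fun h => hy1 (Subgroup.mem_bot.mp
      (h ▸ Subgroup.mem_inf.mpr ⟨y.2, hz⟩))⟩
    exact hy1 (congrArg Subtype.val (c.proj_self hgood hz (hK.mp hy T hgood)))
  refine Subtype.ext (Subgroup.mem_bot.mp (hKb ⟨x, hK.mpr hx, rfl⟩))

theorem mem_normalizer_fix (c : Config p q H R R₀ V S P₁) {T : Subgroup G} (hT : T ≤ S) :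
    S ≤ Subgroup.normalizer (T : Set G) :=
  Signalizer.le_normalizer_of_commute fun _ ha _ hb =>
    Signalizer.commute_of_isMulCommutative c.abelian.1 ha (hT hb)

/-- `P₁ R` permutes the good hyperplanes transitively. -/
theorem good_transitive (c : Config p q H R R₀ V S P₁) (O : Set (Subgroup G))
    (hO : ∀ T ∈ O, Good q V S T) (hne : O.Nonempty)
    (hinv : ∀ g ∈ P₁ ⊔ R, ∀ T ∈ O, T.map (MulAut.conj g).toMonoidHom ∈ O) :
    ∀ T, Good q V S T → T ∈ O := by
  intro T hT
  by_contra hTO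
  have := c.comm_V
  let U : Set (Subgroup G) → Subgroup G := fun A =>
    Subgroup.closure {w | ∃ X ∈ A, w ∈ V ⊓ Subgroup.centralizer (X : Set G)}
  let Oc : Set (Subgroup G) := {X | Good q V S X ∧ X ∉ O}
  have hUV : ∀ A, U A ≤ V := fun A => by
    refine (Subgroup.closure_le _).mpr ?_
    rintro w ⟨X, -, hw⟩
    exact hw.1
  have hUne : ∀ (A : Set (Subgroup G)) (X : Subgroup G), X ∈ A → Good q V S X → U A ≠ ⊥ :=
    fun A X hX hg h => hg.ne ((Subgroup.eq_bot_iff_forall _).mpr fun w hw =>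
      Subgroup.mem_bot.mp (h ▸ Subgroup.subset_closure ⟨X, hX, hw⟩))
  have hPR : P₁ ⊔ R ≤ Subgroup.normalizer (S : Set G) := sup_le c.P_S c.R_S
  have hnormal : ∀ A : Set (Subgroup G), (∀ X ∈ A, Good q V S X) →
      (∀ g ∈ P₁ ⊔ R, ∀ X ∈ A, X.map (MulAut.conj g).toMonoidHom ∈ A) → (U A).Normal := by
    intro A hA hAinv
    have h1 : ∀ g : G, (∀ X ∈ A, X.map (MulAut.conj g).toMonoidHom ∈ A) →
        ∀ z ∈ U A, g * z * g⁻¹ ∈ U A := by
      intro g hg z hz
      have h2 : (U A).map (MulAut.conj g).toMonoidHom ≤ U A := by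
        rw [MonoidHom.map_closure]
        refine Subgroup.closure_mono ?_
        rintro _ ⟨w, ⟨X, hX, hw⟩, rfl⟩
        exact ⟨_, hg X hX, mem_fix_conj (c.le_normalizer_V ⊤ (Subgroup.mem_top g)) hw⟩
      exact h2 ⟨z, hz, rfl⟩
    refine c.normal_of_invariant ?_ ?_ ?_ ?_
    · exact ((Subgroup.le_centralizer_iff_isMulCommutative.mpr c.comm_V).trans
        (Subgroup.centralizer_le (hUV A))).trans (Subgroup.centralizer_le_normalizer _)
    · refine Signalizer.le_normalizer_of_conj_mem fun g hg => h1 g fun X hX => ?_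
      rwa [map_conj_eq_iff.mpr (c.mem_normalizer_fix (hA X hX).le hg)]
    · exact Signalizer.le_normalizer_of_conj_mem fun g hg =>
        h1 g fun X hX => hAinv g (Subgroup.mem_sup_left hg) X hX
    · exact Signalizer.le_normalizer_of_conj_mem fun g hg =>
        h1 g fun X hX => hAinv g (Subgroup.mem_sup_right hg) X hX
  have hOc : ∀ g ∈ P₁ ⊔ R, ∀ X ∈ Oc, X.map (MulAut.conj g).toMonoidHom ∈ Oc := by
    rintro g hg X ⟨hX, hXO⟩
    refine ⟨good_conj (c.le_normalizer_V ⊤ (Subgroup.mem_top g)) (hPR hg) hX, fun h => hXO ?_⟩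
    have h' := hinv g⁻¹ (inv_mem hg) _ h
    rwa [← map_conj_mul, inv_mul_cancel, map_conj_one] at h'
  have hkill : ∀ (A : Set (Subgroup G)) (Y : Subgroup G), (∀ X ∈ A, Good q V S X) → Good q V S Y →
      Y ∉ A → ∀ z : V, (z : G) ∈ U A → conjProd (c.le_normalizer_V Y) z = 1 := by
    intro A Y hA hY hYA z hz
    have h2 : U A ≤ (conjProd (c.le_normalizer_V Y)).ker.map V.subtype := by
      refine (Subgroup.closure_le _).mpr ?_
      rintro w ⟨X, hX, hw⟩
      exact ⟨⟨w, hw.1⟩, c.proj_other hY (hA X hX) (fun h => hYA (h ▸ hX)) hw.2, rfl⟩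
    obtain ⟨z', hz', e⟩ := h2 hz
    rwa [← Subtype.ext (show (z' : G) = z from e)]
  have hdisj : U O ⊓ U Oc = ⊥ := by
    refine (Subgroup.eq_bot_iff_forall _).mpr fun z hz => ?_
    have h := c.eq_one_of_proj (x := ⟨z, hUV O hz.1⟩) fun Y hY => by
      by_cases hYO : Y ∈ O
      · exact hkill Oc Y (fun X hX => hX.1) hY (fun h => h.2 hYO) _ hz.2
      · exact hkill O Y hO hY hYO _ hz.1
    exact congrArg Subtype.val h
  obtain ⟨X, hX⟩ := hne
  rcases c.dec _ _ (hnormal O hO hinv) (hnormal Oc (fun X hX => hX.1) hOc) (hUV O) (hUV Oc) hdisj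
    with h | h
  · exact hUne O X hX (hO X hX) h
  · exact hUne Oc T ⟨hT, hTO⟩ hT h

theorem eq_one_of_mem_R (c : Config p q H R R₀ V S P₁) {T : Subgroup G} {x : G} (hx : x ∈ R)
    (hxT : x ∈ Subgroup.normalizer (T : Set G)) (hRT : ¬ R ≤ Subgroup.normalizer (T : Set G)) :
    x = 1 := by
  by_contra hx1
  refine hRT (le_trans (Eq.ge ?_) (Subgroup.zpowers_le.mpr hxT))
  refine Subgroup.eq_of_le_of_card_ge (Subgroup.zpowers_le.mpr hx) ?_
  rw [Nat.card_zpowers]
  rcases (Nat.dvd_prime c.R_prime).mp (Subgroup.orderOf_dvd_natCard R hx) with h | h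
  · exact absurd (orderOf_eq_one_iff.mp h) hx1
  · exact h.ge

/-- A hyperplane not fixed by `R`: the projection of the `R`-average of `w` is `w ^ |T|`. -/
theorem proj_average (c : Config p q H R R₀ V S P₁) [IsMulCommutative V] {T : Subgroup G}
    (hT : Good q V S T) (hRT : ¬ R ≤ Subgroup.normalizer (T : Set G)) {w : V}
    (hw : (w : G) ∈ Subgroup.centralizer (T : Set G)) :
    conjProd (c.le_normalizer_V T) (conjProd (c.le_normalizer_V R) w) = w ^ Nat.card T := by
  cases nonempty_fintype R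
  rw [conjProd_apply (c.le_normalizer_V R), map_prod, Finset.prod_eq_single (1 : R)]
  · rw [map_one, MulAut.one_apply, conjProd_of_mem_centralizer _ hw]
  · intro x _ hx
    have hxV : (x : G) ∈ Subgroup.normalizer (V : Set G) := c.le_normalizer_V R x.2
    refine c.proj_other hT (good_conj hxV (c.R_S x.2) hT) (fun h => hx ?_)
      (mem_fix_conj hxV (Subgroup.mem_inf.mpr ⟨w.2, hw⟩)).2
    exact OneMemClass.coe_eq_one.mp (c.eq_one_of_mem_R x.2 (map_conj_eq_iff.mp h.symm) hRT)
  · simp

/-- Two hyperplanes not fixed by `R` are `R`-conjugate. -/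
theorem regular_conj (c : Config p q H R R₀ V S P₁) {T T' : Subgroup G} (hT : Good q V S T)
    (hT' : Good q V S T') (hRT : ¬ R ≤ Subgroup.normalizer (T : Set G))
    (hRT' : ¬ R ≤ Subgroup.normalizer (T' : Set G)) :
    ∃ x ∈ R, T' = T.map (MulAut.conj x).toMonoidHom := by
  have := c.comm_V
  by_contra hno
  push Not at hno
  obtain ⟨w₀, hw₀, hw1⟩ : ∃ w ∈ V ⊓ Subgroup.centralizer (T : Set G), w ≠ 1 := by
    by_contra h
    push Not at h
    exact hT.ne ((Subgroup.eq_bot_iff_forall _).mpr h)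
  obtain ⟨u₀, hu₀, hu1⟩ : ∃ w ∈ V ⊓ Subgroup.centralizer (T' : Set G), w ≠ 1 := by
    by_contra h
    push Not at h
    exact hT'.ne ((Subgroup.eq_bot_iff_forall _).mpr h)
  let w : V := ⟨w₀, hw₀.1⟩
  let u : V := ⟨u₀, hu₀.1⟩
  let E := conjProd (c.le_normalizer_V R)
  let e := conjProd (c.le_normalizer_V T')
  have hE1 : (E w : G) ≠ 1 := fun h => by
    have h' : conjProd (c.le_normalizer_V T) (E w) = 1 := by
      rw [OneMemClass.coe_eq_one.mp h, map_one]
    rw [show conjProd (c.le_normalizer_V T) (E w) = w ^ Nat.card T from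
      c.proj_average hT hRT hw₀.2] at h'
    refine hw1 (congrArg Subtype.val (c.proj_self hT (x := w) hw₀.2 ?_))
    rw [conjProd_of_mem_centralizer _ hw₀.2, h']
  have hew : e (E w) = 1 := by
    cases nonempty_fintype R
    simp only [E, e]
    rw [conjProd_apply (c.le_normalizer_V R), map_prod]
    refine Finset.prod_eq_one fun x _ => ?_
    have hxV : (x : G) ∈ Subgroup.normalizer (V : Set G) := c.le_normalizer_V R x.2
    exact c.proj_other hT' (good_conj hxV (c.R_S x.2) hT) (hno x x.2) (mem_fix_conj hxV hw₀).2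
  have hgen : (E u : G) ∈ Subgroup.zpowers (E w : G) := by
    have hle : Subgroup.zpowers (E w : G) ≤ V ⊓ Subgroup.centralizer (R : Set G) :=
      Subgroup.zpowers_le.mpr (conjProd_mem_centralizer _ w)
    rw [Subgroup.eq_of_le_of_card_ge hle ?_]
    · exact conjProd_mem_centralizer _ u
    rw [c.card_V_fixed, Nat.card_zpowers]
    exact le_of_eq (orderOf_eq_prime (c.V_elem.2 _ (E w).2) hE1).symm
  obtain ⟨i, hi⟩ := Subgroup.mem_zpowers_iff.mp hgen
  have heu : e (E u) = 1 := by
    rw [← Subtype.ext (show ((E w ^ i : V) : G) = E u by rw [Subgroup.coe_zpow]; exact hi),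
      map_zpow, hew, one_zpow]
  rw [show e (E u) = u ^ Nat.card T' from c.proj_average hT' hRT' hu₀.2] at heu
  refine hu1 (congrArg Subtype.val (c.proj_self hT' (x := u) hu₀.2 ?_))
  rw [conjProd_of_mem_centralizer _ hu₀.2, heu]

/-- A hyperplane not fixed by `R` has fixed group of order `p` on `V`. -/
theorem regular_cyclic (c : Config p q H R R₀ V S P₁) {T : Subgroup G} (hT : Good q V S T)
    (hRT : ¬ R ≤ Subgroup.normalizer (T : Set G)) :
    IsCyclic ↥(V ⊓ Subgroup.centralizer (T : Set G)) := by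
  have := c.comm_V
  have : IsCyclic ↥(V ⊓ Subgroup.centralizer (R : Set G)) :=
    isCyclic_of_prime_card (p := p) c.card_V_fixed
  let W := V ⊓ Subgroup.centralizer (T : Set G)
  let ι : W →* V := Subgroup.inclusion inf_le_left
  let f : W →* ↥(V ⊓ Subgroup.centralizer (R : Set G)) :=
    ((V.subtype.comp (conjProd (c.le_normalizer_V R))).comp ι).codRestrict _
      fun w => conjProd_mem_centralizer _ _
  refine isCyclic_of_injective f ((injective_iff_map_eq_one f).mpr fun w hw => ?_)
  have h0 := congrArg Subtype.val hw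
  have h1 : conjProd (c.le_normalizer_V R) (ι w) = 1 := Subtype.ext h0
  have h2 := c.proj_average hT hRT (w := ι w) w.2.2
  rw [h1, map_one] at h2
  have h3 := c.proj_self hT (x := ι w) w.2.2 (by
    rw [conjProd_of_mem_centralizer _ (show ((ι w : V) : G) ∈ _ from w.2.2), ← h2])
  exact Subtype.ext (show (w : G) = 1 from congrArg Subtype.val h3)

theorem fixed_unique (c : Config p q H R R₀ V S P₁) {T : Subgroup G}
    (hRT : R ≤ Subgroup.normalizer (T : Set G)) {u : G} (hu : u ∈ P₁)
    (hRu : R ≤ Subgroup.normalizer (T.map (MulAut.conj u).toMonoidHom : Set G)) :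
    T.map (MulAut.conj u).toMonoidHom = T := by
  set N := P₁ ⊓ Subgroup.normalizer (T : Set G)
  have hNR : R ≤ Subgroup.normalizer (N : Set G) :=
    Signalizer.le_normalizer_inf c.R_P (hRT.trans Subgroup.le_normalizer)
  have hfix : ∀ a ∈ R, u⁻¹ * a * u * a⁻¹ ∈ N := fun a ha => by
    refine Subgroup.mem_inf.mpr ⟨?_, ?_⟩
    · simpa [mul_assoc] using mul_mem (inv_mem hu) ((Subgroup.mem_normalizer_iff.mp (c.R_P ha) u).mp hu)
    · refine map_conj_eq_iff.mp ?_
      rw [map_conj_mul, map_conj_eq_iff.mpr (inv_mem (hRT ha)), map_conj_mul, map_conj_mul,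
        map_conj_eq_iff.mpr (hRu ha), ← map_conj_mul, inv_mul_cancel, map_conj_one]
  obtain ⟨d, hd, hdN⟩ := Coprime.exists_mem_centralizer_of_coset' c.R_P (c.cop_R c.P_le)
    (Or.inr (Coprime.isSolvable_of_isPGroup c.P_p)) inf_le_left hNR hu hfix
  rw [c.P_inf_R, Subgroup.mem_bot] at hd
  rw [hd, mul_one] at hdN
  exact map_conj_eq_iff.mpr (inv_mem_iff.mp (Subgroup.mem_inf.mp hdN).2)

/-- The configuration is impossible. -/
theorem false (c : Config p q H R R₀ V S P₁) : False := by
  classical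
  let Ω := {T : Subgroup G // Good q V S T}
  have : Finite (Subgroup G) := inferInstance
  have := c.comm_V
  have hmemV : ∀ g : G, g ∈ Subgroup.normalizer (V : Set G) := fun g =>
    c.le_normalizer_V ⊤ (Subgroup.mem_top g)
  obtain ⟨T₀, hT₀⟩ : ∃ T, Good q V S T := by
    by_contra hnone
    push Not at hnone
    obtain ⟨v, hv, hv1⟩ : ∃ v ∈ V, v ≠ 1 := by
      by_contra h
      push Not at h
      refine c.V_inf_R0_ne_bot ((Subgroup.eq_bot_iff_forall _).mpr fun x hx => h x hx.1)
    exact hv1 (congrArg Subtype.val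
      (c.eq_one_of_proj (x := ⟨v, hv⟩) fun T hT => absurd hT (hnone T)))
  letI act : MulAction P₁ Ω :=
    { smul := fun u T => ⟨T.1.map (MulAut.conj (u : G)).toMonoidHom,
        good_conj (hmemV _) (c.P_S u.2) T.2⟩
      one_smul := fun T => Subtype.ext (map_conj_one T.1)
      mul_smul := fun u u' T => Subtype.ext (map_conj_mul (u : G) u' T.1) }
  have hrp : Nat.card R ≠ p := fun h => by
    have := OddUniq.dvd_card_of_le c.P_ne_bot c.P_p le_rfl
    exact hp.out.one_lt.ne' (Nat.eq_one_of_dvd_coprimes (c.cop_R c.P_le) (h ▸ dvd_rfl) this)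
  by_cases hfixed : ∃ T, Good q V S T ∧ R ≤ Subgroup.normalizer (T : Set G)
  · obtain ⟨T, hT, hRT⟩ := hfixed
    -- the `P₁`-orbit of `T` is everything
    have hall : ∀ T', Good q V S T' → ∃ u ∈ P₁, T.map (MulAut.conj u).toMonoidHom = T' := by
      intro T' hT'
      refine c.good_transitive {X | ∃ u ∈ P₁, T.map (MulAut.conj u).toMonoidHom = X} ?_
        ⟨T, 1, one_mem _, map_conj_one T⟩ ?_ T' hT'
      · rintro _ ⟨u, hu, rfl⟩
        exact good_conj (hmemV u) (c.P_S hu) hT
      · rintro g hg _ ⟨u, hu, rfl⟩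
        obtain ⟨a, ha, x, hx, rfl⟩ := (Coprime.mem_sup_iff c.R_P).mp hg
        refine ⟨a * (x * u * x⁻¹), mul_mem ha ((Subgroup.mem_normalizer_iff.mp (c.R_P hx) u).mp hu), ?_⟩
        rw [← map_conj_mul (a * x) u, show a * x * u = a * (x * u * x⁻¹) * x by group,
          map_conj_mul _ x, map_conj_eq_iff.mpr (hRT hx)]
    by_cases honly : ∀ T', Good q V S T' → T' = T
    · -- `T` is normal, hence trivial
      have hTP : P₁ ≤ Subgroup.normalizer (T : Set G) := fun u hu =>
        map_conj_eq_iff.mp (honly _ (good_conj (hmemV u) (c.P_S hu) hT))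
      have hbot : T = ⊥ := by
        by_contra h1
        exact hT.ne (c.V_inf_centralizer_eq_bot hT.le (c.mem_normalizer_fix hT.le) hTP hRT h1)
      have hcard : Nat.card S = q := by
        rw [← hT.idx, hbot, Subgroup.relIndex_bot_left]
      exact c.commutator_P_R_le (isCyclic_of_prime_card hcard)
    push Not at honly
    obtain ⟨T₁, hT₁, hne⟩ := honly
    have hR₁ : ¬ R ≤ Subgroup.normalizer (T₁ : Set G) := fun h => hne (by
      obtain ⟨u, hu, rfl⟩ := hall T₁ hT₁
      exact c.fixed_unique hRT hu h)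
    let f : Option R → Ω := fun o => o.elim ⟨T, hT⟩ fun x =>
      ⟨T₁.map (MulAut.conj (x : G)).toMonoidHom, good_conj (hmemV _) (c.R_S x.2) hT₁⟩
    have hTx : ∀ x : R, T₁.map (MulAut.conj (x : G)).toMonoidHom ≠ T := fun x h => hne (by
      rw [← map_conj_eq_iff.mpr (inv_mem (hRT x.2)), ← h, ← map_conj_mul, inv_mul_cancel,
        map_conj_one])
    have hf : Function.Bijective f := by
      refine ⟨?_, fun X => ?_⟩
      · rintro (_ | x) (_ | y) hxy
        · rfl
        · exact absurd (congrArg Subtype.val hxy).symm (hTx y)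
        · exact absurd (congrArg Subtype.val hxy) (hTx x)
        · have h : T₁.map (MulAut.conj (x : G)).toMonoidHom =
              T₁.map (MulAut.conj (y : G)).toMonoidHom := congrArg Subtype.val hxy
          have h2 : ((y : G)⁻¹ * x) = 1 := c.eq_one_of_mem_R (mul_mem (inv_mem y.2) x.2)
            (map_conj_eq_iff.mp (by rw [map_conj_mul, h, ← map_conj_mul, inv_mul_cancel,
              map_conj_one])) hR₁
          exact congrArg some (Subtype.ext (inv_mul_eq_one.mp h2).symm)
      · by_cases hRX : R ≤ Subgroup.normalizer (X.1 : Set G)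
        · refine ⟨none, Subtype.ext ?_⟩
          obtain ⟨u, hu, he⟩ := hall X.1 X.2
          show T = X.1
          rw [← he]
          exact (c.fixed_unique hRT hu (he.symm ▸ hRX)).symm
        · obtain ⟨x, hx, he⟩ := c.regular_conj hT₁ X.2 hR₁ hRX
          exact ⟨some ⟨x, hx⟩, Subtype.ext he.symm⟩
    have hcard : Nat.card Ω = Nat.card R + 1 := by
      rw [← Nat.card_congr (Equiv.ofBijective f hf), Finite.card_option]
    have horb : MulAction.orbit P₁ (⟨T, hT⟩ : Ω) = Set.univ :=
      Set.eq_univ_of_forall fun X => by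
        obtain ⟨u, hu, he⟩ := hall X.1 X.2
        exact ⟨⟨u, hu⟩, Subtype.ext he⟩
    obtain ⟨n, hn⟩ := c.P_p.card_orbit (⟨T, hT⟩ : Ω)
    rw [horb, Nat.card_univ, hcard] at hn
    have hodd : Odd (p ^ n) := (hp.out.odd_of_ne_two c.p_odd).pow
    rw [← hn] at hodd
    exact Nat.not_odd_iff_even.mpr (c.R_odd.add_one) hodd
  push Not at hfixed
  let f : R → Ω := fun x =>
    ⟨T₀.map (MulAut.conj (x : G)).toMonoidHom, good_conj (hmemV _) (c.R_S x.2) hT₀⟩
  have hf : Function.Bijective f := by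
    refine ⟨fun x y hxy => ?_, fun X => ?_⟩
    · have h : T₀.map (MulAut.conj (x : G)).toMonoidHom =
          T₀.map (MulAut.conj (y : G)).toMonoidHom := congrArg Subtype.val hxy
      have h2 : ((y : G)⁻¹ * x) = 1 := c.eq_one_of_mem_R (mul_mem (inv_mem y.2) x.2)
        (map_conj_eq_iff.mp (by rw [map_conj_mul, h, ← map_conj_mul, inv_mul_cancel,
          map_conj_one])) (hfixed T₀ hT₀)
      exact Subtype.ext (inv_mul_eq_one.mp h2).symm
    · obtain ⟨x, hx, he⟩ := c.regular_conj hT₀ X.2 (hfixed T₀ hT₀) (hfixed X.1 X.2)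
      exact ⟨⟨x, hx⟩, Subtype.ext he.symm⟩
  have hcard : Nat.card Ω = Nat.card R := (Nat.card_congr (Equiv.ofBijective f hf)).symm
  obtain ⟨⟨T, hT⟩, hTfix⟩ := c.P_p.nonempty_fixed_point_of_prime_not_dvd_card Ω (by
    rw [hcard]
    exact fun hd => hrp ((Nat.prime_dvd_prime_iff_eq hp.out c.R_prime).mp hd).symm)
  have hTP : P₁ ≤ Subgroup.normalizer (T : Set G) := fun u hu =>
    map_conj_eq_iff.mp (congrArg Subtype.val (hTfix ⟨u, hu⟩))
  have hcyc := c.regular_cyclic hT (hfixed T hT)
  have hW : S ⊔ P₁ ≤ Subgroup.normalizer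
      ((V ⊓ Subgroup.centralizer (T : Set G) : Subgroup G) : Set G) :=
    Signalizer.le_normalizer_inf (c.le_normalizer_V _)
      (normalizes_centralizer (sup_le (c.mem_normalizer_fix hT.le) hTP))
  have h1 : S ≤ Subgroup.centralizer
      ((V ⊓ Subgroup.centralizer (T : Set G) : Subgroup G) : Set G) := by
    conv_lhs => rw [← c.comm_SP]
    exact (Subgroup.commutator_mono le_sup_left le_sup_right).trans
      (OddUniq.commutator_le_centralizer_cyclic hcyc hW)
  refine hT.ne (le_bot_iff.mp ?_)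
  rw [← c.V_inf_centralizer_S]
  exact le_inf inf_le_left (Subgroup.le_centralizer_iff.mp h1)

end Config

end Cfsg.Agent.PLengthComm
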