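import Cfsg.Agent.Lib.OddOrder.PrimeAction
import Cfsg.Agent.Lib.OddOrder.UniqueBasic
import Cfsg.Agent.Lib.HallHigman.PrimeOrderGroup
import Cfsg.Agent.Lib.Coprime.Generation
import Cfsg.Agent.Lib.Coprime.Frattini
import Cfsg.Agent.Lib.PGroup.Basic

/-!
Bender-Glauberman 3.7 (helper38): if a group `R` of prime order acts coprimely on the solvable
group `K` of odd order and fixes only `1` in `F(K)` then `[K, R] ≤ F(K)`.
Main result: `commutator_le_fittingOf`.
-/

set_option autoImplicit false

namespace Cfsg.Agent.PrimeFitting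

open Cfsg.Agent.Coprime
open scoped commutatorElement

variable {G : Type*} [Group G] [Finite G]

/-- `[S, R]` centralises `O_p(K)` for an invariant `q`-subgroup `S`, `q ≠ p`. -/
theorem commutator_le_centralizer_pCore {p q r : ℕ} [hp : Fact p.Prime] [hq : Fact q.Prime]
    [hr : Fact r.Prime] (hpq : p ≠ q) {K R S : Subgroup G} [K.Normal]
    (hodd : Odd (Nat.card K)) (hR : Nat.card R = r)
    (hcop : (Nat.card K).Coprime (Nat.card R)) (hSK : S ≤ K) (hS : IsPGroup q S)
    (hRS : R ≤ Subgroup.normalizer (S : Set G))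
    (hfix : fittingOf K ⊓ Subgroup.centralizer (R : Set G) = ⊥) :
    ⁅R, S⁆ ≤ Subgroup.centralizer (pCoreOf p K : Set G) := by
  classical
  have hRS' : ⁅R, S⁆ ≤ S := Subgroup.le_normalizer_iff_commutator_le_right.mp hRS
  set V := pCoreOf p K with hVdef
  have hVn : V.Normal := Cores.map_subtype_normal_of_characteristic K _
  have hVp : IsPGroup p V := OddUniq.isPGroup_pCoreOf p K
  have hVK : V ≤ K := OddUniq.pCoreOf_le p K
  by_cases hS1 : S = ⊥
  · rw [hS1, Subgroup.commutator_bot_right]; exact bot_le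
  by_cases hV1 : V = ⊥
  · intro x _
    rw [hV1, Subgroup.mem_centralizer_iff]
    intro y hy
    rw [Subgroup.mem_bot.mp hy, one_mul, mul_one]
  have hne : ∀ {l : ℕ} {X : Subgroup G}, l.Prime → X ≤ K → IsPGroup l X → X ≠ ⊥ → l ≠ r := by
    intro l X hl hXK hX hX1 h
    subst h
    have h1 := OddUniq.dvd_card_of_le (hq := hr) hX1 hX hXK
    exact hl.one_lt.ne' (Nat.eq_one_of_dvd_coprimes hcop h1 (hR ▸ dvd_rfl))
  have hq2 : q ≠ 2 := by
    rintro rfl
    exact Nat.not_even_iff_odd.mpr hodd
      (even_iff_two_dvd.mpr (OddUniq.dvd_card_of_le hS1 hS hSK))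
  set Φ := (frattini V).map V.subtype with hΦdef
  have : Φ.Normal := Cores.map_subtype_normal_of_characteristic V _
  have hΦV : Φ ≤ V := Subgroup.map_subtype_le _
  set f := QuotientGroup.mk' Φ with hf
  have hnV : ∀ X : Subgroup G, X ≤ Subgroup.normalizer (V : Set G) := fun X => by
    rw [Subgroup.normalizer_eq_top_iff.mpr hVn]; exact le_top
  have hRΦ : Nat.card (R.map f) = r := by
    rw [← hR, ← Subgroup.relIndex_ker, QuotientGroup.ker_mk', ← Subgroup.inf_relIndex_left,
      Coprime.inf_eq_bot (hcop.symm.coprime_dvd_right (Subgroup.card_dvd_of_le (hΦV.trans hVK))),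
      Subgroup.relIndex_bot_left]
  have hVe : IsElementaryAbelian p (V.map f) := by
    refine ⟨⟨⟨fun a b => ?_⟩⟩, fun a ha => ?_⟩
    · obtain ⟨x, hx, hxa⟩ := a.2
      obtain ⟨y, hy, hyb⟩ := b.2
      refine Subtype.ext ?_
      rw [Subgroup.coe_mul, Subgroup.coe_mul, ← hxa, ← hyb]
      refine commutatorElement_eq_one_iff_mul_comm.mp ?_
      rw [← map_commutatorElement]
      exact (QuotientGroup.eq_one_iff _).mpr
        ⟨⁅(⟨x, hx⟩ : V), ⟨y, hy⟩⁆, PGroup.commutatorElement_mem_frattini hVp _ _, rfl⟩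
    · obtain ⟨x, hx, rfl⟩ := ha
      rw [← map_pow]
      exact (QuotientGroup.eq_one_iff _).mpr
        ⟨(⟨x, hx⟩ : V) ^ p, PGroup.pow_mem_frattini hVp _, rfl⟩
  have hfix' : V.map f ⊓ Subgroup.centralizer (R.map f : Set (G ⧸ Φ)) = ⊥ := by
    rw [eq_bot_iff]
    refine (OddMax.map_inf_centralizer_le hΦV (hnV R)
      (hcop.symm.coprime_dvd_right (Subgroup.card_dvd_of_le hVK))
      (Or.inr (Solvable.isSolvable_of_isPGroup hVp))).trans ?_
    rw [Subgroup.map_le_iff_le_comap]
    refine le_trans ?_ bot_le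
    rw [← hfix]
    exact inf_le_inf_right _ (OddUniq.pCoreOf_le_fittingOf p K)
  have h1 := HallHigman.commutator_le_centralizer_of_fpf hp.out hpq (hne hp.out hVK hVp hV1)
    (hne hq.out hSK hS hS1) hq2 hRΦ (hS.map f) hVe
    ((Subgroup.map_mono (hnV R)).trans (Subgroup.le_normalizer_map f))
    ((Subgroup.map_mono (hnV S)).trans (Subgroup.le_normalizer_map f))
    ((Subgroup.map_mono hRS).trans (Subgroup.le_normalizer_map f)) hfix'
  refine Coprime.le_centralizer_of_forall_mem_frattini (hnV _) ?_ fun a ha v hv => ?_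
  · obtain ⟨i, hi⟩ := (hS.to_le hRS').exists_card_eq
    obtain ⟨j, hj⟩ := (hVp.to_subgroup (frattini V)).exists_card_eq
    rw [hi, hj]
    exact Nat.coprime_pow_primes _ _ hq.out hp.out hpq.symm
  · rw [← hΦdef, ← QuotientGroup.eq_one_iff (N := Φ)]
    have h2 := h1 (show f a ∈ ⁅R.map f, S.map f⁆ by
      rw [← Subgroup.map_commutator]; exact ⟨a, ha, rfl⟩)
    have h3 := Subgroup.mem_centralizer_iff.mp h2 (f v) ⟨v, hv, rfl⟩
    change f (a * v * a⁻¹ * v⁻¹) = 1
    rw [map_mul, map_mul, map_mul, ← h3, map_inv, map_inv, mul_inv_cancel_right, mul_inv_cancel]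

/-- A `q`-subgroup of `K` centralising all `O_p(K)`, `p ≠ q`, and lying in a normal subgroup which is
a `q`-group modulo `F(K)`, lies in `F(K)`. -/
theorem le_fittingOf_of_centralizes {q : ℕ} [hq : Fact q.Prime] {K N S : Subgroup G} [K.Normal]
    [N.Normal] (hNK : N ≤ K) (hN : ∀ x ∈ N, ∃ k, x ^ q ^ k ∈ fittingOf K) (hSN : S ≤ N)
    (hS : ∀ p : ℕ, p.Prime → p ≠ q → S ≤ Subgroup.centralizer (pCoreOf p K : Set G)) :
    S ≤ fittingOf K := by
  classical
  set D : Subgroup G :=
    N ⊓ ⨅ (p : ℕ) (_ : p.Prime ∧ p ≠ q), Subgroup.centralizer (pCoreOf p K : Set G) with hD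
  refine le_trans (le_inf hSN (le_iInf₂ fun p h => hS p h.1 h.2)) (?_ : D ≤ fittingOf K)
  have hDn : D.Normal := by
    have : ∀ p : ℕ, (⨅ (_ : p.Prime ∧ p ≠ q),
        Subgroup.centralizer (pCoreOf p K : Set G)).Normal := fun p => by
      have : (pCoreOf p K).Normal := Cores.map_subtype_normal_of_characteristic K _
      exact Subgroup.normal_iInf_normal fun _ => Subgroup.normal_centralizer
    have h2 := Subgroup.normal_iInf_normal this
    exact Subgroup.normal_inf_normal _ _
  refine OddUniq.le_fittingOf (inf_le_left.trans hNK)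
    ((Subgroup.normalizer_eq_top_iff.mpr hDn).symm ▸ le_top) ?_
  refine Group.of_quotient_center_nilpotent (IsPGroup.isNilpotent (p := q) ?_)
  intro z
  induction z using QuotientGroup.induction_on with
  | _ x =>
    obtain ⟨k, hk⟩ := hN x (Subgroup.mem_inf.mp x.2).1
    set y : G := (x : G) ^ q ^ k
    set j := (orderOf y).factorization q
    refine ⟨k + j, ?_⟩
    rw [← QuotientGroup.mk_pow, QuotientGroup.eq_one_iff, Subgroup.mem_center_iff]
    intro d
    refine Subtype.ext ?_
    have hpow : ((x ^ q ^ (k + j) : D) : G) = y ^ q ^ j := by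
      rw [SubgroupClass.coe_pow, pow_add, pow_mul]
    rw [Subgroup.coe_mul, Subgroup.coe_mul, hpow]
    have hy : Subgroup.zpowers (y ^ q ^ j) ≤ Subgroup.centralizer ({(d : G)} : Set G) := by
      refine Coprime.le_of_invariant_sylow_le (A := ⊥) bot_le (by simp) (Or.inl inferInstance)
        fun l Q hl hQ hQl _ => ?_
      have := Fact.mk hl
      by_cases hQ1 : Q = ⊥
      · rw [hQ1]; exact bot_le
      have hlq : l ≠ q := fun h => by
        subst h
        have h1 : l ∣ orderOf (y ^ l ^ j) := by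
          rw [← Nat.card_zpowers]; exact OddUniq.dvd_card_of_le hQ1 hQl hQ
        rw [orderOf_pow_of_dvd (pow_ne_zero _ hl.ne_zero) (Nat.ordProj_dvd _ l)] at h1
        exact hl.one_lt.ne' (Nat.eq_one_of_dvd_coprimes
          (Nat.coprime_ordCompl hl (orderOf_pos y).ne') dvd_rfl h1)
      have hQK : Q ≤ pCoreOf l K := OddUniq.le_pCoreOf_of_le_fittingOf
        (hQ.trans (Subgroup.zpowers_le.mpr (pow_mem hk _))) hQl
      refine hQK.trans fun w hw => Subgroup.mem_centralizer_singleton_iff.mpr ?_
      have hd : (d : G) ∈ Subgroup.centralizer (pCoreOf l K : Set G) :=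
        Subgroup.mem_iInf.mp (Subgroup.mem_iInf.mp (Subgroup.mem_inf.mp d.2).2 l) ⟨hl, hlq⟩
      exact Subgroup.mem_centralizer_iff.mp hd w hw
    exact (Subgroup.mem_centralizer_singleton_iff.mp (hy (Subgroup.mem_zpowers _))).symm

/-- Bender-Glauberman 3.7 for a group of prime order. -/
theorem commutator_le_fittingOf {r : ℕ} [hr : Fact r.Prime] [Group.IsSolvable G]
    {K R : Subgroup G} [hKn : K.Normal] (hodd : Odd (Nat.card K))
    (hR : Nat.card R = r) (hcop : (Nat.card K).Coprime (Nat.card R))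
    (hfix : fittingOf K ⊓ Subgroup.centralizer (R : Set G) = ⊥) :
    ⁅K, R⁆ ≤ fittingOf K := by
  classical
  set F := fittingOf K with hFdef
  have hFn : F.Normal := Cores.map_subtype_normal_of_characteristic K _
  have hFK : F ≤ K := OddUniq.fittingOf_le K
  set g := QuotientGroup.mk' F with hg
  have hkg : g.ker = F := QuotientGroup.ker_mk' F
  set Kb := K.map g with hKb
  have hKbn : Kb.Normal := hKn.map g (QuotientGroup.mk'_surjective F)
  set Mb := fittingOf Kb with hMb
  have hMbn : Mb.Normal := Cores.map_subtype_normal_of_characteristic Kb _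
  set M := Mb.comap g with hM
  have hMn : M.Normal := Subgroup.Normal.comap hMbn g
  have hMK : M ≤ K := by
    refine (Subgroup.comap_mono (OddUniq.fittingOf_le Kb)).trans (le_of_eq ?_)
    rw [hKb, Subgroup.comap_map_eq_self (hkg.le.trans hFK)]
  set Rb := R.map g with hRb
  have hnorm : ∀ (N : Subgroup G), N.Normal → R ≤ Subgroup.normalizer (N : Set G) := fun N hN => by
    rw [Subgroup.normalizer_eq_top_iff.mpr hN]; exact le_top
  -- `R` centralises `F(K/F)`
  have hcentM : Mb ≤ Subgroup.centralizer (Rb : Set (G ⧸ F)) := by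
    have hW : M ≤ (Subgroup.centralizer (Rb : Set (G ⧸ F))).comap g := by
      refine Coprime.le_of_invariant_sylow_le (hnorm M hMn)
        (hcop.symm.coprime_dvd_right (Subgroup.card_dvd_of_le hMK)) (Or.inr inferInstance)
        fun q S hq hSM hS hRS => ?_
      have := Fact.mk hq
      have hS0 : ⁅R, S⁆ ≤ S := Subgroup.le_normalizer_iff_commutator_le_right.mp hRS
      set N := (pCoreOf q Kb).comap g with hNdef
      have hNn : N.Normal :=
        Subgroup.Normal.comap (Cores.map_subtype_normal_of_characteristic Kb _) g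
      have hNK : N ≤ K := by
        refine (Subgroup.comap_mono (OddUniq.pCoreOf_le q Kb)).trans (le_of_eq ?_)
        rw [hKb, Subgroup.comap_map_eq_self (hkg.le.trans hFK)]
      have hkey : ⁅R, S⁆ ≤ F := by
        refine le_fittingOf_of_centralizes (q := q) (N := N) hNK (fun x hx => ?_) ?_
          fun p hp hpq => ?_
        · obtain ⟨k, hk⟩ := OddUniq.isPGroup_pCoreOf q Kb ⟨g x, hx⟩
          exact ⟨k, (QuotientGroup.eq_one_iff _).mp
            ((map_pow g x _).trans (congrArg Subtype.val hk))⟩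
        · refine hS0.trans (Subgroup.map_le_iff_le_comap.mp ?_)
          exact OddUniq.le_pCoreOf_of_le_fittingOf (Subgroup.map_le_iff_le_comap.mpr hSM)
            (hS.map g)
        · have := Fact.mk hp
          exact commutator_le_centralizer_pCore (r := r) hpq hodd hR hcop (hSM.trans hMK) hS hRS
            hfix
      rw [← Subgroup.map_le_iff_le_comap, Subgroup.le_centralizer_iff,
        ← Subgroup.commutator_eq_bot_iff_le_centralizer, ← Subgroup.map_commutator,
        Subgroup.map_eq_bot_iff, hkg]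
      exact hkey
    have h := Subgroup.map_le_iff_le_comap.mpr hW
    rwa [hM, Subgroup.map_comap_eq_self_of_surjective (QuotientGroup.mk'_surjective F)] at h
  have hC : ⁅Kb, Rb⁆ ≤ Mb := by
    have : (Subgroup.centralizer (Mb : Set (G ⧸ F))).Normal := Subgroup.normal_centralizer
    refine le_trans (le_inf (Subgroup.commutator_le_left Kb Rb) ?_)
      (OddUniq.inf_centralizer_fittingOf_le inferInstance)
    exact (Subgroup.commutator_mono le_rfl (Subgroup.le_centralizer_iff.mp hcentM)).trans
      (Subgroup.commutator_le_right _ _)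
  have h3 : ⁅⁅Kb, Rb⁆, Rb⁆ = ⊥ :=
    Subgroup.commutator_eq_bot_iff_le_centralizer.mpr (hC.trans hcentM)
  rw [← Subgroup.map_commutator, ← Subgroup.map_commutator,
    Coprime.commutator_commutator_eq (hnorm K hKn) hcop.symm (Or.inr inferInstance),
    Subgroup.map_eq_bot_iff, hkg] at h3
  exact h3

end Cfsg.Agent.PrimeFitting
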