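import Cfsg.Agent.Lib.OddOrder.Sec15Hall

/-!
Bender-Glauberman section 15 modulo `Sec15Facts`.
* `fitting_hall_chain` (statement 1355), `second_derived_le_fitting`, `fitting_eq`,
  `fitting_le_commutator` (1356), `fcore_ne_ti` (1357), `type_p2_facts` (1372),
  `fcore_ne_statement` (1437); `kstar_prime` in `Decomp` is 1373.
-/

set_option autoImplicit false

namespace Cfsg.Agent.OddMax

open scoped Pointwise

universe u

variable {G : Type u} [Group G] [Finite G] (hG : IsMinSimpleOddOrder G) (F : Sec15Facts G)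
  {M : Subgroup G} (hM : IsCoatom M)
include hG F hM

omit hG F hM in
theorem image_commutator_nilpotent {A : Subgroup G} (hA : A ≤ M) (hAn : Group.IsNilpotent A)
    (h : ⁅M, M⁆ ≤ A ⊔ fittingHallOf M) :
    Group.IsNilpotent ↥((commutator ↥M).map (QuotientGroup.mk' (fittingHall ↥M))) := by
  set f := QuotientGroup.mk' (fittingHall ↥M) with hf
  have := hAn
  have hAM : Group.IsNilpotent (A.subgroupOf M) :=
    Group.nilpotent_of_mulEquiv (Subgroup.subgroupOfEquivOfLe hA).symm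
  refine Cores.isNilpotent_of_le ?_ (Cores.isNilpotent_map f hAM)
  have h1 : commutator M ≤ (A ⊔ fittingHallOf M).subgroupOf M := fun y hy => h (by
    rw [← Subgroup.map_subtype_commutator]
    exact ⟨y, hy, rfl⟩)
  have h2 : (fittingHallOf M).subgroupOf M = fittingHall M :=
    Subgroup.comap_map_eq_self_of_injective M.subtype_injective _
  refine (Subgroup.map_mono h1).trans ?_
  rw [Subgroup.subgroupOf_sup hA (OddTypeP.fittingHallOf_le M), Subgroup.map_sup, h2, hf,
    QuotientGroup.map_mk'_self, sup_bot_eq]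

omit hG F hM in
theorem le_normalizer_inf_centralizer {H : Subgroup G}
    (hn : M ≤ Subgroup.normalizer (H : Set G)) :
    M ≤ Subgroup.normalizer ((M ⊓ Subgroup.centralizer (H : Set G) : Subgroup G) : Set G) :=
  fun _ hm => Coprime.mem_normalizer_of_forall fun _ hy =>
    ⟨M.mul_mem (M.mul_mem hm hy.1) (M.inv_mem hm), centralizer_conj_mem (hn hm) hy.2⟩

omit hG in
theorem fittingHallOf_eq_or_ne :
    fittingHallOf M = sigmaCore M ∨
      ∃ K U, IsSigmaDecomposition M K U ∧ fittingHallOf M ≠ sigmaCore M := by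
  by_cases h : fittingHallOf M = sigmaCore M
  · exact Or.inl h
  · obtain ⟨K, U, hKU⟩ := exists_decomp F hM
    exact Or.inr ⟨K, U, hKU, h⟩

theorem fittingHallOf_ne_bot : fittingHallOf M ≠ ⊥ := by
  rcases fittingHallOf_eq_or_ne F hM with h | ⟨K, U, hKU, h⟩
  · obtain ⟨K, U, hKU⟩ := exists_decomp F hM
    rw [h]
    exact sigmaCore_ne_bot F hM hKU
  · obtain ⟨Q, -, hq, -, hKsQ, -, hQF, -⟩ := fcore_ne_structure hG F hM hKU h
    intro hb
    rw [hb] at hQF
    have h1 := Subgroup.card_dvd_of_le (hKsQ.trans hQF)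
    rw [Subgroup.card_bot] at h1
    exact hq.one_lt.ne' (Nat.dvd_one.1 h1)

omit hG in
theorem sigmaCore_le_commutator : sigmaCore M ≤ ⁅M, M⁆ := by
  obtain ⟨K, U, hKU⟩ := exists_decomp F hM
  have hc := decomp_compl hKU
  exact (F.s1426 M hM _ hc).symm.le.trans (Subgroup.commutator_mono (sigmaCore_le M) hc.1)

/-- Statement 1355. -/
theorem fitting_hall_chain :
    fittingHallOf M ≠ ⊥ ∧ fittingHallOf M ≤ sigmaCore M ∧ sigmaCore M ≤ ⁅M, M⁆ ∧ ⁅M, M⁆ < M ∧
      Group.IsNilpotent ↥((commutator ↥M).map (QuotientGroup.mk' (fittingHall ↥M))) := by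
  refine ⟨fittingHallOf_ne_bot hG F hM, fittingHallOf_le_sigmaCore hG hM,
    sigmaCore_le_commutator F hM, commutator_lt hG hM, ?_⟩
  rcases fittingHallOf_eq_or_ne F hM with h | ⟨K, U, hKU, h⟩
  · obtain ⟨E, hE⟩ := exists_compl_sigmaCore hG F.toSigFacts hM
    have := (F.s1420 M hM E hE).2.1
    refine image_commutator_nilpotent (A := ⁅E, E⁆)
      ((Subgroup.commutator_mono hE.1 hE.1).trans (commutator_lt hG hM).le)
      (Cores.isNilpotent_of_isMulCommutative _) ?_
    rw [h]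
    exact commutator_le_of_compl hE (le_normalizer_sigmaCore M)
  · obtain ⟨-, -, hMs, -⟩ := fcore_ne_basic hG F hM hKU h
    obtain ⟨Q, -, -, -, -, -, hQF, -, -, -, ⟨D, hD⟩, hall⟩ := fcore_ne_structure hG F hM hKU h
    refine image_commutator_nilpotent (A := D) (hD.2.1.trans (sigmaCore_le M)) (hall D hD).1 ?_
    rw [← hMs, ← compl_eq_sup hD, sup_comm]
    exact sup_le_sup_left hQF _

/-- Statement 1356, first part. -/
theorem second_derived_le_fitting : ⁅⁅M, M⁆, ⁅M, M⁆⁆ ≤ fittingOf M := by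
  have hle : ⁅⁅M, M⁆, ⁅M, M⁆⁆ ≤ M :=
    (Subgroup.commutator_mono (commutator_lt hG hM).le (commutator_lt hG hM).le).trans
      (commutator_lt hG hM).le
  have hnorm : M ≤ Subgroup.normalizer ((⁅⁅M, M⁆, ⁅M, M⁆⁆ : Subgroup G) : Set G) := by
    have hMM : M ≤ Subgroup.normalizer ((⁅M, M⁆ : Subgroup G) : Set G) :=
      Subgroup.normalizer_commutator_ge_right M M
    intro m hm
    refine Coprime.mem_normalizer_of_conj_eq ?_
    show (⁅⁅M, M⁆, ⁅M, M⁆⁆).map (MulAut.conj m).toMonoidHom = _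
    rw [Subgroup.map_commutator, show ⁅M, M⁆.map (MulAut.conj m).toMonoidHom = ⁅M, M⁆ from
      Coprime.conj_eq_of_mem_normalizer (hMM hm)]
  refine le_fittingOf hle hnorm ?_
  rcases fittingHallOf_eq_or_ne F hM with h | ⟨K, U, hKU, h⟩
  · obtain ⟨E, hE⟩ := exists_compl_sigmaCore hG F.toSigFacts hM
    have := (F.s1420 M hM E hE).2.1
    refine Cores.isNilpotent_of_le ?_ (h ▸ fittingHallOf_nilpotent M)
    have hEM : ⁅E, E⁆ ≤ M :=
      (Subgroup.commutator_mono hE.1 hE.1).trans (commutator_lt hG hM).le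
    have hc : IsComplIn ⁅E, E⁆ (sigmaCore M) (⁅E, E⁆ ⊔ sigmaCore M) := by
      refine ⟨le_sup_left, le_sup_right, ?_, fun m hm => ?_⟩
      · rw [eq_bot_iff, ← hE.2.2.1]
        refine inf_le_inf_right _ (Subgroup.commutator_le.2 fun a ha b hb => ?_)
        exact E.mul_mem (E.mul_mem (E.mul_mem ha hb) (E.inv_mem ha)) (E.inv_mem hb)
      · rw [sup_comm, Coprime.mem_sup_iff (hEM.trans (le_normalizer_sigmaCore M))] at hm
        obtain ⟨n, hn, e, he, rfl⟩ := hm
        exact ⟨e, he, e⁻¹ * n * e,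
          (Subgroup.mem_normalizer_iff''.1 (le_normalizer_sigmaCore M (hEM he)) n).1 hn, by group⟩
    have h1 := commutator_le_of_compl hE (le_normalizer_sigmaCore M)
    refine (Subgroup.commutator_mono h1 h1).trans ((commutator_le_of_compl hc ?_).trans ?_)
    · exact sup_le (hEM.trans (le_normalizer_sigmaCore M)) Subgroup.le_normalizer
    · refine sup_le ?_ le_rfl
      rw [Subgroup.commutator_eq_bot_iff_le_centralizer.2 fun a ha b hb =>
        congrArg Subtype.val (mul_comm' (⟨b, hb⟩ : ↥⁅E, E⁆) ⟨a, ha⟩)]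
      exact bot_le
  · obtain ⟨-, -, hMs, -⟩ := fcore_ne_basic hG F hM hKU h
    obtain ⟨Q, -, -, -, -, hQp, -, hQs, hMQ, -, ⟨D, hD⟩, hall⟩ := fcore_ne_structure hG F hM hKU h
    obtain ⟨hDn, hDD, -⟩ := hall D hD
    have := Fact.mk (kstar_prime hG F hM hKU (fcore_ne_basic hG F hM hKU h).2.1
      (fcore_ne_basic hG F hM hKU h).1)
    have hDD' : ⁅D, D⁆ ≤ D := Subgroup.commutator_le.2 fun a ha b hb =>
      D.mul_mem (D.mul_mem (D.mul_mem ha hb) (D.inv_mem ha)) (D.inv_mem hb)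
    refine Cores.isNilpotent_of_le ?_
      (nilpotent_sup_of_commute (Cores.isNilpotent_of_le hDD' hDn) hQp.isNilpotent hDD)
    rw [← hMs]
    exact commutator_le_of_compl (compl_symm hD) ((sigmaCore_le M).trans hMQ)

theorem centralizer_fittingHall_facts :
    Group.IsNilpotent ↥(M ⊓ Subgroup.centralizer (fittingHallOf M : Set G)) ∧
      ((kappa M).Nonempty → M ⊓ Subgroup.centralizer (fittingHallOf M : Set G) ≤ ⁅M, M⁆) := by
  obtain ⟨K₀, U₀, hKU₀⟩ := exists_decomp F hM
  rcases fittingHallOf_eq_or_ne F hM with h | ⟨K, U, hKU, h⟩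
  · rw [h]
    obtain ⟨X, hXc, hXt, hXC, heq⟩ := hall_centralizer hG F hM (le_refl (sigmaCore M))
      (sigmaCore_ne_bot F hM hKU₀) (by rw [Subgroup.relIndex_self]; exact Nat.coprime_one_right _)
    refine ⟨?_, fun hk => ?_⟩
    · rw [heq]
      refine nilpotent_sup_of_commute (Cores.isNilpotent_of_le inf_le_left
        (h ▸ fittingHallOf_nilpotent M)) (Cores.isNilpotent_of_isMulCommutative X) fun z hz x hx => ?_
      exact (Subgroup.mem_centralizer_iff.1 (hXC hx).2 z hz.1).symm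
    · rw [heq]
      refine sup_le (inf_le_left.trans (sigmaCore_le_commutator F hM)) fun x hx => ?_
      rw [(F.s1365 M hM K₀ U₀ hKU₀ ((kappa_nonempty_iff hKU₀).1 hk)).1]
      refine mem_of_coprime_relIndex
        ((F.s1352 M hM K₀ hKU₀.cyclic hKU₀.hall).2 U₀ hKU₀) (hXC hx).1 ?_
      rw [U_relIndex hKU₀]
      exact Nat.coprime_of_dvd fun p hp h1 h2 =>
        not_mem_kappa_of_tau2 (hXt p hp (h1.trans (Subgroup.orderOf_dvd_natCard X hx)))
          (hKU₀.hall.2.1 p hp h2)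
  · obtain ⟨-, hK1, hMs, hKc, -⟩ := fcore_ne_basic hG F hM hKU h
    obtain ⟨Q, hKp, hq, -, hKsQ, hQp, hQF, hQs, hMQ, -, ⟨D, hD⟩, hall⟩ :=
      fcore_ne_structure hG F hM hKU h
    obtain ⟨hDn, -, -, hlt, hcard, -⟩ := hall D hD
    set q := Nat.card ↥(sigmaCore M ⊓ Subgroup.centralizer (K : Set G)) with hqdef
    set C := M ⊓ Subgroup.centralizer (Q : Set G) with hC
    have hle : M ⊓ Subgroup.centralizer (fittingHallOf M : Set G) ≤ C :=
      inf_le_inf_left _ (Subgroup.centralizer_le hQF)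
    have hCs : C ≤ sigmaCore M := by
      intro y hy
      refine mem_of_coprime_relIndex (le_normalizer_sigmaCore M) hy.1 ?_
      rw [compl_relIndex_left hKc]
      refine ((hKp.coprime_iff_not_dvd).2 fun hd => ?_).symm
      obtain ⟨z, hz, hzo⟩ : ∃ z ∈ Subgroup.zpowers y, orderOf z = Nat.card K :=
        ⟨y ^ (orderOf y / Nat.card K), Subgroup.pow_mem _ (Subgroup.mem_zpowers y) _,
          orderOf_pow_orderOf_div (orderOf_pos y).ne' hd⟩
      have hzC : z ∈ C := Subgroup.zpowers_le.2 hy hz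
      have : Group.IsSolvable M := OddSigma.proper_solvable hG hM.1
      obtain ⟨m, hm⟩ := Solvable.exists_conj_ge_of_solvable (Solvable.isPiHall_subgroupOf hKU.hall)
        (U := Subgroup.zpowers (⟨z, hzC.1⟩ : M))
        (fun r hr hrd => hKU.hall.2.1 r hr (by
          rwa [Nat.card_zpowers, Subgroup.orderOf_mk, hzo] at hrd))
      have hk : (m : G)⁻¹ * z * m ∈ K := by
        have h := Coprime.mem_conj.1 (hm (Subgroup.mem_zpowers (⟨z, hzC.1⟩ : M)))
        exact h
      set k := (m : G)⁻¹ * z * m with hkdef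
      have hk1 : k ≠ 1 := fun e => by
        have h2 : z = 1 := by
          have h3 : (m : G) * k * (m : G)⁻¹ = 1 := by rw [e]; group
          rw [← h3, hkdef]; group
        rw [h2, orderOf_one] at hzo
        exact hKp.one_lt.ne hzo
      have hkQ : k ∈ Subgroup.centralizer (Q : Set G) := by
        have h := centralizer_conj_mem (hMQ (M.inv_mem m.2)) hzC.2
        rwa [inv_inv] at h
      have hQK : Q ≤ sigmaCore M ⊓ Subgroup.centralizer (K : Set G) := by
        rw [← F.s1430 M hM K hKU.hall hK1 k hk hk1]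
        exact fun u hu => ⟨hQs hu, Subgroup.mem_centralizer_singleton_iff.2
          (Subgroup.mem_centralizer_iff.1 hkQ u hu)⟩
      have h4 := Subgroup.card_dvd_of_le hQK
      rw [hcard, ← hqdef] at h4
      have h5 : q ^ 2 ∣ q := (pow_dvd_pow q hKp.two_le).trans ((dvd_mul_left _ _).trans h4)
      have h6 := Nat.le_of_dvd hq.pos h5
      nlinarith [hq.one_lt]
    refine ⟨Cores.isNilpotent_of_le hle ?_, fun _ => hle.trans (hCs.trans hMs.le)⟩
    -- `C ≤ Q D` is nilpotent
    have hnQ : (Q.subgroupOf M).Normal := Subgroup.normal_subgroupOf_of_le_normalizer hMQ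
    set φ := (QuotientGroup.mk' (Q.subgroupOf M)).comp (Subgroup.inclusion (inf_le_left : C ≤ M))
      with hφ
    have hDM : D ≤ M := hD.2.1.trans (sigmaCore_le M)
    have hrange : φ.range ≤ (D.subgroupOf M).map (QuotientGroup.mk' (Q.subgroupOf M)) := by
      rintro _ ⟨y, rfl⟩
      obtain ⟨u, hu, d, hd, e⟩ := hD.2.2.2 y (hCs y.2)
      refine ⟨⟨d, hDM hd⟩, hd, ?_⟩
      have huM : u ∈ M := sigmaCore_le M (hQs hu)
      have h1 : Subgroup.inclusion (inf_le_left : C ≤ M) y = ⟨u, huM⟩ * ⟨d, hDM hd⟩ :=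
        Subtype.ext e
      have h2 : QuotientGroup.mk' (Q.subgroupOf M) ⟨u, huM⟩ = 1 :=
        (QuotientGroup.eq_one_iff (N := Q.subgroupOf M) (⟨u, huM⟩ : M)).2 hu
      show _ = φ y
      rw [hφ, MonoidHom.comp_apply, h1, map_mul, h2, one_mul]
    have := hDn
    have hR : Group.IsNilpotent φ.range := Cores.isNilpotent_of_le hrange (Cores.isNilpotent_map _
      (Group.nilpotent_of_mulEquiv (Subgroup.subgroupOfEquivOfLe hDM).symm))
    refine Subgroup.isNilpotent_of_ker_le_center φ.rangeRestrict fun y hy => ?_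
    rw [MonoidHom.ker_rangeRestrict] at hy
    have hyQ : (y : G) ∈ Q :=
      (QuotientGroup.eq_one_iff (N := Q.subgroupOf M) _).1 (MonoidHom.mem_ker.1 hy)
    exact Subgroup.mem_center_iff.2 fun z => Subtype.ext
      ((Subgroup.mem_centralizer_iff.1 z.2.2 y hyQ).symm)

/-- Statement 1356, second part. -/
theorem fitting_eq :
    fittingOf M = (M ⊓ Subgroup.centralizer (fittingHallOf M : Set G)) ⊔ fittingHallOf M := by
  refine le_antisymm (fun f hf => ?_) (sup_le ?_ (fittingHallOf_le_fittingOf M))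
  · obtain ⟨a, b, ha, hb, hab, haπ, hbπ⟩ :=
      exists_pi_parts {p | p ∣ Nat.card (fittingHallOf M)} f
    have hfM := fittingOf_le M hf
    have haF : a ∈ fittingHallOf M := mem_of_coprime_relIndex (le_normalizer_fittingHallOf M)
      (Subgroup.zpowers_le.2 hfM ha) (Nat.coprime_of_dvd fun p hp h1 h2 =>
        hp.not_dvd_one ((fittingHallOf_coprime M) ▸ Nat.dvd_gcd (haπ p hp h1) h2))
    rw [← hab, sup_comm]
    refine Subgroup.mul_mem_sup haF ⟨Subgroup.zpowers_le.2 hfM hb, fun z hz => ?_⟩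
    exact OddSigma.commute_in_nilpotent (fittingOf_nilpotent M) (fittingHallOf_le_fittingOf M hz)
      (Subgroup.zpowers_le.2 hf hb) (Nat.coprime_of_dvd fun p hp h1 h2 =>
        hbπ p hp h2 (h1.trans (Subgroup.orderOf_dvd_natCard _ hz)))
  · exact le_fittingOf inf_le_left (le_normalizer_inf_centralizer (le_normalizer_fittingHallOf M))
      (centralizer_fittingHall_facts hG F hM).1

/-- Statement 1356, third part. -/
theorem fitting_le_commutator (h : (kappa M).Nonempty) : fittingOf M ≤ ⁅M, M⁆ := by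
  rw [fitting_eq hG F hM]
  exact sup_le ((centralizer_fittingHall_facts hG F hM).2 h)
    ((fittingHallOf_le_sigmaCore hG hM).trans (sigmaCore_le_commutator F hM))

theorem ti_of_commutator_ne (h40 : FittingTIFact G) {K U : Subgroup G} (hKU : IsSigmaDecomposition M K U)
    (h : ¬ (⁅M, M⁆ ≤ fittingOf M ∧ (K ≠ ⊥ → ⁅M, M⁆ = fittingOf M))) : IsTISubset (fittingOf M : Set G) := by
  intro g hg x hx hgx
  by_contra hx1
  have hgM : g ∉ M := fun hm => hg (le_normalizer_fittingOf M hm)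
  refine h (h40 M hM K U hKU g hgM fun hb => hx1 ?_)
  have h2 : g * x * g⁻¹ ∈ fittingOf M ⊓ MulAut.conj g • fittingOf M :=
    ⟨hgx, Coprime.conj_mem_conj.2 hx⟩
  rw [show MulAut.conj g • fittingOf M = (fittingOf M).map (MulAut.conj g).toMonoidHom from rfl,
    hb, Subgroup.mem_bot] at h2
  exact conj_eq_one_iff.1 h2

/-- Statement 1357. -/
theorem fcore_ne_ti (h40 : FittingTIFact G) {K U : Subgroup G} (hKU : IsSigmaDecomposition M K U)
    (hne : fittingHallOf M ≠ sigmaCore M) :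
    U = ⊥ ∧ IsTISubset (fittingOf M : Set G) ∧ (Nat.card K).Prime := by
  obtain ⟨hU, -, hMs, -⟩ := fcore_ne_basic hG F hM hKU hne
  obtain ⟨Q, hKp, -⟩ := fcore_ne_structure hG F hM hKU hne
  refine ⟨hU, ti_of_commutator_ne hG F hM h40 hKU (fun h => not_nilpotent_sigmaCore hG F hM hne ?_),
    hKp⟩
  exact Cores.isNilpotent_of_le (hMs.le.trans h.1) (fittingOf_nilpotent M)

/-- Statement 1372. -/
theorem type_p2_facts (h40 : FittingTIFact G) {K U : Subgroup G} (hKU : IsSigmaDecomposition M K U) (hK : K ≠ ⊥)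
    (hU : U ≠ ⊥) :
    (Nat.card K).Prime ∧ IsTISubset (fittingOf M : Set G) ∧ sigmaCore M ≤ fittingOf M := by
  obtain ⟨hn, hc⟩ := nilpotent_and_centralizer_of_U_ne F hM hKU hU
  refine ⟨card_K_prime hG F hM hKU hK hU, ti_of_commutator_ne hG F hM h40 hKU fun h' => ?_,
    le_fittingOf (sigmaCore_le M) (le_normalizer_sigmaCore M) hn⟩
  refine sigmaCore_ne_bot F hM hKU ?_
  rw [eq_bot_iff, ← hc]
  have h := h'.2 hK
  rw [(F.s1365 M hM K U hKU hK).1] at h
  refine le_inf le_rfl fun y hy u hu => ?_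
  exact OddSigma.commute_in_nilpotent (fittingOf_nilpotent M)
    ((h ▸ le_sup_left : U ≤ fittingOf M) hu) ((h ▸ le_sup_right : sigmaCore M ≤ fittingOf M) hy)
    (Nat.coprime_of_dvd fun p hp h1 h2 =>
      (U_primes F hM hKU hp (h1.trans (Subgroup.orderOf_dvd_natCard U hu))).1
        (pi_orderOf_of_mem (sigmaCore_pi M) hy p hp h2))

/-- Statement 1437. -/
theorem fcore_ne_statement {K U : Subgroup G} (hKU : IsSigmaDecomposition M K U)
    (hne : fittingHallOf M ≠ sigmaCore M) :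
    U = ⊥ ∧ sigmaCore M = ⁅M, M⁆ ∧ (Nat.card K).Prime ∧
      (Nat.card ↥(sigmaCore M ⊓ Subgroup.centralizer (K : Set G))).Prime ∧
      Nat.card ↥(sigmaCore M ⊓ Subgroup.centralizer (K : Set G)) ∣ Nat.card (fittingHallOf M) ∧
      Nat.card ↥(sigmaCore M ⊓ Subgroup.centralizer (K : Set G)) ∈ beta M ∧
      ∃ Q : Subgroup G, Q ≤ fittingHallOf M ∧ M ≤ Subgroup.normalizer (Q : Set G) ∧
        IsPGroup (Nat.card ↥(sigmaCore M ⊓ Subgroup.centralizer (K : Set G))) Q ∧
        ¬ Nat.card ↥(sigmaCore M ⊓ Subgroup.centralizer (K : Set G)) ∣ Q.relIndex (sigmaCore M) ∧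
        ∀ D : Subgroup G, IsComplIn Q D (sigmaCore M) →
          Group.IsNilpotent D ∧
          M ≤ Subgroup.normalizer ((Q ⊓ Subgroup.centralizer (D : Set G) : Subgroup G) : Set G) ∧
          Q ⊓ Subgroup.centralizer (D : Set G) < Q ∧
          Nat.card Q = Nat.card ↥(Q ⊓ Subgroup.centralizer (D : Set G)) *
            Nat.card ↥(sigmaCore M ⊓ Subgroup.centralizer (K : Set G)) ^ Nat.card K ∧
          (∀ a ∈ Q, ∀ b ∈ Q,
            a ^ Nat.card ↥(sigmaCore M ⊓ Subgroup.centralizer (K : Set G)) ∈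
              Q ⊓ Subgroup.centralizer (D : Set G) ∧
            a * b * a⁻¹ * b⁻¹ ∈ Q ⊓ Subgroup.centralizer (D : Set G)) ∧
          ∀ N : Subgroup G, Q ⊓ Subgroup.centralizer (D : Set G) < N → N < Q →
            ¬ M ≤ Subgroup.normalizer (N : Set G) := by
  obtain ⟨hU, -, hMs, -⟩ := fcore_ne_basic hG F hM hKU hne
  obtain ⟨Q, hKp, hq, hb, hKsQ, hQp, hQF, -, hMQ, hidx, -, hall⟩ :=
    fcore_ne_structure hG F hM hKU hne
  refine ⟨hU, hMs, hKp, hq, Subgroup.card_dvd_of_le (hKsQ.trans hQF), hb, Q, hQF, hMQ, hQp, hidx,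
    fun D hD => ?_⟩
  obtain ⟨h1, -, h3⟩ := hall D hD
  exact ⟨h1, h3⟩

end Cfsg.Agent.OddMax
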