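import Cfsg.Agent.Lib.OddOrder.Types
import Cfsg.Agent.Lib.OddOrder.Covering

/-!
Bender-Glauberman section 16: the sets `A(M)`, `A₀(M)` and Theorems I and II, modulo `Sec16Facts`.
* `typeA_eq`, `typeA1_eq`, `typeA0_cases`, `centralizer_le_of_sigmaA`, `centralizer_le_of_hat`
* `type_dichotomy` (statement 1385), `typeCore_facts` (1389), `complement_facts` (1390),
  `support_facts` (1391, given `FrobeniusFact`)
-/

set_option autoImplicit false

namespace Cfsg.Agent.OddMax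

open scoped Pointwise commutatorElement

universe u

section General

variable {G : Type u} [Group G] [Finite G]

/-- The part of statement 1376 used in Theorem II. -/
def FrobeniusFact (G : Type u) [Group G] [Finite G] : Prop :=
  ∀ M : Subgroup G, IsCoatom M → ∀ x : G, x ∈ sigmaCore M → x ≠ 1 →
    ¬ Subgroup.centralizer ({x} : Set G) ≤ M → ∀ N : Subgroup G, IsCoatom N →
    Subgroup.centralizer ({x} : Set G) ≤ N → (kappa N).Nonempty →
    ∃ E : Subgroup M, IsFrobeniusComplement E ∧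
      frobeniusKernel E = ((fittingHall M : Subgroup M) : Set M)

theorem normalizer_set_le_normalizer_closure (S : Set G) :
    Subgroup.normalizer S ≤ Subgroup.normalizer (Subgroup.closure S : Set G) := fun g hg =>
  Coprime.mem_normalizer_of_forall fun z hz => by
    induction hz using Subgroup.closure_induction with
    | mem z hz => exact Subgroup.subset_closure ((Subgroup.mem_set_normalizer_iff.1 hg z).1 hz)
    | one => simp
    | mul a b _ _ ha hb =>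
      rw [show g * (a * b) * g⁻¹ = g * a * g⁻¹ * (g * b * g⁻¹) by group]
      exact mul_mem ha hb
    | inv a _ ha =>
      rw [show g * a⁻¹ * g⁻¹ = (g * a * g⁻¹)⁻¹ by group]
      exact inv_mem ha

theorem le_set_normalizer {M : Subgroup G} {S : Set G}
    (h : ∀ m ∈ M, ∀ a ∈ S, m * a * m⁻¹ ∈ S) : M ≤ Subgroup.normalizer S := by
  intro m hm
  refine Subgroup.mem_set_normalizer_iff.2 fun a => ⟨h m hm a, fun ha => ?_⟩
  simpa [mul_assoc] using h m⁻¹ (inv_mem hm) _ ha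

end General

variable {G : Type u} [Group G] [Finite G] (hG : IsMinSimpleOddOrder G) (F : Sec16Facts G)
  {M K U : Subgroup G} (hM : IsCoatom M) (hKU : IsSigmaDecomposition M K U)
include hG F hM hKU

omit hG in
theorem sup_sigmaCore_normal : M ≤ Subgroup.normalizer ((U ⊔ sigmaCore M : Subgroup G) : Set G) :=
  (F.s1352 M hM K hKU.cyclic hKU.hall).2 U hKU

omit hG in
theorem sup_sigmaCore_coprime :
    (Nat.card ↥(U ⊔ sigmaCore M)).Coprime (Nat.card K) := by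
  rw [← compl_card (U_compl_sup F hM hKU)]
  refine Nat.coprime_of_dvd fun p hp h2 h3 => ?_
  have hk := hKU.hall.2.1 p hp h3
  rcases hp.dvd_mul.1 h2 with h4 | h4
  · exact (U_primes F.toSec15Facts hM hKU hp h4).2.1 hk
  · exact hk.2.2.1 (sigmaCore_pi M p hp h4)

theorem typeA_subset : typeA M ⊆ sigmaA M U \ {1} := by
  have hs : typeCore M = sigmaCore M := typeCore_eq hG F hM
  intro a ha
  unfold typeA at ha
  by_cases hK : K = ⊥
  · subst hK
    obtain ⟨-, -, hH⟩ := typeOne_basic hG F hM hKU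
    have hc := compl_eq_sup (compl_of_kappa_empty hKU)
    have hM'M : ⁅M, M⁆ ≤ M := (commutator_lt hG hM).le
    split_ifs at ha with h
    · obtain ⟨ha, ha1, x, hx, hx1, e⟩ := ha
      rw [hH] at hx
      exact ⟨⟨⟨ha, x, hx, hx1, e⟩, by rw [hc]; exact ha⟩, ha1⟩
    · obtain ⟨ha, ha1, x, hx, hx1, e⟩ := ha
      rw [hs] at hx
      exact ⟨⟨⟨hM'M ha, x, hx, hx1, e⟩, by rw [hc]; exact hM'M ha⟩, ha1⟩
  · obtain ⟨hM', hcompl, -⟩ := kappa_basic hG F hM hKU hK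
    rw [if_neg fun h => hK (K_eq_bot_of_typeI hG F hM hKU h)] at ha
    obtain ⟨ha, ha1, x, hx, hx1, e⟩ := ha
    rw [hs] at hx
    exact ⟨⟨⟨hcompl.1 ha, x, hx, hx1, e⟩, hM' ▸ ha⟩, ha1⟩

theorem typeA_eq (hI : K = ⊥ → IsOfTypeI M) : typeA M = sigmaA M U \ {1} := by
  refine Set.Subset.antisymm (typeA_subset hG F hM hKU) ?_
  rintro a ⟨⟨⟨ha, x, hx, hx1, e⟩, haN⟩, ha1⟩
  unfold typeA
  by_cases hK : K = ⊥
  · subst hK
    obtain ⟨-, -, hH⟩ := typeOne_basic hG F hM hKU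
    rw [if_pos (hI rfl)]
    exact ⟨ha, ha1, x, hH.symm ▸ hx, hx1, e⟩
  · obtain ⟨hM', -, -⟩ := kappa_basic hG F hM hKU hK
    rw [if_neg fun h => hK (K_eq_bot_of_typeI hG F hM hKU h)]
    exact ⟨hM'.symm ▸ haN, ha1, x, (typeCore_eq hG F hM).symm ▸ hx, hx1, e⟩

omit K U hKU in
theorem typeA1_eq : typeA1 M = (sigmaCore M : Set G) \ {1} := by
  rw [typeA1, typeCore_eq hG F hM]

theorem typeA_diff_eq (hI : K = ⊥ → IsOfTypeI M) :
    typeA M \ typeA1 M = sigmaA M U \ (sigmaCore M : Set G) := by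
  rw [typeA_eq hG F hM hKU hI, typeA1_eq hG F hM]
  ext a
  simp only [Set.mem_sdiff, Set.mem_singleton_iff, SetLike.mem_coe]
  constructor
  · rintro ⟨⟨h1, h2⟩, h3⟩
    exact ⟨h1, fun h => h3 ⟨h, h2⟩⟩
  · rintro ⟨h1, h2⟩
    exact ⟨⟨h1, fun e => h2 (e ▸ one_mem _)⟩, fun h => h2 h.1⟩

/-- The data `W₁`, `W₂` of type P are conjugate to `K`, `K*`. -/
theorem typeP_data_eq {W₁ U' W₂ : Subgroup G} (h : IsTypePWith M W₁ U' W₂) :
    ∃ m ∈ M, W₁ = MulAut.conj m • K ∧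
      W₂ = MulAut.conj m • (sigmaCore M ⊓ Subgroup.centralizer (K : Set G)) := by
  have hK := K_ne_of_typeP hG F hM hKU h
  obtain ⟨-, hcompl, -⟩ := kappa_basic hG F hM hKU hK
  have hWM := h.W₁_compl.2.1
  have hcard : Nat.card W₁ = Nat.card K :=
    Nat.eq_of_mul_eq_mul_left Nat.card_pos ((compl_card h.W₁_compl).trans (compl_card hcompl).symm)
  have : Group.IsSolvable M := OddSigma.proper_solvable hG hM.1
  obtain ⟨⟨m, hm⟩, hmW⟩ := Solvable.exists_conj_ge_of_solvable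
    (Solvable.isPiHall_subgroupOf hKU.hall) (U := W₁.subgroupOf M) (fun p hp hd => by
      rw [Cores.card_subgroupOf hWM, hcard] at hd
      exact hKU.hall.2.1 p hp hd)
  have hle : W₁ ≤ MulAut.conj m • K := fun w hw => by
    have h0 := Coprime.mem_conj.1 (hmW (show (⟨w, hWM hw⟩ : M) ∈ W₁.subgroupOf M from hw))
    exact Coprime.mem_conj.2 h0
  have heq : W₁ = MulAut.conj m • K :=
    Subgroup.eq_of_le_of_card_ge hle (by rw [Coprime.card_conj, hcard])
  refine ⟨m, hm, heq, ?_⟩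
  have hKU' := decomposition_conj hKU hm
  have hK' : MulAut.conj m • K ≠ ⊥ := heq ▸ h.W₁_ne
  obtain ⟨U'', hn, hKn, hc, -⟩ := exists_typeP_compl hG F hM hKU' hK'
  have hP' := isTypePWith_mk hG F hM hKU' hK' hn hKn hc
  obtain ⟨⟨x, hx⟩, hx1⟩ := Subgroup.ne_bot_iff_exists_ne_one.1 hK'
  have hx1' : x ≠ 1 := fun e => hx1 (Subtype.ext e)
  rw [← h.W₂_centralizer x (heq ▸ hx) hx1', hP'.W₂_centralizer x hx hx1']
  have hs : MulAut.conj m • sigmaCore M = sigmaCore M :=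
    Coprime.conj_eq_of_mem_normalizer (le_normalizer_sigmaCore M hm)
  ext y
  constructor
  · rintro ⟨hy, hyC⟩
    refine Coprime.mem_conj.2 ⟨Coprime.mem_conj.1 (hs.symm ▸ hy),
      Subgroup.mem_centralizer_iff.2 fun k hk => ?_⟩
    have e := Subgroup.mem_centralizer_iff.1 hyC (m * k * m⁻¹) (Coprime.conj_mem_conj.2 hk)
    calc k * (m⁻¹ * y * m) = m⁻¹ * (m * k * m⁻¹ * y) * m := by group
      _ = m⁻¹ * (y * (m * k * m⁻¹)) * m := by rw [e]
      _ = m⁻¹ * y * m * k := by group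
  · intro hy
    obtain ⟨hy1, hy2⟩ := Coprime.mem_conj.1 hy
    refine ⟨hs ▸ Coprime.mem_conj.2 hy1, Subgroup.mem_centralizer_iff.2 fun k hk => ?_⟩
    have e := Subgroup.mem_centralizer_iff.1 hy2 _ (Coprime.mem_conj.1 hk)
    calc k * y = m * (m⁻¹ * k * m * (m⁻¹ * y * m)) * m⁻¹ := by group
      _ = m * (m⁻¹ * y * m * (m⁻¹ * k * m)) * m⁻¹ := by rw [e]
      _ = y * k := by group

/-- Elements of `A₀(M)`. -/
theorem typeA0_cases {v : G} (hv : v ∈ typeA0 M) :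
    v ∈ typeA M ∨ (K ≠ ⊥ ∧ ∃ m ∈ M, ∃ w ∈ hatZ M K, v = m * w * m⁻¹) := by
  rcases hv with hv | ⟨-, W₁, U', W₂, hP, m, hm, w, hw, hw1, hw2, rfl⟩
  · exact Or.inl hv
  refine Or.inr ⟨K_ne_of_typeP hG F hM hKU hP, ?_⟩
  obtain ⟨n, hn, h1, h2⟩ := typeP_data_eq hG F hM hKU hP
  rw [h1, h2, ← Subgroup.smul_sup] at hw
  rw [h1] at hw1
  rw [h2] at hw2
  refine ⟨m * n, M.mul_mem hm hn, n⁻¹ * w * n, ⟨Coprime.mem_conj.1 hw, ?_⟩, by group⟩
  rintro (h | h)
  · exact hw1 (Coprime.mem_conj.2 h)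
  · exact hw2 (Coprime.mem_conj.2 h)

/-- An element of `A(M) ∖ M_σ` has centraliser in `M`, and a `τ₂(M)` part. -/
theorem centralizer_le_of_sigmaA {x : G} (hx : x ∈ sigmaA M U) (hxs : x ∉ sigmaCore M) :
    Subgroup.centralizer ({x} : Set G) ≤ M ∧ ∃ p : ℕ, p ∈ tau2 M := by
  obtain ⟨⟨hxM, y, hy, hy1, hc⟩, hxN⟩ := hx
  obtain ⟨a, b, ha, hb, hab, haπ, hbπ⟩ := exists_pi_parts (sigma M) x
  have hb1 : b ≠ 1 := by
    rintro rfl
    rw [mul_one] at hab
    exact hxs (hab ▸ mem_sigmaCore_of_sigma F.toSigFacts hM (Subgroup.zpowers_le.2 hxM ha) haπ)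
  obtain ⟨p, hp, hd, -⟩ := exists_prime_part hb1
  rcases F.s1432 M hM y hy hy1 b
    ⟨Subgroup.zpowers_le.2 hxM hb,
      Subgroup.zpowers_le.2 (Subgroup.mem_centralizer_singleton_iff.2 hc) hb⟩ hb1 hbπ with
    ⟨hk, -⟩ | ⟨hτ, -, hCb, -⟩
  · exfalso
    refine hp.not_dvd_one ((sup_sigmaCore_coprime F hM hKU) ▸ Nat.dvd_gcd
      (hd.trans (Subgroup.orderOf_dvd_natCard _ (Subgroup.zpowers_le.2 hxN hb))) ?_)
    have h1 := card_mul_relIndex (K_le hKU)
    have h2 : p ∣ Nat.card M := (hk p hp hd).2.1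
    rw [← h1] at h2
    exact (hp.dvd_mul.1 h2).resolve_right (hKU.hall.2.2 p hp (hk p hp hd))
  · exact ⟨(centralizer_le_of_mem_zpowers hb).trans ((centralizer_zpowers b).le.trans hCb),
      p, hτ p hp hd⟩

theorem hat_facts (hK : K ≠ ⊥) {w : G} (hw : w ∈ hatZ M K) :
    w ∈ M ∧ Subgroup.centralizer ({w} : Set G) ≤ M ∧ w ∉ U ⊔ sigmaCore M ∧
      (∀ g : G, g * w * g⁻¹ ∈ hatZ M K → g ∈ M) := by
  obtain ⟨hTI, hN⟩ := F.s1370 M hM K U hKU hK
  have hZM : K ⊔ (sigmaCore M ⊓ Subgroup.centralizer (K : Set G)) ≤ M :=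
    sup_le (K_le hKU) (inf_le_left.trans (sigmaCore_le M))
  have hw1 : w ≠ 1 := fun e => hw.2 (Or.inl (e ▸ one_mem K))
  have hg : ∀ g : G, g * w * g⁻¹ ∈ hatZ M K → g ∈ M := fun g hg => hZM (hN ▸ by
    by_contra hg'
    exact hw1 (hTI g hg' w hw hg))
  refine ⟨hZM hw.1, fun c hc => hg c ?_, fun hwN => ?_, hg⟩
  · rwa [Subgroup.mem_centralizer_singleton_iff.1 hc, mul_inv_cancel_right]
  · obtain ⟨hM', hcompl, -⟩ := kappa_basic hG F hM hKU hK
    have hKKs : K ≤ Subgroup.normalizer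
        ((sigmaCore M ⊓ Subgroup.centralizer (K : Set G) : Subgroup G) : Set G) :=
      fun k hk => Coprime.mem_normalizer_of_forall fun z hz => by
        rwa [Subgroup.mem_centralizer_iff.1 hz.2 k hk, mul_inv_cancel_right]
    obtain ⟨z, hz, k, hk, rfl⟩ := (Coprime.mem_sup_iff hKKs).1 (sup_comm K _ ▸ hw.1)
    have hk' : k ∈ ⁅M, M⁆ ⊓ K := by
      refine ⟨?_, hk⟩
      rw [hM']
      simpa using mul_mem (inv_mem (Subgroup.mem_sup_right hz.1 : z ∈ U ⊔ sigmaCore M)) hwN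
    rw [hcompl.2.2.1, Subgroup.mem_bot] at hk'
    exact hw.2 (Or.inr (by rw [hk', mul_one]; exact hz))

theorem typeA0_classes {v : G} (hv : v ∈ typeA M ∨ v ∈ typeA0 M) :
    v ∈ M ∧ v ≠ 1 ∧ (v ∈ sigmaCore M ∨ (v ∈ sigmaA M U ∧ v ∉ sigmaCore M) ∨
      (K ≠ ⊥ ∧ ∃ m ∈ M, ∃ w ∈ hatZ M K, v = m * w * m⁻¹)) := by
  have hA : ∀ a ∈ typeA M, a ∈ M ∧ a ≠ 1 ∧ (a ∈ sigmaCore M ∨
      (a ∈ sigmaA M U ∧ a ∉ sigmaCore M) ∨
      (K ≠ ⊥ ∧ ∃ m ∈ M, ∃ w ∈ hatZ M K, a = m * w * m⁻¹)) := by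
    intro a ha
    replace ha := typeA_subset hG F hM hKU ha
    refine ⟨ha.1.1.1, ha.2, ?_⟩
    by_cases h : a ∈ sigmaCore M
    · exact Or.inl h
    · exact Or.inr (Or.inl ⟨ha.1, h⟩)
  rcases hv with hv | hv
  · exact hA v hv
  rcases typeA0_cases hG F hM hKU hv with hv | ⟨hK, m, hm, w, hw, rfl⟩
  · exact hA v hv
  obtain ⟨hwM, -, hwN, -⟩ := hat_facts hG F hM hKU hK hw
  refine ⟨M.mul_mem (M.mul_mem hm hwM) (M.inv_mem hm), fun e => hwN ?_,
    Or.inr (Or.inr ⟨hK, m, hm, w, hw, rfl⟩)⟩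
  rw [conj_eq_one_iff.1 e]
  exact one_mem _

theorem centralizer_le_or_mem {v : G} (hv : v ∈ typeA M ∨ v ∈ typeA0 M) :
    Subgroup.centralizer ({v} : Set G) ≤ M ∨ v ∈ sigmaCore M := by
  obtain ⟨-, -, h⟩ := typeA0_classes hG F hM hKU hv
  rcases h with h | ⟨h1, h2⟩ | ⟨hK, m, hm, w, hw, rfl⟩
  · exact Or.inr h
  · exact Or.inl (centralizer_le_of_sigmaA hG F hM hKU h1 h2).1
  · refine Or.inl ?_
    rw [centralizer_conj, ← Solvable.conj_eq_self hm]
    exact (conj_le_conj m).2 (hat_facts hG F hM hKU hK hw).2.1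

/-- Fusion in `A₀(M)`. -/
theorem fusion_typeA0 {x g : G} (hx : x ∈ typeA M ∨ x ∈ typeA0 M)
    (hy : g * x * g⁻¹ ∈ typeA M ∨ g * x * g⁻¹ ∈ typeA0 M) :
    ∃ m ∈ M, m * x * m⁻¹ = g * x * g⁻¹ := by
  obtain ⟨hxM, hx1, hxc⟩ := typeA0_classes hG F hM hKU hx
  obtain ⟨hyM, hy1, hyc⟩ := typeA0_classes hG F hM hKU hy
  by_cases hxs : x ∈ sigmaCore M
  · exact exists_fusion hG F.toSigFacts hM hxs hx1 hyM
  by_cases hys : g * x * g⁻¹ ∈ sigmaCore M
  · obtain ⟨m, hm, he⟩ := exists_fusion hG F.toSigFacts hM hys hy1 (g := g⁻¹)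
      (by rw [show g⁻¹ * (g * x * g⁻¹) * g⁻¹⁻¹ = x by group]; exact hxM)
    refine ⟨m⁻¹, M.inv_mem hm, ?_⟩
    have h2 : m * (g * x * g⁻¹) * m⁻¹ = x := he.trans (by group)
    calc m⁻¹ * x * m⁻¹⁻¹ = m⁻¹ * (m * (g * x * g⁻¹) * m⁻¹) * m := by rw [h2, inv_inv]
      _ = g * x * g⁻¹ := by group
  -- only the classes outside `M_σ` are left
  have hconj : ∀ a : G, ∀ m ∈ M, a ∈ U ⊔ sigmaCore M → m * a * m⁻¹ ∈ U ⊔ sigmaCore M :=
    fun a m hm ha => (Subgroup.mem_normalizer_iff.1 (sup_sigmaCore_normal F hM hKU hm) a).1 ha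
  have horder : ∀ a b : G, b ∈ M → orderOf b = orderOf a → a ∈ U ⊔ sigmaCore M →
      b ∈ U ⊔ sigmaCore M := fun a b hb he ha =>
    mem_of_coprime_relIndex (sup_sigmaCore_normal F hM hKU) hb (by
      rw [U_relIndex hKU, he]
      exact (sup_sigmaCore_coprime F hM hKU).coprime_dvd_left
        (Subgroup.orderOf_dvd_natCard _ ha))
  have hord : orderOf (g * x * g⁻¹) = orderOf x := by
    simpa using orderOf_injective (MulAut.conj g).toMonoidHom (MulAut.conj g).injective x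
  rcases hxc.resolve_left hxs with ⟨hxA, -⟩ | ⟨hK, m, hm, w, hw, rfl⟩
  · rcases hyc.resolve_left hys with ⟨hyA, -⟩ | ⟨hK, n, hn, v, hv, hyv⟩
    · refine ⟨g, ?_, rfl⟩
      set S := sigmaA M U \ (sigmaCore M : Set G) with hS
      have hgN : g ∈ Subgroup.normalizer S := by
        by_contra hg'
        exact hx1 (F.s1362 M hM K U hKU g hg' x ⟨hxA, hxs⟩ ⟨hyA, hys⟩)
      have hSM : Subgroup.closure S ≤ M := (Subgroup.closure_le _).2 fun a ha => ha.1.1.1
      have hMS : M ≤ Subgroup.normalizer S := le_set_normalizer fun k hk a ha => by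
        refine ⟨⟨⟨M.mul_mem (M.mul_mem hk ha.1.1.1) (M.inv_mem hk), ?_⟩, hconj a k hk ha.1.2⟩,
          fun h => ha.2 ((Subgroup.mem_normalizer_iff.1 (le_normalizer_sigmaCore M hk) a).2 h)⟩
        obtain ⟨-, y, hy, hy1, hc⟩ := ha.1.1
        refine ⟨k * y * k⁻¹, (Subgroup.mem_normalizer_iff.1 (le_normalizer_sigmaCore M hk) y).1 hy,
          fun e => hy1 (conj_eq_one_iff.1 e), ?_⟩
        calc k * a * k⁻¹ * (k * y * k⁻¹) = k * (a * y) * k⁻¹ := by group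
          _ = k * (y * a) * k⁻¹ := by rw [hc]
          _ = _ := by group
      have hne : Subgroup.closure S ≠ ⊥ := fun h => hx1 (by
        have h2 : x ∈ Subgroup.closure S := Subgroup.subset_closure ⟨hxA, hxs⟩
        rwa [h, Subgroup.mem_bot] at h2)
      rw [← normalizer_eq hG hM hne hSM (hMS.trans (normalizer_set_le_normalizer_closure S))]
      exact normalizer_set_le_normalizer_closure S hgN
    · exfalso
      obtain ⟨hvM, -, hvN, -⟩ := hat_facts hG F hM hKU hK hv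
      refine hvN ?_
      have h1 := hconj _ n⁻¹ (M.inv_mem hn) (horder x _ hyM hord hxA.2)
      rw [hyv, show n⁻¹ * (n * v * n⁻¹) * n⁻¹⁻¹ = v by group] at h1
      exact h1
  · obtain ⟨hwM, -, hwN, hwg⟩ := hat_facts hG F hM hKU hK hw
    rcases hyc.resolve_left hys with ⟨hyA, -⟩ | ⟨-, n, hn, v, hv, hyv⟩
    · exfalso
      refine hwN ?_
      have h1 := hconj _ m⁻¹ (M.inv_mem hm) (horder _ _ hxM hord.symm hyA.2)
      rw [show m⁻¹ * (m * w * m⁻¹) * m⁻¹⁻¹ = w by group] at h1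
      exact h1
    · refine ⟨g, ?_, rfl⟩
      have h1 : n⁻¹ * g * m ∈ M := by
        refine hwg _ ?_
        rw [show n⁻¹ * g * m * w * (n⁻¹ * g * m)⁻¹ = n⁻¹ * (g * (m * w * m⁻¹) * g⁻¹) * n by group,
          hyv, show n⁻¹ * (n * v * n⁻¹) * n = v by group]
        exact hv
      have h2 := M.mul_mem (M.mul_mem hn h1) (M.inv_mem hm)
      rwa [show n * (n⁻¹ * g * m) * m⁻¹ = g by group] at h2

omit K U hKU in
/-- Statement 1389. -/
theorem typeCore_facts :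
    (∀ (p : ℕ), p.Prime → ∀ (P : Sylow p ↥(typeCore M)), (P : Subgroup ↥(typeCore M)) ≠ ⊥ →
        Subgroup.normalizer ((((P : Subgroup ↥(typeCore M)).map (typeCore M).subtype :
          Subgroup G)) : Set G) ≤ M) ∧
      (Nat.card (fittingHallOf M)).Coprime (fittingHallOf M).index ∧
      (Nat.card (typeCore M)).Coprime (typeCore M).index := by
  rw [typeCore_eq hG F hM]
  refine ⟨fun p hp P hP => ?_, fittingHallOf_coprime_index hG hM, Nat.coprime_of_dvd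
    fun p hp h1 h2 => (F.s1350 M hM).2.1.2 p hp ((F.s1350 M hM).2.1.1 p hp h1) h2⟩
  have := Fact.mk hp
  have hd : p ∣ Nat.card (sigmaCore M) := by
    by_contra h
    refine hP (Subgroup.card_eq_one.1 ?_)
    rw [P.card_eq_multiplicity, Nat.factorization_eq_zero_of_not_dvd h, pow_zero]
  have hσ := sigmaCore_pi M p hp hd
  refine normalizer_le_of_mem_sigma hσ (P.2.map _)
    ((Subgroup.map_subtype_le _).trans (sigmaCore_le M)) ?_
  rw [← Subgroup.relIndex_mul_relIndex _ (sigmaCore M) M (Subgroup.map_subtype_le _)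
    (sigmaCore_le M)]
  exact hp.not_dvd_mul (sylow_relIndex P) ((F.s1350 M hM).1.2.2 p hp hσ)

omit K U hKU in
theorem exists_decomp_of_compl {U : Subgroup G}
    (hU : (IsOfTypeI M ∧ IsComplIn (fittingHallOf M) U M) ∨
      (IsOfTypeII M ∧ IsComplIn (fittingHallOf M) U ⁅M, M⁆)) :
    fittingHallOf M = sigmaCore M ∧ ∃ K, IsSigmaDecomposition M K U := by
  obtain ⟨K₀, U₀, h₀⟩ := exists_decomp F.toSec15Facts hM
  rcases hU with ⟨hI, hc⟩ | ⟨hII, hc⟩
  · obtain ⟨hK, -⟩ := decomp_of_typeI hG F hM h₀ hI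
    subst hK
    obtain ⟨-, -, hH⟩ := typeOne_basic hG F hM h₀
    refine ⟨hH, ⊥, ⟨inferInstance, h₀.hall, ?_, bot_le⟩⟩
    rw [bot_sup_eq, ← hH]
    exact compl_symm hc
  · obtain ⟨hK, hU0⟩ := (typeII_iff hG F hM h₀).1 hII
    obtain ⟨heq, -⟩ := fittingHallOf_commutator_eq hG F hM h₀ hK hU0
    have hc' := hc
    rw [heq, (kappa_basic hG F hM h₀ hK).1] at hc'
    obtain ⟨n, hn, hne⟩ := Coprime.exists_conj_eq_of_le_sup (N := sigmaCore M) (H := U₀) (L := U)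
      ((U_le h₀).trans (le_normalizer_sigmaCore M)) (U_sigmaCore_coprime F hM h₀).symm
      (Or.inr (Coprime.isSolvable_of_le (sigmaCore_le M) (OddSigma.proper_solvable hG hM.1)))
      (sup_comm U₀ (sigmaCore M) ▸ hc'.2.1)
      (Nat.eq_of_mul_eq_mul_left Nat.card_pos ((compl_card hc').trans
        (((compl_card (U_compl_sup F hM h₀)).symm).trans (mul_comm _ _))))
    exact ⟨heq, _, hne ▸ decomposition_conj h₀ (sigmaCore_le M hn)⟩

omit K U hKU in
/-- Statement 1390. -/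
theorem complement_facts {U : Subgroup G}
    (hU : (IsOfTypeI M ∧ IsComplIn (fittingHallOf M) U M) ∨
      (IsOfTypeII M ∧ IsComplIn (fittingHallOf M) U ⁅M, M⁆)) :
    (∀ (p : ℕ), p.Prime → ∀ P : Sylow p U,
        IsMulCommutative (P : Subgroup U) ∧ PRankLE p 2 (P : Subgroup U)) ∧
      (∀ X : Set G, X ⊆ (U : Set G) \ {1} → X.Nonempty →
        fittingHallOf M ⊓ Subgroup.centralizer X ≠ ⊥ →
        Subgroup.centralizer X ≤ M ∧
          ∀ L : Subgroup G, IsCoatom L → Subgroup.centralizer X ≤ L → L = M) ∧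
      IsTISubset (typeA M \ typeA1 M) := by
  obtain ⟨heq, K, hKU⟩ := exists_decomp_of_compl hG F hM hU
  refine ⟨F.s1358 M hM K U hKU, fun X hX ⟨x, hx⟩ hne => ?_, ?_⟩
  · rw [← Subgroup.centralizer_closure X] at hne ⊢
    rw [heq] at hne
    refine F.s1361 M hM K U hKU _ ((Subgroup.closure_le _).2 fun z hz => (hX hz).1) (fun h => ?_) hne
    have h1 : x ∈ Subgroup.closure X := Subgroup.subset_closure hx
    rw [h, Subgroup.mem_bot] at h1
    exact (hX hx).2 h1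
  · rw [typeA_diff_eq hG F hM hKU]
    · exact F.s1362 M hM K U hKU
    · intro hK
      rcases hU with ⟨h, -⟩ | ⟨h, -⟩
      · exact h
      · exact absurd hK ((typeII_iff hG F hM hKU).1 h).1

omit K U hKU in
/-- Statement 1391, given statement 1376 and Type I for `κ(M) = ∅`. -/
theorem support_facts (h76 : FrobeniusFact G) (hI : TypeOneFact G) {X : Set G}
    (hX : X = typeA M ∨ X = typeA0 M) :
    (∀ x ∈ X, ∀ g : G, g * x * g⁻¹ ∈ X → ∃ m ∈ M, m * x * m⁻¹ = g * x * g⁻¹) ∧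
      (∀ x ∈ X, ¬ Subgroup.centralizer ({x} : Set G) ≤ M →
        x ∈ typeA1 M ∧
          ∃! L : Subgroup G, IsCoatom L ∧ Subgroup.centralizer ({x} : Set G) ≤ L) ∧
      ∀ x ∈ X, ¬ Subgroup.centralizer ({x} : Set G) ≤ M → ∀ L : Subgroup G, IsCoatom L →
        Subgroup.centralizer ({x} : Set G) ≤ L →
        IsComplIn (fittingHallOf L) (M ⊓ L) L ∧
        Subgroup.centralizer ({x} : Set G) ≤ Subgroup.normalizer
          ((fittingHallOf L ⊓ Subgroup.centralizer ({x} : Set G) : Subgroup G) : Set G) ∧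
        IsComplIn (fittingHallOf L ⊓ Subgroup.centralizer ({x} : Set G))
          (M ⊓ Subgroup.centralizer ({x} : Set G)) (Subgroup.centralizer ({x} : Set G)) ∧
        (∀ y ∈ X, (Nat.card (fittingHallOf L)).Coprime
          (Nat.card ↥(M ⊓ Subgroup.centralizer ({y} : Set G)))) ∧
        (x ∈ typeA L ∧ x ∉ typeA1 L) ∧
        (IsOfTypeI L ∨ IsOfTypeII L) ∧
        (IsOfTypeII L → ∃ E : Subgroup ↥M, IsFrobeniusComplement E ∧
          frobeniusKernel E = ((fittingHall ↥M : Subgroup ↥M) : Set ↥M)) := by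
  obtain ⟨K, U, hKU⟩ := exists_decomp F.toSec15Facts hM
  have hsub : ∀ v ∈ X, v ∈ typeA M ∨ v ∈ typeA0 M := by
    rcases hX with rfl | rfl
    · exact fun v hv => Or.inl hv
    · exact fun v hv => Or.inr hv
  have hmem : ∀ x ∈ X, ¬ Subgroup.centralizer ({x} : Set G) ≤ M → x ∈ sigmaCore M ∧ x ≠ 1 :=
    fun x hx hxM => ⟨(centralizer_le_or_mem hG F hM hKU (hsub x hx)).resolve_left hxM,
      (typeA0_classes hG F hM hKU (hsub x hx)).2.1⟩
  refine ⟨fun x hx g hg => fusion_typeA0 hG F hM hKU (hsub x hx) (hsub _ hg),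
    fun x hx hxM => ?_, fun x hx hxM L hL hxL => ?_⟩
  · obtain ⟨hxs, hx1⟩ := hmem x hx hxM
    obtain ⟨N, hN⟩ := exists_signalizer hG F.toSigFacts hM hxs hx1 hxM
    refine ⟨by rw [typeA1_eq hG F hM]; exact ⟨hxs, hx1⟩, N, ⟨hN.coatom, hN.le⟩,
      fun L hL => hN.unique L hL.1 hL.2⟩
  obtain ⟨hxs, hx1⟩ := hmem x hx hxM
  obtain ⟨N, hN⟩ := exists_signalizer hG F.toSigFacts hM hxs hx1 hxM
  obtain rfl : L = N := hN.unique L hL hxL
  obtain ⟨K', U', hKU'⟩ := exists_decomp F.toSec15Facts hL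
  obtain ⟨hU', hxA, hxL'⟩ := decomp_facts hG F.toSigFacts hM hxs hx1 hN hKU'
  refine ⟨?_, ?_, ?_, fun y hy => ?_, ⟨?_, fun h => ?_⟩, ?_, fun hII => ?_⟩
  · rw [← hN.fitting_eq]; exact compl_symm hN.compl
  · rw [← hN.fitting_eq]; exact hN.normal
  · rw [← hN.fitting_eq]; exact compl_symm hN.compl_centralizer
  · rw [← hN.fitting_eq]
    refine Nat.coprime_of_dvd fun t ht h1 h2 => ?_
    have htN := sigmaCore_pi L t ht h1
    have htM : t ∣ Nat.card M := h2.trans (Subgroup.card_dvd_of_le inf_le_left)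
    obtain ⟨hκ, hτ⟩ := F.s1436 M hM x hxs hx1 hxM L hL hxL ⟨t, htN, htM⟩
    obtain ⟨hyM, hy1, hyc⟩ := typeA0_classes hG F hM hKU (hsub y hy)
    have hys : y ∈ sigmaCore M := by
      rcases hyc with h | ⟨h1, h2⟩ | ⟨hK, -⟩
      · exact h
      · obtain ⟨-, p, hp⟩ := centralizer_le_of_sigmaA hG F hM hKU h1 h2
        rw [hτ] at hp
        exact absurd hp (Set.notMem_empty p)
      · exact absurd ((kappa_empty_iff hKU).1 hκ) hK
    have htσ : t ∈ sigma M := by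
      have := Fact.mk ht
      by_contra htσ
      obtain ⟨⟨c, hc⟩, hco⟩ := exists_prime_orderOf_dvd_card' t h2
      rw [Subgroup.orderOf_mk] at hco
      have hcσ : ∀ q : ℕ, q.Prime → q ∣ orderOf c → q ∉ sigma M := fun q hq hd => by
        rw [hco] at hd
        rwa [(Nat.prime_dvd_prime_iff_eq hq ht).1 hd]
      have hc1 : c ≠ 1 := fun e => ht.one_lt.ne (by rw [← hco, e, orderOf_one])
      rcases F.s1432 M hM y hys hy1 c hc hc1 hcσ with ⟨h, -⟩ | ⟨h, -⟩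
      · have h3 := h t ht (dvd_of_eq hco.symm)
        rw [hκ] at h3
        exact h3
      · have h3 := h t ht (dvd_of_eq hco.symm)
        rw [hτ] at h3
        exact h3
    obtain ⟨g, hg⟩ := F.sigma_disj M L hM hL ⟨t, htσ, htN⟩
    exact hN.not_conj g hg
  · rw [typeA_eq hG F hL hKU' fun h => hI L hL ((kappa_empty_iff hKU').2 h)]
    exact ⟨hxA, hx1⟩
  · rw [typeA1_eq hG F hL] at h
    exact hxL' h.1
  · by_cases hK' : K' = ⊥
    · exact Or.inl ((typeI_iff hG F hL hKU' hI).2 ⟨hK', hU'⟩)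
    · exact Or.inr ((typeII_iff hG F hL hKU').2 ⟨hK', hU'⟩)
  · exact h76 M hM x hxs hx1 hxM L hL hxL
      ((kappa_nonempty_iff hKU').2 ((typeII_iff hG F hL hKU').1 hII).1)

omit M K U hM hKU in
/-- Statement 1385, given Type I for `κ(M) = ∅`. -/
theorem type_dichotomy (hI : TypeOneFact G) :
    (∀ M : Subgroup G, IsCoatom M → IsOfTypeI M) ∨
      ∃ W₁ W₂ S T : Subgroup G, IsSelfNormalizingCyclic W₁ W₂ ∧ IsCoatom S ∧ IsCoatom T ∧
        IsComplIn ⁅S, S⁆ W₁ S ∧ IsComplIn ⁅T, T⁆ W₂ T ∧ S ⊓ T = W₁ ⊔ W₂ ∧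
        (IsOfTypeII S ∨ IsOfTypeII T) ∧
        (IsOfTypeII S ∨ IsOfTypeIII S ∨ IsOfTypeIV S ∨ IsOfTypeV S) ∧
        (IsOfTypeII T ∨ IsOfTypeIII T ∨ IsOfTypeIV T ∨ IsOfTypeV T) ∧
        ∀ M : Subgroup G, IsCoatom M → IsOfTypeI M ∨ ∃ g : G,
          M = S.map (MulAut.conj g).toMonoidHom ∨ M = T.map (MulAut.conj g).toMonoidHom := by
  by_cases hall : ∀ M : Subgroup G, IsCoatom M → IsOfTypeI M
  · exact Or.inl hall
  push Not at hall
  obtain ⟨S, hS, hSI⟩ := hall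
  obtain ⟨K, U, hKU⟩ := exists_decomp F.toSec15Facts hS
  have hK : K ≠ ⊥ := fun h => by
    exact hSI (hI S hS ((kappa_empty_iff hKU).2 h))
  obtain ⟨T, hT, hKst, hKstH⟩ := F.s1366 S hS K U hKU hK
  have hKs1 : sigmaCore S ⊓ Subgroup.centralizer (K : Set G) ≠ ⊥ :=
    F.s1354 S hS K hKU.cyclic hKU.hall
  obtain ⟨V, hKV⟩ := F.s1352_exists T hT _ ((F.s1351 T hT).2 _ hKstH) hKstH
  have hclass : ∀ {N A B : Subgroup G}, IsCoatom N → IsSigmaDecomposition N A B → A ≠ ⊥ →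
      IsOfTypeII N ∨ IsOfTypeIII N ∨ IsOfTypeIV N ∨ IsOfTypeV N := by
    intro N A B hN h hA
    by_cases hB : B = ⊥
    · by_cases heq : fittingHallOf N = sigmaCore N
      · exact Or.inr (Or.inr (Or.inr (isOfTypeV_of hG F hN h hA hB heq)))
      · rcases isOfTypeIII_or_IV_of hG F hN h heq with h1 | h1
        · exact Or.inr (Or.inl h1)
        · exact Or.inr (Or.inr (Or.inl h1))
    · exact Or.inl (isOfTypeII_of hG F hN h hA hB)
  obtain ⟨U', hn, hKn, hc, -⟩ := exists_typeP_compl hG F hS hKU hK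
  refine Or.inr ⟨K, sigmaCore S ⊓ Subgroup.centralizer (K : Set G), S, T,
    (isTypePWith_mk hG F hS hKU hK hn hKn hc).selfNormalizing, hS, hT,
    (kappa_basic hG F hS hKU hK).2.1, (kappa_basic hG F hT hKV hKs1).2.1,
    (F.s1368 S hS K U hKU hK T hT hKst hKstH).1, ?_, hclass hS hKU hK, hclass hT hKV hKs1,
    fun N hN => ?_⟩
  · rcases F.s1369 S hS K U hKU hK T hT hKst hKstH with h | h
    · exact Or.inl (isOfTypeII_of hG F hS hKU hK h)
    · exact Or.inr (isOfTypeII_of hG F hT hKV hKs1 (h V hKV))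
  · obtain ⟨A, B, hAB⟩ := exists_decomp F.toSec15Facts hN
    by_cases hA : A = ⊥
    · exact Or.inl (hI N hN ((kappa_empty_iff hAB).2 hA))
    · exact Or.inr (F.s1369_classes S hS K U hKU hK T hT hKst hKstH N hN
        ((kappa_nonempty_iff hAB).2 hA))

end Cfsg.Agent.OddMax
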