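import Cfsg.Agent.Lib.OddOrder.Sec159Fpf
import Cfsg.Agent.Lib.OddOrder.Sec16
import Cfsg.Agent.Lib.Frobenius.Complement

/-!
Bender-Glauberman 15.9 (statement 1376), modulo `Sec16Facts`.
* `exists_decomp_in_compl`, `frobenius_of_kappa_signalizer`, `frobeniusFact`
-/

set_option autoImplicit false

namespace Cfsg.Agent.OddMax

open scoped Pointwise commutatorElement IsMulCommutative

universe u

variable {G : Type u} [Group G] [Finite G] (hG : IsMinSimpleOddOrder G) (F : Sec16Facts G)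
include hG F

/-- A standard factorisation inside a given complement of `N_σ`. -/
theorem exists_decomp_in_compl {N E : Subgroup G} (hN : IsCoatom N)
    (hE : IsComplIn E (sigmaCore N) N) :
    ∃ K U : Subgroup G, IsSigmaDecomposition N K U ∧ U ⊔ K = E := by
  obtain ⟨K₀, U₀, h⟩ := exists_decomp F.toSec15Facts hN
  have hc := decomp_compl h
  have hcard : Nat.card E = Nat.card ↥(U₀ ⊔ K₀) := by
    rw [← compl_relIndex_left hE, compl_relIndex_left hc]
  obtain ⟨n, hn, hne⟩ := Coprime.exists_conj_eq_of_le_sup (N := sigmaCore N) (H := U₀ ⊔ K₀) (L := E)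
    (hc.1.trans (le_normalizer_sigmaCore N))
    (by
      rw [← compl_relIndex_left hc]
      exact (sigmaCore_coprime F.toSigFacts hN).symm)
    (Or.inr (Coprime.isSolvable_of_le (sigmaCore_le N) (OddSigma.proper_solvable hG hN.1)))
    (by rw [sup_comm (sigmaCore N), compl_eq_sup hc]; exact hE.1) hcard
  exact ⟨_, _, decomposition_conj h (sigmaCore_le N hn), by rw [← Subgroup.smul_sup]; exact hne⟩

/-- Statement 1376, with the Frobenius kernel identified. -/
theorem frobenius_of_kappa_signalizer {M : Subgroup G} (hM : IsCoatom M) {x : G}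
    (hx : x ∈ sigmaCore M) (hx1 : x ≠ 1) (hxM : ¬ Subgroup.centralizer ({x} : Set G) ≤ M)
    {N : Subgroup G} (hN : IsCoatom N) (hxN : Subgroup.centralizer ({x} : Set G) ≤ N)
    (hkN : (kappa N).Nonempty) :
    kappa M = ∅ ∧ (∃ E : Subgroup ↥M, IsFrobeniusComplement E ∧ IsCyclic E ∧
        frobeniusKernel E = ((fittingHall ↥M : Subgroup ↥M) : Set ↥M)) ∧
      ¬ IsTISubset (fittingHallOf M : Set G) := by
  obtain ⟨N', hS⟩ := exists_signalizer hG F.toSigFacts hM hx hx1 hxM
  obtain rfl : N = N' := hS.unique N hN hxN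
  obtain ⟨K, U, hKU, hUK⟩ := exists_decomp_in_compl hG F hN hS.compl
  have hK : K ≠ ⊥ := (kappa_nonempty_iff hKU).1 hkN
  obtain ⟨hU, -, -⟩ := decomp_facts hG F.toSigFacts hM hx hx1 hS hKU
  have hUM : U ≤ M := (le_sup_left.trans hUK.le).trans inf_le_left
  -- `x ∈ U`
  have hxC : x ∈ Subgroup.centralizer ({x} : Set G) :=
    Subgroup.mem_centralizer_singleton_iff.2 rfl
  have hxUK : x ∈ U ⊔ K := hUK ▸ ⟨sigmaCore_le M hx, hxN hxC⟩
  have hUc : IsComplIn U K (U ⊔ K) := by
    refine ⟨le_sup_left, le_sup_right, le_bot_iff.1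
      ((inf_le_inf_left _ le_sup_left).trans hKU.compl.2.2.1.le), fun m hm => ?_⟩
    obtain ⟨v, hv, k, hk, rfl⟩ := (Coprime.mem_sup_iff hKU.normal).1 hm
    exact ⟨v, hv, k, hk, rfl⟩
  have hxU : x ∈ U := mem_of_coprime_relIndex (sup_le Subgroup.le_normalizer hKU.normal) hxUK (by
    rw [compl_relIndex_right hUc]
    exact Nat.coprime_of_dvd fun p hp h1 h2 =>
      not_mem_kappa_of_tau2 (hS.tau2 p hp h1) (hKU.hall.2.1 p hp h2))
  obtain ⟨q, hq, hqx, -⟩ := exists_prime_part hx1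
  have := Fact.mk hq
  have hqτ := hS.tau2 q hq hqx
  have hqσ : q ∈ sigma M := pi_orderOf_of_mem (sigmaCore_pi M) hx q hq hqx
  have hqU : q ∣ Nat.card U := hqx.trans (Subgroup.orderOf_dvd_natCard U hxU)
  -- a Sylow subgroup of `U`
  obtain ⟨R⟩ : Nonempty (Sylow q U) := inferInstance
  set R' := (R : Subgroup U).map U.subtype with hR'
  have hR'U : R' ≤ U := Subgroup.map_subtype_le _
  have hidx : ¬ q ∣ R'.relIndex N := by
    obtain ⟨h1, h2, -⟩ := U_primes F.toSec15Facts hN hKU hq hqU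
    rw [← Subgroup.relIndex_mul_relIndex R' U N hR'U (U_le hKU)]
    refine hq.not_dvd_mul (sylow_relIndex R) ?_
    rw [compl_relIndex_right hKU.compl, sup_comm, Coprime.card_sup_of_coprime
      ((K_le hKU).trans (le_normalizer_sigmaCore N))
      (Nat.coprime_of_dvd fun r hr h4 h5 =>
        (hKU.hall.2.1 r hr h5).2.2.1 (sigmaCore_pi N r hr h4))]
    exact hq.not_dvd_mul (fun h => h1 (sigmaCore_pi N q hq h))
      (fun h => h2 (hKU.hall.2.1 q hq h))
  obtain ⟨S, hSR⟩ := exists_sylow_eq (R.2.map _) (hR'U.trans (U_le hKU)) hidx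
  have hRnc : ¬ IsCyclic R' := fun h => hqτ.2.2.2 (prankLE_one_of_cyclic_sylow S
    ((Subgroup.equivMapOfInjective _ N.subtype N.subtype_injective).isCyclic.2 (by
      rw [hSR]; exact h)))
  have hNR : Subgroup.normalizer (R' : Set G) ≤ M := by
    obtain ⟨E, hE⟩ := exists_compl_sigmaCore hG F.toSigFacts hM
    exact (F.s1420 M hM E hE).2.2.1 q R' hqσ (R.2.map _) (hR'U.trans hUM) hRnc
  obtain ⟨L, hL, hKst, hKstH⟩ := F.s1366 N hN K U hKU hK
  obtain ⟨hκM, -, -, -, hKF, hEc⟩ :=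
    F.s1435 N hN K U hKU hK hU L hL hKst hKstH q hqU R M hM hNR
  set Ks := sigmaCore N ⊓ Subgroup.centralizer (K : Set G) with hKs
  obtain ⟨V, hKV⟩ := F.s1352_exists L hL Ks ((F.s1351 L hL).2 _ hKstH) hKstH
  have hKs1 : Ks ≠ ⊥ := F.s1354 N hN K hKU.cyclic hKU.hall
  -- `M`
  obtain ⟨K', U', hKU'⟩ := exists_decomp F.toSec15Facts hM
  obtain rfl : K' = ⊥ := (kappa_empty_iff hKU').1 hκM
  obtain ⟨-, -, hH⟩ := typeOne_basic hG F hM hKU'
  obtain ⟨g, hg, hgM⟩ := SetLike.not_le_iff_exists.1 hxM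
  have hgx : g * x * g⁻¹ = x := by
    rw [Subgroup.mem_centralizer_singleton_iff.1 hg, mul_inv_cancel_right]
  have hxF : x ∈ fittingOf M := fittingHallOf_le_fittingOf M (hH.symm ▸ hx)
  have hnotTI : ¬ IsTISubset (fittingHallOf M : Set G) := by
    intro hTI
    have hgN : g ∉ Subgroup.normalizer (fittingHallOf M : Set G) := by
      rwa [normalizer_eq hG hM (fittingHallOf_ne_bot hG F.toSec15Facts hM)
        (OddTypeP.fittingHallOf_le M) (le_normalizer_fittingHallOf M)]
    exact hx1 (hTI g hgN x (hH.symm ▸ hx) (by rw [hgx]; exact hH.symm ▸ hx))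
  have hCx : M ⊓ Subgroup.centralizer ({x} : Set G) ≤ sigmaCore M := by
    intro z hz
    obtain ⟨v, hv, k, hk, rfl⟩ := hUc.2.2.2 z (hUK ▸ ⟨hz.1, hxN hz.2⟩)
    obtain ⟨-, hUs, -⟩ := F.s1435 N hN K U hKU hK hU L hL hKst hKstH q hqU R M hM hNR
    have hvx : Commute v x := congrArg Subtype.val
      ((F.s1363 N hN K U hKU hK).1.is_comm.comm ⟨v, hv⟩ ⟨x, hxU⟩)
    by_cases hk1 : k = 1
    · rw [hk1, mul_one]; exact hUs hv
    refine absurd (Subgroup.mem_bot.1 ((F.s1353 N hN K U hKU k hk hk1).le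
      ⟨hxU, Subgroup.mem_centralizer_singleton_iff.2 ?_⟩)) hx1
    have h1 : Commute (v * k) x := Subgroup.mem_centralizer_singleton_iff.1 hz.2
    have h2 := hvx.inv_left.mul_left h1
    rw [inv_mul_cancel_left] at h2
    exact h2.eq.symm
  have hMF : ⁅M, M⁆ = fittingOf M := by
    refine le_antisymm ((F.s1440 M hM ⊥ U' hKU' g hgM fun h => hx1 ?_).2.1.1.1) ?_
    · have h2 : x ∈ fittingOf M ⊓ (fittingOf M).map (MulAut.conj g).toMonoidHom :=
        ⟨hxF, x, hxF, hgx⟩
      rwa [h, Subgroup.mem_bot] at h2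
    · rw [fitting_eq hG F.toSec15Facts hM, hH]
      refine sup_le (fun z hz => ?_) le_rfl |>.trans (sigmaCore_le_commutator F.toSec15Facts hM)
      exact hCx ⟨hz.1, Subgroup.mem_centralizer_singleton_iff.2
        (Subgroup.mem_centralizer_iff.1 hz.2 x hx).symm⟩
  have hfpf := compl_fpf (L := L) (K := Ks) (V := V) hG F hL hM hκM hMF hKV hKs1 hEc
    (hKst ▸ hKF) (hKst ▸ card_K_prime hG F.toSec15Facts hN hKU hK hU) (fun p hp t ht htM => by
      have htKs : t ∣ Nat.card Ks := by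
        have h1 : t ∣ Nat.card L := ht.2.1
        rw [← card_mul_relIndex hKstH.1] at h1
        exact (ht.1.dvd_mul.1 h1).resolve_right (hKstH.2.2 t ht.1 ht)
      have hτ := (F.s1436 M hM x hx hx1 hxM N hN hxN ⟨t, sigmaCore_pi N t ht.1
        (htKs.trans (Subgroup.card_dvd_of_le inf_le_left)), htM⟩).2
      rw [hτ] at hp
      exact hp)
  set E := M ⊓ L with hE
  have hEM : E ≤ M := inf_le_left
  have hEn : E ≤ Subgroup.normalizer (sigmaCore M : Set G) :=
    hEM.trans (le_normalizer_sigmaCore M)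
  have hs1 : sigmaCore M ≠ ⊥ := sigmaCore_ne_bot F.toSec15Facts hM hKU'
  -- `F(M) = M_σ`, so `E` is abelian
  have hFs : fittingOf M = sigmaCore M := by
    refine le_antisymm ?_ (hH ▸ fittingHallOf_le_fittingOf M)
    rw [fitting_eq hG F.toSec15Facts hM, hH]
    refine sup_le (fun z hz => ?_) le_rfl
    obtain ⟨e, he, s, hs, rfl⟩ := hEc.2.2.2 z hz.1
    have : Group.IsNilpotent (sigmaCore M) := hH ▸ fittingHallOf_nilpotent M
    have : Nontrivial (sigmaCore M) := (Subgroup.nontrivial_iff_ne_bot _).2 hs1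
    obtain ⟨⟨y, hy⟩, hy1⟩ := Subgroup.ne_bot_iff_exists_ne_one.1
      (Group.IsNilpotent.center_ne_bot (G := sigmaCore M))
    have hy1' : (y : G) ≠ 1 := fun h => hy1 (Subtype.ext (Subtype.ext h))
    have h1 : s * (y : G) = (y : G) * s :=
      congrArg Subtype.val (Subgroup.mem_center_iff.1 hy ⟨s, hs⟩)
    have h2 : e * (y : G) = (y : G) * e := by
      have h3 : Commute (e * s) (y : G) := (Subgroup.mem_centralizer_iff.1 hz.2 y y.2).symm
      have h4 := h3.mul_left (show Commute s⁻¹ (y : G) from (show Commute s (y : G) from h1).inv_left)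
      rwa [mul_inv_cancel_right] at h4
    by_cases he1 : e = 1
    · rw [he1, one_mul]; exact hs
    · exact absurd (hfpf e he he1 y y.2 h2) hy1'
  have hEab : IsMulCommutative E := by
    refine ⟨⟨fun v w => Subtype.ext ?_⟩⟩
    have h1 : ⁅(v : G), (w : G)⁆ ∈ E ⊓ sigmaCore M := by
      refine ⟨?_, ?_⟩
      · rw [commutatorElement_def]
        exact E.mul_mem (E.mul_mem (E.mul_mem v.2 w.2) (E.inv_mem v.2)) (E.inv_mem w.2)
      · rw [← hFs, ← hMF]
        exact Subgroup.commutator_mem_commutator (hEM v.2) (hEM w.2)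
    rw [hEc.2.2.1, Subgroup.mem_bot] at h1
    exact commutatorElement_eq_one_iff_mul_comm.1 h1
  have hfpf' : Frobenius.FPF E (sigmaCore M) := hfpf
  have hEcyc : IsCyclic E := Frobenius.SmallCyclic.isCyclic_of_isMulCommutative
    (Frobenius.smallCyclic_of_fpf hs1 hEn hfpf')
  refine ⟨hκM, ⟨E.subgroupOf M, ?_⟩, hnotTI⟩
  have hn : ((sigmaCore M).subgroupOf M).Normal :=
    Subgroup.normal_subgroupOf_of_le_normalizer (le_normalizer_sigmaCore M)
  have hc := isComplement'_subgroupOf (compl_symm hEc)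
  have hE1 : E ≠ ⊥ := by
    intro h
    have h1 := compl_eq_sup hEc
    rw [h, bot_sup_eq] at h1
    exact (commutator_lt hG hM).not_ge
      (h1.symm.le.trans (sigmaCore_le_commutator F.toSec15Facts hM))
  have hfrob : IsFrobeniusComplement (E.subgroupOf M) := by
    refine Frobenius.FPF.isFrobeniusComplement hc ?_ ?_ ?_
    · rw [ne_eq, Subgroup.subgroupOf_eq_bot]
      exact fun h => hs1 (le_bot_iff.1 (h le_rfl (sigmaCore_le M)))
    · rw [ne_eq, Subgroup.subgroupOf_eq_bot]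
      exact fun h => hE1 (le_bot_iff.1 (h le_rfl hEM))
    · exact fun v hv hv1 y hy e => Subtype.ext
        (hfpf v hv (fun h => hv1 (Subtype.ext h)) y hy (congrArg Subtype.val e))
  refine ⟨hfrob, (Subgroup.subgroupOfEquivOfLe hEM).isCyclic.2 hEcyc, ?_⟩
  rw [fittingHall_eq_subgroupOf hH]
  exact (Frobenius.kernel_eq_of_normal_complement hfrob hc).symm

theorem frobeniusFact : FrobeniusFact G := fun _ hM _ hx hx1 hxM _ hN hxN hk => by
  obtain ⟨-, ⟨E, h1, -, h2⟩, -⟩ := frobenius_of_kappa_signalizer hG F hM hx hx1 hxM hN hxN hk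
  exact ⟨E, h1, h2⟩

end Cfsg.Agent.OddMax
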