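import Cfsg.Agent.Lib.OddOrder.Types
import Cfsg.Agent.Lib.OddOrder.SigmaCore

/-!
Bender-Glauberman 15.9, the fixed-point-free action: if the supporting subgroup of `M` is of type P
then a complement of `M_σ` acts freely on `M_σ`. Modulo `Sec16Facts`.
* `exists_pow_mul`, `centralizes_of_pGroup_normalizes`, `kstar_inf_centralizer` (addendum to 15.2)
* `not_ti_fitting`, `not_mem_beta_of_centralizer`, `compl_fpf`
-/

set_option autoImplicit false

namespace Cfsg.Agent.OddMax

open scoped Pointwise commutatorElement IsMulCommutative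

section General

variable {G : Type*} [Group G] [Finite G]

omit [Finite G] in
theorem exists_pow_mul {Q : Subgroup G} {d u : G} (hd : d ∈ Subgroup.normalizer (Q : Set G))
    (hu : u ∈ Q) : ∀ n : ℕ, ∃ u' ∈ Q, (u * d) ^ n = u' * d ^ n
  | 0 => ⟨1, one_mem _, by simp⟩
  | n + 1 => by
    obtain ⟨u', hu', e⟩ := exists_pow_mul hd hu n
    refine ⟨u' * (d ^ n * u * (d ^ n)⁻¹),
      Q.mul_mem hu' ((Subgroup.mem_normalizer_iff.1 (Subgroup.pow_mem _ hd n) u).1 hu), ?_⟩
    rw [pow_succ, e, pow_succ]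
    group

/-- A `p`-element normalising a subgroup of order `p` centralises it. -/
theorem centralizes_of_pGroup_normalizes {p : ℕ} [hp : Fact p.Prime] {Z : Subgroup G}
    (hZ : Nat.card Z = p) {a : G} (ha : IsPGroup p (Subgroup.zpowers a))
    (hn : a ∈ Subgroup.normalizer (Z : Set G)) {z : G} (hz : z ∈ Z) : a * z = z * a := by
  set T := Z ⊔ Subgroup.zpowers a with hT
  have hZp : IsPGroup p Z := IsPGroup.of_card (n := 1) (by rw [hZ, pow_one])
  have hTp : IsPGroup p T := hZp.to_sup_of_normal_left' ha (Subgroup.zpowers_le.2 hn)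
  have : (Z.subgroupOf T).Normal := Subgroup.normal_subgroupOf_of_le_normalizer
    (sup_le Subgroup.le_normalizer (Subgroup.zpowers_le.2 hn))
  have h := PGroup.le_center_of_card_eq hTp (N := Z.subgroupOf T)
    (by rw [Cores.card_subgroupOf le_sup_left, hZ])
    (show (⟨z, Subgroup.mem_sup_left hz⟩ : T) ∈ Z.subgroupOf T from hz)
  exact congrArg Subtype.val
    (Subgroup.mem_center_iff.1 h ⟨a, Subgroup.mem_sup_right (Subgroup.mem_zpowers a)⟩)

/-- If one Sylow `p`-subgroup of `G` is abelian, so are all `p`-subgroups. -/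
theorem commute_of_abelian_sylow {p : ℕ} [Fact p.Prime] (S₀ : Sylow p G)
    [IsMulCommutative (S₀ : Subgroup G)] {T : Subgroup G} (hT : IsPGroup p T) {a b : G}
    (ha : a ∈ T) (hb : b ∈ T) : a * b = b * a := by
  obtain ⟨S, hS⟩ := hT.exists_le_sylow
  obtain ⟨g, rfl⟩ := MulAction.exists_smul_eq G S₀ S
  obtain ⟨a', ha', rfl⟩ := hS ha
  obtain ⟨b', hb', rfl⟩ := hS hb
  have h : a' * b' = b' * a' := congrArg Subtype.val
    (mul_comm' (⟨a', ha'⟩ : (S₀ : Subgroup G)) ⟨b', hb'⟩)
  simp only [MulDistribMulAction.toMonoidEnd_apply, MulDistribMulAction.toMonoidHom_apply,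
    MulAut.smul_def, MulAut.conj_apply]
  rw [show g * a' * g⁻¹ * (g * b' * g⁻¹) = g * (a' * b') * g⁻¹ by group, h]
  group

end General

universe u

variable {G : Type u} [Group G] [Finite G] (hG : IsMinSimpleOddOrder G) (F : Sec16Facts G)
  {M L K V : Subgroup G} (hL : IsCoatom L)
include hG F hL

/-- Addendum to BG 15.2: `K*` meets `C(D)` trivially. -/
theorem kstar_inf_centralizer (hKV : IsSigmaDecomposition L K V)
    (hne : fittingHallOf L ≠ sigmaCore L) {Q D : Subgroup G}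
    (hKsQ : sigmaCore L ⊓ Subgroup.centralizer (K : Set G) ≤ Q)
    (hQp : IsPGroup (Nat.card ↥(sigmaCore L ⊓ Subgroup.centralizer (K : Set G))) Q)
    (hQn : L ≤ Subgroup.normalizer (Q : Set G)) (hD : IsComplIn Q D (sigmaCore L))
    (hidx : ¬ Nat.card ↥(sigmaCore L ⊓ Subgroup.centralizer (K : Set G)) ∣ Nat.card D)
    (hlt : Q ⊓ Subgroup.centralizer (D : Set G) < Q)
    (hCn : L ≤ Subgroup.normalizer ((Q ⊓ Subgroup.centralizer (D : Set G) : Subgroup G) : Set G)) :
    ¬ sigmaCore L ⊓ Subgroup.centralizer (K : Set G) ≤ Subgroup.centralizer (D : Set G) := by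
  intro hle
  obtain ⟨hU, hK, -, -, -⟩ := fcore_ne_basic hG F.toSec15Facts hL hKV hne
  set Ks := sigmaCore L ⊓ Subgroup.centralizer (K : Set G) with hKs
  set q := Nat.card Ks with hq
  have := Fact.mk (kstar_prime hG F.toSec15Facts hL hKV hK hU)
  set C := Q ⊓ Subgroup.centralizer (D : Set G) with hC
  have hsL := sigmaCore_le L
  have hKsC : Ks ≤ C := le_inf hKsQ hle
  have hCL : C ≤ L := inf_le_left.trans (hD.1.trans hsL)
  have hDL : D ≤ L := hD.2.1.trans hsL
  have : (C.subgroupOf L).Normal := Subgroup.normal_subgroupOf_of_le_normalizer hCn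
  set f := QuotientGroup.mk' (C.subgroupOf L) with hf
  obtain ⟨r, hr, hrd⟩ := Nat.exists_prime_and_dvd (mt Subgroup.card_eq_one.1 hK)
  have := Fact.mk hr
  obtain ⟨⟨k, hk⟩, hok⟩ := exists_prime_orderOf_dvd_card' r hrd
  rw [Subgroup.orderOf_mk] at hok
  have hk1 : k ≠ 1 := fun e => hr.one_lt.ne (by rw [← hok, e, orderOf_one])
  have hkL : k ∈ L := K_le hKV hk
  set A := Subgroup.zpowers (⟨k, hkL⟩ : L) with hA
  set H := (sigmaCore L).subgroupOf L with hH
  have hHn : H.Normal := Subgroup.normal_subgroupOf_of_le_normalizer (le_normalizer_sigmaCore L)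
  have hsol : Group.IsSolvable L := OddSigma.proper_solvable hG hL.1
  have hcA : Nat.card A = r := by rw [hA, Nat.card_zpowers, Subgroup.orderOf_mk, hok]
  have hcop : (Nat.card A).Coprime (Nat.card H) := by
    rw [hcA, Cores.card_subgroupOf hsL]
    exact hr.coprime_iff_not_dvd.2 fun h =>
      (hKV.hall.2.1 r hr hrd).2.2.1 (sigmaCore_pi L r hr h)
  have hCH : C.subgroupOf L ≤ H := Subgroup.comap_mono (inf_le_left.trans hD.1)
  have hAn : A ≤ Subgroup.normalizer (H : Set L) :=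
    le_of_le_of_eq le_top (Subgroup.normalizer_eq_top_iff.2 hHn).symm
  have hAd : A ⊓ f.ker = ⊥ := by
    rw [hf, QuotientGroup.ker_mk']
    exact Coprime.inf_eq_bot (hcop.coprime_dvd_right (Subgroup.card_dvd_of_le hCH))
  have hnil : Group.IsNilpotent (H.map f) := by
    refine nilpotent_of_fpf (A := A.map f) ?_
      ((Subgroup.map_mono hAn).trans (Subgroup.le_normalizer_map f)) ?_ inferInstance
    · rw [Solvable.card_map_of_disjoint f A hAd, hcA]; exact hr
    · refine le_bot_iff.1 ((map_inf_centralizer_le (N := C.subgroupOf L) hCH hAn hcop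
        (Or.inr inferInstance)).trans ?_)
      rw [le_bot_iff, Subgroup.map_eq_bot_iff, QuotientGroup.ker_mk']
      rintro y ⟨hy, hyc⟩
      refine Subgroup.mem_subgroupOf.2 (hKsC ?_)
      rw [hKs, ← F.s1430 L hL K hKV.hall hK k hk hk1]
      exact ⟨hy, Subgroup.mem_centralizer_singleton_iff.2
        (congrArg Subtype.val (hyc _ (Subgroup.mem_zpowers (⟨k, hkL⟩ : L)))).symm⟩
  have hQD : ⁅Q, D⁆ ≤ C := by
    have h1 : (D.subgroupOf L).map f ≤
        Subgroup.centralizer ((Q.subgroupOf L).map f : Set (L ⧸ C.subgroupOf L)) := by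
      refine le_centralizer_of_nilpotent_sup (q := q) (Cores.isNilpotent_of_le (sup_le
        (Subgroup.map_mono (Subgroup.comap_mono hD.1))
        (Subgroup.map_mono (Subgroup.comap_mono hD.2.1))) hnil)
        ((hQp.comap_of_injective L.subtype L.subtype_injective).map f) fun h => hidx ?_
      exact h.trans ((Subgroup.card_map_dvd _ f).trans (dvd_of_eq (Cores.card_subgroupOf hDL)))
    refine Subgroup.commutator_le.2 fun x hx d hd => ?_
    have hxL : x ∈ L := hsL (hD.1 hx)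
    have h2 := h1 ⟨⟨d, hDL hd⟩, hd, rfl⟩ (f ⟨x, hxL⟩) ⟨_, hx, rfl⟩
    have h3 : f ⁅(⟨x, hxL⟩ : L), ⟨d, hDL hd⟩⁆ = 1 := by
      rw [map_commutatorElement, commutatorElement_eq_one_iff_mul_comm]
      exact h2
    exact (QuotientGroup.eq_one_iff (N := C.subgroupOf L) _).1 h3
  have hDnQ : D ≤ Subgroup.normalizer (Q : Set G) := hDL.trans hQn
  have hcopDQ : (Nat.card D).Coprime (Nat.card Q) := by
    obtain ⟨n, hn⟩ := hQp.exists_card_eq
    rw [hn]
    exact (((Fact.out : q.Prime).coprime_iff_not_dvd.2 hidx).symm).pow_right n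
  have h4 := Coprime.commutator_commutator_eq (K := Q) (A := D) hDnQ hcopDQ
    (Or.inr (Coprime.isSolvable_of_isPGroup hQp))
  rw [Subgroup.commutator_eq_bot_iff_le_centralizer.2 (hQD.trans inf_le_right)] at h4
  exact hlt.not_ge (le_inf le_rfl (Subgroup.commutator_eq_bot_iff_le_centralizer.1 h4.symm))

omit F in
/-- An element of `F(L)` whose centraliser is not in `L` prevents `F(L)` from being TI. -/
theorem not_ti_fitting {a : G} (ha : a ∈ fittingOf L) (ha1 : a ≠ 1)
    (h : ¬ Subgroup.centralizer ({a} : Set G) ≤ L) : ¬ IsTISubset (fittingOf L : Set G) := by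
  intro hTI
  obtain ⟨g, hg, hgL⟩ := SetLike.not_le_iff_exists.1 h
  have hgN : g ∉ Subgroup.normalizer (fittingOf L : Set G) := by
    rwa [normalizer_eq hG hL (fun hb => ha1 (by rwa [hb, Subgroup.mem_bot] at ha))
      (fittingOf_le L) (le_normalizer_fittingOf L)]
  refine ha1 (hTI g hgN a ha ?_)
  rw [Subgroup.mem_centralizer_singleton_iff.1 hg, mul_inv_cancel_right]
  exact ha

omit hG in
theorem not_mem_beta_of_centralizer {a : G} (ha : a ∈ sigmaCore L) {p : ℕ} (hp : p.Prime)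
    (hd : p ∣ orderOf a) (h : ¬ Subgroup.centralizer ({a} : Set G) ≤ L) : p ∉ beta L := by
  obtain ⟨g, hg, hgL⟩ := SetLike.not_le_iff_exists.1 h
  refine (F.s1426_conj L hL g hgL).2 p hp (hd.trans (Subgroup.orderOf_dvd_natCard _ ⟨ha, ?_⟩))
  refine ⟨a, sigmaCore_le L ha, ?_⟩
  show g * a * g⁻¹ = a
  rw [Subgroup.mem_centralizer_singleton_iff.1 hg, mul_inv_cancel_right]

/-- The heart of BG 15.9: the complement `E = M ∩ L` of `M_σ` acts freely. -/
theorem compl_fpf (hM : IsCoatom M) (hκM : kappa M = ∅) (hMF : ⁅M, M⁆ = fittingOf M)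
    (hKV : IsSigmaDecomposition L K V) (hK : K ≠ ⊥)
    (hE : IsComplIn (M ⊓ L) (sigmaCore M) M)
    (hKF : sigmaCore L ⊓ Subgroup.centralizer (K : Set G) ≤ fittingOf (M ⊓ L))
    (hq : (Nat.card ↥(sigmaCore L ⊓ Subgroup.centralizer (K : Set G))).Prime)
    (hκL : ∀ p ∈ tau2 M, ∀ t ∈ kappa L, ¬ t ∣ Nat.card M) :
    ∀ e ∈ M ⊓ L, e ≠ 1 → ∀ y ∈ sigmaCore M, e * y = y * e → y = 1 := by
  intro e₀ he₀ he₀1 y hy hcomm
  by_contra hy1
  set E := M ⊓ L with hEdef
  set Ks := sigmaCore L ⊓ Subgroup.centralizer (K : Set G) with hKsdef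
  set q := Nat.card Ks with hqdef
  obtain ⟨p, hp, -, a, ha0, hao⟩ := exists_prime_part he₀1
  have := Fact.mk hp
  have haE : a ∈ E := Subgroup.zpowers_le.2 he₀ ha0
  have ha1 : a ≠ 1 := fun h => hp.one_lt.ne (by rw [← hao, h, orderOf_one])
  have hay : a * y = y * a := by
    obtain ⟨i, rfl⟩ := Subgroup.mem_zpowers_iff.1 ha0
    exact ((show Commute e₀ y from hcomm).zpow_left i).eq
  have hpM : p ∣ Nat.card M := hao ▸ Subgroup.orderOf_dvd_natCard M haE.1
  have hEs : ∀ r : ℕ, r.Prime → r ∣ Nat.card E → r ∉ sigma M := fun r hr hd hσ =>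
    (F.s1350 M hM).1.2.2 r hr hσ (by rwa [compl_relIndex_left hE])
  have haσ : ∀ r : ℕ, r.Prime → r ∣ orderOf a → r ∉ sigma M := fun r hr hd =>
    hEs r hr (hd.trans (Subgroup.orderOf_dvd_natCard E haE))
  -- `a` has `τ₂` order and `C(a) ≤ M` uniquely
  obtain ⟨hτ, hCa, huniq⟩ : p ∈ tau2 M ∧ Subgroup.centralizer ({a} : Set G) ≤ M ∧
      ∀ H : Subgroup G, IsCoatom H → Subgroup.centralizer ({a} : Set G) ≤ H → H = M := by
    rcases F.s1432 M hM y hy hy1 a ⟨haE.1, Subgroup.mem_centralizer_singleton_iff.2 hay⟩ ha1 haσ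
      with ⟨hk, -⟩ | ⟨ht, -, hC, hu⟩
    · have h := hk p hp (dvd_of_eq hao.symm)
      rw [hκM] at h
      exact h.elim
    · exact ⟨ht p hp (dvd_of_eq hao.symm), hC, hu⟩
  have hLM : L ≠ M := fun h => by
    obtain ⟨r, hr⟩ := (kappa_nonempty_iff hKV).2 hK
    rw [h, hκM] at hr
    exact hr
  have haL : a ∈ L := haE.2
  have hCaL : ¬ Subgroup.centralizer ({a} : Set G) ≤ L := fun h => hLM (huniq L hL h)
  -- the subgroup `A` of type `(p, p)` in `E`
  obtain ⟨A, hAE, hA, hAc⟩ : ∃ A : Subgroup G, A ≤ E ∧ IsElementaryAbelian p A ∧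
      Nat.card A = p ^ 2 := by
    have h : ¬ PRankLE p 1 E := by
      intro h
      obtain ⟨S⟩ : Nonempty (Sylow p E) := inferInstance
      have hidx : ¬ p ∣ ((S : Subgroup E).map E.subtype).relIndex M := by
        rw [← Subgroup.relIndex_mul_relIndex _ E M (Subgroup.map_subtype_le _) hE.1,
          compl_relIndex_right hE]
        exact hp.not_dvd_mul (sylow_relIndex S) fun h' => hτ.2.1 (sigmaCore_pi M p hp h')
      obtain ⟨S', hS'⟩ := exists_sylow_eq (S.2.map _) ((Subgroup.map_subtype_le _).trans hE.1) hidx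
      refine hτ.2.2.2 (OddSigma.prankLE_of_sylow S' ?_)
      rw [hS']
      exact OddSigma.prankLE_mono (Subgroup.map_subtype_le _) h
    obtain ⟨A, hAE, hA, hc⟩ := OddSigma.exists_elementary (k := 1) h
    exact ⟨A, hAE, hA, le_antisymm (not_lt.1 fun h' =>
      OddSigma.not_prankLE_of_le (hAE.trans hE.1) hA h' hτ.2.2.1) hc⟩
  obtain ⟨⟨hEA, hAuniq⟩, -⟩ := F.s1418 M hM E hE p hτ A ⟨hAE, hA, hAc⟩
  have hmemA : ∀ z ∈ E, z ^ p = 1 → z ∈ A := by
    intro z hz hzp
    rcases (Nat.dvd_prime hp).1 (orderOf_dvd_of_pow_eq_one hzp) with h | h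
    · rw [orderOf_eq_one_iff.1 h]; exact one_mem A
    · exact hAuniq _ (Subgroup.zpowers_le.2 hz) (by rw [Nat.card_zpowers, h])
        (Subgroup.mem_zpowers z)
  have haA : a ∈ A := hmemA a haE (by rw [← hao, pow_orderOf_eq_one])
  have hAp : IsPGroup p A := IsPGroup.of_card (n := 2) hAc
  have hKsE : Ks ≤ E := hKF.trans (fittingOf_le E)
  have hcommKA : p ≠ q → ∀ k ∈ Ks, ∀ b ∈ A, k * b = b * k := fun hpq k hk b hb => by
    refine OddSigma.commute_in_nilpotent (fittingOf_nilpotent E) (hKF hk)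
      (le_fittingOf hAE hEA hAp.isNilpotent hb) (Nat.coprime_of_dvd fun r hr h1 h2 => hpq ?_)
    rw [← prime_of_dvd_pGroup hAp hr (h2.trans (Subgroup.orderOf_dvd_natCard _ hb))]
    exact (Nat.prime_dvd_prime_iff_eq hr hq).1 (h1.trans (Subgroup.orderOf_dvd_natCard _ hk))
  -- `p ∈ σ(L)`
  have hKsσ : q ∈ sigma L :=
    sigmaCore_pi L q hq (Subgroup.card_dvd_of_le inf_le_left)
  have hpσ : p ∈ sigma L := by
    by_contra hpσ
    obtain ⟨⟨k, hk⟩, hk1⟩ := Subgroup.ne_bot_iff_exists_ne_one.1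
      (fun h : Ks = ⊥ => hq.ne_one (Subgroup.card_eq_one.2 h))
    have hk1' : k ≠ 1 := fun h => hk1 (Subtype.ext h)
    have hka := hcommKA (fun h => hpσ (h ▸ hKsσ)) k hk a haA
    rcases F.s1432 L hL k hk.1 hk1' a ⟨haL, Subgroup.mem_centralizer_singleton_iff.2 hka.symm⟩ ha1
      (fun r hr hd => by
        rw [hao] at hd
        rwa [(Nat.prime_dvd_prime_iff_eq hr hp).1 hd]) with ⟨h, -⟩ | ⟨-, -, h, -⟩
    · exact hκL p hτ p (h p hp (dvd_of_eq hao.symm)) hpM
    · exact hCaL h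
  have has : a ∈ sigmaCore L := mem_sigmaCore_of_sigma F.toSigFacts hL haL fun r hr hd => by
    rw [hao] at hd
    rwa [(Nat.prime_dvd_prime_iff_eq hr hp).1 hd]
  have hpβ : p ∉ beta L :=
    not_mem_beta_of_centralizer F hL has hp (dvd_of_eq hao.symm) hCaL
  -- the part `V` is trivial, so `E ≤ L_σ`
  have hV : V = ⊥ := by
    by_contra hV
    obtain ⟨-, hTI, hsF⟩ := type_p2_facts hG F.toSec15Facts hL F.fittingTI hKV hK hV
    exact not_ti_fitting hG hL (hsF has) ha1 hCaL hTI
  have hEs' : E ≤ sigmaCore L := by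
    intro z hz
    refine mem_of_coprime_relIndex (le_normalizer_sigmaCore L) hz.2 ?_
    have h := U_relIndex hKV
    rw [hV, bot_sup_eq] at h
    rw [h]
    exact Nat.coprime_of_dvd fun r hr h1 h2 => hκL p hτ r (hKV.hall.2.1 r hr h2)
      (h1.trans (Subgroup.orderOf_dvd_natCard M hz.1))
  -- a decomposition `L_σ = Q₀ D₀` with `D₀` nilpotent and containing `A`
  have hsolL : Group.IsSolvable (sigmaCore L) :=
    Coprime.isSolvable_of_le (sigmaCore_le L) (OddSigma.proper_solvable hG hL.1)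
  obtain ⟨Q₀, D₀, hD₀, hD₀n, hQ₀n, hAD⟩ : ∃ Q₀ D₀ : Subgroup G,
      IsComplIn Q₀ D₀ (sigmaCore L) ∧ Group.IsNilpotent D₀ ∧
      sigmaCore L ≤ Subgroup.normalizer (Q₀ : Set G) ∧ A ≤ D₀ := by
    by_cases heq : fittingHallOf L = sigmaCore L
    · refine ⟨⊥, sigmaCore L, ⟨bot_le, le_rfl, bot_inf_eq _,
        fun m hm => ⟨1, one_mem _, m, hm, (one_mul m).symm⟩⟩, heq ▸ fittingHallOf_nilpotent L,
        le_of_le_of_eq le_top (Subgroup.normalizer_eq_top_iff.2 inferInstance).symm,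
        hAE.trans hEs'⟩
    · obtain ⟨Q, -, -, hβ, -, hQp, -, hQs, hLQ, hidx, -, hall⟩ :=
        fcore_ne_structure hG F.toSec15Facts hL hKV heq
      rw [← hKsdef, ← hqdef] at hβ hQp hidx
      have := Fact.mk hq
      have hQcop : (Nat.card Q).Coprime (Q.relIndex (sigmaCore L)) := by
        obtain ⟨i, hi⟩ := hQp.exists_card_eq
        rw [hi]
        exact (hq.coprime_iff_not_dvd.2 hidx).pow_left _
      obtain ⟨D, hD, hAD⟩ := exists_compl_ge hQs ((sigmaCore_le L).trans hLQ) hQcop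
        (hAE.trans hEs') (by
          rw [hAc]
          refine Nat.Coprime.pow_left 2 (hp.coprime_iff_not_dvd.2 fun h => hpβ ?_)
          rw [prime_of_dvd_pGroup hQp hp h]
          exact hβ)
      exact ⟨Q, D, compl_symm hD, (hall D (compl_symm hD)).1, (sigmaCore_le L).trans hLQ, hAD⟩
  -- the Sylow `p`-subgroups of `G` are abelian
  obtain ⟨S₀, hS₀⟩ : ∃ S₀ : Sylow p G, IsMulCommutative (S₀ : Subgroup G) := by
    by_contra hnab
    push Not at hnab
    obtain ⟨-, ⟨hZc, hFe⟩, -⟩ := F.s1419 M hM E hE p hτ hnab A ⟨hAE, hA, hAc⟩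
    set Z := A ⊓ Subgroup.centralizer (sigmaCore M : Set G) with hZ
    obtain ⟨⟨z, hz⟩, hzo⟩ := exists_prime_orderOf_dvd_card' p (dvd_of_eq hZc.symm)
    rw [Subgroup.orderOf_mk] at hzo
    have hz1 : z ≠ 1 := fun h => hp.one_lt.ne (by rw [← hzo, h, orderOf_one])
    have hzE : z ∈ E := hAE hz.1
    have hEZ : ∀ v ∈ E, ∀ w ∈ Z, v * w * v⁻¹ ∈ Z := fun v hv w hw =>
      ⟨(Subgroup.mem_normalizer_iff.1 (hEA hv) w).1 hw.1,
        centralizer_conj_mem (le_normalizer_sigmaCore M (hE.1 hv)) hw.2⟩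
    have hcentral : ∀ v ∈ E, v * z = z * v := by
      intro v hv
      obtain ⟨u, hu, d, hd, e⟩ := hD₀.2.2.2 v (hEs' hv)
      have hconj : ∀ w ∈ Z, d * w * d⁻¹ = v * w * v⁻¹ := by
        intro w hw
        have h1 : d * w * d⁻¹ ∈ D₀ := D₀.mul_mem (D₀.mul_mem hd (hAD hw.1)) (D₀.inv_mem hd)
        have h2 : v * w * v⁻¹ * (d * w * d⁻¹)⁻¹ ∈ Q₀ ⊓ D₀ := by
          refine ⟨?_, D₀.mul_mem (hAD (hEZ v hv w hw).1) (D₀.inv_mem h1)⟩
          rw [e, show u * d * w * (u * d)⁻¹ * (d * w * d⁻¹)⁻¹ =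
            u * (d * w * d⁻¹ * u⁻¹ * (d * w * d⁻¹)⁻¹) by group]
          exact Q₀.mul_mem hu
            ((Subgroup.mem_normalizer_iff.1 (hQ₀n (hD₀.2.1 h1)) _).1 (Q₀.inv_mem hu))
        rw [hD₀.2.2.1, Subgroup.mem_bot, mul_inv_eq_one] at h2
        exact h2.symm
      have hdN : d ∈ Subgroup.normalizer (Z : Set G) := Coprime.mem_normalizer_of_forall
        fun w hw => hconj w hw ▸ hEZ v hv w hw
      obtain ⟨b, c, hb, hc, hbc, hbπ, hcπ⟩ := exists_pi_parts {p} d
      have h3 : Commute b z := centralizes_of_pGroup_normalizes hZc (isPGroup_zpowers_of_pi hbπ)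
        (Subgroup.zpowers_le.2 hdN hb) hz
      have h4 : Commute c z := OddSigma.commute_in_nilpotent hD₀n (Subgroup.zpowers_le.2 hd hc)
        (hAD hz.1) (by
          rw [hzo]
          exact (hp.coprime_iff_not_dvd.2 fun h => hcπ p hp h rfl).symm)
      have h5 := hconj z hz
      rw [← hbc, (h3.mul_left h4).eq, mul_inv_cancel_right] at h5
      calc v * z = v * z * v⁻¹ * v := by group
        _ = z * v := by rw [← h5]
    have hzF : z ∈ ⁅M, M⁆ := by
      rw [hMF, hFe]
      exact Subgroup.mem_sup_right hz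
    have hzE' : z ∈ ⁅E, E⁆ := by
      have hEE : ⁅E, E⁆ ≤ M := (Subgroup.commutator_mono hE.1 hE.1).trans (commutator_lt hG hM).le
      have h := commutator_le_of_compl hE (le_normalizer_sigmaCore M) hzF
      rw [sup_comm, Coprime.mem_sup_iff (hEE.trans (le_normalizer_sigmaCore M))] at h
      obtain ⟨s, hs, c, hc, e⟩ := h
      have hcE : c ∈ E := Subgroup.commutator_le.2 (fun a ha b hb =>
        E.mul_mem (E.mul_mem (E.mul_mem ha hb) (E.inv_mem ha)) (E.inv_mem hb)) hc
      have h6 : s ∈ E ⊓ sigmaCore M := by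
        refine ⟨?_, hs⟩
        have := E.mul_mem hzE (E.inv_mem hcE)
        rwa [← e, mul_inv_cancel_right] at this
      rw [hE.2.2.1, Subgroup.mem_bot] at h6
      rw [← e, h6, one_mul]
      exact hc
    obtain ⟨S, hS⟩ := (IsPGroup.of_card (n := 1)
      (by rw [Nat.card_zpowers, Subgroup.orderOf_mk, hzo, pow_one] :
        Nat.card (Subgroup.zpowers (⟨z, hzE⟩ : E)) = p ^ 1)).exists_le_sylow
    have : IsMulCommutative (S : Subgroup E) := by
      obtain ⟨P, hP⟩ := ((S.2.map E.subtype).comap_of_injective M.subtype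
        M.subtype_injective).exists_le_sylow
      have hPab := ((F.s1417 M hM p hτ A ⟨hAE.trans hE.1, hA, hAc⟩).2.1 P).1
      exact ⟨⟨fun v w => Subtype.ext (Subtype.ext (congrArg (fun t : (P : Subgroup M) => ((t : M) : G))
        (mul_comm' (⟨⟨_, hE.1 (v : E).2⟩, hP ⟨(v : E), v.2, rfl⟩⟩ : (P : Subgroup M))
          ⟨⟨_, hE.1 (w : E).2⟩, hP ⟨(w : E), w.2, rfl⟩⟩)))⟩⟩
    have hz' : (⟨z, hzE⟩ : E) ∈ commutator E := by
      rw [← Subgroup.map_subtype_commutator] at hzE'
      obtain ⟨w, hw, e⟩ := hzE'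
      obtain rfl : w = ⟨z, hzE⟩ := Subtype.ext e
      exact hw
    exact hz1 (congrArg Subtype.val (eq_one_of_central_commutator S
      (hS (Subgroup.mem_zpowers _))
      (Subgroup.mem_center_iff.2 fun v => Subtype.ext (hcentral v v.2)) hz'))
  by_cases heq : fittingHallOf L = sigmaCore L
  · -- `L_σ` nilpotent contradicts statement 1440
    have haF : a ∈ fittingOf L := fittingHallOf_le_fittingOf L (heq ▸ has)
    obtain ⟨g, hg, hgL⟩ := SetLike.not_le_iff_exists.1 hCaL
    have haX : a ∈ fittingOf L ⊓ (fittingOf L).map (MulAut.conj g).toMonoidHom :=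
      ⟨haF, a, haF, by
        show g * a * g⁻¹ = a
        rw [Subgroup.mem_centralizer_singleton_iff.1 hg, mul_inv_cancel_right]⟩
    obtain ⟨-, -, hcases⟩ := F.s1440 L hL K V hKV g hgL fun h => ha1 (by
      rw [h, Subgroup.mem_bot] at haX; exact haX)
    have key : ∀ p' : ℕ, p'.Prime →
        Nat.card ↥(fittingOf L ⊓ (fittingOf L).map (MulAut.conj g).toMonoidHom) = p' →
        IsMulCommutative (pCore p' ↥(fittingHallOf L)) := by
      intro p' hp' hc
      obtain rfl : p = p' := (Nat.prime_dvd_prime_iff_eq hp hp').1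
        (hao ▸ hc ▸ Subgroup.orderOf_dvd_natCard _ haX)
      exact ⟨⟨fun v w => Subtype.ext (Subtype.ext (commute_of_abelian_sylow S₀
        ((Cores.isPGroup_pCore p (fittingHallOf L)).map (fittingHallOf L).subtype)
        ⟨_, v.2, rfl⟩ ⟨_, w.2, rfl⟩))⟩⟩
    rcases hcases with ⟨h, -⟩ | ⟨p', hp', hc, -, -, hnc, -⟩ | ⟨p', hp', hc, -, -, -, -, hnc, -⟩
    · exact hK h
    · exact hnc (key p' hp' hc)
    · exact hnc (key p' hp' hc)
  · obtain ⟨Q, -, -, hβ, hKsQ, hQp, -, hQs, hLQ, hidx, -, hall⟩ :=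
      fcore_ne_structure hG F.toSec15Facts hL hKV heq
    rw [← hKsdef, ← hqdef] at hβ hQp hidx
    rw [← hKsdef] at hKsQ
    have := Fact.mk hq
    have hpq : p ≠ q := fun h => hpβ (h ▸ hβ)
    have hQcop : (Nat.card Q).Coprime (Q.relIndex (sigmaCore L)) := by
      obtain ⟨i, hi⟩ := hQp.exists_card_eq
      rw [hi]
      exact (hq.coprime_iff_not_dvd.2 hidx).pow_left _
    have hAQ : (Nat.card A).Coprime (Nat.card Q) := by
      rw [hAc]
      exact Nat.Coprime.pow_left 2
        (hp.coprime_iff_not_dvd.2 fun h => hpq (prime_of_dvd_pGroup hQp hp h))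
    obtain ⟨D, hD, hAD'⟩ :=
      exists_compl_ge hQs ((sigmaCore_le L).trans hLQ) hQcop (hAE.trans hEs') hAQ
    obtain ⟨hDn, -, hCn, hlt, -, hpow, hmin⟩ := hall D (compl_symm hD)
    -- elements of order `p` of `D` lie in `A`
    have hDA : ∀ d ∈ D, d ^ p = 1 → d ∈ A := by
      intro d hd hdp
      refine hmemA d ?_ hdp
      have hdP : ∀ v ∈ D, v ^ p = 1 → v ∈ (pCore p D).map D.subtype := fun v hv hvp =>
        mem_pCore_of_nilpotent hDn hv (isPGroup_zpowers_of_pi fun r hr hrd => by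
          exact (Nat.prime_dvd_prime_iff_eq hr hp).1 (hrd.trans (orderOf_dvd_of_pow_eq_one hvp)))
      have hda : d * a = a * d := commute_of_abelian_sylow S₀
        ((Cores.isPGroup_pCore p D).map D.subtype) (hdP d hd hdp)
        (hdP a (hAD' haA) (by rw [← hao, pow_orderOf_eq_one]))
      exact ⟨hCa (Subgroup.mem_centralizer_singleton_iff.2 hda), sigmaCore_le L (hD.1 hd)⟩
    set N := Q ⊓ Subgroup.centralizer (A : Set G) with hN
    have hCN : Q ⊓ Subgroup.centralizer (D : Set G) ≤ N :=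
      inf_le_inf_left _ (Subgroup.centralizer_le hAD')
    have hKsN : Ks ≤ N := fun k hk => ⟨hKsQ hk,
      Subgroup.mem_centralizer_iff.2 fun b hb => (hcommKA hpq k hk b hb).symm⟩
    have hQA : A ≤ Subgroup.normalizer (Q : Set G) :=
      (hAE.trans inf_le_right).trans hLQ
    have hLN : L ≤ Subgroup.normalizer (N : Set G) := by
      intro l hl
      have hle : MulAut.conj l • A ≤ Q ⊔ A := by
        intro w hw
        have hb : l⁻¹ * w * l ∈ A := Coprime.mem_conj.1 hw
        have hws : w ∈ sigmaCore L := by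
          have := (Subgroup.mem_normalizer_iff.1 (le_normalizer_sigmaCore L hl) _).1
            (hEs' (hAE hb))
          simpa [mul_assoc] using this
        obtain ⟨u, hu, d, hd, e⟩ := (compl_symm hD).2.2.2 w hws
        obtain ⟨u', hu', he⟩ := exists_pow_mul (hLQ (sigmaCore_le L (hD.1 hd))) hu p
        have hwp : w ^ p = 1 := by
          rw [show w = l * (l⁻¹ * w * l) * l⁻¹ by group, conj_pow, hA.2 _ hb, mul_one,
            mul_inv_cancel]
        have hdp : d ^ p = 1 := by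
          have h1 : d ^ p ∈ Q ⊓ D := by
            refine ⟨?_, D.pow_mem hd p⟩
            have h2 : u' * d ^ p = 1 := by rw [← he, ← e, hwp]
            rw [eq_inv_of_mul_eq_one_right h2]
            exact Q.inv_mem hu'
          rw [(compl_symm hD).2.2.1, Subgroup.mem_bot] at h1
          exact h1
        rw [e]
        exact Subgroup.mul_mem_sup hu (hDA d hd hdp)
      obtain ⟨u, hu, hue⟩ := Coprime.exists_conj_eq_of_le_sup (N := Q) (H := A)
        (L := MulAut.conj l • A) hQA hAQ (Or.inr (Coprime.isSolvable_of_isPGroup hQp)) hle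
        (Coprime.card_conj l A)
      have hn : u⁻¹ * l ∈ Subgroup.normalizer (A : Set G) := Coprime.mem_normalizer_of_conj_eq (by
        rw [← Solvable.conj_conj, ← hue, Solvable.conj_inv_smul])
      have h1 : u⁻¹ * l ∈ Subgroup.normalizer (N : Set G) :=
        Coprime.mem_normalizer_of_forall fun z hz =>
          ⟨(Subgroup.mem_normalizer_iff.1 (Subgroup.mul_mem _ (Subgroup.inv_mem _
            (Subgroup.le_normalizer hu)) (hLQ hl)) z).1 hz.1, centralizer_conj_mem hn hz.2⟩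
      have h2 : u ∈ Subgroup.normalizer (N : Set G) := Coprime.mem_normalizer_of_forall fun z hz => by
        rw [show u * z * u⁻¹ = u * z * u⁻¹ * z⁻¹ * z by group]
        exact N.mul_mem (hCN (hpow u hu z hz.1).2) hz
      simpa using Subgroup.mul_mem _ h2 h1
    have hKC : ¬ Ks ≤ Subgroup.centralizer (D : Set G) :=
      kstar_inf_centralizer hG F hL hKV heq hKsQ hQp hLQ (compl_symm hD)
        (fun h => hidx (by rwa [compl_relIndex_right (compl_symm hD)])) hlt hCn
    have hlt' : Q ⊓ Subgroup.centralizer (D : Set G) < N :=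
      lt_of_le_not_ge hCN fun h => hKC ((hKsN.trans h).trans inf_le_right)
    have hQN : N = Q := by
      by_contra h
      exact hmin N hlt' (lt_of_le_of_ne inf_le_left h) hLN
    have hQE : Q ≤ E := by
      intro z hz
      refine ⟨hCa ?_, sigmaCore_le L (hQs hz)⟩
      rw [← hQN] at hz
      exact Subgroup.mem_centralizer_singleton_iff.2
        (Subgroup.mem_centralizer_iff.1 hz.2 a haA).symm
    -- but `q ∈ β(L)` while `E` has rank at most two
    have hidxL : ¬ q ∣ Q.relIndex L := by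
      rw [← Subgroup.relIndex_mul_relIndex Q (sigmaCore L) L hQs (sigmaCore_le L)]
      exact hq.not_dvd_mul hidx ((F.s1350 L hL).1.2.2 q hq hKsσ)
    obtain ⟨P, hP⟩ := exists_sylow_eq hQp (hQs.trans (sigmaCore_le L)) hidxL
    refine hβ.1.2 (OddSigma.prankLE_of_sylow P ?_)
    rw [hP]
    obtain ⟨K', U', hKU'⟩ := exists_decomp F.toSec15Facts hM
    obtain rfl : K' = ⊥ := (kappa_empty_iff hKU').1 hκM
    obtain ⟨S, hS⟩ := (hQp.comap_of_injective E.subtype E.subtype_injective).exists_le_sylow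
    have hdec : IsSigmaDecomposition M ⊥ E :=
      ⟨inferInstance, hKU'.hall, by rw [bot_sup_eq]; exact hE, bot_le⟩
    have h3 := (F.s1358 M hM ⊥ E hdec q hq S).2
    refine OddSigma.prankLE_mono (K := (S : Subgroup E).map E.subtype)
      (fun z hz => ⟨⟨z, hQE hz⟩, hS hz, rfl⟩) ?_
    exact OddSigma.prankLE_of_injective
      (Subgroup.equivMapOfInjective (S : Subgroup E) E.subtype E.subtype_injective).symm.toMonoidHom
      (MulEquiv.injective _) h3

end Cfsg.Agent.OddMax
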