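import Cfsg.Agent.Lib.OddOrder.SigFacts
import Cfsg.Agent.Lib.OddOrder.PrimeAction

/-!
The results of Bender-Glauberman sections 3 and 10-14 used in section 15, as a hypothesis bundle.
Statement files discharge it with the corresponding proved statements.
-/

set_option autoImplicit false

universe u

namespace Cfsg.Agent.OddMax

/-- The part of statement 1440 used in section 15 (hypothesis of the lemmas needing it). -/
def FittingTIFact (G : Type u) [Group G] [Finite G] : Prop :=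
  ∀ M : Subgroup G, IsCoatom M → ∀ K U : Subgroup G, IsSigmaDecomposition M K U →
    ∀ g : G, g ∉ M → fittingOf M ⊓ (fittingOf M).map (MulAut.conj g).toMonoidHom ≠ ⊥ →
    ⁅M, M⁆ ≤ fittingOf M ∧ (K ≠ ⊥ → ⁅M, M⁆ = fittingOf M)

/-- What BG section 15 needs from upstream. -/
structure Sec15Facts (G : Type u) [Group G] [Finite G] : Prop extends SigFacts G where
  /-- statement 1351 -/
  s1351 : ∀ M : Subgroup G, IsCoatom M → (∃ K : Subgroup G, IsPiHallOf (kappa M) K M) ∧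
    ∀ K : Subgroup G, IsPiHallOf (kappa M) K M → IsCyclic K
  /-- statement 1352, existence -/
  s1352_exists : ∀ M : Subgroup G, IsCoatom M → ∀ K : Subgroup G, IsCyclic K →
    IsPiHallOf (kappa M) K M → ∃ U : Subgroup G, IsSigmaDecomposition M K U
  /-- statement 1353 -/
  s1353 : ∀ M : Subgroup G, IsCoatom M → ∀ K U : Subgroup G, IsSigmaDecomposition M K U →
    ∀ k ∈ K, k ≠ 1 → U ⊓ Subgroup.centralizer ({k} : Set G) = ⊥
  /-- statement 1354, first part -/
  s1354 : ∀ M : Subgroup G, IsCoatom M → ∀ K : Subgroup G, IsCyclic K →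
    IsPiHallOf (kappa M) K M → sigmaCore M ⊓ Subgroup.centralizer (K : Set G) ≠ ⊥
  /-- statement 1365 -/
  s1365 : ∀ M : Subgroup G, IsCoatom M → ∀ K U : Subgroup G, IsSigmaDecomposition M K U → K ≠ ⊥ →
    ⁅M, M⁆ = U ⊔ sigmaCore M ∧
      sigmaCore M ⊓ Subgroup.centralizer (K : Set G) ≤ ⁅⁅M, M⁆, ⁅M, M⁆⁆
  /-- statement 1366, existence -/
  s1366 : ∀ (M : Subgroup G), IsCoatom M → ∀ (K U : Subgroup G),
    IsSigmaDecomposition M K U → K ≠ ⊥ → ∃ Mstar : Subgroup G, IsCoatom Mstar ∧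
      K = sigmaCore Mstar ⊓ Subgroup.centralizer
        ((sigmaCore M ⊓ Subgroup.centralizer (K : Set G)) : Set G) ∧
      IsPiHallOf (kappa Mstar) (sigmaCore M ⊓ Subgroup.centralizer (K : Set G)) Mstar
  /-- statement 1369, first part -/
  s1369 : ∀ (M : Subgroup G), IsCoatom M → ∀ (K U : Subgroup G),
    IsSigmaDecomposition M K U → K ≠ ⊥ → ∀ (Mstar : Subgroup G), IsCoatom Mstar →
    K = sigmaCore Mstar ⊓ Subgroup.centralizer
      ((sigmaCore M ⊓ Subgroup.centralizer (K : Set G)) : Set G) →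
    IsPiHallOf (kappa Mstar) (sigmaCore M ⊓ Subgroup.centralizer (K : Set G)) Mstar →
    U ≠ ⊥ ∨ ∀ Ustar : Subgroup G,
      IsSigmaDecomposition Mstar (sigmaCore M ⊓ Subgroup.centralizer (K : Set G)) Ustar → Ustar ≠ ⊥
  /-- statement 1414, used part -/
  s1414 : ∀ M : Subgroup G, IsCoatom M → ∀ p : ℕ, p.Prime → p ∣ Nat.card M → p ∉ beta M →
    HasNormalPComplement p ↥(sigmaCore M)
  /-- statement 1426, used part -/
  s1426 : ∀ M : Subgroup G, IsCoatom M → ∀ E : Subgroup G, IsComplIn E (sigmaCore M) M →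
    ⁅sigmaCore M, E⁆ = sigmaCore M
  /-- statement 1429 -/
  s1429 : ∀ M : Subgroup G, IsCoatom M →
    ¬ (∀ q : ℕ, q.Prime → q ∣ Nat.card M → q ∉ sigma M → q ∈ kappa M) →
    ∀ (p : ℕ) [Fact p.Prime], p ∣ Nat.card M → p ∉ sigma M ∪ kappa M → ∀ S : Sylow p M,
      sigmaCore M ⊓ Subgroup.centralizer ((Subgroup.closure
        {x : G | x ∈ (S : Subgroup M).map M.subtype ∧ x ^ p = 1} : Subgroup G) : Set G) = ⊥ ∧
      Group.IsNilpotent (sigmaCore M)
  /-- statement 1430, first part -/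
  s1430 : ∀ (M : Subgroup G), IsCoatom M → ∀ (K : Subgroup G), IsPiHallOf (kappa M) K M →
    K ≠ ⊥ → ∀ k ∈ K, k ≠ 1 → sigmaCore M ⊓ Subgroup.centralizer ({k} : Set G) =
      sigmaCore M ⊓ Subgroup.centralizer (K : Set G)
  /-- statement 1431, used part -/
  s1431 : ∀ (M : Subgroup G), IsCoatom M → ∀ K : Subgroup G, IsPiHallOf (kappa M) K M → K ≠ ⊥ →
    ∀ (p : ℕ), p.Prime → p ∣ Nat.card ↥(sigmaCore M ⊓ Subgroup.centralizer (K : Set G)) →
    ∀ S : Sylow p ↥(sigmaCore M),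
      ¬ (S : Subgroup ↥(sigmaCore M)).map (sigmaCore M).subtype ≤
        sigmaCore M ⊓ Subgroup.centralizer (K : Set G)
  /-- statement 1445 -/
  s1445 : ∀ (X : Type u) [Group X] [Finite X] [Group.IsSolvable X], Odd (Nat.card X) →
    ∀ (K R : Subgroup X) [K.Normal], K ⊔ R = ⊤ → (Nat.card K).Coprime (Nat.card R) →
    (∀ x ∈ R, x ≠ 1 → K ⊓ Subgroup.centralizer ({x} : Set X) =
      K ⊓ Subgroup.centralizer (R : Set X)) →
    fittingOf K ⊓ Subgroup.centralizer (R : Set X) = ⊥ → ⁅K, R⁆ ≤ fittingOf K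
  /-- statement 1446 -/
  s1446 : ∀ (X : Type u) [Group X] [Finite X], PrimeActionHyp X
  /-- BG 12.6: subgroups whose primes lie in `τ₂(M)` are abelian -/
  tau2_abelian : ∀ M : Subgroup G, IsCoatom M → ∀ X : Subgroup G, X ≤ M →
    (∀ p : ℕ, p.Prime → p ∣ Nat.card X → p ∈ tau2 M) → IsMulCommutative X

end Cfsg.Agent.OddMax
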