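import Cfsg.Agent.Lib.OddOrder.Fcore
import Cfsg.Agent.Lib.OddOrder.SupportR
import Cfsg.Agent.Lib.Isolated.RankOne

/-!
Bender-Glauberman 15.4: centralisers and fusion of Hall subgroups of `M_σ`, modulo `Sec15Facts`
(statement 1438).
* `isCyclic_tau2`, `hall_centralizer`, `hall_fusion_sigmaCore`, `hall_fusion`
-/

set_option autoImplicit false

namespace Cfsg.Agent.OddMax

open scoped Pointwise

universe u

variable {G : Type u} [Group G] [Finite G] (hG : IsMinSimpleOddOrder G) (F : Sec15Facts G)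
  {M : Subgroup G} (hM : IsCoatom M)
include hG F hM

/-- A `τ₂(M)`-subgroup centralising a nonidentity element of `M_σ` is cyclic. -/
theorem isCyclic_tau2 {X : Subgroup G} (hXM : X ≤ M)
    (hX : ∀ p : ℕ, p.Prime → p ∣ Nat.card X → p ∈ tau2 M)
    (hc : sigmaCore M ⊓ Subgroup.centralizer (X : Set G) ≠ ⊥) : IsCyclic X := by
  have := F.tau2_abelian M hM X hXM hX
  have hnil : Group.IsNilpotent X := Cores.isNilpotent_of_isMulCommutative X
  have hZ : IsZGroup X := ⟨fun p hp P => by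
    have := Fact.mk hp
    by_cases hd : p ∣ Nat.card X
    · have ht := hX p hp hd
      refine Isolated.isCyclic_of_rank_le_one (G := X) (OddSigma.prime_ne_two hG hd) ?_ _ P.2
      by_contra h
      obtain ⟨A, hAX, hA, hAc⟩ := OddSigma.exists_elementary (k := 1) h
      have hAc2 : Nat.card A = p ^ 2 := le_antisymm
        (not_lt.1 fun h' => OddSigma.not_prankLE_of_le (hAX.trans hXM) hA h' ht.2.2.1) hAc
      obtain ⟨-, -, -, h4, -, -⟩ := F.s1417 M hM p ht A ⟨hAX.trans hXM, hA, hAc2⟩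
      exact hc (le_bot_iff.1 (h4 ▸ inf_le_inf_left _ (Subgroup.centralizer_le hAX)))
    · have h1 : Nat.card P = 1 := by
        rw [P.card_eq_multiplicity, Nat.factorization_eq_zero_of_not_dvd hd, pow_zero]
      have : Subsingleton P := (Nat.card_eq_one_iff_unique.1 h1).1
      infer_instance⟩
  exact inferInstance

/-- Statement 1438, first part. -/
theorem hall_centralizer {H : Subgroup G} (hH : H ≤ sigmaCore M) (hH1 : H ≠ ⊥)
    (hHall : (Nat.card H).Coprime (H.relIndex (sigmaCore M))) :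
    ∃ X : Subgroup G, IsCyclic X ∧ (∀ p : ℕ, p.Prime → p ∣ Nat.card X → p ∈ tau2 M) ∧
      X ≤ M ⊓ Subgroup.centralizer (H : Set G) ∧
      M ⊓ Subgroup.centralizer (H : Set G) =
        (sigmaCore M ⊓ Subgroup.centralizer (H : Set G)) ⊔ X := by
  have hsol : Group.IsSolvable M := OddSigma.proper_solvable hG hM.1
  set C := M ⊓ Subgroup.centralizer (H : Set G) with hC
  set N := sigmaCore M ⊓ Subgroup.centralizer (H : Set G) with hN
  have hNC : N ≤ C := inf_le_inf_right _ (sigmaCore_le M)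
  have hCN : C ≤ Subgroup.normalizer (N : Set G) := fun c hc =>
    Coprime.mem_normalizer_of_forall fun y hy =>
      ⟨(Subgroup.mem_normalizer_iff.1 (le_normalizer_sigmaCore M hc.1) y).1 hy.1,
        (Subgroup.centralizer (H : Set G)).mul_mem
          ((Subgroup.centralizer (H : Set G)).mul_mem hc.2 hy.2) (inv_mem hc.2)⟩
  have hcop : (Nat.card N).Coprime (N.relIndex C) := by
    refine Nat.coprime_of_dvd fun p hp h1 h2 => ?_
    have hpσ : p ∈ sigma M := sigmaCore_pi M p hp (h1.trans (Subgroup.card_dvd_of_le inf_le_left))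
    -- a Sylow subgroup of `C` lies in `N`
    have := Fact.mk hp
    obtain ⟨S⟩ : Nonempty (Sylow p C) := inferInstance
    have hS : (S : Subgroup C).map C.subtype ≤ N := by
      intro y hy
      have hyC : y ∈ C := Subgroup.map_subtype_le _ hy
      refine ⟨mem_sigmaCore_of_sigma F.toSigFacts hM hyC.1 fun r hr hrd => ?_, hyC.2⟩
      obtain ⟨i, hi⟩ := (S.2.map C.subtype).exists_card_eq
      have hrp := (Nat.prime_dvd_prime_iff_eq hr hp).1
        (hr.dvd_of_dvd_pow (hi ▸ hrd.trans (Subgroup.orderOf_dvd_natCard _ hy)))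
      exact hrp ▸ hpσ
    exact sylow_relIndex S (h2.trans
      (Dvd.intro_left _ (Subgroup.relIndex_mul_relIndex _ _ _ hS hNC)))
  have : Group.IsSolvable C := Coprime.isSolvable_of_le inf_le_left hsol
  obtain ⟨X, hX⟩ := exists_compl hNC hCN hcop
  have hXσ : ∀ p : ℕ, p.Prime → p ∣ Nat.card X → p ∈ tau2 M := by
    intro p hp hd
    have := Fact.mk hp
    obtain ⟨⟨x, hx⟩, hxo⟩ := exists_prime_orderOf_dvd_card' p hd
    rw [Subgroup.orderOf_mk] at hxo
    have hxC : x ∈ C := hX.1 hx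
    have hx1 : x ≠ 1 := fun e => hp.one_lt.ne (by rw [← hxo, e, orderOf_one])
    have hσ : ∀ r : ℕ, r.Prime → r ∣ orderOf x → r ∉ sigma M := by
      intro r hr hrd hrσ
      have h : x ∈ X ⊓ N := ⟨hx, mem_sigmaCore_of_sigma F.toSigFacts hM hxC.1 (fun t ht htd => by
        rw [hxo] at hrd htd
        rw [(Nat.prime_dvd_prime_iff_eq ht hp).1 htd, ← (Nat.prime_dvd_prime_iff_eq hr hp).1 hrd]
        exact hrσ), hxC.2⟩
      rw [hX.2.2.1, Subgroup.mem_bot] at h
      exact hx1 h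
    obtain ⟨⟨y, hy⟩, hy1⟩ := Subgroup.ne_bot_iff_exists_ne_one.1 hH1
    have hy1' : y ≠ 1 := fun e => hy1 (Subtype.ext e)
    rcases F.s1432 M hM y (hH hy) hy1' x
      ⟨hxC.1, Subgroup.mem_centralizer_singleton_iff.2 (hxC.2 y hy).symm⟩ hx1 hσ with
      ⟨hk, -⟩ | ⟨ht, -⟩
    · exfalso
      obtain ⟨K, U, hKU⟩ := exists_decomp F hM
      obtain ⟨m, hm⟩ := Solvable.exists_conj_ge_of_solvable (Solvable.isPiHall_subgroupOf hKU.hall)
        (U := Subgroup.zpowers (⟨x, hxC.1⟩ : M))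
        (by rw [Nat.card_zpowers, Subgroup.orderOf_mk]; exact hk)
      have hk' : (m : G)⁻¹ * x * m ∈ K := by
        have h := Coprime.mem_conj.1 (hm (Subgroup.mem_zpowers (⟨x, hxC.1⟩ : M)))
        exact h
      have hk1 : (m : G)⁻¹ * x * m ≠ 1 := fun e => hx1 (by
        have h2 : (m : G) * ((m : G)⁻¹ * x * m) * (m : G)⁻¹ = 1 := by rw [e]; group
        rw [← h2]; group)
      have hKbot : K ≠ ⊥ := fun e => hk1 (by rwa [e, Subgroup.mem_bot] at hk')
      set H' := MulAut.conj (m : G)⁻¹ • H with hH'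
      have hH's : H' ≤ sigmaCore M ⊓ Subgroup.centralizer (K : Set G) := by
        rw [← F.s1430 M hM K hKU.hall hKbot _ hk' hk1]
        intro z hz
        rw [hH', Coprime.mem_conj, inv_inv] at hz
        refine ⟨?_, Subgroup.mem_centralizer_singleton_iff.2 ?_⟩
        · have h := (Subgroup.mem_normalizer_iff''.1 (le_normalizer_sigmaCore M m.2) _).1 (hH hz)
          group at h
          exact h
        · have e := hxC.2 _ hz
          calc z * ((m : G)⁻¹ * x * m) = (m : G)⁻¹ * ((m : G) * z * (m : G)⁻¹ * x) * m := by group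
            _ = (m : G)⁻¹ * (x * ((m : G) * z * (m : G)⁻¹)) * m := by rw [e]
            _ = (m : G)⁻¹ * x * m * z := by group
      obtain ⟨r, hr, hrd⟩ := Nat.exists_prime_and_dvd (mt Subgroup.card_eq_one.1 hH1)
      have := Fact.mk hr
      obtain ⟨T⟩ : Nonempty (Sylow r H') := inferInstance
      have hH'σ : H' ≤ sigmaCore M := hH's.trans inf_le_left
      have hidx : ¬ r ∣ ((T : Subgroup H').map H'.subtype).relIndex (sigmaCore M) := by
        rw [← Subgroup.relIndex_mul_relIndex _ H' (sigmaCore M) (Subgroup.map_subtype_le _) hH'σ]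
        refine hr.not_dvd_mul (sylow_relIndex T) fun h => ?_
        have hconj : MulAut.conj (m : G)⁻¹ • sigmaCore M = sigmaCore M :=
          Coprime.conj_eq_of_mem_normalizer (le_normalizer_sigmaCore M (M.inv_mem m.2))
        rw [← hconj, hH', relIndex_conj] at h
        exact hr.not_dvd_one (hHall ▸ Nat.dvd_gcd hrd h)
      obtain ⟨S, hS⟩ := exists_sylow_eq (T.2.map _) ((Subgroup.map_subtype_le _).trans hH'σ) hidx
      refine F.s1431 M hM K hKU.hall hKbot r hr ?_ S (hS ▸ (Subgroup.map_subtype_le _).trans hH's)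
      exact (by rw [hH', Coprime.card_conj]; exact hrd : r ∣ Nat.card H').trans
        (Subgroup.card_dvd_of_le hH's)
    · exact ht p hp (dvd_of_eq hxo.symm)
  refine ⟨X, isCyclic_tau2 hG F hM (hX.1.trans inf_le_left) hXσ fun h => hH1 ?_, hXσ, hX.1, ?_⟩
  · rw [eq_bot_iff, ← h]
    exact le_inf hH fun y hy z hz => (Subgroup.mem_centralizer_iff.1 (hX.1 hz).2 y hy).symm
  · rw [sup_comm, compl_eq_sup hX]

/-- Fusion in `M_σ` of elements of a Hall subgroup of `M_σ`. -/
theorem hall_fusion_sigmaCore {H : Subgroup G} (hH : H ≤ sigmaCore M)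
    (hHall : (Nat.card H).Coprime (H.relIndex (sigmaCore M)))
    {x s : G} (hx : x ∈ H) (hs : s ∈ sigmaCore M) (hsx : s * x * s⁻¹ ∈ H) :
    ∃ n ∈ sigmaCore M ⊓ Subgroup.normalizer (H : Set G), n * x * n⁻¹ = s * x * s⁻¹ := by
  by_cases hn : Group.IsNilpotent (sigmaCore M)
  · exact ⟨s, ⟨hs, hall_normal_of_nilpotent hn hH hHall hs⟩, rfl⟩
  obtain ⟨K, U, hKU⟩ := exists_decomp F hM
  have hne : fittingHallOf M ≠ sigmaCore M := fun h => hn (h ▸ fittingHallOf_nilpotent M)
  obtain ⟨Q, -, hq, -, -, hQp, -, hQs, hMQ, hQidx, ⟨D₀, hD₀⟩, hall⟩ :=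
    fcore_ne_structure hG F hM hKU hne
  set q := Nat.card ↥(sigmaCore M ⊓ Subgroup.centralizer (K : Set G)) with hqdef
  have := Fact.mk hq
  have hQn : sigmaCore M ≤ Subgroup.normalizer (Q : Set G) := (sigmaCore_le M).trans hMQ
  have hQcop : (Nat.card Q).Coprime (Q.relIndex (sigmaCore M)) := by
    obtain ⟨i, hi⟩ := hQp.exists_card_eq
    rw [hi]
    exact ((hq.coprime_iff_not_dvd).2 hQidx).pow_left _
  by_cases hqH : q ∣ Nat.card H
  · -- `Q ≤ H`, so `H` is normal
    have hQH : Q ≤ H := by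
      obtain ⟨T⟩ : Nonempty (Sylow q H) := inferInstance
      set T' := (T : Subgroup H).map H.subtype
      have hT'H : T' ≤ H := Subgroup.map_subtype_le _
      have hT'Q : T' ≤ Q := fun y hy => mem_of_coprime_relIndex hQn (hH (hT'H hy)) (by
        obtain ⟨i, hi⟩ := (T.2.map H.subtype).exists_card_eq
        exact (((hq.coprime_iff_not_dvd).2 hQidx).pow_left i).coprime_dvd_left
          (hi ▸ Subgroup.orderOf_dvd_natCard _ hy))
      have hidx : ¬ q ∣ T'.relIndex (sigmaCore M) := by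
        rw [← Subgroup.relIndex_mul_relIndex T' H (sigmaCore M) hT'H hH]
        exact hq.not_dvd_mul (sylow_relIndex T) fun h => hq.not_dvd_one (hHall ▸ Nat.dvd_gcd hqH h)
      obtain ⟨i, hi⟩ := hQp.exists_card_eq
      have hdvd : Nat.card Q ∣ Nat.card T' :=
        (Nat.Coprime.dvd_mul_right (n := T'.relIndex (sigmaCore M)) (by
          rw [hi]; exact ((hq.coprime_iff_not_dvd).2 hidx).pow_left _)).1
          (by rw [card_mul_relIndex (hT'H.trans hH)]; exact Subgroup.card_dvd_of_le hQs)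
      exact (Subgroup.eq_of_le_of_card_ge hT'Q (Nat.le_of_dvd Nat.card_pos hdvd)).ge.trans hT'H
    have hDn := (hall D₀ hD₀).1
    have hsplit : IsComplIn Q (H ⊓ D₀) H := by
      refine ⟨hQH, inf_le_left, ?_, fun h hh => ?_⟩
      · rw [eq_bot_iff, ← hD₀.2.2.1]; exact inf_le_inf_left _ inf_le_right
      · obtain ⟨u, hu, d, hd, rfl⟩ := hD₀.2.2.2 h (hH hh)
        exact ⟨u, hu, d, ⟨by simpa using H.mul_mem (H.inv_mem (hQH hu)) hh, hd⟩, rfl⟩
    have hDcop : (Nat.card ↥(H ⊓ D₀)).Coprime ((H ⊓ D₀).relIndex D₀) := by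
      have h1 := card_mul_relIndex (inf_le_right : H ⊓ D₀ ≤ D₀)
      have h2 := card_mul_relIndex hH
      rw [← compl_card hsplit, ← compl_card hD₀, mul_assoc] at h2
      have h3 : (H ⊓ D₀).relIndex D₀ = H.relIndex (sigmaCore M) :=
        Nat.eq_of_mul_eq_mul_left Nat.card_pos
          (h1.trans (Nat.eq_of_mul_eq_mul_left Nat.card_pos h2).symm)
      rw [h3]
      exact hHall.coprime_dvd_left (Subgroup.card_dvd_of_le inf_le_left)
    have hDnH : D₀ ≤ Subgroup.normalizer ((H ⊓ D₀ : Subgroup G) : Set G) :=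
      hall_normal_of_nilpotent hDn inf_le_right hDcop
    refine ⟨s, ⟨hs, ?_⟩, rfl⟩
    obtain ⟨u, hu, d, hd, rfl⟩ := hD₀.2.2.2 s hs
    refine Subgroup.mul_mem _ (Subgroup.le_normalizer (hQH hu))
      (Coprime.mem_normalizer_of_forall fun h hh => ?_)
    obtain ⟨v, hv, e, he, rfl⟩ := hsplit.2.2.2 h hh
    rw [show d * (v * e) * d⁻¹ = (d * v * d⁻¹) * (d * e * d⁻¹) by group]
    exact H.mul_mem (hQH ((Subgroup.mem_normalizer_iff.1 (hQn (hD₀.2.1 hd)) v).1 hv))
      ((Subgroup.mem_normalizer_iff.1 (hDnH hd) e).1 he).1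
  · -- `H` lies in a nilpotent complement of `Q`
    have hcopH : (Nat.card H).Coprime (Nat.card Q) := by
      obtain ⟨i, hi⟩ := hQp.exists_card_eq
      rw [hi]
      exact ((hq.coprime_iff_not_dvd).2 hqH).symm.pow_right _
    have : Group.IsSolvable (sigmaCore M) :=
      Coprime.isSolvable_of_le (sigmaCore_le M) (OddSigma.proper_solvable hG hM.1)
    obtain ⟨D, hD, hHD⟩ := exists_compl_ge hQs hQn hQcop hH hcopH
    have hDn := (hall D (compl_symm hD)).1
    have hDH : D ≤ Subgroup.normalizer (H : Set G) := hall_normal_of_nilpotent hDn hHD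
      (hHall.coprime_dvd_right (Dvd.intro _ (Subgroup.relIndex_mul_relIndex H D _ hHD hD.1)))
    obtain ⟨u, hu, d, hd, rfl⟩ := (compl_symm hD).2.2.2 s hs
    refine ⟨d, ⟨hD.1 hd, hDH hd⟩, ?_⟩
    set y := d * x * d⁻¹ with hy
    have hyD : y ∈ D := hHD ((Subgroup.mem_normalizer_iff.1 (hDH hd) x).1 hx)
    have hyu : u * y * u⁻¹ ∈ D := hHD (by rw [hy]; simpa [mul_assoc] using hsx)
    have h1 : y⁻¹ * (u * y * u⁻¹) ∈ D ⊓ Q := by
      refine ⟨D.mul_mem (D.inv_mem hyD) hyu, ?_⟩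
      rw [show y⁻¹ * (u * y * u⁻¹) = (y⁻¹ * u * y) * u⁻¹ by group]
      exact Q.mul_mem ((Subgroup.mem_normalizer_iff''.1 (hQn (hD.1 hyD)) u).1 hu) (Q.inv_mem hu)
    rw [hD.2.2.1, Subgroup.mem_bot, inv_mul_eq_one] at h1
    conv_lhs => rw [h1]
    rw [hy]; group

/-- Statement 1438, second part. -/
theorem hall_fusion {H : Subgroup G} (hH : H ≤ sigmaCore M)
    (hHall : (Nat.card H).Coprime (H.relIndex (sigmaCore M)))
    {x g : G} (hx : x ∈ H) (hg : g * x * g⁻¹ ∈ H) :
    ∃ n ∈ M ⊓ Subgroup.normalizer (H : Set G), n * x * n⁻¹ = g * x * g⁻¹ := by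
  by_cases hx1 : x = 1
  · exact ⟨1, one_mem _, by simp [hx1]⟩
  obtain ⟨m, hm, hmx⟩ := exists_fusion hG F.toSigFacts hM (hH hx) hx1 (g := g)
    (sigmaCore_le M (hH hg))
  rw [← hmx] at hg ⊢
  have : Group.IsSolvable (sigmaCore M) :=
    Coprime.isSolvable_of_le (sigmaCore_le M) (OddSigma.proper_solvable hG hM.1)
  have hconj : MulAut.conj m • sigmaCore M = sigmaCore M :=
    Coprime.conj_eq_of_mem_normalizer (le_normalizer_sigmaCore M hm)
  have hle : MulAut.conj m • H ≤ sigmaCore M := hconj ▸ (conj_le_conj m).2 hH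
  obtain ⟨s, hsH⟩ := Solvable.conj_of_coprime_index_of_card_eq (G := sigmaCore M)
    (H := H.subgroupOf (sigmaCore M)) (K := (MulAut.conj m • H).subgroupOf (sigmaCore M))
    (by rw [Cores.card_subgroupOf hH]; exact hHall)
    (by rw [Cores.card_subgroupOf hle, Cores.card_subgroupOf hH, Coprime.card_conj])
  have hsH' : MulAut.conj (s : G) • H = MulAut.conj m • H := by
    have h := congrArg (Subgroup.map (sigmaCore M).subtype) hsH
    rw [Solvable.map_conj, Subgroup.map_subgroupOf_eq_of_le hH,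
      Subgroup.map_subgroupOf_eq_of_le hle] at h
    exact h
  have hsM : (s : G) ∈ M := sigmaCore_le M s.2
  set n := (s : G)⁻¹ * m with hn
  have hnN : n ∈ M ⊓ Subgroup.normalizer (H : Set G) := by
    refine ⟨M.mul_mem (M.inv_mem hsM) hm, Coprime.mem_normalizer_of_conj_eq ?_⟩
    rw [hn, ← Solvable.conj_conj, ← hsH', Solvable.conj_inv_smul]
  have hx' : n * x * n⁻¹ ∈ H := (Subgroup.mem_normalizer_iff.1 hnN.2 x).1 hx
  have he : (s : G) * (n * x * n⁻¹) * (s : G)⁻¹ = m * x * m⁻¹ := by rw [hn]; group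
  obtain ⟨n', hn', hn'e⟩ := hall_fusion_sigmaCore hG F hM hH hHall hx' s.2 (by rw [he]; exact hg)
  refine ⟨n' * n, ⟨M.mul_mem (sigmaCore_le M hn'.1) hnN.1, Subgroup.mul_mem _ hn'.2 hnN.2⟩, ?_⟩
  rw [← he, ← hn'e]; group

end Cfsg.Agent.OddMax
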