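import Cfsg.Agent.Lib.OddOrder.Sec15Facts

/-!
The results of Bender-Glauberman sections 12-15 used in section 16, as a hypothesis bundle.
Statement files discharge it with the corresponding proved statements.
-/

set_option autoImplicit false

universe u

namespace Cfsg.Agent.OddMax

/-- What BG section 16 and statement 1376 need from upstream. -/
structure Sec16Facts (G : Type u) [Group G] [Finite G] : Prop extends Sec15Facts G where
  /-- statement 1354, second part -/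
  s1354_second : ∀ M : Subgroup G, IsCoatom M → ∀ K : Subgroup G, IsCyclic K →
    IsPiHallOf (kappa M) K M → K ≠ ⊥ → ∀ k ∈ K, k ≠ 1 →
      M ⊓ Subgroup.centralizer ({k} : Set G) =
        K ⊔ (sigmaCore M ⊓ Subgroup.centralizer (K : Set G))
  /-- statement 1358 -/
  s1358 : ∀ M : Subgroup G, IsCoatom M → ∀ K U : Subgroup G, IsSigmaDecomposition M K U →
    ∀ (p : ℕ), p.Prime → ∀ P : Sylow p U,
      IsMulCommutative (P : Subgroup U) ∧ PRankLE p 2 (P : Subgroup U)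
  /-- statement 1359 -/
  s1359 : ∀ M : Subgroup G, IsCoatom M → ∀ K U : Subgroup G, IsSigmaDecomposition M K U →
    IsMulCommutative (Subgroup.closure ((U : Set G) ∩ sigmaHat M))
  /-- statement 1360 -/
  s1360 : ∀ M : Subgroup G, IsCoatom M → ∀ K U : Subgroup G, IsSigmaDecomposition M K U →
    ∃ U₀ : Subgroup G, U₀ ≤ U ∧ Monoid.exponent U₀ = Monoid.exponent U ∧
      ∀ u ∈ U₀, u ∈ sigmaHat M → u = 1
  /-- statement 1361 -/
  s1361 : ∀ M : Subgroup G, IsCoatom M → ∀ K U : Subgroup G, IsSigmaDecomposition M K U →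
    ∀ X : Subgroup G, X ≤ U → X ≠ ⊥ →
      sigmaCore M ⊓ Subgroup.centralizer (X : Set G) ≠ ⊥ →
      Subgroup.centralizer (X : Set G) ≤ M ∧
        ∀ L : Subgroup G, IsCoatom L → Subgroup.centralizer (X : Set G) ≤ L → L = M
  /-- statement 1362 -/
  s1362 : ∀ M : Subgroup G, IsCoatom M → ∀ K U : Subgroup G, IsSigmaDecomposition M K U →
    IsTISubset (sigmaA M U \ (sigmaCore M : Set G))
  /-- statement 1363 -/
  s1363 : ∀ M : Subgroup G, IsCoatom M → ∀ K U : Subgroup G, IsSigmaDecomposition M K U → K ≠ ⊥ →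
    IsMulCommutative U ∧ ¬ Subgroup.normalizer (U : Set G) ≤ M
  /-- statement 1364, used part -/
  s1364 : ∀ M : Subgroup G, IsCoatom M → ∀ K U : Subgroup G, IsSigmaDecomposition M K U → K ≠ ⊥ →
    IsCyclic ↥(sigmaCore M ⊓ Subgroup.centralizer (K : Set G)) ∧
      sigmaCore M ⊓ Subgroup.centralizer (K : Set G) ≤ fittingHallOf M ∧
      ¬ IsCyclic (fittingHallOf M)
  /-- statement 1367 -/
  s1367 : ∀ M : Subgroup G, IsCoatom M → ∀ K U : Subgroup G, IsSigmaDecomposition M K U → K ≠ ⊥ →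
    ∀ Mstar : Subgroup G, IsCoatom Mstar →
    K = sigmaCore Mstar ⊓ Subgroup.centralizer
      ((sigmaCore M ⊓ Subgroup.centralizer (K : Set G)) : Set G) →
    IsPiHallOf (kappa Mstar) (sigmaCore M ⊓ Subgroup.centralizer (K : Set G)) Mstar →
    (∀ X : Subgroup G, X ≤ (sigmaCore M ⊓ Subgroup.centralizer (K : Set G)) →
        (Nat.card X).Prime →
        Subgroup.centralizer (X : Set G) ≤ M ∧
          ∀ L : Subgroup G, IsCoatom L → Subgroup.centralizer (X : Set G) ≤ L → L = M) ∧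
      (∀ Y : Subgroup G, Y ≤ K → (Nat.card Y).Prime →
        Subgroup.centralizer (Y : Set G) ≤ Mstar ∧
          ∀ L : Subgroup G, IsCoatom L → Subgroup.centralizer (Y : Set G) ≤ L → L = Mstar)
  /-- statement 1368 -/
  s1368 : ∀ M : Subgroup G, IsCoatom M → ∀ K U : Subgroup G, IsSigmaDecomposition M K U → K ≠ ⊥ →
    ∀ Mstar : Subgroup G, IsCoatom Mstar →
    K = sigmaCore Mstar ⊓ Subgroup.centralizer
      ((sigmaCore M ⊓ Subgroup.centralizer (K : Set G)) : Set G) →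
    IsPiHallOf (kappa Mstar) (sigmaCore M ⊓ Subgroup.centralizer (K : Set G)) Mstar →
    M ⊓ Mstar = K ⊔ (sigmaCore M ⊓ Subgroup.centralizer (K : Set G)) ∧
      IsCyclic ↥(K ⊔ (sigmaCore M ⊓ Subgroup.centralizer (K : Set G)))
  /-- statement 1369, second part -/
  s1369_classes : ∀ M : Subgroup G, IsCoatom M → ∀ K U : Subgroup G, IsSigmaDecomposition M K U →
    K ≠ ⊥ → ∀ Mstar : Subgroup G, IsCoatom Mstar →
    K = sigmaCore Mstar ⊓ Subgroup.centralizer
      ((sigmaCore M ⊓ Subgroup.centralizer (K : Set G)) : Set G) →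
    IsPiHallOf (kappa Mstar) (sigmaCore M ⊓ Subgroup.centralizer (K : Set G)) Mstar →
    ∀ H : Subgroup G, IsCoatom H → (kappa H).Nonempty →
      ∃ g : G, H = M.map (MulAut.conj g).toMonoidHom ∨ H = Mstar.map (MulAut.conj g).toMonoidHom
  /-- statement 1370 -/
  s1370 : ∀ M : Subgroup G, IsCoatom M → ∀ K U : Subgroup G, IsSigmaDecomposition M K U → K ≠ ⊥ →
    IsTISubset ((↑(K ⊔ (sigmaCore M ⊓ Subgroup.centralizer (K : Set G))) : Set G) \
        ((K : Set G) ∪ ↑(sigmaCore M ⊓ Subgroup.centralizer (K : Set G)))) ∧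
      Subgroup.normalizer ((↑(K ⊔ (sigmaCore M ⊓ Subgroup.centralizer (K : Set G))) : Set G) \
          ((K : Set G) ∪ ↑(sigmaCore M ⊓ Subgroup.centralizer (K : Set G)))) =
        K ⊔ (sigmaCore M ⊓ Subgroup.centralizer (K : Set G))
  /-- statement 1419 -/
  s1419 : ∀ M : Subgroup G, IsCoatom M → ∀ E : Subgroup G, IsComplIn E (sigmaCore M) M →
    ∀ (p : ℕ) [Fact p.Prime], p ∈ tau2 M → (∀ S : Sylow p G, ¬ IsMulCommutative (S : Subgroup G)) →
    ∀ A : Subgroup G, (A ≤ E ∧ IsElementaryAbelian p A ∧ Nat.card A = p ^ 2) →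
    tau2 M = {p} ∧
      (Nat.card ↥(A ⊓ Subgroup.centralizer (sigmaCore M : Set G)) = p ∧
        fittingOf M = sigmaCore M ⊔ (A ⊓ Subgroup.centralizer (sigmaCore M : Set G))) ∧
      ∀ X : Subgroup G, X ≤ E → Nat.card X = p →
        X ≠ A ⊓ Subgroup.centralizer (sigmaCore M : Set G) →
        sigmaCore M ⊓ Subgroup.centralizer (X : Set G) = ⊥ ∧
          ¬ Subgroup.centralizer (X : Set G) ≤ M
  /-- statement 1426, last part -/
  s1426_conj : ∀ M : Subgroup G, IsCoatom M → ∀ g : G, g ∉ M →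
    IsCyclic ↥(sigmaCore M ⊓ M.map (MulAut.conj g).toMonoidHom) ∧
      ∀ p : ℕ, p.Prime →
        p ∣ Nat.card ↥(sigmaCore M ⊓ M.map (MulAut.conj g).toMonoidHom) → p ∉ beta M
  /-- statement 1435 -/
  s1435 : ∀ M : Subgroup G, IsCoatom M → ∀ K U : Subgroup G, IsSigmaDecomposition M K U → K ≠ ⊥ →
    U ≠ ⊥ → ∀ Mstar : Subgroup G, IsCoatom Mstar →
    K = sigmaCore Mstar ⊓ Subgroup.centralizer
      ((sigmaCore M ⊓ Subgroup.centralizer (K : Set G)) : Set G) →
    IsPiHallOf (kappa Mstar) (sigmaCore M ⊓ Subgroup.centralizer (K : Set G)) Mstar →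
    ∀ (r : ℕ) [Fact r.Prime], r ∣ Nat.card U → ∀ (R : Sylow r U) (H : Subgroup G), IsCoatom H →
    Subgroup.normalizer (((R : Subgroup U).map U.subtype : Subgroup G) : Set G) ≤ H →
    kappa H = ∅ ∧ U ≤ sigmaCore H ∧ M ⊓ H = U ⊔ K ∧ ¬ H ⊓ Subgroup.normalizer (U : Set G) ≤ M ∧
      K ≤ fittingOf (H ⊓ Mstar) ∧ IsComplIn (H ⊓ Mstar) (sigmaCore H) H
  /-- statement 1436, first part -/
  s1436 : ∀ M : Subgroup G, IsCoatom M → ∀ x : G, x ∈ sigmaCore M → x ≠ 1 →
    ¬ Subgroup.centralizer ({x} : Set G) ≤ M → ∀ N : Subgroup G, IsCoatom N →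
    Subgroup.centralizer ({x} : Set G) ≤ N →
    (∃ p ∈ sigma N, p ∣ Nat.card M) → kappa M = ∅ ∧ tau2 M = ∅
  /-- statement 1440, with `M' = F(M)` only claimed for `K ≠ 1` (otherwise `M' ≤ F(M)`): this is
  the form of BG 15.7 that sections 10-15 give -/
  s1440 : ∀ M : Subgroup G, IsCoatom M → ∀ K U : Subgroup G, IsSigmaDecomposition M K U →
    ∀ g : G, g ∉ M → fittingOf M ⊓ (fittingOf M).map (MulAut.conj g).toMonoidHom ≠ ⊥ →
    (fittingOf M ⊓ (fittingOf M).map (MulAut.conj g).toMonoidHom ≤ fittingHallOf M ∧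
        IsCyclic ↥(fittingOf M ⊓ (fittingOf M).map (MulAut.conj g).toMonoidHom)) ∧
      ((⁅M, M⁆ ≤ fittingOf M ∧ (K ≠ ⊥ → ⁅M, M⁆ = fittingOf M)) ∧ fittingOf M = sigmaCore M ⊔
        piCoreOf {q | q.Prime ∧ q ∉ sigma M} (fittingOf M)) ∧
      ((K = ⊥ ∧ IsMulCommutative (fittingHallOf M) ∧ RankLE 2 (fittingHallOf M) ∧
          ¬ RankLE 1 (fittingHallOf M)) ∨
       (∃ p : ℕ, p.Prime ∧
          Nat.card ↥(fittingOf M ⊓ (fittingOf M).map (MulAut.conj g).toMonoidHom) = p ∧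
          p ∈ sigma M ∧ p ∉ beta M ∧
          ¬ IsMulCommutative (pCore p ↥(fittingHallOf M)) ∧
          IsCyclic (pPrimeCore p ↥(fittingHallOf M)) ∧
          ∀ q : ℕ, q.Prime → q ∣ Nat.card (fittingHallOf M) →
            Monoid.exponent (↥M ⧸ fittingHall ↥M) ∣ q - 1) ∨
       (∃ p : ℕ, p.Prime ∧
          Nat.card ↥(fittingOf M ⊓ (fittingOf M).map (MulAut.conj g).toMonoidHom) = p ∧
          p ∈ sigma M ∧ p ∉ beta M ∧
          IsCyclic (pPrimeCore p ↥(fittingHallOf M)) ∧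
          Nat.card (pCore p ↥(fittingHallOf M)) = p ^ 3 ∧
          ¬ IsMulCommutative (pCore p ↥(fittingHallOf M)) ∧ K ≠ ⊥ ∧ U = ⊥ ∧
          (fittingHallOf M).relIndex M ∣ p + 1))

variable {G : Type u} [Group G] [Finite G]

theorem Sec16Facts.fittingTI (F : Sec16Facts G) : FittingTIFact G :=
  fun M hM K U hKU g hg hX => (F.s1440 M hM K U hKU g hg hX).2.1.1

end Cfsg.Agent.OddMax
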