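import Cfsg.Agent.Lib.OddOrder.Unique
import Cfsg.Agent.Lib.OddOrder.RankTwoPLength
import Cfsg.Agent.Lib.PGroup.SCN3
import Cfsg.Agent.S1396
import Cfsg.Agent.S1469

/-!
`OddUniq.facts`: the facts used by the uniqueness theorem hold in a minimal simple group of odd
order.
-/

set_option autoImplicit false

namespace Cfsg.Agent.OddUniq

open OddTrans

variable {G : Type*} [Group G] [Finite G]

theorem ne_two_of_dvd_card (hodd : Odd (Nat.card G)) {p : ℕ} (h : p ∣ Nat.card G) : p ≠ 2 := by
  rintro rfl
  exact (Nat.not_even_iff_odd.2 hodd) (even_iff_two_dvd.2 h)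

theorem facts (hG : IsMinSimpleOddOrder G) : Facts G := by
  obtain ⟨hodd, hs, hna, hsol⟩ := id hG
  refine ⟨hs, hna, hsol, hodd, fun p _ => zlFact_of fun X S hX => ?_, fun p _ X hX hr => ?_,
    fun p _ P A hA hA1 => ?_, fun p _ => scnFact_of (fun R hR hR3 hp2 E hEn hE hE2 => ?_) hodd⟩
  · have := hX
    have hoddX : Odd (Nat.card X) := hodd.of_dvd_nat (Subgroup.card_subgroup_dvd_card X)
    by_cases hp2 : p = 2
    · subst hp2
      have hS : (S : Subgroup X) = ⊥ := by
        by_contra hne
        exact ne_two_of_dvd_card hoddX ((dvd_card_of_le hne S.2 le_rfl).trans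
          (Subgroup.card_subgroup_dvd_card _)) rfl
      refine eq_top_iff.2 fun x _ => Subgroup.mem_sup_right ?_
      refine Coprime.mem_normalizer_of_forall fun y hy => ?_
      have hy1 : y = 1 := by
        obtain ⟨z, _, rfl⟩ := hy
        have hz := z.2
        simp only [hS, Subgroup.mem_bot] at hz
        simpa using hz
      subst hy1
      rw [mul_one, mul_inv_cancel]
      exact one_mem _
    exact (S1469.result (G := X) hoddX p hp2 S).1
  · have := hX
    exact RankTwoPLength.index_pPrimePCore_coprime_of_rank_two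
      (hodd.of_dvd_nat (Subgroup.card_subgroup_dvd_card X)) hr
  · have hA0 : A ≠ ⊥ := by
      rintro rfl
      refine hA1 fun E _ _ => ?_
      calc Nat.card E ≤ Nat.card (⊥ : Subgroup G) :=
            Nat.card_le_card_of_injective (fun e : E => (e : (⊥ : Subgroup G)))
              fun a b h => Subtype.ext h
        _ ≤ _ := by
          rw [Subgroup.card_bot]
          exact Nat.one_le_pow _ _ (Fact.out : p.Prime).pos
    have hAp : IsPGroup p A := P.2.to_le hA.1
    exact S1396.result hG p ((dvd_card_of_le hA0 hAp le_rfl).trans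
      (Subgroup.card_subgroup_dvd_card A)) A hAp (scn_isMulCommutative hA)
      (Or.inr ⟨P, hA, hA1⟩)
  · have := hEn
    obtain ⟨A, -, h1, h2, h3⟩ := PGroup.exists_scn_three_ge hp2 hR hR3 E hE hE2
    exact ⟨A, h1, h2, h3⟩

end Cfsg.Agent.OddUniq
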