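/-
Discharging the hypotheses `Inputs` of section 10 with the upstream statements.
Main results (namespace `Cfsg.Agent.OddSigma`): `uniqHyp`, `rankTwoHyp`, `rankTwoFittingHyp`, `narrowStructHyp`,
`rankTwoOperatorHyp`, `pLengthCommHyp`, `inputs`.
-/
import Cfsg.Agent.Lib.OddOrder.SigmaStatements
import Cfsg.Agent.S1450
import Cfsg.Agent.S1403
import Cfsg.Agent.S1451
import Cfsg.Agent.S1455
import Cfsg.Agent.S1448
import Cfsg.Agent.S1444

set_option autoImplicit false

namespace Cfsg.Agent.OddSigma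

universe u

/-- `RankTwoHyp` holds: statement S1450 for the proper subgroups. -/
theorem rankTwoHyp {G : Type u} [Group G] [Finite G] (hG : IsMinSimpleOddOrder G) : RankTwoHyp G := by
  intro H hH p hp hpH hr
  have := Fact.mk hp
  have := proper_solvable hG hH
  obtain ⟨h1, -, h3, -, h5, h6⟩ := Cfsg.Agent.S1450.result (odd_card hG H) p hpH hr
  exact ⟨h1, h3, h5, h6⟩

/-- `UniqHyp` holds: statement S1403, the uniqueness theorem. -/
theorem uniqHyp {G : Type u} [Group G] [Finite G] (hG : IsMinSimpleOddOrder G) : UniqHyp G :=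
  fun K hK hK2 hK3 => Cfsg.Agent.S1403.result hG K hK hK2 hK3

/-- `RankTwoFittingHyp` holds: statement S1451. -/
theorem rankTwoFittingHyp : RankTwoFittingHyp.{u} := by
  intro H _ _ _ hodd hr
  obtain ⟨h1, -, h3⟩ := Cfsg.Agent.S1451.result hodd hr
  exact ⟨h1, h3⟩

/-- `NarrowStructHyp` holds: statement S1455. -/
theorem narrowStructHyp : NarrowStructHyp.{u} := by
  intro H _ _ _ hodd p _ hp S hS hpl
  obtain ⟨h1, -, h3, -⟩ := Cfsg.Agent.S1455.result hodd p hp S hS hpl
  exact ⟨h1, h3⟩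

/-- `RankTwoOperatorHyp` holds: statement S1448. -/
theorem rankTwoOperatorHyp : RankTwoOperatorHyp.{u} :=
  fun _ _ _ p _ hp R A h1 h2 h3 h4 h5 h6 h7 => Cfsg.Agent.S1448.result p hp R A h1 h2 h3 h4 h5 h6 h7

/-- `PLengthCommHyp` holds: statement S1444. -/
theorem pLengthCommHyp : PLengthCommHyp.{u} := by
  intro H _ _ _ ho A R R₀ _ hc hR hR₀ hpr hZ p hp
  haveI := Fact.mk hp
  exact Cfsg.Agent.S1444.result ho A R R₀ hc hR hR₀ hpr hZ p

/-- All the inputs of section 10. -/
theorem inputs {G : Type u} [Group G] [Finite G] (hG : IsMinSimpleOddOrder G) : Inputs G :=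
  ⟨hG, uniqHyp hG, rankTwoHyp hG, rankTwoFittingHyp, pLengthCommHyp, rankTwoOperatorHyp, narrowStructHyp⟩

end Cfsg.Agent.OddSigma
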