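/-
Bender-Glauberman 12.1: the complement `E` of `M_σ` in a maximal subgroup `M`.
Main results (namespace `Cfsg.Agent.OddTau2`): `compl_pi`, `rankLE_compl`, `compl_commutator_nilpotent`,
`dvd_compl_commutator`, `tau_one_cyclic`, `tau_three_hall`, `s1415`.
-/
import Cfsg.Agent.Lib.OddOrder.TauTwoBasic
import Cfsg.Agent.Lib.OddOrder.Compl

set_option autoImplicit false
set_option linter.unusedSectionVars false
set_option linter.unusedVariables false

open Subgroup
open scoped Pointwise

universe u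

namespace Cfsg.Agent.OddTau2

open Cfsg.Agent.Solvable

variable {G : Type u} [Group G] [Finite G]

/-- A Hall subgroup of a nilpotent group is normalised by it. -/
theorem hall_normal_of_nilpotent {X : Type*} [Group X] [Finite X] [Group.IsNilpotent X] {π : Set ℕ}
    {H : Subgroup X} (h : IsPiHall π H) : H.Normal := by
  by_contra hn
  set N := normalizer (H : Set X) with hN
  have hNtop : N ≠ ⊤ := fun h' => hn (normalizer_eq_top_iff.1 h')
  refine (Group.normalizerCondition_of_isNilpotent N (lt_top_iff_ne_top.2 hNtop)).ne (le_antisymm ?_ ?_)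
  · exact le_normalizer
  intro x hx
  rw [mem_normalizer_iff_conj] at hx ⊢
  have hH' : MulAut.conj x • H ≤ N := hx ▸ (Subgroup.pointwise_smul_le_pointwise_smul_iff.2 le_normalizer)
  have hn' : (H.subgroupOf N).Normal := normal_subgroupOf_of_le_normalizer le_rfl
  have h1 : (MulAut.conj x • H).subgroupOf N ≤ H.subgroupOf N := by
    refine OddSigma.le_of_pi_index (π := π) (fun q hq hqπ hd => h.2 q hq hqπ (hd.trans ?_)) fun q hq hd => h.1 q hq ?_
    · exact Dvd.intro _ (relIndex_mul_index le_normalizer)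
    · rwa [Cores.card_subgroupOf hH', card_conj] at hd
  exact eq_of_le_of_card_ge (fun y hy => h1 (x := ⟨y, hH' hy⟩) hy) (card_conj x H).ge

/-- The inputs of section 10 that 12.1 needs. -/
structure Base (G : Type u) [Group G] [Finite G] : Prop where
  hG : IsMinSimpleOddOrder G
  hU : OddSigma.UniqHyp G
  hR2 : OddSigma.RankTwoHyp G
  hF : OddSigma.RankTwoFittingHyp.{u}

theorem base (U : Upstream G) : Base G := ⟨U.hG, U.hU, U.hR2, U.hF⟩

section Compl

variable (U : Base G) {M E : Subgroup G} (hM : IsCoatom M) (hE : IsComplIn E (sigmaCore M) M)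
include U hM hE

theorem compl_pi {q : ℕ} (hq : q.Prime) (hd : q ∣ Nat.card E) : q ∉ sigma M := fun hσ => by
  refine (OddSigma.sigmaCore_hallOf U.hG U.hU U.hR2 U.hF hM).2.2 q hq hσ ?_
  rwa [OddMax.compl_relIndex_left hE]

theorem compl_solvable : Group.IsSolvable E :=
  Coprime.isSolvable_of_le hE.1 (OddSigma.proper_solvable U.hG hM.1)

theorem rankLE_compl : RankLE 2 E := by
  intro q hq
  have := Fact.mk hq
  by_contra h
  obtain ⟨B, hB, hBe, hc⟩ := OddSigma.exists_elementary h
  have hα : q ∈ alpha M := ⟨hq, OddSigma.not_prankLE_of_le (hB.trans hE.1) hBe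
    (lt_of_lt_of_le (Nat.pow_lt_pow_right hq.one_lt (Nat.lt_succ_self 2)) hc)⟩
  refine compl_pi U hM hE hq ?_ (OddSigma.alpha_subset_sigma U.hG U.hU hM hα)
  obtain ⟨j, hj⟩ := (Signalizer.isPGroup_of_elemAb hBe).exists_card_eq
  rw [hj] at hc
  have : 3 ≤ j := (Nat.pow_le_pow_iff_right hq.one_lt).1 hc
  exact (dvd_pow_self q (by omega : j ≠ 0)).trans (hj ▸ card_dvd_of_le hB)

theorem compl_commutator_nilpotent : Group.IsNilpotent ↥⁅E, E⁆ := by
  have h := (U.hF E (compl_solvable U hM hE) (OddSigma.odd_card U.hG E) (Or.inl (rankLE_compl U hM hE))).1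
  rw [← map_subtype_commutator]
  exact Cores.isNilpotent_map E.subtype h

/-- `M' ≤ M_σ E'`, arithmetically. -/
theorem dvd_compl_commutator {q : ℕ} (hq : q.Prime) (hd : q ∣ Nat.card ↥⁅M, M⁆) (hσ : q ∉ sigma M) :
    q ∣ Nat.card ↥⁅E, E⁆ := by
  have : ((sigmaCore M).subgroupOf M).Normal :=
    normal_subgroupOf_of_le_normalizer (OddMax.le_normalizer_sigmaCore M)
  set f := QuotientGroup.mk' ((sigmaCore M).subgroupOf M) with hf
  set g := f.comp (inclusion hE.1) with hg
  have hsurj : Function.Surjective g := by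
    rintro ⟨⟨m, hm⟩⟩
    obtain ⟨e, he, k, hk, rfl⟩ := hE.2.2.2 m hm
    refine ⟨⟨e, he⟩, QuotientGroup.eq.2 ?_⟩
    show e⁻¹ * (e * k) ∈ sigmaCore M
    rwa [inv_mul_cancel_left]
  have h1 : (commutator ↥M).map f = (commutator ↥E).map g := by
    rw [commutator_def, commutator_def, map_commutator, map_commutator, map_top_of_surjective f (QuotientGroup.mk'_surjective _),
      map_top_of_surjective g hsurj]
  rw [← map_subtype_commutator, card_map_of_injective M.subtype_injective, card_eq_card_map_mul f,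
    QuotientGroup.ker_mk'] at hd
  rcases hq.dvd_mul.1 hd with h | h
  · rw [h1] at h
    rw [← map_subtype_commutator, card_map_of_injective E.subtype_injective]
    exact h.trans (card_map_dvd _ _)
  · refine absurd (h.trans (card_dvd_of_le inf_le_right)) ?_
    rw [Cores.card_subgroupOf (OddMax.sigmaCore_le M)]
    exact fun hd => hσ (OddMax.sigmaCore_pi M q hq hd)

omit U hM in
theorem commutator_compl_le : ⁅E, E⁆ ≤ ⁅M, M⁆ := commutator_mono hE.1 hE.1

theorem rankLE_one_of_tau {X : Subgroup G} (hX : X ≤ M) (hπ : ∀ q : ℕ, q.Prime → q ∣ Nat.card X → PRankLE q 1 M) :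
    RankLE 1 X := by
  intro q hq
  have := Fact.mk hq
  by_cases hd : q ∣ Nat.card X
  · exact OddSigma.prankLE_mono hX fun B hB hB' => hπ q hq hd B hB hB'
  intro B hB hB'
  obtain ⟨j, hj⟩ := (Signalizer.isPGroup_of_elemAb (p := q) (A := B) ⟨hB, hB'⟩).exists_card_eq
  rcases j with - | j
  · rw [hj, pow_zero]; exact Nat.one_le_pow _ _ hq.pos
  · exact absurd ((hj ▸ dvd_pow_self q j.succ_ne_zero).trans (card_subgroup_dvd_card B)) hd

/-- Hall `τ₁(M)`-subgroups of `E` are cyclic. -/
theorem tau_one_cyclic {E₁ : Subgroup G} (h : IsPiHallOf (tau1 M) E₁ E) : IsCyclic E₁ := by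
  have hz : IsZGroup E₁ := OddSigma.isZGroup_of_rankLE_one (OddSigma.odd_card U.hG E₁)
    (rankLE_one_of_tau U hM hE (h.1.trans hE.1) fun q hq hd => (h.2.1 q hq hd).2.2.2.2)
  have hinf : E₁ ⊓ ⁅E, E⁆ = ⊥ := Solvable.inf_eq_bot_of_coprime (Nat.coprime_of_dvd fun q hq h1 h2 =>
    (h.2.1 q hq h1).2.2.2.1 (h2.trans (card_dvd_of_le (commutator_compl_le hE))))
  have : Group.IsNilpotent E₁ := by
    have : IsMulCommutative E₁ := ⟨⟨fun a b => Subtype.ext (commutatorElement_eq_one_iff_mul_comm.1 (mem_bot.1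
      (hinf ▸ ⟨commutator_le_self E₁ (commutator_mem_commutator a.2 b.2),
        commutator_mem_commutator (h.1 a.2) (h.1 b.2)⟩)))⟩⟩
    exact Cores.isNilpotent_of_isMulCommutative E₁
  infer_instance

/-- Hall `τ₃(M)`-subgroups of `E` are cyclic, contained in `E'` and normal in `E`. -/
theorem tau_three_hall {E₃ : Subgroup G} (h : IsPiHallOf (tau3 M) E₃ E) :
    IsCyclic E₃ ∧ E₃ ≤ ⁅E, E⁆ ∧ E ≤ normalizer (E₃ : Set G) := by
  have hz : IsZGroup E₃ := OddSigma.isZGroup_of_rankLE_one (OddSigma.odd_card U.hG E₃)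
    (rankLE_one_of_tau U hM hE (h.1.trans hE.1) fun q hq hd => (h.2.1 q hq hd).2.2.2)
  have hle : E₃.subgroupOf E ≤ commutator ↥E := by
    refine OddSigma.le_of_pi_index (π := tau3 M) (fun q hq hqτ hd => ?_) fun q hq hd => h.2.1 q hq ?_
    · have := Fact.mk hq
      obtain ⟨P⟩ : Nonempty (Sylow q E) := inferInstance
      have : IsCyclic P := by
        refine Isolated.isCyclic_of_rank_le_one ?_ ?_ _ P.isPGroup'
        · exact OddSigma.prime_ne_two U.hG (hd.trans (index_dvd_card _))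
        · exact OddSigma.prankLE_mono hE.1 hqτ.2.2.2
      rcases P.not_dvd_card_commutator_or_not_dvd_index_commutator with h1 | h1
      · refine h1 ?_
        have := dvd_compl_commutator U hM hE hq hqτ.2.2.1 hqτ.2.1
        rwa [← map_subtype_commutator, card_map_of_injective E.subtype_injective] at this
      · exact h1 hd
    · rwa [Cores.card_subgroupOf h.1] at hd
  have hle' : E₃ ≤ ⁅E, E⁆ := by
    rw [← map_subtype_commutator]
    exact fun x hx => ⟨⟨x, h.1 hx⟩, hle hx, rfl⟩
  have hnil := compl_commutator_nilpotent U hM hE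
  refine ⟨?_, hle', ?_⟩
  · have : Group.IsNilpotent E₃ := Cores.isNilpotent_of_le hle' hnil
    infer_instance
  have hE'E : ⁅E, E⁆ ≤ E := commutator_le_self E
  have hhall : IsPiHall (tau3 M) (E₃.subgroupOf ⁅E, E⁆) := by
    refine ⟨fun q hq hd => h.2.1 q hq (by rwa [Cores.card_subgroupOf hle'] at hd), fun q hq hqτ hd => ?_⟩
    refine h.2.2 q hq hqτ (hd.trans ?_)
    exact Dvd.intro _ (relIndex_mul_relIndex E₃ ⁅E, E⁆ E hle' hE'E)
  have hn := hall_normal_of_nilpotent hhall
  intro e he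
  have heE' : e ∈ normalizer ((⁅E, E⁆ : Subgroup G) : Set G) :=
    Signalizer.normalizer_le_normalizer_commutator E (le_normalizer he)
  rw [mem_normalizer_iff_conj]
  have hle2 : MulAut.conj e • E₃ ≤ ⁅E, E⁆ := by
    refine (Subgroup.pointwise_smul_le_pointwise_smul_iff.2 hle').trans ?_
    rw [mem_normalizer_iff_conj.1 heE']
  have h1 : (MulAut.conj e • E₃).subgroupOf ⁅E, E⁆ ≤ E₃.subgroupOf ⁅E, E⁆ :=
    OddSigma.le_of_pi_index hhall.2 fun q hq hd => h.2.1 q hq (by
      rwa [Cores.card_subgroupOf hle2, card_conj] at hd)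
  exact eq_of_le_of_card_ge (fun y hy => h1 (x := ⟨y, hle2 hy⟩) hy) (card_conj e E₃).ge

end Compl

/-- Statement 1415 from the inputs of section 10. -/
theorem s1415 (U : Base G) (M : Subgroup G) (hM : IsCoatom M) (E : Subgroup G)
    (hE : IsComplIn E (sigmaCore M) M) :
    Group.IsNilpotent ↥⁅E, E⁆ ∧ (∀ E₁ : Subgroup G, IsPiHallOf (tau1 M) E₁ E → IsCyclic E₁) ∧
      ∀ E₃ : Subgroup G, IsPiHallOf (tau3 M) E₃ E → IsCyclic E₃ ∧ E₃ ≤ ⁅E, E⁆ ∧ E ≤ normalizer (E₃ : Set G) :=
  ⟨compl_commutator_nilpotent U hM hE, fun _ h => tau_one_cyclic U hM hE h, fun _ h => tau_three_hall U hM hE h⟩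

end Cfsg.Agent.OddTau2
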