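/-
Bender-Glauberman section 12, tools for the exceptional case: maximal subgroups without `α`-primes, the
nilpotent Hall `β'`-subgroup of `H_σ`, and the central line of a Sylow subgroup containing `A`.
Main results (namespace `Cfsg.Agent.OddTau2`): `commutator_nilpotent_of_alpha`, `sylow_normal_of_alpha`,
`conj_of_alpha`, `beta_commute`, `fixed_eq_bot_of_sigma`, `rank_one_fixed`, `exists_central_line`.
-/
import Cfsg.Agent.Lib.OddOrder.TauTwoCompl
import Cfsg.Agent.Lib.RankTwo.Narrow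
import Cfsg.Agent.Lib.PNormal.RankTwo
import Cfsg.Agent.Lib.PGroup.Omega

set_option autoImplicit false
set_option linter.unusedSectionVars false
set_option linter.unusedVariables false

open Subgroup
open scoped Pointwise commutatorElement

universe u

namespace Cfsg.Agent.OddTau2

open Cfsg.Agent.Solvable

variable {G : Type u} [Group G] [Finite G]

theorem eq_of_le_coatom {H L : Subgroup G} (hH : IsCoatom H) (hL : IsCoatom L) (h : H ≤ L) : H = L :=
  h.eq_or_lt.resolve_right fun hlt => hL.1 (hH.2 _ hlt)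

theorem ne_bot_card {p : ℕ} [hp : Fact p.Prime] {X : Subgroup G} (hX : Nat.card X = p) : X ≠ ⊥ := fun h =>
  hp.out.one_lt.ne (by rw [← hX, h, card_bot])

/-- `R ≤ D`, `D` nilpotent, `R` Sylow in `D`: what normalises `D` normalises `R`. -/
theorem le_normalizer_sylow {r : ℕ} [Fact r.Prime] {D R H : Subgroup G} (hD : Group.IsNilpotent D) (hRD : R ≤ D)
    (hR : IsPGroup r R) (hi : ¬ r ∣ R.index) (hH : H ≤ normalizer (D : Set G)) : H ≤ normalizer (R : Set G) := by
  obtain ⟨P, hP⟩ := OddMax.exists_sylow_eq hR hRD fun h => hi (h.trans (Dvd.intro _ (relIndex_mul_index hRD)))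
  exact hP ▸ hH.trans (OddMax.normalizer_le_normalizer_sylow hD P)

variable (U : Upstream G)
include U

theorem alpha_empty {H : Subgroup G} (hH : IsCoatom H) (hα : alphaCore H = ⊥) {r : ℕ} : r ∉ alpha H := fun hr => by
  have h := (OddSigma.alphaCore_hallOf U.hG U.hU U.hR2 U.hF hH).2.2 r hr.1 hr
  rw [hα, relIndex_bot_left] at h
  exact h (OddSigma.alpha_dvd hr)

theorem alphaCore_eq_bot {H : Subgroup G} (hH : IsCoatom H) (h : ∀ r : ℕ, r ∉ alpha H) : alphaCore H = ⊥ := by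
  by_contra hne
  obtain ⟨r, hr, hd⟩ := Nat.exists_prime_and_dvd ((not_congr (card_eq_one (H := alphaCore H))).2 hne)
  exact h r ((OddSigma.alphaCore_hallOf U.hG U.hU U.hR2 U.hF hH).2.1 r hr hd)

theorem commutator_nilpotent_of_alpha {H : Subgroup G} (hH : IsCoatom H) (hα : alphaCore H = ⊥) :
    Group.IsNilpotent ↥⁅H, H⁆ := by
  have h1 : piCore (alpha H) ↥H = ⊥ := (map_eq_bot_iff_of_injective _ H.subtype_injective).1 hα
  have h2 := OddSigma.derived_quotient_nilpotent U.hG U.hU U.hR2 U.hF hH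
  set e : (↥H ⧸ piCore (alpha H) ↥H) ≃* ↥H := (QuotientGroup.quotientMulEquivOfEq h1).trans QuotientGroup.quotientBot
  have h3 := Cores.isNilpotent_map e.toMonoidHom h2
  rw [commutator_def, map_commutator, map_top_of_surjective _ e.surjective, ← commutator_def] at h3
  rw [← map_subtype_commutator]
  exact Cores.isNilpotent_map H.subtype h3

theorem sigmaCore_nilpotent_of_alpha {H : Subgroup G} (hH : IsCoatom H) (hα : alphaCore H = ⊥) :
    Group.IsNilpotent ↥(sigmaCore H) :=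
  Cores.isNilpotent_of_le (OddSigma.sigmaCore_le_commutator U.hG U.hU U.hR2 U.hF hH)
    (commutator_nilpotent_of_alpha U hH hα)

theorem normalizer_sylow_eq {H R : Subgroup G} (hH : IsCoatom H) (hα : alphaCore H = ⊥) {r : ℕ} [Fact r.Prime]
    (hRH : R ≤ ⁅H, H⁆) (hR : IsPGroup r R) (hi : ¬ r ∣ R.index) (hR1 : R ≠ ⊥) : normalizer (R : Set G) = H := by
  refine OddMax.normalizer_eq U.hG hH hR1 (hRH.trans (commutator_le_self H)) ?_
  refine le_normalizer_sylow (commutator_nilpotent_of_alpha U hH hα) hRH hR hi ?_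
  exact le_normalizer.trans (Signalizer.normalizer_le_normalizer_commutator H)

theorem normalizer_sigma_sylow_eq {H R : Subgroup G} (hH : IsCoatom H) (hα : alphaCore H = ⊥) {r : ℕ} [Fact r.Prime]
    (hRH : R ≤ sigmaCore H) (hR : IsPGroup r R) (hi : ¬ r ∣ R.index) (hR1 : R ≠ ⊥) : normalizer (R : Set G) = H :=
  normalizer_sylow_eq U hH hα (hRH.trans (OddSigma.sigmaCore_le_commutator U.hG U.hU U.hR2 U.hF hH)) hR hi hR1

/-- A Sylow subgroup of `G` of rank at least three lies in one maximal subgroup. -/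
theorem unique_of_alpha {L R : Subgroup G} {r : ℕ} [Fact r.Prime] (hr : r ∈ alpha L) (hR : IsPGroup r R)
    (hi : ¬ r ∣ R.index) (hRtop : R ≠ ⊤) : InUniqueMaximal R := by
  refine OddSigma.unique_of_prank_three U.hG U.hU hRtop hr.1 fun h => ?_
  obtain ⟨B, hBL, hB, hc⟩ := OddSigma.exists_elementary hr.2
  obtain ⟨S, hS⟩ := (Signalizer.isPGroup_of_elemAb hB).exists_le_sylow
  obtain ⟨g, hg⟩ := MulAction.exists_smul_eq G S (hR.toSylow hi)
  have hle : MulAut.conj g • B ≤ R := (conj_mono g hS).trans (by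
    rw [← Sylow.coe_subgroup_smul, hg]
    exact le_rfl)
  have hBg : IsElementaryAbelian r (MulAut.conj g • B) := by
    refine ⟨⟨⟨?_⟩⟩, ?_⟩
    · rintro ⟨_, a, ha, rfl⟩ ⟨_, b, hb, rfl⟩
      apply Subtype.ext
      show MulAut.conj g a * MulAut.conj g b = MulAut.conj g b * MulAut.conj g a
      rw [← map_mul, ← map_mul, OddSigma.elem_comm hB ha hb]
    rintro _ ⟨b, hb, rfl⟩
    show (MulAut.conj g b) ^ r = 1
    rw [← map_pow, hB.2 b hb, map_one]
  refine OddSigma.not_prankLE_of_le hle hBg ?_ h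
  rw [card_conj]
  exact lt_of_lt_of_le (Nat.pow_lt_pow_right hr.1.one_lt (Nat.lt_succ_self 2)) hc

/-- `r ∈ α(L) ∩ σ(H)`: `L` is conjugate to `H`. -/
theorem conj_of_alpha {L H : Subgroup G} (hL : IsCoatom L) (hH : IsCoatom H) {r : ℕ} [Fact r.Prime]
    (hrL : r ∈ alpha L) (hrH : r ∈ sigma H) : ∃ g : G, L = MulAut.conj g • H := by
  obtain ⟨P⟩ : Nonempty (Sylow r L) := inferInstance
  obtain ⟨g, hg⟩ := OddSigma.exists_conj_le_of_sigma hrH (P.isPGroup'.map L.subtype)
  obtain ⟨M₀, -, hu⟩ := OddSigma.sylow_unique_of_alpha U.hG U.hU hL hrL P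
  exact ⟨g, (hu L ⟨hL, map_subtype_le _⟩).trans (hu _ ⟨OddSigma.isCoatom_conj hH g, hg⟩).symm⟩

theorem sigma_eq_of_alpha {L H : Subgroup G} (hL : IsCoatom L) (hH : IsCoatom H) {r : ℕ} [Fact r.Prime]
    (hrL : r ∈ alpha L) (hrH : r ∈ sigma H) : sigma L = sigma H := by
  obtain ⟨g, rfl⟩ := conj_of_alpha U hL hH hrL hrH
  exact OddMax.sigma_conj g H

/-- `p, r ∉ β(H)`: in `H_σ` an `r`-group normalised by a `p`-group is centralised by it. -/
theorem beta_commute {H B C : Subgroup G} (hH : IsCoatom H) {p r : ℕ} [hp : Fact p.Prime] [hr : Fact r.Prime]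
    (hpr : p ≠ r) (hpb : p ∉ beta H) (hrb : r ∉ beta H) (hB : IsPGroup p B) (hC : IsPGroup r C)
    (hBH : B ≤ sigmaCore H) (hCH : C ≤ sigmaCore H) (hBC : B ≤ normalizer (C : Set G)) :
    C ≤ centralizer (B : Set G) := by
  obtain ⟨K, hK, hKn⟩ := (U.s1414 H hH).2.2.2.1
  have : Group.IsSolvable ↥(sigmaCore H) :=
    Coprime.isSolvable_of_le (OddMax.sigmaCore_le H) (OddSigma.proper_solvable U.hG hH.1)
  have hle : C ⊔ B ≤ sigmaCore H := sup_le hCH hBH
  obtain ⟨g, hg⟩ := exists_conj_ge_of_solvable (U := (C ⊔ B).subgroupOf (sigmaCore H))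
    (isPiHall_subgroupOf hK) fun q hq hd => by
    rw [Cores.card_subgroupOf hle] at hd
    refine ⟨hq, ?_⟩
    have hn : (C.subgroupOf (C ⊔ B)).Normal := normal_subgroupOf_of_le_normalizer (sup_le le_normalizer hBC)
    have htop : C.subgroupOf (C ⊔ B) ⊔ B.subgroupOf (C ⊔ B) = ⊤ := by
      rw [← subgroupOf_sup le_sup_left le_sup_right, subgroupOf_self]
    have h1 := card_sup_dvd (B.subgroupOf (C ⊔ B)) (C.subgroupOf (C ⊔ B))
    rw [show B.subgroupOf (C ⊔ B) ⊔ C.subgroupOf (C ⊔ B) = ⊤ from (sup_comm _ _).trans htop, Subgroup.card_top, Cores.card_subgroupOf le_sup_right, Cores.card_subgroupOf le_sup_left] at h1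
    rcases hq.dvd_mul.1 (hd.trans h1) with h | h
    · exact (Set.mem_singleton_iff.1 (OddTrans.pi_of_isPGroup hB q hq h)) ▸ hpb
    · exact (Set.mem_singleton_iff.1 (OddTrans.pi_of_isPGroup hC q hq h)) ▸ hrb
  set Y := (MulAut.conj g • K.subgroupOf (sigmaCore H)).map (sigmaCore H).subtype with hY
  have hYn : Group.IsNilpotent Y := by
    refine Cores.isNilpotent_map _ ?_
    have := hKn
    exact Cores.isNilpotent_map _ (Group.nilpotent_of_mulEquiv (subgroupOfEquivOfLe hK.1).symm)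
  have hCB : C ⊔ B ≤ Y := fun x hx => ⟨⟨x, hle hx⟩, hg hx, rfl⟩
  exact commute_of_nilpotent hYn hpr.symm hC hB (le_sup_left.trans hCB) (le_sup_right.trans hCB)

section MaxElem

variable {p : ℕ} [hp : Fact p.Prime] {A : Subgroup G}

theorem MaxE2.not_beta (hA : MaxE2 p A) {L : Subgroup G} : p ∉ beta L := by
  rintro ⟨-, hid⟩
  obtain ⟨P, hP⟩ := hA.isPGroup.exists_le_sylow
  obtain ⟨B, -, hB, hlt⟩ := hid.2.2 P A hP hA.1 hA.2.1
  exact hlt.ne (hA.2.2 B hB hlt.le).symm

/-- `A ≤ H₀` with `p ∈ σ(H₀)`, and `p ∉ σ(H)`, `r ∈ σ(H)`: an `A`-invariant `r`-subgroup of `H₀` has a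
fixed point. -/
theorem fixed_eq_bot_of_sigma (hA : MaxE2 p A) {H₀ H : Subgroup G} (hH₀ : IsCoatom H₀) (hpH₀ : p ∈ sigma H₀)
    (hAH₀ : A ≤ H₀) (hH : IsCoatom H) (hpH : p ∉ sigma H) {r : ℕ} [hr : Fact r.Prime] (hrH : r ∈ sigma H)
    {X : Subgroup G} (hX : IsPGroup r X) (hXH : X ≤ H₀) (hAX : A ≤ normalizer (X : Set G))
    (hfix : X ⊓ centralizer (A : Set G) = ⊥) : X = ⊥ := by
  have hpr : p ≠ r := fun h => hpH (h ▸ hrH)
  rw [← hfix, eq_comm, inf_eq_left]
  by_cases hr₀ : r ∈ sigma H₀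
  · refine beta_commute U hH₀ hpr (hA.not_beta U) (fun hb => ?_) hA.isPGroup hX
      (pgroup_le_sigmaCore U hH₀ hpH₀ hAH₀ hA.isPGroup) (pgroup_le_sigmaCore U hH₀ hr₀ hXH hX) hAX
    exact hpH (sigma_eq_of_alpha U hH₀ hH hb.1 hrH ▸ hpH₀)
  · exact sigma_centralizes U hA hH₀ hpH₀ hAH₀ hr₀ hX hXH hAX

/-- If all fixed point groups of lines on `Q` are cyclic and `Q` has rank at least three, `A` has no fixed
points. -/
theorem rank_one_fixed (hA : MaxE2 p A) {q : ℕ} [hq : Fact q.Prime] (hqp : q ≠ p) {Q : Subgroup G}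
    (hQ : IsPGroup q Q) (hQ3 : ¬ PRankLE q 2 Q) (hAQ : A ≤ normalizer (Q : Set G))
    (h1 : ∀ a ∈ A, a ≠ 1 → PRankLE q 1 ↥(Q ⊓ centralizer ({a} : Set G))) :
    Q ⊓ centralizer (A : Set G) = ⊥ := by
  by_contra hne
  obtain ⟨⟨B, hBQ, hBe, hBc⟩⟩ : Nonempty (∃ B : Subgroup G, B ≤ Q ∧ IsElementaryAbelian q B ∧ q ^ 3 ≤ Nat.card B) :=
    ⟨OddSigma.exists_elementary hQ3⟩
  have hq2 : q ≠ 2 := OddSigma.prime_ne_two U.hG (H := B) (by
    obtain ⟨j, hj⟩ := (Signalizer.isPGroup_of_elemAb hBe).exists_card_eq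
    rw [hj] at hBc ⊢
    exact dvd_pow_self q (by have := (Nat.pow_le_pow_iff_right hq.out.one_lt).1 hBc; omega))
  obtain ⟨V, hVn, hVe, hVc⟩ := PNormal.exists_normal_card_sq (W := B.subgroupOf Q) hQ
    ⟨⟨⟨fun a b => Subtype.ext (Subtype.ext (OddSigma.elem_comm hBe a.2 b.2))⟩⟩,
      fun a ha => Subtype.ext (hBe.2 _ ha)⟩ (by rwa [Cores.card_subgroupOf hBQ])
  set Z₂ := Subgroup.upperCentralSeries ↥Q 2 with hZ₂
  set W := (closure {x : ↥Q | x ∈ Z₂ ∧ x ^ q = 1}) with hW
  have hWe : ∀ x ∈ W, x ^ q = 1 := fun x hx => ((RankTwo.mem_omegaZ2 hq2).1 hx).2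
  have hVW : V ≤ W := by
    have hV1 : (⊥ : Subgroup Q) < V := bot_lt_iff_ne_bot.2 (Signalizer.ne_bot_of_pow_le two_ne_zero hVc.ge)
    obtain ⟨z, hzV, hz1, hzq, hzc⟩ := PNormal.exists_central_mod hQ hV1
    rw [mem_bot] at hz1 hzq
    have hz : z ∈ center ↥Q := mem_center_iff.2 fun g => by
      have := mul_inv_eq_one.1 (mem_bot.1 (hzc g))
      calc g * z = g * z * g⁻¹ * g := by group
        _ = z * g := by rw [this]
    have hzn : (zpowers z).Normal := by
      refine ⟨fun x hx g => ?_⟩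
      rw [mem_center_iff.1 (zpowers_le.2 hz hx) g, mul_inv_cancel_right]
      exact hx
    have hlt : zpowers z < V := lt_of_le_of_ne (zpowers_le.2 hzV) fun he => by
      rw [← he, Nat.card_zpowers, orderOf_eq_prime hzq hz1] at hVc
      have := hq.out.two_le
      nlinarith
    obtain ⟨w, hwV, hwz, -, hwc⟩ := PNormal.exists_central_mod hQ hlt
    have hgen : zpowers z ⊔ zpowers w = V := by
      refine eq_of_le_of_card_ge (sup_le (zpowers_le.2 hzV) (zpowers_le.2 hwV)) ?_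
      rw [hVc, PNormal.card_sup_zpowers (by rw [Nat.card_zpowers, orderOf_eq_prime hzq hz1]) (fun a ha => ?_)
        (hVe.2 w hwV) hwz]
      exact OddSigma.elem_comm hVe hwV (zpowers_le.2 hzV ha)
    rw [← hgen, sup_le_iff, zpowers_le, zpowers_le]
    refine ⟨subset_closure ⟨RankTwo.mem_upperCentralSeries_two.2 fun g => ?_, hVe.2 z hzV⟩,
      subset_closure ⟨RankTwo.mem_upperCentralSeries_two.2 fun g => ?_, hVe.2 w hwV⟩⟩
    · rw [commutatorElement_eq_one_iff_mul_comm.2 (mem_center_iff.1 hz g).symm]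
      exact one_mem _
    · have := zpowers_le.2 hz (hwc g)
      rw [← commutatorElement_inv]
      exact inv_mem this
  have hWc : q ^ 2 ≤ Nat.card W := hVc ▸ card_le_of_le hVW
  have : W.Characteristic := by
    rw [characteristic_iff_map_eq]
    intro φ
    rw [hW, MonoidHom.map_closure]
    congr 1
    ext x
    constructor
    · rintro ⟨y, ⟨hy, hy'⟩, rfl⟩
      refine ⟨?_, by rw [← map_pow, hy', map_one]⟩
      exact (characteristic_iff_map_eq.1 (inferInstance : Z₂.Characteristic) φ) ▸ mem_map_of_mem _ hy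
    · rintro ⟨hx, hx'⟩
      refine ⟨φ.symm x, ⟨?_, by rw [← map_pow, hx', map_one]⟩, by simp⟩
      exact (characteristic_iff_comap_eq.1 (inferInstance : Z₂.Characteristic) φ.symm).ge hx
  set W' := W.map Q.subtype
  have hAW : A ≤ normalizer (W' : Set G) := hAQ.trans (Cores.normalizer_le_normalizer_map W)
  obtain ⟨y, hy, hy1⟩ := (bot_or_exists_ne_one (Q ⊓ centralizer (A : Set G))).resolve_left hne
  obtain ⟨u, hu, huo⟩ : ∃ u ∈ zpowers y, orderOf u = q := by
    obtain ⟨j, hj⟩ := IsPGroup.iff_orderOf.1 hQ ⟨y, hy.1⟩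
    rw [orderOf_mk] at hj
    have hd : q ∣ orderOf y := by
      rw [hj]
      refine dvd_pow_self q fun h0 => hy1 (orderOf_eq_one_iff.1 (by rw [hj, h0, pow_zero]))
    exact ⟨y ^ (orderOf y / q), npow_mem_zpowers y _, orderOf_pow_orderOf_div (orderOf_pos y).ne' hd⟩
  have hu' : u ∈ Q ⊓ centralizer (A : Set G) := zpowers_le.2 hy hu
  have hle : W' ≤ zpowers u := by
    refine Signalizer.le_of_elements hA.1 hA.2.1.ge _ W' (not_dvd_of_isPGroup hqp.symm (hQ.to_le (map_subtype_le _)))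
      hAW fun a ha ha1 x hx => ?_
    by_cases hx1 : x = 1
    · exact hx1 ▸ one_mem _
    obtain ⟨⟨x', hx', rfl⟩, hxa⟩ := hx
    have hxq : ((x' : Q) : G) ^ q = 1 := by
      rw [← coe_pow, hWe x' hx', coe_one]
    have hxQ : (x' : G) ∈ Q ⊓ centralizer ({a} : Set G) := ⟨x'.2, hxa⟩
    have hcyc : IsCyclic ↥(Q ⊓ centralizer ({a} : Set G)) := by
      have := Isolated.isCyclic_of_rank_le_one hq2 (h1 a ha ha1) _ ((hQ.to_le inf_le_left).to_subgroup ⊤)
      exact isCyclic_of_surjective (Subgroup.topEquiv (G := ↥(Q ⊓ centralizer ({a} : Set G)))).toMonoidHom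
        (Subgroup.topEquiv (G := ↥(Q ⊓ centralizer ({a} : Set G)))).surjective
    have hua : u ∈ Q ⊓ centralizer ({a} : Set G) := ⟨hu'.1, Signalizer.centralizer_le_singleton ha hu'.2⟩
    have hE := OddSigma.elementary_sup_zpowers (OddSigma.elementary_zpowers hxq) (huo ▸ pow_orderOf_eq_one u)
      (fun z hz => by
        have := hcyc.isMulCommutative
        exact congrArg Subtype.val (mul_comm' (⟨z, zpowers_le.2 hxQ hz⟩ : ↥(Q ⊓ centralizer ({a} : Set G))) ⟨u, hua⟩))
    have hsmall : Nat.card ↥(zpowers (x' : G) ⊔ zpowers u) ≤ q := by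
      by_contra hlt
      refine OddSigma.not_prankLE_of_le (sup_le (zpowers_le.2 hxQ) (zpowers_le.2 hua)) hE ?_ (h1 a ha ha1)
      rw [pow_one]
      omega
    rw [eq_of_le_of_card_ge (le_sup_right : zpowers u ≤ zpowers (x' : G) ⊔ zpowers u) (by rw [Nat.card_zpowers, huo]; exact hsmall)]
    exact mem_sup_left (mem_zpowers _)
  have hcard := card_le_of_le hle
  rw [card_map_of_injective Q.subtype_injective, Nat.card_zpowers, huo] at hcard
  have := hq.out.two_le
  nlinarith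

/-- A Sylow subgroup `P ⊇ A` with `N(A) ≤ H`, `p ∉ σ(H)`, has a line of `A` as `Ω₁(Z(P))`. -/
theorem exists_central_line (hA : MaxE2 p A) {H : Subgroup G} (hpH : p ∉ sigma H)
    (hN : normalizer (A : Set G) ≤ H) :
    ∃ P : Sylow p G, A ≤ P ∧ ∃ z ∈ A, z ≠ 1 ∧ (P : Subgroup G) ≤ centralizer ({z} : Set G) ∧
      normalizer ((P : Subgroup G) : Set G) ≤ normalizer (zpowers z : Set G) := by
  obtain ⟨P, hP⟩ := hA.isPGroup.exists_le_sylow
  refine ⟨P, hP, ?_⟩
  have hex : ∃ x ∈ (P : Subgroup G), x ^ p = 1 ∧ x ∉ A := by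
    by_contra hall
    push Not at hall
    have hNP : normalizer ((P : Subgroup G) : Set G) ≤ H := by
      refine le_trans (fun g hg => mem_normalizer_iff_conj.2 (eq_of_le_of_card_ge ?_ (card_conj g A).ge)) hN
      rintro _ ⟨a, ha, rfl⟩
      exact hall _ ((mem_normalizer_iff.1 hg a).1 (hP ha)) (by
        show (MulAut.conj g a) ^ p = 1
        rw [← map_pow, hA.1.2 a ha, map_one])
    have hPH : (P : Subgroup G) ≤ H := le_normalizer.trans hNP
    exact hpH (OddMax.mem_sigma_iff.2 ⟨(dvd_card hA.2.1).trans (card_dvd_of_le (hP.trans hPH)), P, hPH, P.2,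
      fun h => P.not_dvd_index (h.trans (Dvd.intro _ (relIndex_mul_index hPH))), hNP⟩)
  obtain ⟨z, hz, hzo⟩ := OddSigma.exists_center_orderOf P.isPGroup'
    (ne_bot_of_le_ne_bot hA.ne_bot hP)
  have hzP := OddSigma.mem_centralizer_of_center hz
  have hzp : z ^ p = 1 := hzo ▸ pow_orderOf_eq_one z
  have hz1 : z ≠ 1 := fun h => hp.out.one_lt.ne (by rw [← hzo, h, orderOf_one])
  have hzA : z ∈ A := (hA.omega (centralizer_le hP hzP)).1 hzp
  refine ⟨z, hzA, hz1, fun x hx => mem_centralizer_singleton_iff.2 (hzP x hx), fun g hg => ?_⟩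
  set w := g * z * g⁻¹ with hw
  have hwc := OddSigma.conj_mem_center hg hz
  have hwP := OddSigma.mem_centralizer_of_center hwc
  have hwp : w ^ p = 1 := by
    show (MulAut.conj g z) ^ p = 1
    rw [← map_pow, hzp, map_one]
  have hwA : w ∈ A := (hA.omega (centralizer_le hP hwP)).1 hwp
  have hwz : w ∈ zpowers z := by
    by_contra hnot
    obtain ⟨x, hx, hxp, hxA⟩ := hex
    refine hxA ((hA.omega ?_).1 hxp)
    rw [centralizer_eq hA.1 hA.2.1 hzA hz1 hwA hnot]
    exact ⟨mem_centralizer_singleton_iff.2 (hzP x hx), mem_centralizer_singleton_iff.2 (hwP x hx)⟩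
  refine mem_normalizer_iff_conj.2 (eq_of_le_of_card_ge ?_ (card_conj g _).ge)
  rw [Solvable.conj_eq_map, MonoidHom.map_zpowers, zpowers_le]
  exact hwz

end MaxElem

end Cfsg.Agent.OddTau2
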