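/-
Bender-Glauberman 12.2: a maximal subgroup `M` containing a maximal `A ∈ E_{p²}` such that every line of `A`
has its normaliser in another maximal subgroup has `M_α = 1`, `p ∈ σ(M)` and nilpotent `M_σ`.
Main results (namespace `Cfsg.Agent.OddTau2`): `centralizes_sigmaCore`, `bad_alphaCore`, `bad_sigma`, `s1416`.
-/
import Cfsg.Agent.Lib.OddOrder.TauTwoTools

set_option autoImplicit false
set_option linter.unusedSectionVars false
set_option linter.unusedVariables false

open Subgroup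
open scoped Pointwise commutatorElement

universe u

namespace Cfsg.Agent.OddTau2

open Cfsg.Agent.Solvable

variable {G : Type u} [Group G] [Finite G] (U : Upstream G) {p : ℕ} [hp : Fact p.Prime] {A : Subgroup G}
include U

/-- Every line of `A` has its normaliser in a maximal subgroup other than `M`. -/
def Bad (A M : Subgroup G) : Prop :=
  ∀ a ∈ A, a ≠ 1 → ∃ H : Subgroup G, IsCoatom H ∧ H ≠ M ∧ normalizer (zpowers a : Set G) ≤ H

omit U in
theorem centralizer_le_normalizer_line (a : G) :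
    centralizer ({a} : Set G) ≤ normalizer (zpowers a : Set G) := by
  rw [← centralizer_line]
  exact centralizer_le_normalizer _

theorem centralizer_le_of_line {a : G} (ha : a ∈ A) {H : Subgroup G}
    (h : normalizer (zpowers a : Set G) ≤ H) : centralizer (A : Set G) ≤ H :=
  ((Signalizer.centralizer_le_singleton ha).trans (centralizer_le_normalizer_line a)).trans h

theorem normalizer_line_ne_top (hA : MaxE2 p A) {a : G} (ha : a ∈ A) (ha1 : a ≠ 1) :
    normalizer (zpowers a : Set G) ≠ ⊤ :=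
  OddSigma.normalizer_ne_top U.hG (zpowers_ne_bot.2 ha1)
    (OddSigma.top_not_pGroup U.hG (p := p) (Signalizer.isPGroup_zpowers_of_pow_eq_one (hA.1.2 a ha)))

omit U in
theorem line_mem_max_fixed {r : ℕ} {R : Subgroup G} {a v : G} (h : R ⊓ centralizer ({v⁻¹ * a * v} : Set G) ≠ ⊥) :
    (MulAut.conj v • R) ⊓ centralizer ({a} : Set G) ≠ ⊥ := by
  obtain ⟨x, hx, hx1⟩ := (bot_or_exists_ne_one _).resolve_left h
  refine fun hb => hx1 ?_
  have : v * x * v⁻¹ ∈ (MulAut.conj v • R) ⊓ centralizer ({a} : Set G) := by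
    refine ⟨⟨x, hx.1, rfl⟩, mem_centralizer_singleton_iff.2 ?_⟩
    have h2 := mem_centralizer_singleton_iff.1 hx.2
    calc v * x * v⁻¹ * a = v * (x * (v⁻¹ * a * v)) * v⁻¹ := by group
      _ = v * (v⁻¹ * a * v * x) * v⁻¹ := by rw [h2]
      _ = a * (v * x * v⁻¹) := by group
  rw [hb, mem_bot] at this
  simpa using this

omit U in
theorem index_conj (g : G) (R : Subgroup G) : (MulAut.conj g • R).index = R.index := by
  have h1 := (MulAut.conj g • R).card_mul_index
  rw [card_conj, ← R.card_mul_index] at h1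
  exact Nat.eq_of_mul_eq_mul_left Nat.card_pos h1

/-- `v` normalises `A` and all lines outside `⟨c⟩` have fixed points on the maximal invariant `R`: then `v • R`
is conjugate to `R` in `C(A)`. -/
theorem conj_eq_of_normalizer (hA : MaxE2 p A) {r : ℕ} [hr : Fact r.Prime] (hrp : r ≠ p) {R : Subgroup G}
    (hR : R ∈ maxInvSubgroups ⊤ A {r}) {c : G} (hc : c ∈ A) (hc1 : c ≠ 1)
    (hfix : ∀ a ∈ A, a ≠ 1 → a ∉ zpowers c → R ⊓ centralizer ({a} : Set G) ≠ ⊥)
    {v : G} (hv : v ∈ normalizer (A : Set G)) :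
    ∃ k ∈ centralizer (A : Set G), k⁻¹ * v ∈ normalizer (R : Set G) := by
  have hvc : v * c * v⁻¹ ∈ A := (mem_normalizer_iff.1 hv c).1 hc
  obtain ⟨l, hl, hl1, hlc, hlv⟩ := exists_third hA.1 hA.2.1 c (v * c * v⁻¹) hc hc1 hvc
    (fun h => hc1 (by simpa using h))
  have hlv' : v⁻¹ * l * v ∈ A := (mem_normalizer_iff''.1 hv l).1 hl
  have hne : v⁻¹ * l * v ∉ zpowers c := fun h => by
    obtain ⟨i, hi⟩ := h
    refine hlv ⟨i, ?_⟩
    show (v * c * v⁻¹) ^ i = l
    rw [conj_zpow, show c ^ i = v⁻¹ * l * v from hi]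
    group
  obtain ⟨k, hk, e⟩ := conj_of_line U hA hrp hR (OddTrans.conj_mem_max hv hR) hl hl1 (hfix l hl hl1 hlc)
    (line_mem_max_fixed (r := r) (hfix _ hlv' (fun h => hl1 (by have := congrArg (fun x => v * x * v⁻¹) h; simpa [mul_assoc] using this)) hne))
  refine ⟨k, hk, mem_normalizer_iff_conj.2 ?_⟩
  rw [← conj_conj, e, conj_conj, inv_mul_cancel, conj_one_smul]

/-- A `q`-subgroup of `H` normalised by `A` without fixed points centralises `H_σ`. -/
theorem centralizes_sigmaCore (hA : MaxE2 p A) {H : Subgroup G} (hH : IsCoatom H)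
    (hC : centralizer (A : Set G) ≤ H) (hpH : p ∉ sigma H) {q : ℕ} [hq : Fact q.Prime] (hqH : q ∉ sigma H)
    (hqp : q ≠ p) {S : Subgroup G} (hS : IsPGroup q S) (hSH : S ≤ H) (hAS : A ≤ normalizer (S : Set G))
    (hSA : S ⊓ centralizer (A : Set G) = ⊥)
    (hZ : ∀ z ∈ A, z ≠ 1 → ∀ P : Sylow p G, A ≤ P → (P : Subgroup G) ≤ centralizer ({z} : Set G) →
      normalizer ((P : Subgroup G) : Set G) ≤ normalizer (zpowers z : Set G) → S ⊓ centralizer ({z} : Set G) = ⊥) :
    S ≤ centralizer (sigmaCore H : Set G) := by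
  have hAH : A ≤ H := (OddSigma.elementary_le_centralizer hA.1 le_rfl).trans hC
  set B := A ⊔ S with hB
  have hBH : B ≤ H := sup_le hAH hSH
  have hcop : (Nat.card B).Coprime (Nat.card (sigmaCore H)) := Nat.coprime_of_dvd fun r hr hd hd' => by
    have hn : (S.subgroupOf B).Normal := normal_subgroupOf_of_le_normalizer (sup_le hAS le_normalizer)
    have htop : A.subgroupOf B ⊔ S.subgroupOf B = ⊤ := by
      rw [← subgroupOf_sup le_sup_left le_sup_right, subgroupOf_self]
    have h1 := card_sup_dvd (A.subgroupOf B) (S.subgroupOf B)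
    rw [htop, Subgroup.card_top, Cores.card_subgroupOf le_sup_left, Cores.card_subgroupOf le_sup_right] at h1
    have hrσ := OddMax.sigmaCore_pi H r hr hd'
    rcases hr.dvd_mul.1 (hd.trans h1) with h | h
    · exact hpH ((Set.mem_singleton_iff.1 (OddTrans.pi_of_isPGroup hA.isPGroup r hr h)) ▸ hrσ)
    · exact hqH ((Set.mem_singleton_iff.1 (OddTrans.pi_of_isPGroup hS r hr h)) ▸ hrσ)
  suffices h : sigmaCore H ≤ sigmaCore H ⊓ centralizer (S : Set G) from
    le_centralizer_iff.1 (h.trans inf_le_right)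
  refine (eq_of_le_of_card_ge inf_le_left (Nat.le_of_dvd Nat.card_pos ?_)).ge
  rw [← Nat.factorization_le_iff_dvd Nat.card_pos.ne' Nat.card_pos.ne', Finsupp.le_def]
  intro r
  by_cases hd : r.Prime ∧ r ∣ Nat.card (sigmaCore H)
  swap
  · rcases not_and_or.1 hd with h | h
    · simp [Nat.factorization_eq_zero_of_not_prime _ h]
    · simp [Nat.factorization_eq_zero_of_not_dvd h]
  obtain ⟨hr, hd⟩ := hd
  have := Fact.mk hr
  have hrσ : r ∈ sigma H := OddMax.sigmaCore_pi H r hr hd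
  have hrp : r ≠ p := fun h => hpH (h ▸ hrσ)
  have hrq : q ≠ r := fun h => hqH (h ▸ hrσ)
  obtain ⟨R, hRσ, hR, hBR, hRi, -, hNR⟩ := exists_inv_sylow_sigmaCore U hH hrσ hBH hcop
  refine (hr.pow_dvd_iff_le_factorization Nat.card_pos.ne').1 ?_
  suffices hcen : S ≤ centralizer (R : Set G) by
    refine dvd_trans ?_ (card_dvd_of_le (le_inf hRσ (le_centralizer_iff.1 hcen)))
    obtain ⟨j, hj⟩ := hR.exists_card_eq
    have hrel : ¬ r ∣ R.relIndex (sigmaCore H) := fun h => hRi (h.trans (Dvd.intro _ (relIndex_mul_index hRσ)))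
    rw [← OddMax.card_mul_relIndex hRσ, Nat.factorization_mul Nat.card_pos.ne'
      (fun h => hrel ((congrArg (r ∣ ·) h).mpr (dvd_zero r))), Finsupp.add_apply, Nat.factorization_eq_zero_of_not_dvd hrel, add_zero, hj,
      hr.factorization_pow, Finsupp.single_eq_same]
  by_contra hcen
  have hAR : A ≤ normalizer (R : Set G) := le_sup_left.trans hBR
  have hRA : R ⊓ centralizer (A : Set G) = ⊥ := le_bot_iff.1
    ((inf_le_inf_right _ hRσ).trans (sigmaCore_inf_centralizer U hA hH hpH hC).le)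
  obtain ⟨c, hc, hc1, hcS, hfix⟩ := exists_bad_line hqp.symm hrp.symm hrq hA.1 hA.2.1 hR hS hAR hAS
    (le_sup_right.trans hBR) hSA hcen
  have hRmax := sylow_mem_max hR hRi hAR
  have hN : normalizer (A : Set G) ≤ H := by
    intro v hv
    obtain ⟨k, hk, h⟩ := conj_eq_of_normalizer U hA hrp hRmax hc hc1 hfix hv
    simpa using mul_mem (hC hk) (hNR h)
  obtain ⟨P, hAP, z, hz, hz1, hPz, hNz⟩ := exists_central_line U hA hpH hN
  have hSz := hZ z hz hz1 P hAP hPz hNz
  have hzc : z ∉ zpowers c := fun h => by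
    refine hcS ?_
    rw [← centralizer_line, ← line_eq (card_line hA.1 hc hc1) h hz1, centralizer_line, hSz]
    exact bot_le
  refine hfix z hz hz1 hzc ?_
  obtain ⟨H₀, hH₀, hNz₀⟩ := OddSigma.exists_coatom (normalizer_line_ne_top U hA hz hz1)
  have hNP : normalizer ((P : Subgroup G) : Set G) ≤ H₀ := hNz.trans hNz₀
  have hPH₀ : (P : Subgroup G) ≤ H₀ := le_normalizer.trans hNP
  have hpH₀ : p ∈ sigma H₀ := OddMax.mem_sigma_iff.2 ⟨(dvd_card hA.2.1).trans (card_dvd_of_le (hAP.trans hPH₀)),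
    P, hPH₀, P.2, fun h => P.not_dvd_index (h.trans (Dvd.intro _ (relIndex_mul_index hPH₀))), hNP⟩
  exact fixed_eq_bot_of_sigma U hA hH₀ hpH₀ (hAP.trans hPH₀) hH hpH hrσ (hR.to_le inf_le_left)
    (inf_le_right.trans ((centralizer_le_normalizer_line z).trans hNz₀)) (le_normalizer_singleton hAR hz hA.1.1)
    (le_bot_iff.1 ((inf_le_inf_right _ inf_le_left).trans hRA.le))

omit U in
theorem sigma_of_central_line (hA : MaxE2 p A) {H₀ : Subgroup G} {P : Sylow p G} (hAP : A ≤ P) {z : G}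
    (hNz : normalizer ((P : Subgroup G) : Set G) ≤ normalizer (zpowers z : Set G))
    (hz₀ : normalizer (zpowers z : Set G) ≤ H₀) : p ∈ sigma H₀ := by
  have hNP : normalizer ((P : Subgroup G) : Set G) ≤ H₀ := hNz.trans hz₀
  have hPH₀ : (P : Subgroup G) ≤ H₀ := le_normalizer.trans hNP
  exact OddMax.mem_sigma_iff.2 ⟨(dvd_card hA.2.1).trans (card_dvd_of_le (hAP.trans hPH₀)),
    P, hPH₀, P.2, fun h => P.not_dvd_index (h.trans (Dvd.intro _ (relIndex_mul_index hPH₀))), hNP⟩

omit U in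
theorem line_subgroup_le_of_normalizer {z : G} {H : Subgroup G} (hA : IsMulCommutative A) (hz : z ∈ A)
    (h : normalizer (zpowers z : Set G) ≤ H) : A ≤ H :=
  le_trans (fun x hx => mem_centralizer_singleton_iff.2 (Signalizer.commute_of_isMulCommutative hA hx hz))
    ((centralizer_le_normalizer_line z).trans h)

theorem rank_one_of_bad (hA : MaxE2 p A) {M : Subgroup G} (hM : IsCoatom M) (hAM : A ≤ M) (hpα : p ∉ alpha M)
    (hbad : Bad A M) {a : G} (ha : a ∈ A) (ha1 : a ≠ 1) :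
    RankLE 1 ↥(alphaCore M ⊓ centralizer ({a} : Set G)) := by
  by_contra hr
  obtain ⟨H, hH, hHM, hN⟩ := hbad a ha ha1
  rw [← centralizer_line] at hr
  obtain ⟨M₀, -, hu⟩ := U.s1406 M hM (zpowers a) ((zpowers_le.2 (hAM ha))) (fun r hr' hd => by
    rw [card_line hA.1 ha ha1] at hd
    rwa [(Nat.prime_dvd_prime_iff_eq hr' hp.out).1 hd]) hr
  rw [centralizer_line] at hu
  exact hHM ((hu H ⟨hH, inf_le_right.trans ((centralizer_le_normalizer_line a).trans hN)⟩).trans
    (hu M ⟨hM, inf_le_left⟩).symm)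

/-- 12.2, first half: `M_α = 1`. -/
theorem bad_alphaCore (hA : MaxE2 p A) {M : Subgroup G} (hM : IsCoatom M) (hAM : A ≤ M) (hpα : p ∉ alpha M)
    (hbad : Bad A M) : alphaCore M = ⊥ := by
  by_contra hne
  obtain ⟨q, hq, hd⟩ := Nat.exists_prime_and_dvd ((not_congr (card_eq_one (H := alphaCore M))).2 hne)
  have := Fact.mk hq
  have hall := OddSigma.alphaCore_hallOf U.hG U.hU U.hR2 U.hF hM
  have hqα : q ∈ alpha M := hall.2.1 q hq hd
  have hqσ : q ∈ sigma M := OddSigma.alpha_subset_sigma U.hG U.hU hM hqα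
  have hqp : q ≠ p := fun h => hpα (h ▸ hqα)
  have hαM : alphaCore M ≤ M := map_subtype_le _
  have hαn : M ≤ normalizer (alphaCore M : Set G) :=
    le_normalizer.trans (Cores.normalizer_le_normalizer_map (H := M) _)
  have hpαc : ¬ p ∣ Nat.card (alphaCore M) := fun h => hpα (hall.2.1 p hp.out h)
  have hαs : Group.IsSolvable ↥(alphaCore M) := Coprime.isSolvable_of_le hαM (OddSigma.proper_solvable U.hG hM.1)
  -- invariant Sylow subgroups of `M_α`
  have hsyl : ∀ (s : ℕ) [Fact s.Prime], s ∈ alpha M → ∀ B : Subgroup G, B ≤ M →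
      (Nat.card B).Coprime (Nat.card (alphaCore M)) → ∃ Q ≤ alphaCore M, IsPGroup s Q ∧
        B ≤ normalizer (Q : Set G) ∧ ¬ s ∣ Q.index ∧ InUniqueMaximal Q ∧ normalizer (Q : Set G) ≤ M ∧
        ¬ PRankLE s 2 Q ∧ Q ≠ ⊥ := by
    intro s hs hsα B hBM hcop
    obtain ⟨R, hR⟩ := Coprime.exists_invariant_sylow (hBM.trans hαn) hcop (Or.inr hαs) s
    set Q := (R : Subgroup (alphaCore M)).map (alphaCore M).subtype
    have hQM : Q ≤ M := (map_subtype_le _).trans hαM
    have hrel : ¬ s ∣ Q.relIndex M := by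
      rw [← relIndex_mul_relIndex Q (alphaCore M) M (map_subtype_le _) hαM, OddSigma.relIndex_sylow_map]
      exact hs.out.not_dvd_mul R.not_dvd_index (hall.2.2 s hs.out hsα)
    obtain ⟨P, hP⟩ := OddMax.exists_sylow_eq (R.2.map _) hQM hrel
    have hP' : (P : Subgroup M).map M.subtype = Q := hP
    have hu : InUniqueMaximal Q := hP' ▸ OddSigma.sylow_unique_of_alpha U.hG U.hU hM hsα P
    refine ⟨Q, map_subtype_le _, R.2.map _, hR,
      hP' ▸ OddSigma.sylow_index_of_sigma (OddSigma.alpha_subset_sigma U.hG U.hU hM hsα) P, hu,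
      OddSigma.normalizer_le_of_unique U.hG hu hM hQM, fun h => hsα.2 (OddSigma.prankLE_of_sylow P (hP' ▸ h)),
      fun h => hrel ?_⟩
    rw [h, relIndex_bot_left]
    exact OddSigma.alpha_dvd hsα
  have hcopA : (Nat.card A).Coprime (Nat.card (alphaCore M)) := by
    rw [hA.2.1]; exact (hp.out.coprime_iff_not_dvd.2 hpαc).pow_left 2
  have hfixA : ∀ (s : ℕ) [Fact s.Prime], s ∈ alpha M → ∀ Q ≤ alphaCore M, IsPGroup s Q → ¬ PRankLE s 2 Q →
      A ≤ normalizer (Q : Set G) → Q ⊓ centralizer (A : Set G) = ⊥ := fun s hs hsα Q hQ hQp hQ3 hAQ =>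
    rank_one_fixed U hA (fun h => hpα (h ▸ hsα)) hQp hQ3 hAQ fun a ha ha1 =>
      OddSigma.prankLE_mono (inf_le_inf_right _ hQ) (rank_one_of_bad U hA hM hAM hpα hbad ha ha1 s hs.out)
  obtain ⟨Q, hQα, hQ, hAQ, hQi, hQu, hNQ, hQ3, hQ1⟩ := hsyl q hqα A hAM hcopA
  have hQA := hfixA q hqα Q hQα hQ hQ3 hAQ
  -- a line with a fixed point in the centre of `Q`
  set Zc := (center ↥Q).map Q.subtype with hZc
  have hZQ : Zc ≤ Q := map_subtype_le _
  have hAZ : A ≤ normalizer (Zc : Set G) := hAQ.trans (Cores.normalizer_le_normalizer_map _)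
  have hZ1 : Zc ≠ ⊥ := by
    obtain ⟨x, hx, hxo⟩ := OddSigma.exists_center_orderOf hQ hQ1
    intro h
    rw [← hZc, h, mem_bot] at hx
    rw [hx, orderOf_one] at hxo
    exact hq.one_lt.ne hxo
  obtain ⟨a, ha, ha1, hSne⟩ := exists_fixed_line hA.1 hA.2.1
    (not_dvd_of_isPGroup hqp.symm (hQ.to_le hZQ)) hAZ hZ1
  set S := Zc ⊓ centralizer ({a} : Set G) with hS
  obtain ⟨H, hH, hHM, hNa⟩ := hbad a ha ha1
  have hC : centralizer (A : Set G) ≤ H := centralizer_le_of_line U ha hNa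
  have hAH : A ≤ H := (OddSigma.elementary_le_centralizer hA.1 le_rfl).trans hC
  have hSH : S ≤ H := inf_le_right.trans ((centralizer_le_normalizer_line a).trans hNa)
  have hSQ : S ≤ Q := inf_le_left.trans hZQ
  have hSp : IsPGroup q S := hQ.to_le hSQ
  have hAS : A ≤ normalizer (S : Set G) := le_normalizer_singleton hAZ ha hA.1.1
  have hSA : S ⊓ centralizer (A : Set G) = ⊥ := le_bot_iff.1 ((inf_le_inf_right _ hSQ).trans hQA.le)
  have hQM : Q ≤ M := hQα.trans hαM
  -- a maximal subgroup `L` with `q ∈ σ(L)` that contains a central element of `Q` is `M`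
  have hkey : ∀ L : Subgroup G, IsCoatom L → ∀ s ∈ Zc, s ≠ 1 → s ∈ L → q ∈ sigma L → L = M := by
    intro L hL s hs hs1 hsL hqL
    obtain ⟨g, hg⟩ := conj_of_alpha U hM hL hqα hqL
    have hsM : zpowers s ≤ MulAut.conj g • L := hg ▸ zpowers_le.2 (hQM (hZQ hs))
    obtain ⟨c, hc, e⟩ := OddSigma.exists_centralizer_conj U.hG U.hU U.hR2 hL hqL (zpowers s)
      (hQ.to_le (zpowers_le.2 (hZQ hs))) (zpowers_ne_bot.2 hs1) g 1 hsM
      (by rw [conj_one_smul]; exact zpowers_le.2 hsL)
    rw [← hg, conj_one_smul] at e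
    have hCs : centralizer (zpowers s : Set G) ≤ M := by
      rw [centralizer_line]
      refine OddSigma.le_of_unique hQu hM hQM (fun x hx => mem_centralizer_singleton_iff.2
        (OddSigma.mem_centralizer_of_center hs x hx)) ?_
      exact OddTrans.centralizer_ne_top U.hG.2.1 U.hG.2.2.1 (Set.mem_singleton s) hs1
    rw [← e, mem_normalizer_iff_conj.1 (le_normalizer (hCs hc))]
  obtain ⟨z, hz, hz1⟩ := (bot_or_exists_ne_one S).resolve_left hSne
  have hqH : q ∉ sigma H := fun h => hHM (hkey H hH z hz.1 hz1 (hSH hz) h)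
  have hpH : p ∉ sigma H := fun h => by
    have := le_bot_iff.1 ((le_inf le_rfl (sigma_centralizes U hA hH h hAH hqH hSp hSH hAS)).trans hSA.le)
    exact hSne this
  have hcent := centralizes_sigmaCore U hA hH hC hpH hqH hqp hSp hSH hAS hSA fun w hw hw1 P hAP hPw hNw => by
    obtain ⟨H₀, hH₀, hH₀M, hNw₀⟩ := hbad w hw hw1
    have hX : S ⊓ centralizer ({w} : Set G) ≤ H₀ := inf_le_right.trans ((centralizer_le_normalizer_line w).trans hNw₀)
    by_contra hne'
    obtain ⟨x, hx, hx1⟩ := (bot_or_exists_ne_one _).resolve_left hne'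
    have hqH₀ : q ∉ sigma H₀ := fun h => hH₀M (hkey H₀ hH₀ x hx.1.1 hx1 (hX hx) h)
    refine hne' (le_bot_iff.1 ((le_inf inf_le_left ?_).trans hSA.le))
    exact sigma_centralizes U hA hH₀ (sigma_of_central_line hA hAP hNw hNw₀)
      (line_subgroup_le_of_normalizer hA.1.1 hw hNw₀) hqH₀ (hSp.to_le inf_le_left) hX
      (le_normalizer_singleton hAS hw hA.1.1)
  have hHσM : sigmaCore H ≤ M := by
    refine (le_centralizer_iff.1 hcent).trans ?_
    refine (centralizer_le (zpowers_le.2 hz)).trans ?_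
    rw [centralizer_line]
    refine OddSigma.le_of_unique hQu hM hQM (fun x hx => mem_centralizer_singleton_iff.2
      (OddSigma.mem_centralizer_of_center hz.1 x hx)) ?_
    exact OddTrans.centralizer_ne_top U.hG.2.1 U.hG.2.2.1 (Set.mem_singleton z) hz1
  have hαH : alphaCore H = ⊥ := alphaCore_eq_bot U hH fun r hr => by
    have := Fact.mk hr.1
    have hrσ := OddSigma.alpha_subset_sigma U.hG U.hU hH hr
    obtain ⟨R, hRσ, hR, -, hRi, -, -⟩ := exists_inv_sylow_sigmaCore U hH hrσ hAH (coprime_sigmaCore U hA hpH)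
    have hRH := hRσ.trans (OddMax.sigmaCore_le H)
    obtain ⟨M₀, -, hu⟩ := unique_of_alpha U hr hR hRi fun h => hH.1 (top_le_iff.1 (h.ge.trans hRH))
    exact hHM ((hu H ⟨hH, hRH⟩).trans (hu M ⟨hM, hRσ.trans hHσM⟩).symm)
  obtain ⟨r, hrσ⟩ := OddSigma.exists_sigma U.hG U.hU U.hR2 U.hF hH
  have := Fact.mk hrσ.1
  obtain ⟨R, hRσ, hR, hAR, hRi, hR1, -⟩ := exists_inv_sylow_sigmaCore U hH hrσ hAH (coprime_sigmaCore U hA hpH)
  have hNR : normalizer (R : Set G) = H := normalizer_sigma_sylow_eq U hH hαH hRσ hR hRi hR1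
  have hRM : R ≤ M := hRσ.trans hHσM
  have hRrel : ¬ r ∣ R.relIndex M := fun h => hRi (h.trans (Dvd.intro _ (relIndex_mul_index hRM)))
  have hrM : r ∉ sigma M := fun h =>
    hHM (eq_of_le_coatom hH hM (hNR ▸ OddMax.normalizer_le_of_mem_sigma h hR hRM hRrel))
  have hRA : R ⊓ centralizer (A : Set G) = ⊥ := le_bot_iff.1
    ((inf_le_inf_right _ hRσ).trans (sigmaCore_inf_centralizer U hA hH hpH hC).le)
  have hpM : p ∉ sigma M := fun h => hR1 (le_bot_iff.1
    ((le_inf le_rfl (sigma_centralizes U hA hM h hAM hrM hR hRM hAR)).trans hRA.le))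
  have hrp : r ≠ p := fun h => hpH (h ▸ hrσ)
  have hrα : r ∉ alpha M := fun h => hrM (OddSigma.alpha_subset_sigma U.hG U.hU hM h)
  -- `R M_α` is normal in `M`, so the normaliser of `A` in `M` lies in `H`
  have hRM' : R ≤ ⁅M, M⁆ := by
    have h1 := Coprime.commutator_sup_centralizer hAR (by
      rw [hA.2.1]; exact (hp.out.coprime_iff_not_dvd.2 (not_dvd_of_isPGroup hrp.symm hR)).pow_left 2)
      (Or.inr (by have := hR.isNilpotent; infer_instance))
    rw [hRA, sup_bot_eq] at h1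
    rw [← h1]
    exact commutator_mono hRM hAM
  have hNM : ∀ n ∈ M, n ∈ normalizer (A : Set G) → n ∈ H := by
    intro n hn hnA
    set N := alphaCore M ⊔ R with hN
    have hNle : N ≤ M := sup_le hαM hRM
    have hMN : M ≤ normalizer (N : Set G) := by
      obtain ⟨P, hP⟩ := OddMax.exists_sylow_eq hR hRM hRrel
      set α' := piCore (alpha M) ↥M
      have hn' : ((P : Subgroup M).map (QuotientGroup.mk' α')).Normal :=
        OddSigma.sylow_normal_of_le_nilpotent (commutator _)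
          (OddSigma.derived_quotient_nilpotent U.hG U.hU U.hR2 U.hF hM)
          (P.mapSurjective (QuotientGroup.mk'_surjective _)) (by
            have hPc : (P : Subgroup M) ≤ commutator ↥M := by
              rw [← map_subtype_le_map_subtype, hP, map_subtype_commutator]
              exact hRM'
            refine (map_mono hPc).trans ?_
            rw [_root_.commutator_def, _root_.commutator_def, map_commutator]
            exact commutator_mono le_top le_top)
      have h2 : ((P : Subgroup M) ⊔ α').Normal := by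
        have h := hn'.comap (QuotientGroup.mk' α')
        rwa [comap_map_eq, QuotientGroup.ker_mk'] at h
      have h3 : ((P : Subgroup M) ⊔ α').map M.subtype = N := by
        rw [Subgroup.map_sup, hP, hN, sup_comm]
        rfl
      rw [← h3]
      exact OddMax.le_normalizer_map_of_normal _
    have hpN : ¬ p ∣ Nat.card N :=
      Signalizer.not_dvd_card_sup hpαc (not_dvd_of_isPGroup hrp.symm hR) (hRM.trans hαn)
    have hcopN : (Nat.card A).Coprime (Nat.card N) := by
      rw [hA.2.1]; exact (hp.out.coprime_iff_not_dvd.2 hpN).pow_left 2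
    have hNs : Group.IsSolvable N := Coprime.isSolvable_of_le hNle (OddSigma.proper_solvable U.hG hM.1)
    have hrN : ∀ X : Subgroup G, X ≤ N → ¬ r ∣ X.index → IsPGroup r X → A ≤ normalizer (X : Set G) →
        ∃ S : Sylow r N, (S : Subgroup N).map N.subtype = X := fun X hX hi hXr _ =>
      OddMax.exists_sylow_eq hXr hX fun h => hi (h.trans (Dvd.intro _ (relIndex_mul_index hX)))
    have hnR : MulAut.conj n • R ≤ N := by
      refine (conj_mono n (le_sup_right : R ≤ N)).trans ?_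
      rw [mem_normalizer_iff_conj.1 (hMN hn)]
    obtain ⟨S₁, hS₁⟩ := hrN R le_sup_right hRi hR hAR
    have hAnR : A ≤ normalizer ((MulAut.conj n • R : Subgroup G) : Set G) := by
      rw [OddMax.normalizer_conj, ← mem_normalizer_iff_conj.1 hnA]
      exact conj_mono n hAR
    obtain ⟨S₂, hS₂⟩ := hrN _ hnR (by rwa [index_conj]) (OddMax.isPGroup_conj n hR) hAnR
    obtain ⟨c, hc, hcS⟩ := Coprime.invariant_sylow_conj (hAM.trans hMN) hcopN (Or.inr hNs) S₁ S₂
      (hS₁.symm ▸ hAR) (hS₂.symm ▸ hAnR)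
    have e : MulAut.conj (c : G) • R = MulAut.conj n • R := by
      rw [← hS₂, ← hcS, Coprime.map_subtype_smul, hS₁]
    have h1 : (c : G)⁻¹ * n ∈ H := by
      rw [← hNR]
      refine mem_normalizer_iff_conj.2 ?_
      rw [← conj_conj, ← e, conj_conj, inv_mul_cancel, conj_one_smul]
    simpa using mul_mem (hC hc) h1
  -- `R` does not centralise `M_α`
  have hrαc : ¬ r ∣ Nat.card (alphaCore M) := fun h => hrα (hall.2.1 r this.out h)
  set B := A ⊔ R with hB
  have hcopB : (Nat.card B).Coprime (Nat.card (alphaCore M)) := Nat.coprime_of_dvd fun s hs hd hd' => by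
    have hn : (R.subgroupOf B).Normal := normal_subgroupOf_of_le_normalizer (sup_le hAR le_normalizer)
    have htop : A.subgroupOf B ⊔ R.subgroupOf B = ⊤ := by
      rw [← subgroupOf_sup le_sup_left le_sup_right, subgroupOf_self]
    have h1 := card_sup_dvd (A.subgroupOf B) (R.subgroupOf B)
    rw [htop, Subgroup.card_top, Cores.card_subgroupOf le_sup_left, Cores.card_subgroupOf le_sup_right] at h1
    rcases hs.dvd_mul.1 (hd.trans h1) with h | h
    · exact hpαc ((Set.mem_singleton_iff.1 (OddTrans.pi_of_isPGroup hA.isPGroup s hs h)) ▸ hd')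
    · exact hrαc ((Set.mem_singleton_iff.1 (OddTrans.pi_of_isPGroup hR s hs h)) ▸ hd')
  obtain ⟨q', hq'α, Q', hq', hQ'α, hQ', hBQ', hQ'i, hQ'u, hNQ', hQ'3, hRQ'⟩ : ∃ (q' : ℕ) (_ : q' ∈ alpha M)
      (Q' : Subgroup G) (_ : Fact q'.Prime), Q' ≤ alphaCore M ∧ IsPGroup q' Q' ∧ B ≤ normalizer (Q' : Set G) ∧
        ¬ q' ∣ Q'.index ∧ InUniqueMaximal Q' ∧ normalizer (Q' : Set G) ≤ M ∧ ¬ PRankLE q' 2 Q' ∧
        ¬ R ≤ centralizer (Q' : Set G) := by
    by_contra hcon
    push Not at hcon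
    refine hHM ((?_ : M = H).symm)
    suffices hle : Q ≤ H by
      obtain ⟨M₀, -, hu⟩ := hQu
      exact (hu M ⟨hM, hQM⟩).trans (hu H ⟨hH, hle⟩).symm
    refine hQα.trans (le_trans ?_ ((centralizer_le_normalizer _).trans (le_of_eq hNR)))
    suffices h : alphaCore M ≤ alphaCore M ⊓ centralizer (R : Set G) from h.trans inf_le_right
    refine (eq_of_le_of_card_ge inf_le_left (Nat.le_of_dvd Nat.card_pos ?_)).ge
    rw [← Nat.factorization_le_iff_dvd Nat.card_pos.ne' Nat.card_pos.ne', Finsupp.le_def]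
    intro s
    by_cases hd : s.Prime ∧ s ∣ Nat.card (alphaCore M)
    swap
    · rcases not_and_or.1 hd with h | h
      · simp [Nat.factorization_eq_zero_of_not_prime _ h]
      · simp [Nat.factorization_eq_zero_of_not_dvd h]
    obtain ⟨hs, hd⟩ := hd
    have := Fact.mk hs
    have hsα := hall.2.1 s hs hd
    obtain ⟨T, hTα, hT, hBT, hTi, hTu, hNT, hT3, -⟩ := hsyl s hsα B (sup_le hAM hRM) hcopB
    have hRT : R ≤ centralizer (T : Set G) := by
      by_contra h'
      exact h' (hcon s hsα T inferInstance hTα hT hBT hTi hTu hNT hT3)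
    refine (hs.pow_dvd_iff_le_factorization Nat.card_pos.ne').1 (dvd_trans ?_
      (card_dvd_of_le (le_inf hTα (le_centralizer_iff.1 hRT))))
    obtain ⟨j, hj⟩ := hT.exists_card_eq
    have hrel : ¬ s ∣ T.relIndex (alphaCore M) := fun h => hTi (h.trans (Dvd.intro _ (relIndex_mul_index hTα)))
    rw [← OddMax.card_mul_relIndex hTα, Nat.factorization_mul Nat.card_pos.ne'
      (fun h => hrel ((congrArg (s ∣ ·) h).mpr (dvd_zero s))), Finsupp.add_apply, Nat.factorization_eq_zero_of_not_dvd hrel, add_zero, hj,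
      hs.factorization_pow, Finsupp.single_eq_same]
  have hq'p : q' ≠ p := fun h => hpα (h ▸ hq'α)
  have hrq' : r ≠ q' := fun h => hrα (h ▸ hq'α)
  have hAQ' : A ≤ normalizer (Q' : Set G) := le_sup_left.trans hBQ'
  have hQ'A := hfixA q' hq'α Q' hQ'α hQ' hQ'3 hAQ'
  obtain ⟨c, hc, hc1, hcR, hfix⟩ := exists_bad_line hrp.symm hq'p.symm hrq' hA.1 hA.2.1 hQ' hR hAQ' hAR
    (le_sup_right.trans hBQ') hRA hRQ'
  have hQ'max := sylow_mem_max hQ' hQ'i hAQ'
  have hN : normalizer (A : Set G) ≤ H := by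
    intro v hv
    obtain ⟨k, hk, h⟩ := conj_eq_of_normalizer U hA hq'p hQ'max hc hc1 hfix hv
    have h2 := hNM _ (hNQ' h) (mul_mem (inv_mem (centralizer_le_normalizer _ hk)) hv)
    simpa using mul_mem (hC hk) h2
  obtain ⟨P, hAP, w, hw, hw1, hPw, hNw⟩ := exists_central_line U hA hpH hN
  obtain ⟨H₀, hH₀, hH₀M, hNw₀⟩ := hbad w hw hw1
  have hpH₀ : p ∈ sigma H₀ := sigma_of_central_line hA hAP hNw hNw₀
  have hAH₀ : A ≤ H₀ := line_subgroup_le_of_normalizer hA.1.1 hw hNw₀
  have hcw : centralizer ({w} : Set G) ≤ H₀ := (centralizer_le_normalizer_line w).trans hNw₀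
  have hzero : ∀ (s : ℕ) [Fact s.Prime] (L : Subgroup G), IsCoatom L → p ∉ sigma L → s ∈ sigma L →
      ∀ X : Subgroup G, IsPGroup s X → A ≤ normalizer (X : Set G) → X ⊓ centralizer (A : Set G) = ⊥ →
        X ⊓ centralizer ({w} : Set G) = ⊥ := fun s hs L hL hpL hsL X hX hAX hXA =>
    fixed_eq_bot_of_sigma U hA hH₀ hpH₀ hAH₀ hL hpL hsL (hX.to_le inf_le_left) (inf_le_right.trans hcw)
      (le_normalizer_singleton hAX hw hA.1.1) (le_bot_iff.1 ((inf_le_inf_right _ inf_le_left).trans hXA.le))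
  have hwc : w ∈ zpowers c := by
    by_contra h
    exact hfix w hw hw1 h (hzero q' M hM hpM (OddSigma.alpha_subset_sigma U.hG U.hU hM hq'α) Q' hQ' hAQ' hQ'A)
  refine hcR ?_
  rw [← centralizer_line, ← line_eq (card_line hA.1 hc hc1) hwc hw1, centralizer_line,
    hzero r H hH hpH hrσ R hR hAR hRA]
  exact bot_le

theorem eq_commutator_of_fixed_free (hA : MaxE2 p A) {r : ℕ} [hr : Fact r.Prime] (hrp : r ≠ p) {R : Subgroup G}
    (hR : IsPGroup r R) (hAR : A ≤ normalizer (R : Set G)) (hRA : R ⊓ centralizer (A : Set G) = ⊥) :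
    ⁅R, A⁆ = R := by
  have h1 := Coprime.commutator_sup_centralizer hAR (by
    rw [hA.2.1]; exact (hp.out.coprime_iff_not_dvd.2 (not_dvd_of_isPGroup hrp.symm hR)).pow_left 2)
    (Or.inr (by have := hR.isNilpotent; infer_instance))
  rwa [hRA, sup_bot_eq] at h1

/-- `M_α = 1` and `p ∉ σ(M)`: `A` has no fixed points on `M_σ`. -/
theorem fixed_eq_bot_of_alpha (hA : MaxE2 p A) {M : Subgroup G} (hM : IsCoatom M) (hAM : A ≤ M)
    (hpM : p ∉ sigma M) (hα : alphaCore M = ⊥) : sigmaCore M ⊓ centralizer (A : Set G) = ⊥ := by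
  by_contra hne
  obtain ⟨q, hq, hd⟩ := Nat.exists_prime_and_dvd
    ((not_congr (card_eq_one (H := sigmaCore M ⊓ centralizer (A : Set G)))).2 hne)
  have := Fact.mk hq
  have hqσ : q ∈ sigma M := OddMax.sigmaCore_pi M q hq (hd.trans (card_dvd_of_le inf_le_left))
  have hqp : q ≠ p := fun h => hpM (h ▸ hqσ)
  have hqC : q ∣ Nat.card (centralizer (A : Set G)) := hd.trans (card_dvd_of_le inf_le_right)
  obtain ⟨R, hRσ, hR, hAR, hRi, hR1, -⟩ := exists_inv_sylow_sigmaCore U hM hqσ hAM (coprime_sigmaCore U hA hpM)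
  obtain ⟨P, hP⟩ := hA.isPGroup.exists_le_sylow
  obtain ⟨Q, hQ, -⟩ := OddTrans.exists_max_ge (q := q) (B := (P : Subgroup G)) (U := ⊥)
    (fun r hr h => absurd (card_bot (G := G) ▸ h : r ∣ 1) hr.not_dvd_one)
    ((normalizer_eq_top_iff.2 (inferInstance : (⊥ : Subgroup G).Normal)).symm ▸ le_top)
  obtain ⟨hQA, -, hNP⟩ := inherit U hA hqp hqC P.2 hP hQ
  obtain ⟨k, hk, hQk⟩ := conj_of_dvd U hA hqp hqC (sylow_mem_max hR hRi hAR) hQA
  set M' := MulAut.conj k • M with hM'
  have hNQ : normalizer (Q : Set G) = M' := by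
    rw [hQk, OddMax.normalizer_conj, normalizer_sigma_sylow_eq U hM hα hRσ hR hRi hR1]
  have hM'c : IsCoatom M' := OddSigma.isCoatom_conj hM k
  have hα' : alphaCore M' = ⊥ := by
    refine alphaCore_eq_bot U hM'c fun r hr => ?_
    have := Fact.mk hr.1
    obtain ⟨B, hB, hBe, hBc⟩ := OddSigma.exists_elementary hr.2
    have hle : MulAut.conj k⁻¹ • B ≤ M := by
      have h := conj_mono k⁻¹ hB
      rwa [hM', conj_conj, inv_mul_cancel, conj_one_smul] at h
    have hBe' : IsElementaryAbelian r (MulAut.conj k⁻¹ • B) := by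
      refine ⟨⟨⟨?_⟩⟩, ?_⟩
      · rintro ⟨_, a, ha, rfl⟩ ⟨_, b, hb, rfl⟩
        apply Subtype.ext
        show MulAut.conj k⁻¹ a * MulAut.conj k⁻¹ b = MulAut.conj k⁻¹ b * MulAut.conj k⁻¹ a
        rw [← map_mul, ← map_mul, OddSigma.elem_comm hBe ha hb]
      · rintro _ ⟨b, hb, rfl⟩
        show (MulAut.conj k⁻¹ b) ^ r = 1
        rw [← map_pow, hBe.2 b hb, map_one]
    refine alpha_empty U hM hα ⟨hr.1, OddSigma.not_prankLE_of_le hle hBe' ?_⟩
    rw [card_conj]
    exact lt_of_lt_of_le (Nat.pow_lt_pow_right hr.1.one_lt (Nat.lt_succ_self 2)) hBc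
  have hPM' : (P : Subgroup G) ≤ ⁅M', M'⁆ :=
    hNQ ▸ (le_inf le_rfl (sylow_le_commutator U P)).trans hNP
  have hNP' := normalizer_sylow_eq U hM'c hα' hPM' P.2 P.not_dvd_index (ne_bot_of_le_ne_bot hA.ne_bot hP)
  have hPle : (P : Subgroup G) ≤ M' := hPM'.trans (commutator_le_self _)
  refine hpM ?_
  rw [← OddMax.sigma_conj k M]
  exact OddMax.mem_sigma_iff.2 ⟨(dvd_card hA.2.1).trans (card_dvd_of_le (hP.trans hPle)), P, hPle, P.2,
    fun h => P.not_dvd_index (h.trans (Dvd.intro _ (relIndex_mul_index hPle))), hNP'.le⟩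

/-- 12.2, second half: `p ∈ σ(M)`. -/
theorem bad_sigma (hA : MaxE2 p A) {M : Subgroup G} (hM : IsCoatom M) (hAM : A ≤ M) (hpα : p ∉ alpha M)
    (hbad : Bad A M) : p ∈ sigma M := by
  by_contra hpM
  have hα := bad_alphaCore U hA hM hAM hpα hbad
  obtain ⟨q, hqσ⟩ := OddSigma.exists_sigma U.hG U.hU U.hR2 U.hF hM
  have := Fact.mk hqσ.1
  have hqp : q ≠ p := fun h => hpM (h ▸ hqσ)
  obtain ⟨Q, hQσ, hQ, hAQ, hQi, hQ1, -⟩ := exists_inv_sylow_sigmaCore U hM hqσ hAM (coprime_sigmaCore U hA hpM)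
  have hNQ : normalizer (Q : Set G) = M := normalizer_sigma_sylow_eq U hM hα hQσ hQ hQi hQ1
  have hQA : Q ⊓ centralizer (A : Set G) = ⊥ := le_bot_iff.1
    ((inf_le_inf_right _ hQσ).trans (fixed_eq_bot_of_alpha U hA hM hAM hpM hα).le)
  obtain ⟨a, ha, ha1, hQa⟩ := exists_fixed_line hA.1 hA.2.1 (not_dvd_of_isPGroup hqp.symm hQ) hAQ hQ1
  obtain ⟨H, hH, hHM, hNa⟩ := hbad a ha ha1
  have hC : centralizer (A : Set G) ≤ H := centralizer_le_of_line U ha hNa
  have hAH : A ≤ H := (OddSigma.elementary_le_centralizer hA.1 le_rfl).trans hC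
  set S := Q ⊓ H with hS
  have hSH : S ≤ H := inf_le_right
  have hSp : IsPGroup q S := hQ.to_le inf_le_left
  have hAS : A ≤ normalizer (S : Set G) := Signalizer.le_normalizer_inf hAQ (hAH.trans le_normalizer)
  have hS1 : S ≠ ⊥ := ne_bot_of_le_ne_bot hQa
    (le_inf inf_le_left (inf_le_right.trans ((centralizer_le_normalizer_line a).trans hNa)))
  have hSA : S ⊓ centralizer (A : Set G) = ⊥ := le_bot_iff.1 ((inf_le_inf_right _ inf_le_left).trans hQA.le)
  have hpH : p ∉ sigma H := fun h => hS1 (fixed_eq_bot_of_sigma U hA hH h hAH hM hpM hqσ hSp hSH hAS hSA)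
  have hQmax := sylow_mem_max hQ hQi hAQ
  have hqH : q ∉ sigma H := by
    intro h
    obtain ⟨R, hRσ, hR, hAR, hRi, hR1, hNR⟩ := exists_inv_sylow_sigmaCore U hH h hAH (coprime_sigmaCore U hA hpH)
    obtain ⟨k, hk, e⟩ := conj_of_overgroup U hA hqp (sylow_mem_max hR hRi hAR) hQmax hH.1 hAH
      (fun hb => hR1 (le_bot_iff.1 ((le_inf (hRσ.trans (OddMax.sigmaCore_le H)) le_rfl).trans hb.le)))
      (by rw [inf_comm]; exact hS1)
    refine hHM (eq_of_le_coatom hM hH ?_).symm
    rw [← hNQ, e, OddMax.normalizer_conj]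
    refine (conj_mono k hNR).trans ?_
    rw [mem_normalizer_iff_conj.1 (le_normalizer (hC hk))]
  have hcent := centralizes_sigmaCore U hA hH hC hpH hqH hqp hSp hSH hAS hSA fun w hw hw1 P hAP hPw hNw => by
    obtain ⟨H₀, hH₀, hH₀M, hNw₀⟩ := hbad w hw hw1
    exact fixed_eq_bot_of_sigma U hA hH₀ (sigma_of_central_line hA hAP hNw hNw₀)
      (line_subgroup_le_of_normalizer hA.1.1 hw hNw₀) hM hpM hqσ (hSp.to_le inf_le_left)
      (inf_le_right.trans ((centralizer_le_normalizer_line w).trans hNw₀)) (le_normalizer_singleton hAS hw hA.1.1)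
      (le_bot_iff.1 ((inf_le_inf_right _ inf_le_left).trans hSA.le))
  -- every maximal subgroup containing `N(S)` is `H`
  have hclaim : normalizer (S : Set G) ≤ H := by
    obtain ⟨H', hH', hNS⟩ := OddSigma.exists_coatom (OddSigma.normalizer_ne_top U.hG hS1
      (fun h => hH.1 (top_le_iff.1 (h.ge.trans hSH))))
    suffices h : H' = H from h ▸ hNS
    have hAH' : A ≤ H' := hAS.trans hNS
    have hHσ : sigmaCore H ≤ H' :=
      (le_centralizer_iff.1 hcent).trans ((centralizer_le_normalizer _).trans hNS)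
    by_contra hne
    have hαH : alphaCore H = ⊥ := alphaCore_eq_bot U hH fun r hr => by
      have := Fact.mk hr.1
      obtain ⟨R, hRσ, hR, -, hRi, -, -⟩ := exists_inv_sylow_sigmaCore U hH
        (OddSigma.alpha_subset_sigma U.hG U.hU hH hr) hAH (coprime_sigmaCore U hA hpH)
      have hRH := hRσ.trans (OddMax.sigmaCore_le H)
      obtain ⟨M₀, -, hu⟩ := unique_of_alpha U hr hR hRi fun h => hH.1 (top_le_iff.1 (h.ge.trans hRH))
      exact hne ((hu H' ⟨hH', hRσ.trans hHσ⟩).trans (hu H ⟨hH, hRH⟩).symm)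
    obtain ⟨r, hrσ⟩ := OddSigma.exists_sigma U.hG U.hU U.hR2 U.hF hH
    have := Fact.mk hrσ.1
    have hrp : r ≠ p := fun h => hpH (h ▸ hrσ)
    obtain ⟨R, hRσ, hR, hAR, hRi, hR1, -⟩ := exists_inv_sylow_sigmaCore U hH hrσ hAH (coprime_sigmaCore U hA hpH)
    have hNR : normalizer (R : Set G) = H := normalizer_sigma_sylow_eq U hH hαH hRσ hR hRi hR1
    have hRH' : R ≤ H' := hRσ.trans hHσ
    have hrH' : r ∉ sigma H' := fun h => hne (eq_of_le_coatom hH hH' (hNR ▸
      OddMax.normalizer_le_of_mem_sigma h hR hRH' fun hd => hRi (hd.trans (Dvd.intro _ (relIndex_mul_index hRH'))))).symm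
    have hRA : R ⊓ centralizer (A : Set G) = ⊥ := le_bot_iff.1
      ((inf_le_inf_right _ hRσ).trans (sigmaCore_inf_centralizer U hA hH hpH hC).le)
    have hpH' : p ∉ sigma H' := fun h => hR1 (le_bot_iff.1
      ((le_inf le_rfl (sigma_centralizes U hA hH' h hAH' hrH' hR hRH' hAR)).trans hRA.le))
    have hH'A : sigmaCore H' ⊓ centralizer (A : Set G) = ⊥ ∧ R ≤ centralizer (sigmaCore H' : Set G) := by
      by_cases hb : Bad A H'
      · have hpα' : p ∉ alpha H' := fun h => hpH' (OddSigma.alpha_subset_sigma U.hG U.hU hH' h)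
        have hα' := bad_alphaCore U hA hH' hAH' hpα' hb
        refine ⟨fixed_eq_bot_of_alpha U hA hH' hAH' hpH' hα', le_centralizer_iff.1 fun x hx y hy => ?_⟩
        have hnil := commutator_nilpotent_of_alpha U hH' hα'
        have hRH'c : R ≤ ⁅H', H'⁆ := (eq_commutator_of_fixed_free U hA hrp hR hAR hRA).ge.trans
          (commutator_mono hRH' hAH')
        have hxc : x ∈ ⁅H', H'⁆ := OddSigma.sigmaCore_le_commutator U.hG U.hU U.hR2 U.hF hH' hx
        have hcop : (orderOf (⟨y, hRH'c hy⟩ : ↥⁅H', H'⁆)).Coprime (orderOf (⟨x, hxc⟩ : ↥⁅H', H'⁆)) := by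
          rw [orderOf_mk, orderOf_mk]
          refine Nat.coprime_of_dvd fun s hs h1 h2 => hrH' ?_
          have h3 := OddTrans.pi_of_isPGroup hR s hs (h1.trans (Subgroup.orderOf_dvd_natCard _ hy))
          exact (Set.mem_singleton_iff.1 h3) ▸ OddMax.sigmaCore_pi H' s hs (h2.trans (Subgroup.orderOf_dvd_natCard _ hx))
        exact congrArg Subtype.val (NilGroup.commute_of_coprime hnil hcop).eq
      · simp only [Bad, not_forall, not_exists, not_and] at hb
        obtain ⟨b, hb', hb1, hNb⟩ := hb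
        have hNbH' : normalizer (zpowers b : Set G) ≤ H' := by
          obtain ⟨L, hL, hNL⟩ := OddSigma.exists_coatom (normalizer_line_ne_top U hA hb' hb1)
          by_cases hLH : L = H'
          · exact hLH ▸ hNL
          · exact absurd hNL (hNb L hL hLH)
        have hC' : centralizer (A : Set G) ≤ H' := centralizer_le_of_line U hb' hNbH'
        refine ⟨sigmaCore_inf_centralizer U hA hH' hpH' hC', centralizes_sigmaCore U hA hH' hC' hpH' hrH' hrp hR hRH'
          hAR hRA fun w hw hw1 P hAP hPw hNw => ?_⟩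
        obtain ⟨H₀, hH₀, hNw₀⟩ := OddSigma.exists_coatom (normalizer_line_ne_top U hA hw hw1)
        exact fixed_eq_bot_of_sigma U hA hH₀ (sigma_of_central_line hA hAP hNw hNw₀)
          (line_subgroup_le_of_normalizer hA.1.1 hw hNw₀) hH hpH hrσ (hR.to_le inf_le_left)
          (inf_le_right.trans ((centralizer_le_normalizer_line w).trans hNw₀)) (le_normalizer_singleton hAR hw hA.1.1)
          (le_bot_iff.1 ((inf_le_inf_right _ inf_le_left).trans hRA.le))
    have hH'σ : sigmaCore H' ≤ H :=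
      (le_centralizer_iff.1 hH'A.2).trans ((centralizer_le_normalizer _).trans hNR.le)
    have hαH' : alphaCore H' = ⊥ := alphaCore_eq_bot U hH' fun s hs => by
      have := Fact.mk hs.1
      obtain ⟨T, hTσ, hT, -, hTi, -, -⟩ := exists_inv_sylow_sigmaCore U hH'
        (OddSigma.alpha_subset_sigma U.hG U.hU hH' hs) hAH' (coprime_sigmaCore U hA hpH')
      have hTH' := hTσ.trans (OddMax.sigmaCore_le H')
      obtain ⟨M₀, -, hu⟩ := unique_of_alpha U hs hT hTi fun h => hH'.1 (top_le_iff.1 (h.ge.trans hTH'))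
      exact hne ((hu H' ⟨hH', hTH'⟩).trans (hu H ⟨hH, hTσ.trans hH'σ⟩).symm)
    obtain ⟨s, hsσ⟩ := OddSigma.exists_sigma U.hG U.hU U.hR2 U.hF hH'
    have := Fact.mk hsσ.1
    have hsp : s ≠ p := fun h => hpH' (h ▸ hsσ)
    obtain ⟨T, hTσ, hT, hAT, hTi, hT1, -⟩ := exists_inv_sylow_sigmaCore U hH' hsσ hAH' (coprime_sigmaCore U hA hpH')
    have hNT : normalizer (T : Set G) = H' := normalizer_sigma_sylow_eq U hH' hαH' hTσ hT hTi hT1
    have hTA : T ⊓ centralizer (A : Set G) = ⊥ := le_bot_iff.1 ((inf_le_inf_right _ hTσ).trans hH'A.1.le)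
    have hTH : T ≤ ⁅H, H⁆ := (eq_commutator_of_fixed_free U hA hsp hT hAT hTA).ge.trans
      (commutator_mono (hTσ.trans hH'σ) hAH)
    exact hne (hNT.symm.trans (normalizer_sylow_eq U hH hαH hTH hT hTi hT1))
  have hSQ : S = Q := by
    by_contra h
    exact (OddTrans.lt_inf_normalizer hQ (lt_of_le_of_ne inf_le_left h)).not_ge
      (le_inf inf_le_left (inf_le_right.trans hclaim))
  exact hHM (eq_of_le_coatom hM hH (by rw [← hNQ, ← hSQ]; exact hclaim)).symm

/-- Statement 1416 from the inputs of section 10. -/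
theorem s1416 (M : Subgroup G) (hM : IsCoatom M) (A : Subgroup G)
    (hA : A ≤ M ∧ IsElementaryAbelian p A ∧ Nat.card A = p ^ 2) :
    centralizer (A : Set G) ≤ M ∧
      ((∀ A₀ : Subgroup G, A₀ ≤ A → Nat.card A₀ = p →
          ¬ (normalizer (A₀ : Set G) ≤ M ∧ ∀ L : Subgroup G, IsCoatom L → normalizer (A₀ : Set G) ≤ L → L = M)) →
        p ∈ sigma M ∧ alphaCore M = ⊥ ∧ Group.IsNilpotent (sigmaCore M)) := by
  obtain ⟨hAM, hAe, hA2⟩ := hA
  have hpM : p ∣ Nat.card M := (dvd_card hA2).trans (card_dvd_of_le hAM)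
  have hother : (∀ A₀ : Subgroup G, A₀ ≤ A → Nat.card A₀ = p →
      ¬ (normalizer (A₀ : Set G) ≤ M ∧ ∀ L : Subgroup G, IsCoatom L → normalizer (A₀ : Set G) ≤ L → L = M)) →
      Bad A M := by
    intro h a ha ha1
    have htop : normalizer (zpowers a : Set G) ≠ ⊤ := OddSigma.normalizer_ne_top U.hG (zpowers_ne_bot.2 ha1)
      (OddSigma.top_not_pGroup U.hG (p := p) (Signalizer.isPGroup_zpowers_of_pow_eq_one (hAe.2 a ha)))
    obtain ⟨L, hL, hNL⟩ := OddSigma.exists_coatom htop
    by_cases hLM : L = M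
    · have h' := h _ (zpowers_le.2 ha) (card_line hAe ha ha1)
      simp only [not_and, not_forall] at h'
      obtain ⟨L', hL', hNL', hne⟩ := h' (hLM ▸ hNL)
      exact ⟨L', hL', hne, hNL'⟩
    · exact ⟨L, hL, hLM, hNL⟩
  by_cases hu : InUniqueMaximal A
  · refine ⟨(centralizer_le_normalizer _).trans (OddSigma.normalizer_le_of_unique U.hG hu hM hAM), fun h => ?_⟩
    obtain ⟨a, ha, ha1, -⟩ := exists_not_mem_line hAe hA2 1
    obtain ⟨H, hH, hHM, hN⟩ := hother h a ha ha1
    obtain ⟨M₀, -, hu⟩ := hu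
    exact absurd ((hu H ⟨hH, line_subgroup_le_of_normalizer hAe.1 ha hN⟩).trans (hu M ⟨hM, hAM⟩).symm) hHM
  have hmax : MaxE2 p A := by
    refine ⟨hAe, hA2, fun B hB hAB => ?_⟩
    by_contra hne
    refine hu (U.hU A (fun h => hM.1 (top_le_iff.1 (h.ge.trans hAM)))
      (OddSigma.not_rankLE_one_of_card hp.out le_rfl hAe hA2.ge) (Or.inr (OddSigma.not_rankLE_of_prank hp.out
        (OddSigma.not_prankLE_of_le (OddSigma.elementary_le_centralizer hB hAB) hB ?_))))
    exact hA2 ▸ lt_of_le_of_ne (card_le_of_le hAB) fun h => hne (eq_of_le_of_card_ge hAB h.ge).symm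
  obtain ⟨P, hP⟩ := (hmax.isPGroup.comap_of_injective M.subtype M.subtype_injective).exists_le_sylow
  set P' := (P : Subgroup M).map M.subtype with hP'
  have hAP : A ≤ P' := fun a ha => ⟨⟨a, hAM ha⟩, hP ha, rfl⟩
  have hP'M : P' ≤ M := map_subtype_le _
  have hP'p : IsPGroup p P' := P.isPGroup'.map _
  obtain ⟨z, hz, hzo⟩ := OddSigma.exists_center_orderOf hP'p (ne_bot_of_le_ne_bot hmax.ne_bot hAP)
  have hzP := OddSigma.mem_centralizer_of_center hz
  have hz1 : z ≠ 1 := fun h => hp.out.one_lt.ne (by rw [← hzo, h, orderOf_one])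
  have hzA : z ∈ A := (hmax.omega (centralizer_le hAP hzP)).1 (hzo ▸ pow_orderOf_eq_one z)
  by_cases hpα : p ∈ alpha M
  · have huP := OddSigma.sylow_unique_of_alpha U.hG U.hU hM hpα P
    have hle : P' ≤ centralizer ({z} : Set G) := fun x hx => mem_centralizer_singleton_iff.2 (hzP x hx)
    have hN : normalizer (zpowers z : Set G) ≤ M := OddSigma.le_of_unique huP hM hP'M
      (hle.trans (centralizer_le_normalizer_line z)) (normalizer_line_ne_top U hmax hzA hz1)
    refine ⟨centralizer_le_of_line U hzA hN, fun h => ?_⟩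
    obtain ⟨H, hH, hHM, hN'⟩ := hother h z hzA hz1
    obtain ⟨M₀, -, hu⟩ := huP
    exact absurd ((hu H ⟨hH, (hle.trans (centralizer_le_normalizer_line z)).trans hN'⟩).trans
      (hu M ⟨hM, hP'M⟩).symm) hHM
  by_cases hbad : Bad A M
  · have hα := bad_alphaCore U hmax hM hAM hpα hbad
    have hσ := bad_sigma U hmax hM hAM hpα hbad
    refine ⟨?_, fun _ => ⟨hσ, hα, sigmaCore_nilpotent_of_alpha U hM hα⟩⟩
    have hi : ¬ p ∣ P'.index := OddSigma.sylow_index_of_sigma hσ P
    have hNP : normalizer (P' : Set G) = M := normalizer_sigma_sylow_eq U hM hα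
      (pgroup_le_sigmaCore U hM hσ hP'M hP'p) hP'p hi (ne_bot_of_le_ne_bot hmax.ne_bot hAP)
    set V := closure {x : G | x ∈ (center ↥P').map P'.subtype ∧ x ^ p = 1} with hV
    have hVA : V ≤ A := (closure_le _).2 fun x hx =>
      (hmax.omega (centralizer_le hAP (OddSigma.mem_centralizer_of_center hx.1))).1 hx.2
    have hV1 : V ≠ ⊥ := fun h => hz1 (mem_bot.1 (h ▸ subset_closure ⟨hz, hzo ▸ pow_orderOf_eq_one z⟩))
    have hMV : M ≤ normalizer (V : Set G) := by
      intro m hm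
      refine Signalizer.mem_normalizer_of_conj_mem fun x hx => ?_
      induction hx using closure_induction with
      | mem y hy =>
        refine subset_closure ⟨OddSigma.conj_mem_center (hNP.symm ▸ hm) hy.1, ?_⟩
        show (MulAut.conj m y) ^ p = 1
        rw [← map_pow, hy.2, map_one]
      | one => simp
      | mul y y' _ _ h1 h2 => simpa [mul_assoc] using mul_mem h1 h2
      | inv y _ h1 => simpa [mul_assoc] using inv_mem h1
    exact ((centralizer_le hVA).trans (centralizer_le_normalizer _)).trans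
      (OddMax.normalizer_eq U.hG hM hV1 (hVA.trans hAM) hMV).le
  refine ⟨?_, fun h => absurd (hother h) hbad⟩
  simp only [Bad, not_forall, not_exists, not_and] at hbad
  obtain ⟨a, ha, ha1, hNa⟩ := hbad
  refine centralizer_le_of_line U ha ?_
  obtain ⟨L, hL, hNL⟩ := OddSigma.exists_coatom (normalizer_line_ne_top U hmax ha ha1)
  by_cases hLM : L = M
  · exact hLM ▸ hNL
  · exact absurd hNL (hNa L hL hLM)

end Cfsg.Agent.OddTau2
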