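/-
Bender-Glauberman 12.5: `p ∉ σ(M)` and `A ≤ M` elementary of order `p ^ 2`.
Main results (namespace `Cfsg.Agent.OddTau2`): `Good`, `Good.fixed`, `Good.conj_inf`, `Good.sylow_centralizes`,
`Good.sylow_commutative`, `Good.nilpotent`, `Good.centralizes`, `Good.inf_eq_bot`.
-/
import Cfsg.Agent.Lib.OddOrder.TauTwoBad

set_option autoImplicit false
set_option linter.unusedSectionVars false
set_option linter.unusedVariables false

open Subgroup
open scoped Pointwise commutatorElement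

universe u

namespace Cfsg.Agent.OddTau2

open Cfsg.Agent.Solvable

variable {G : Type u} [Group G] [Finite G]

/-- `A ≤ M` elementary abelian of order `p ^ 2`, `p ∉ σ(M)`. -/
structure Good (p : ℕ) (M A : Subgroup G) : Prop where
  coatom : IsCoatom M
  notSigma : p ∉ sigma M
  le : A ≤ M
  elem : IsElementaryAbelian p A
  card : Nat.card A = p ^ 2

/-- `S` is a Sylow `p`-subgroup of `M`, as a subgroup of `G`. -/
def SylowOf (p : ℕ) (M S : Subgroup G) : Prop := IsPGroup p S ∧ S ≤ M ∧ ¬ p ∣ S.relIndex M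

theorem exists_sylowOf_ge {p : ℕ} [hp : Fact p.Prime] {M X : Subgroup G} (hX : IsPGroup p X) (hXM : X ≤ M) :
    ∃ S, SylowOf p M S ∧ X ≤ S := by
  obtain ⟨P, hP⟩ := (hX.comap_of_injective M.subtype M.subtype_injective).exists_le_sylow
  exact ⟨(P : Subgroup M).map M.subtype, ⟨P.2.map _, map_subtype_le _, OddMax.sylow_relIndex P⟩,
    fun a ha => ⟨⟨a, hXM ha⟩, hP ha, rfl⟩⟩

theorem SylowOf.eq_of_le {p : ℕ} [hp : Fact p.Prime] {M S T : Subgroup G} (h : SylowOf p M S) (hT : IsPGroup p T)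
    (hTM : T ≤ M) (hle : S ≤ T) : T = S := by
  obtain ⟨P, hP⟩ := OddMax.exists_sylow_eq h.1 h.2.1 h.2.2
  obtain ⟨R, hR⟩ := (hT.comap_of_injective M.subtype M.subtype_injective).exists_le_sylow
  refine (eq_of_le_of_card_ge hle ?_).symm
  refine (card_le_of_le (show T ≤ (R : Subgroup M).map M.subtype from fun a ha => ⟨⟨a, hTM ha⟩, hR ha, rfl⟩)).trans ?_
  rw [card_map_of_injective M.subtype_injective, R.card_eq_multiplicity, ← P.card_eq_multiplicity,
    ← card_map_of_injective (K := (P : Subgroup M)) M.subtype_injective, hP]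

theorem conj_mem_fixed {X : Subgroup G} {a u : G} (hu : u ∈ normalizer (X : Set G))
    (h : X ⊓ centralizer ({a} : Set G) = ⊥) : X ⊓ centralizer ({u * a * u⁻¹} : Set G) = ⊥ := by
  refine (Subgroup.eq_bot_iff_forall _).2 fun x hx => ?_
  have h1 : u⁻¹ * x * u ∈ X ⊓ centralizer ({a} : Set G) := by
    refine ⟨(mem_normalizer_iff''.1 hu x).1 hx.1, mem_centralizer_singleton_iff.2 ?_⟩
    have h2 := mem_centralizer_singleton_iff.1 hx.2
    calc u⁻¹ * x * u * a = u⁻¹ * (x * (u * a * u⁻¹)) * u := by group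
      _ = u⁻¹ * (u * a * u⁻¹ * x) * u := by rw [h2]
      _ = a * (u⁻¹ * x * u) := by group
  rw [h, mem_bot] at h1
  have := congrArg (fun y => u * y * u⁻¹) h1
  simpa [mul_assoc] using this

/-- An invariant subgroup of `G` is trivial when all invariant `q`-subgroups of it are. -/
theorem eq_bot_of_sylows {A X : Subgroup G} (hAX : A ≤ normalizer (X : Set G))
    (hcop : (Nat.card A).Coprime (Nat.card X)) (hX : Group.IsSolvable X)
    (h : ∀ (q : ℕ) [Fact q.Prime], q ∣ Nat.card X → ∀ Y ≤ X, IsPGroup q Y → A ≤ normalizer (Y : Set G) → Y = ⊥) :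
    X = ⊥ := by
  by_contra hne
  obtain ⟨q, hq, hd⟩ := Nat.exists_prime_and_dvd ((not_congr (card_eq_one (H := X))).2 hne)
  have := Fact.mk hq
  obtain ⟨S, hS⟩ := Coprime.exists_invariant_sylow hAX hcop (Or.inr hX) q
  have h1 := h q hd _ (map_subtype_le _) (S.2.map _) hS
  refine S.not_dvd_index ?_
  rw [(map_eq_bot_iff_of_injective _ X.subtype_injective).1 h1, index_bot]
  exact hd

/-- A `p`-element normalising but not centralising `A` permutes the lines other than the one it fixes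
transitively. -/
theorem exists_pow_conj_line {p : ℕ} [hp : Fact p.Prime] {A : Subgroup G} (hA : IsElementaryAbelian p A)
    (hA2 : Nat.card A = p ^ 2) {u z : G} {n : ℕ} (hn : orderOf u = p ^ n) (huN : u ∈ normalizer (A : Set G))
    (huC : u ∉ centralizer (A : Set G)) (hz : z ∈ A) (hz1 : z ≠ 1) (huz : u * z * u⁻¹ = z) {a : G} (ha : a ∈ A)
    (ha1 : a ≠ 1) (haz : a ∉ zpowers z) {b : G} (hb : b ∈ A) (hbz : b ∉ zpowers z) :
    ∃ i : ℕ, b ∈ zpowers (u ^ i * a * (u ^ i)⁻¹) := by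
  have hua : u * a * u⁻¹ ∈ A := (mem_normalizer_iff.1 huN a).1 ha
  obtain ⟨x, hx, y, hy, hxy⟩ : ∃ x ∈ zpowers a, ∃ y ∈ zpowers z, x * y = u * a * u⁻¹ := by
    have h1 : u * a * u⁻¹ ∈ zpowers z ⊔ zpowers a := (sup_line hA hA2 hz hz1 ha haz).symm ▸ hua
    rw [← SetLike.mem_coe, coe_mul_of_right_le_normalizer_left (zpowers z) (zpowers a)
      (Signalizer.le_normalizer_of_commute fun v hv w hw => OddSigma.elem_comm hA (zpowers_le.2 ha hv)
        (zpowers_le.2 hz hw))] at h1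
    obtain ⟨y, hy, x, hx, e⟩ := h1
    exact ⟨x, hx, y, hy, e ▸ OddSigma.elem_comm hA (zpowers_le.2 ha hx) (zpowers_le.2 hz hy)⟩
  -- `x = a`, as `u` is a `p`-element
  obtain ⟨j, rfl⟩ := hx
  obtain ⟨i, rfl⟩ := hy
  simp only at hxy
  have hcomm : Commute a z := OddSigma.elem_comm hA ha hz
  have hzpow : ∀ k : ℕ, ∃ e : ℤ, u ^ k * a * (u ^ k)⁻¹ = a ^ (j ^ k) * z ^ e := by
    intro k
    induction k with
    | zero => exact ⟨0, by simp⟩
    | succ k ih =>
      obtain ⟨e, he⟩ := ih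
      refine ⟨i * j ^ k + e, ?_⟩
      rw [pow_succ' u, show u * u ^ k * a * (u * u ^ k)⁻¹ = u * (u ^ k * a * (u ^ k)⁻¹) * u⁻¹ by group, he,
        show u * (a ^ (j ^ k) * z ^ e) * u⁻¹ = (u * a ^ (j ^ k) * u⁻¹) * (u * z ^ e * u⁻¹) by group,
        ← conj_zpow, ← conj_zpow, huz, ← hxy, (hcomm.zpow_zpow j i).mul_zpow, ← zpow_mul, ← zpow_mul,
        mul_assoc, ← zpow_add, pow_succ']
  have hj : (p : ℤ) ∣ j - 1 := by
    obtain ⟨e, he⟩ := hzpow (orderOf u)
    rw [pow_orderOf_eq_one, one_mul, inv_one, mul_one] at he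
    have h1 : a ^ ((1 : ℤ) - j ^ (orderOf u)) = z ^ e := by
      rw [zpow_sub, zpow_one]
      nth_rw 1 [he]
      rw [mul_inv_eq_iff_eq_mul]
      exact ((hcomm.zpow_zpow (j ^ (orderOf u)) e).eq)
    have h2 : a ^ ((1 : ℤ) - j ^ (orderOf u)) = 1 := by
      by_contra h2
      have hmem : a ^ ((1 : ℤ) - j ^ (orderOf u)) ∈ zpowers z := h1 ▸ zpow_mem (mem_zpowers z) e
      exact haz (line_eq (card_line hA hz hz1) hmem h2 ▸
        (show a ∈ zpowers (a ^ ((1 : ℤ) - j ^ (orderOf u))) from by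
          rw [line_eq (card_line hA ha ha1) (zpow_mem (mem_zpowers a) _) h2]
          exact mem_zpowers a))
    rw [← orderOf_dvd_iff_zpow_eq_one, orderOf_eq hA ha ha1, hn] at h2
    rw [← ZMod.intCast_zmod_eq_zero_iff_dvd] at h2 ⊢
    push_cast at h2 ⊢
    rwa [ZMod.pow_card_pow, sub_eq_zero, eq_comm, ← sub_eq_zero] at h2
  obtain ⟨t, ht⟩ := hj
  have haj : a ^ j = a := by
    rw [show j = (p : ℤ) * t + 1 by omega, zpow_add, zpow_one, zpow_mul, zpow_natCast, hA.2 a ha,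
      one_zpow, one_mul]
  rw [haj] at hxy
  have hk : ∀ k : ℕ, u ^ k * a * (u ^ k)⁻¹ = a * z ^ (i * (k : ℤ)) := by
    intro k
    induction k with
    | zero => simp
    | succ k ih =>
      rw [pow_succ' u, show u * u ^ k * a * (u * u ^ k)⁻¹ = u * (u ^ k * a * (u ^ k)⁻¹) * u⁻¹ by group, ih,
        show u * (a * z ^ (i * (k : ℤ))) * u⁻¹ = (u * a * u⁻¹) * (u * z ^ (i * (k : ℤ)) * u⁻¹) by group,
        ← conj_zpow, huz, ← hxy, mul_assoc, ← zpow_add]
      congr 2
      push_cast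
      ring
  have hzi : z ^ i ≠ 1 := by
    intro h
    refine huC ?_
    rw [centralizer_eq hA hA2 ha ha1 hz (not_mem_line_symm hA hz hz1 ha ha1 haz)]
    rw [h, mul_one] at hxy
    exact ⟨mem_centralizer_singleton_iff.2 (mul_inv_eq_iff_eq_mul.1 hxy.symm),
      mem_centralizer_singleton_iff.2 (mul_inv_eq_iff_eq_mul.1 huz)⟩
  obtain ⟨x, hx, y, hy, hxy'⟩ : ∃ x ∈ zpowers a, ∃ y ∈ zpowers z, x * y = b := by
    have h1 : b ∈ zpowers z ⊔ zpowers a := (sup_line hA hA2 hz hz1 ha haz).symm ▸ hb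
    rw [← SetLike.mem_coe, coe_mul_of_right_le_normalizer_left (zpowers z) (zpowers a)
      (Signalizer.le_normalizer_of_commute fun v hv w hw => OddSigma.elem_comm hA (zpowers_le.2 ha hv)
        (zpowers_le.2 hz hw))] at h1
    obtain ⟨y, hy, x, hx, e⟩ := h1
    exact ⟨x, hx, y, hy, e ▸ OddSigma.elem_comm hA (zpowers_le.2 ha hx) (zpowers_le.2 hz hy)⟩
  have hx1 : x ≠ 1 := fun h => hbz (by rw [← hxy', h, one_mul]; exact hy)
  have hax : a ∈ zpowers x := (line_eq (card_line hA ha ha1) hx hx1).symm ▸ mem_zpowers a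
  obtain ⟨s, hs⟩ := hax
  simp only at hs
  have hys : y ^ s ∈ zpowers (z ^ i) := by
    rw [line_eq (card_line hA hz hz1) (zpow_mem (mem_zpowers z) i) hzi]
    exact zpow_mem hy s
  obtain ⟨k, hk'⟩ : ∃ k : ℕ, (z ^ i) ^ k = y ^ s :=
    Submonoid.mem_powers_iff _ _ |>.1 ((isOfFinOrder_of_finite (z ^ i)).mem_powers_iff_mem_zpowers.2 hys)
  refine ⟨k, ?_⟩
  rw [hk k, zpow_mul, zpow_natCast, hk']
  have hxc : Commute x y := OddSigma.elem_comm hA (zpowers_le.2 ha hx) (zpowers_le.2 hz hy)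
  rw [← hs, ← hxc.mul_zpow, hxy']
  have hb1 : b ≠ 1 := fun h => hbz (h ▸ one_mem _)
  by_cases hbs : b ^ s = 1
  · exfalso
    rw [← hxy', hxc.mul_zpow, hs] at hbs
    refine haz ?_
    rw [eq_inv_of_mul_eq_one_left hbs]
    exact inv_mem (zpow_mem hy s)
  rw [line_eq (card_line hA hb hb1) (zpow_mem (mem_zpowers b) s) hbs]
  exact mem_zpowers b

variable {p : ℕ} [hp : Fact p.Prime] {M A : Subgroup G} (U : Upstream G) (hg : Good p M A)
include U hg

theorem Good.max : MaxE2 p A :=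
  ⟨hg.elem, hg.card, fun B hB hAB =>
    OddSigma.maximal_elementary_of_not_sigma U.hG U.hU hg.coatom hg.notSigma hg.le hg.elem hg.card hB hAB⟩

omit U in
theorem Good.dvd : p ∣ Nat.card M := (dvd_card hg.card).trans (card_dvd_of_le hg.le)

theorem Good.prank : PRankLE p 2 M :=
  not_not.1 fun h => hg.notSigma (OddSigma.alpha_subset_sigma U.hG U.hU hg.coatom ⟨hp.out, h⟩)

theorem Good.cent_le : centralizer (A : Set G) ≤ M :=
  (s1416 U M hg.coatom A ⟨hg.le, hg.elem, hg.card⟩).1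

theorem Good.exists_line : ∃ a ∈ A, a ≠ 1 ∧ normalizer (zpowers a : Set G) ≤ M ∧
    ∀ L : Subgroup G, IsCoatom L → normalizer (zpowers a : Set G) ≤ L → L = M := by
  by_contra hcon
  refine hg.notSigma ((s1416 U M hg.coatom A ⟨hg.le, hg.elem, hg.card⟩).2 fun A₀ hA₀ hc hb => hcon ?_).1
  obtain ⟨a, ha, ha1, rfl⟩ := exists_gen hc
  exact ⟨a, hA₀ ha, ha1, hb⟩

theorem Good.fixed : sigmaCore M ⊓ centralizer (A : Set G) = ⊥ :=
  sigmaCore_inf_centralizer U (hg.max U) hg.coatom hg.notSigma (hg.cent_le U)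

omit U in
theorem Good.normalizes_core : A ≤ normalizer (sigmaCore M : Set G) :=
  hg.le.trans (OddMax.le_normalizer_sigmaCore M)

theorem Good.exists_fixed : ∃ a ∈ A, a ≠ 1 ∧ sigmaCore M ⊓ centralizer ({a} : Set G) ≠ ⊥ :=
  exists_fixed_line hg.elem hg.card (not_dvd_sigmaCore hg.notSigma) hg.normalizes_core
    (OddSigma.sigmaCore_ne_bot U.hG U.hU U.hR2 U.hF hg.coatom)

omit U in
theorem Good.coprime_inf (X : Subgroup G) : (Nat.card A).Coprime (Nat.card ↥(sigmaCore M ⊓ X)) := by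
  rw [hg.card]
  exact ((hp.out.coprime_iff_not_dvd.2 fun h =>
    not_dvd_sigmaCore hg.notSigma (h.trans (card_dvd_of_le inf_le_left)))).pow_left 2

theorem Good.solvable_core : Group.IsSolvable ↥(sigmaCore M) :=
  Coprime.isSolvable_of_le (OddMax.sigmaCore_le M) (OddSigma.proper_solvable U.hG hg.coatom.1)

/-- A maximal subgroup `H ⊇ A` with `p ∈ σ(H)` meets `M_σ` trivially. -/
theorem Good.inf_eq_bot_of_sigma {H : Subgroup G} (hH : IsCoatom H) (hAH : A ≤ H) (hpH : p ∈ sigma H) :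
    sigmaCore M ⊓ H = ⊥ :=
  eq_bot_of_sylows (Signalizer.le_normalizer_inf hg.normalizes_core (hAH.trans le_normalizer)) (hg.coprime_inf H)
    (Coprime.isSolvable_of_le inf_le_left (hg.solvable_core U)) fun q _ hd Y hY hYq hAY =>
      fixed_eq_bot_of_sigma U (hg.max U) hH hpH hAH hg.coatom hg.notSigma
        (OddMax.sigmaCore_pi M q Fact.out (hd.trans (card_dvd_of_le inf_le_left))) hYq (hY.trans inf_le_right) hAY
        (le_bot_iff.1 ((inf_le_inf_right _ (hY.trans inf_le_left)).trans (hg.fixed U).le))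

/-- A maximal invariant Sylow subgroup of `M_σ` above a given invariant subgroup. -/
theorem Good.exists_sylow_ge {q : ℕ} [hq : Fact q.Prime] (hqσ : q ∈ sigma M) {Y : Subgroup G}
    (hY : Y ≤ sigmaCore M) (hYq : IsPGroup q Y) (hAY : A ≤ normalizer (Y : Set G)) :
    ∃ Q, Y ≤ Q ∧ Q ≤ sigmaCore M ∧ IsPGroup q Q ∧ A ≤ normalizer (Q : Set G) ∧ ¬ q ∣ Q.index ∧
      Q ≠ ⊥ ∧ normalizer (Q : Set G) ≤ M := by
  obtain ⟨R, hR, hAR⟩ := Coprime.exists_invariant_sylow_ge hg.normalizes_core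
    (coprime_sigmaCore U (hg.max U) hg.notSigma) (Or.inr (hg.solvable_core U)) hY hYq hAY
  set Q := (R : Subgroup (sigmaCore M)).map (sigmaCore M).subtype
  have hQM : Q ≤ M := (map_subtype_le _).trans (OddMax.sigmaCore_le M)
  have hrel : ¬ q ∣ Q.relIndex M := by
    rw [← relIndex_mul_relIndex Q (sigmaCore M) M (map_subtype_le _) (OddMax.sigmaCore_le M),
      OddSigma.relIndex_sylow_map]
    exact hq.out.not_dvd_mul R.not_dvd_index ((sigma_hall U hg.coatom).2.2 q hq.out hqσ)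
  refine ⟨Q, hR, map_subtype_le _, R.2.map _, hAR, sylow_sigmaCore U hg.coatom hqσ hQM hrel, fun h => hrel ?_,
    OddMax.normalizer_le_of_mem_sigma hqσ (R.2.map _) hQM hrel⟩
  rw [h, relIndex_bot_left]
  exact hqσ.2.1

/-- `g ∉ M` with `A ≤ g • M`: `M_σ ∩ g • M = 1`. -/
theorem Good.conj_inf {g : G} (hgM : g ∉ M) (hA' : A ≤ MulAut.conj g • M) :
    sigmaCore M ⊓ MulAut.conj g • M = ⊥ := by
  refine eq_bot_of_sylows (Signalizer.le_normalizer_inf hg.normalizes_core (hA'.trans le_normalizer)) (hg.coprime_inf _)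
    (Coprime.isSolvable_of_le inf_le_left (hg.solvable_core U)) fun q hq hd Y hY hYq hAY => ?_
  by_contra hY1
  have hqσ : q ∈ sigma M := OddMax.sigmaCore_pi M q hq.out (hd.trans (card_dvd_of_le inf_le_left))
  have hqp : q ≠ p := fun h => hg.notSigma (h ▸ hqσ)
  have hg' : Good p (MulAut.conj g • M) A :=
    ⟨OddSigma.isCoatom_conj hg.coatom g, by rw [OddMax.sigma_conj]; exact hg.notSigma, hA', hg.elem, hg.card⟩
  have hqσ' : q ∈ sigma (MulAut.conj g • M) := by rw [OddMax.sigma_conj]; exact hqσ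
  obtain ⟨Q, hYQ, hQσ, hQ, hAQ, hQi, -, hNQ⟩ := hg.exists_sylow_ge U hqσ (hY.trans inf_le_left) hYq hAY
  have hY' : Y ≤ sigmaCore (MulAut.conj g • M) :=
    pgroup_le_sigmaCore U hg'.coatom hqσ' (hY.trans inf_le_right) hYq
  obtain ⟨Q₂, hYQ₂, hQ₂σ, hQ₂, hAQ₂, hQ₂i, -, -⟩ := hg'.exists_sylow_ge U hqσ' hY' hYq hAY
  obtain ⟨k, hk, e⟩ := conj_of_overgroup U (hg.max U) hqp (sylow_mem_max hQ hQi hAQ) (sylow_mem_max hQ₂ hQ₂i hAQ₂)
    hg'.coatom.1 hA' (ne_bot_of_le_ne_bot hY1 (le_inf (hY.trans inf_le_right) hYQ))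
    (ne_bot_of_le_ne_bot hY1 (le_inf (hY.trans inf_le_right) hYQ₂))
  have hQ₂M : Q₂ ≤ M := by
    rw [e]
    refine (conj_mono k (hQσ.trans (OddMax.sigmaCore_le M))).trans ?_
    rw [mem_normalizer_iff_conj.1 (le_normalizer (hg.cent_le U hk))]
  set Q₃ := MulAut.conj g⁻¹ • Q₂ with hQ₃
  have hQ₃M : Q₃ ≤ M := by
    have h := conj_mono g⁻¹ (hQ₂σ.trans (OddMax.sigmaCore_le _))
    rwa [conj_conj, inv_mul_cancel, conj_one_smul] at h
  have hrel₂ : ¬ q ∣ Q₂.relIndex M := fun h => hQ₂i (h.trans (Dvd.intro _ (relIndex_mul_index hQ₂M)))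
  obtain ⟨P₂, hP₂⟩ := OddMax.exists_sylow_eq hQ₂ hQ₂M hrel₂
  obtain ⟨P₃, hP₃⟩ := OddMax.exists_sylow_eq (OddMax.isPGroup_conj g⁻¹ hQ₂) hQ₃M fun h => by
    refine hQ₂i ?_
    have := h.trans (Dvd.intro _ (relIndex_mul_index hQ₃M))
    rwa [index_conj] at this
  obtain ⟨m, hm⟩ := MulAction.exists_smul_eq M P₂ P₃
  have hme : MulAut.conj (m : G) • Q₂ = Q₃ := by
    rw [← hP₂, ← Coprime.map_subtype_smul, hm, hP₃]
  have hgm : g * m ∈ normalizer (Q₂ : Set G) := mem_normalizer_iff_conj.2 (by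
    rw [← conj_conj, hme, hQ₃, conj_conj, mul_inv_cancel, conj_one_smul])
  have hN2 : normalizer (Q₂ : Set G) ≤ M := by
    rw [e, OddMax.normalizer_conj]
    refine (conj_mono k hNQ).trans ?_
    rw [mem_normalizer_iff_conj.1 (le_normalizer (hg.cent_le U hk))]
  exact hgM (by simpa using mul_mem (hN2 hgm) (inv_mem m.2))

omit U hg in
theorem sylowOf_exists_out (hM : IsCoatom M) (hpM : p ∉ sigma M) (hd : p ∣ Nat.card M) {S : Subgroup G}
    (hS : SylowOf p M S) : ∃ g ∈ normalizer (S : Set G), g ∉ M := by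
  by_contra hcon
  push Not at hcon
  exact hpM (OddMax.mem_sigma_iff.2 ⟨hd, S, hS.2.1, hS.1, hS.2.2, hcon⟩)

/-- If `A` is not central in a Sylow subgroup, its lines other than the central one have fixed points. -/
theorem Good.fixed_lines {S : Subgroup G} (hS : SylowOf p M S) (hAS : A ≤ S)
    (hne : ¬ S ≤ centralizer (A : Set G)) :
    ∃ z ∈ A, z ∈ centralizer (S : Set G) ∧ z ≠ 1 ∧ (∀ w ∈ centralizer (S : Set G), w ^ p = 1 → w ∈ zpowers z) ∧
      ∀ a ∈ A, a ≠ 1 → a ∉ zpowers z → sigmaCore M ⊓ centralizer ({a} : Set G) ≠ ⊥ := by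
  have hmax := hg.max U
  obtain ⟨z, hz, hzo⟩ := OddSigma.exists_center_orderOf hS.1 (ne_bot_of_le_ne_bot hmax.ne_bot hAS)
  have hzS := OddSigma.mem_centralizer_of_center hz
  have hzp : z ^ p = 1 := hzo ▸ pow_orderOf_eq_one z
  have hz1 : z ≠ 1 := fun h => hp.out.one_lt.ne (by rw [← hzo, h, orderOf_one])
  have hzA : z ∈ A := (hmax.omega (centralizer_le hAS hzS)).1 hzp
  have honly : ∀ w ∈ centralizer (S : Set G), w ^ p = 1 → w ∈ zpowers z := by
    intro w hw hwp
    by_contra hwz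
    have hwA : w ∈ A := (hmax.omega (centralizer_le hAS hw)).1 hwp
    refine hne fun x hx => ?_
    rw [centralizer_eq hg.elem hg.card hzA hz1 hwA hwz]
    exact ⟨mem_centralizer_singleton_iff.2 (hzS x hx), mem_centralizer_singleton_iff.2 (hw x hx)⟩
  refine ⟨z, hzA, hzS, hz1, honly, ?_⟩
  -- some element of `S` normalises but does not centralise `A`
  obtain ⟨u, huS, huN, huC⟩ : ∃ u ∈ S, u ∈ normalizer (A : Set G) ∧ u ∉ centralizer (A : Set G) := by
    by_contra hcon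
    push Not at hcon
    set C := S ⊓ centralizer (A : Set G) with hC
    have hlt : C < S := lt_of_le_of_ne inf_le_left fun h => hne (h ▸ inf_le_right)
    refine (OddTrans.lt_inf_normalizer hS.1 hlt).not_ge fun v hv => ⟨hv.1, hcon v hv.1 ?_⟩
    refine Signalizer.mem_normalizer_of_conj_mem fun a ha => ?_
    have h1 : v * a * v⁻¹ ∈ C := (mem_normalizer_iff.1 hv.2 a).1
      ⟨hAS ha, OddSigma.elementary_le_centralizer hg.elem le_rfl ha⟩
    refine (hmax.omega h1.2).1 ?_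
    show (MulAut.conj v a) ^ p = 1
    rw [← map_pow, hg.elem.2 a ha, map_one]
  have huM : u ∈ normalizer (sigmaCore M : Set G) := OddMax.le_normalizer_sigmaCore M (hS.2.1 huS)
  -- the lines outside `⟨z⟩` form one orbit of `⟨u⟩`
  have horbit : ∀ a ∈ A, a ≠ 1 → a ∉ zpowers z → ∀ b ∈ A, b ∉ zpowers z →
      ∃ i : ℕ, b ∈ zpowers (u ^ i * a * (u ^ i)⁻¹) := by
    intro a ha ha1 haz b hb hbz
    obtain ⟨n, hn⟩ := IsPGroup.iff_orderOf.1 hS.1 ⟨u, huS⟩
    rw [orderOf_mk] at hn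
    exact exists_pow_conj_line hg.elem hg.card hn huN huC hzA hz1 (by rw [hzS u huS, mul_inv_cancel_right])
      ha ha1 haz hb hbz
  -- the central line has no fixed points
  have hzfix : sigmaCore M ⊓ centralizer ({z} : Set G) = ⊥ := by
    obtain ⟨P, hP⟩ := hS.1.exists_le_sylow
    obtain ⟨w, hw, hwo⟩ := OddSigma.exists_center_orderOf P.isPGroup'
      (ne_bot_of_le_ne_bot (ne_bot_of_le_ne_bot hmax.ne_bot hAS) hP)
    have hwp : w ^ p = 1 := hwo ▸ pow_orderOf_eq_one w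
    have hw1 : w ≠ 1 := fun h => hp.out.one_lt.ne (by rw [← hwo, h, orderOf_one])
    have hwz : w ∈ zpowers z := honly w (centralizer_le hP (OddSigma.mem_centralizer_of_center hw)) hwp
    have hline : zpowers w = zpowers z := line_eq (card_line hg.elem hzA hz1) hwz hw1
    obtain ⟨H, hH, hNH⟩ := OddSigma.exists_coatom (normalizer_line_ne_top U hmax hzA hz1)
    have hNP : normalizer ((P : Subgroup G) : Set G) ≤ normalizer (zpowers z : Set G) := fun g hg' => by
      refine mem_normalizer_iff_conj.2 (eq_of_le_of_card_ge ?_ (card_conj g _).ge)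
      rw [← hline, Solvable.conj_eq_map, MonoidHom.map_zpowers, zpowers_le, hline]
      refine honly _ (centralizer_le hP (OddSigma.mem_centralizer_of_center (OddSigma.conj_mem_center hg' hw))) ?_
      show (MulAut.conj g w) ^ p = 1
      rw [← map_pow, hwp, map_one]
    have := hg.inf_eq_bot_of_sigma U hH (line_subgroup_le_of_normalizer hg.elem.1 hzA hNH)
      (sigma_of_central_line hmax (hAS.trans hP) hNP hNH)
    exact le_bot_iff.1 ((inf_le_inf_left _ ((centralizer_le_normalizer_line z).trans hNH)).trans this.le)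
  obtain ⟨c, hc, hc1, hcfix⟩ := hg.exists_fixed U
  have hcz : c ∉ zpowers z := fun h => hcfix (by
    rw [← centralizer_line, line_eq (card_line hg.elem hzA hz1) h hc1, centralizer_line, hzfix])
  intro a ha ha1 haz hafix
  obtain ⟨i, hi⟩ := horbit a ha ha1 haz c hc hcz
  refine hcfix (le_bot_iff.1 (le_trans ?_ (conj_mem_fixed (pow_mem huM i) hafix).le))
  rw [← centralizer_line (u ^ i * a * (u ^ i)⁻¹), ← centralizer_line c]
  refine inf_le_inf_left _ (centralizer_le ?_)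
  rw [line_eq (card_line hg.elem ((mem_normalizer_iff.1 (pow_mem huN i) a).1 ha)
    (fun h => ha1 (by simpa using h))) hi hc1]

/-- A Sylow subgroup of `M` containing `A` centralises it. -/
theorem Good.sylow_centralizes {S : Subgroup G} (hS : SylowOf p M S) (hAS : A ≤ S) :
    S ≤ centralizer (A : Set G) := by
  by_contra hne
  obtain ⟨z, hz, hzS, hz1, honly, hfix⟩ := hg.fixed_lines U hS hAS hne
  obtain ⟨g, hgS, hgM⟩ := sylowOf_exists_out hg.coatom hg.notSigma hg.dvd hS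
  obtain ⟨a, ha, ha1, haM, hau⟩ := hg.exists_line U
  set A' := MulAut.conj g • A with hA'
  have hA'S : A' ≤ S := by
    rintro _ ⟨x, hx, rfl⟩
    exact (mem_normalizer_iff.1 hgS x).1 (hAS hx)
  have hg' : Good p M A' := by
    refine ⟨hg.coatom, hg.notSigma, hA'S.trans hS.2.1, ⟨⟨⟨?_⟩⟩, ?_⟩, by rw [hA', card_conj, hg.card]⟩
    · rintro ⟨_, x, hx, rfl⟩ ⟨_, y, hy, rfl⟩
      apply Subtype.ext
      show MulAut.conj g x * MulAut.conj g y = MulAut.conj g y * MulAut.conj g x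
      rw [← map_mul, ← map_mul, OddSigma.elem_comm hg.elem hx hy]
    · rintro _ ⟨x, hx, rfl⟩
      show (MulAut.conj g x) ^ p = 1
      rw [← map_pow, hg.elem.2 x hx, map_one]
  have hne' : ¬ S ≤ centralizer (A' : Set G) := fun h => hne fun x hx y hy => by
    have h1 := h ((mem_normalizer_iff.1 hgS x).1 hx) (g * y * g⁻¹) ⟨y, hy, rfl⟩
    calc y * x = g⁻¹ * (g * y * g⁻¹ * (g * x * g⁻¹)) * g := by group
      _ = g⁻¹ * (g * x * g⁻¹ * (g * y * g⁻¹)) * g := by rw [h1]
      _ = x * y := by group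
  obtain ⟨z', hz', hz'S, hz'1, honly', hfix'⟩ := hg'.fixed_lines U hS hA'S hne'
  have hzz : z' ∈ zpowers z := honly z' hz'S (hg'.elem.2 z' hz')
  obtain ⟨b, hb⟩ : ∃ b, b = g * a * g⁻¹ := ⟨_, rfl⟩
  have hbA' : b ∈ A' := ⟨a, ha, hb.symm⟩
  have hb1 : b ≠ 1 := fun h => ha1 (by simpa [hb] using h)
  -- the line of `b` has no fixed point
  have hbfix : sigmaCore M ⊓ centralizer ({b} : Set G) = ⊥ := by
    have hA'g : A' ≤ MulAut.conj g • M := conj_mono g hg.le
    refine le_bot_iff.1 ((inf_le_inf_left _ ?_).trans (hg'.conj_inf U hgM hA'g).le)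
    intro x hx
    refine ⟨g⁻¹ * x * g, haM (centralizer_le_normalizer_line a (mem_centralizer_singleton_iff.2 ?_)), by simp [mul_assoc]⟩
    have h2 := mem_centralizer_singleton_iff.1 hx
    rw [hb] at h2
    calc g⁻¹ * x * g * a = g⁻¹ * (x * (g * a * g⁻¹)) * g := by group
      _ = g⁻¹ * (g * a * g⁻¹ * x) * g := by rw [h2]
      _ = a * (g⁻¹ * x * g) := by group
  have hbz : b ∈ zpowers z' := by
    by_contra h
    exact hfix' b hbA' hb1 h hbfix
  -- so the line of `a` is central in `S`, and `g` normalises it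
  have hline : zpowers z' = zpowers z := line_eq (card_line hg.elem hz hz1) hzz hz'1
  rw [hline] at hbz
  have haS : a ∈ centralizer (S : Set G) := by
    intro x hx
    have hbS : b ∈ centralizer (S : Set G) := zpowers_le.2 hzS hbz
    have h1 := hbS _ ((mem_normalizer_iff.1 hgS x).1 hx)
    rw [hb] at h1
    calc x * a = g⁻¹ * (g * x * g⁻¹ * (g * a * g⁻¹)) * g := by group
      _ = g⁻¹ * (g * a * g⁻¹ * (g * x * g⁻¹)) * g := by rw [h1]
      _ = a * x := by group
  have haz : a ∈ zpowers z := honly a haS (hg.elem.2 a ha)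
  refine hgM (haM ?_)
  rw [line_eq (card_line hg.elem hz hz1) haz ha1]
  refine mem_normalizer_iff_conj.2 ?_
  nth_rw 1 [← line_eq (card_line hg.elem hz hz1) haz ha1]
  rw [Solvable.conj_eq_map, MonoidHom.map_zpowers]
  show zpowers (g * a * g⁻¹) = zpowers z
  rw [← hb, line_eq (card_line hg.elem hz hz1) hbz hb1]

end Cfsg.Agent.OddTau2
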