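/-
Bender-Glauberman 12.5, continued: abelian Sylow subgroups, nilpotent `M_σ`, the maximal subgroups over `A`.
Main results (namespace `Cfsg.Agent.OddTau2`): `Good.omega_eq`, `Good.exists_out`, `Good.nilpotent`,
`Good.centralizes`, `Good.sylow_commutative`, `Good.inf_eq_bot`.
-/
import Cfsg.Agent.Lib.OddOrder.TauTwoGood

set_option autoImplicit false
set_option linter.unusedSectionVars false
set_option linter.unusedVariables false

open Subgroup
open scoped Pointwise commutatorElement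

universe u

namespace Cfsg.Agent.OddTau2

open Cfsg.Agent.Solvable

variable {G : Type u} [Group G] [Finite G] {p : ℕ} [hp : Fact p.Prime] {M A : Subgroup G}

theorem not_mem_of_sq {g : G} (hG : Odd (Nat.card G)) (hgM : g ∉ M) : g ^ 2 ∉ M := by
  intro h
  obtain ⟨k, hk⟩ : Odd (orderOf g) := hG.of_dvd_nat (orderOf_dvd_natCard g)
  refine hgM ?_
  have : g = (g ^ 2) ^ (k + 1) := by
    rw [← pow_mul, show 2 * (k + 1) = orderOf g + 1 by omega, pow_succ, pow_orderOf_eq_one, one_mul]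
  rw [this]
  exact pow_mem h _

variable (U : Upstream G) (hg : Good p M A)
include U hg

theorem Good.omega_eq {S : Subgroup G} (hS : SylowOf p M S) (hAS : A ≤ S) {x : G} (hx : x ∈ S) :
    x ^ p = 1 ↔ x ∈ A :=
  (hg.max U).omega (hg.sylow_centralizes U hS hAS hx)

theorem Good.normalizer_sylow_le {S : Subgroup G} (hS : SylowOf p M S) (hAS : A ≤ S) :
    normalizer (S : Set G) ≤ normalizer (A : Set G) := fun g hg' => by
  refine Signalizer.mem_normalizer_of_conj_mem fun a ha => ?_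
  refine (hg.omega_eq U hS hAS ((mem_normalizer_iff.1 hg' a).1 (hAS ha))).1 ?_
  show (MulAut.conj g a) ^ p = 1
  rw [← map_pow, hg.elem.2 a ha, map_one]

/-- Some element outside `M` normalises `A`. -/
theorem Good.exists_out : ∃ g ∈ normalizer (A : Set G), g ∉ M := by
  obtain ⟨S, hS, hAS⟩ := exists_sylowOf_ge (Signalizer.isPGroup_of_elemAb hg.elem) hg.le
  obtain ⟨g, hgS, hgM⟩ := sylowOf_exists_out hg.coatom hg.notSigma hg.dvd hS
  exact ⟨g, hg.normalizer_sylow_le U hS hAS hgS, hgM⟩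

/-- Conjugates of a line with normaliser in `M` by outer elements of `N(A)` have no fixed point. -/
theorem Good.fixed_conj_line {a : G} (ha : a ∈ A) (haM : normalizer (zpowers a : Set G) ≤ M) {g : G}
    (hgA : g ∈ normalizer (A : Set G)) (hgM : g ∉ M) :
    sigmaCore M ⊓ centralizer ({g * a * g⁻¹} : Set G) = ⊥ := by
  have hA' : A ≤ MulAut.conj g • M := by
    refine le_trans (le_of_eq (mem_normalizer_iff_conj.1 hgA).symm) (conj_mono g hg.le)
  refine le_bot_iff.1 ((inf_le_inf_left _ ?_).trans (hg.conj_inf U hgM hA').le)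
  intro x hx
  refine ⟨g⁻¹ * x * g, haM (centralizer_le_normalizer_line a (mem_centralizer_singleton_iff.2 ?_)), by simp [mul_assoc]⟩
  have h2 := mem_centralizer_singleton_iff.1 hx
  calc g⁻¹ * x * g * a = g⁻¹ * (x * (g * a * g⁻¹)) * g := by group
    _ = g⁻¹ * (g * a * g⁻¹ * x) * g := by rw [h2]
    _ = a * (g⁻¹ * x * g) := by group

/-- Two different lines have no fixed point on `M_σ`. -/
theorem Good.two_free : ∃ a ∈ A, ∃ b ∈ A, a ≠ 1 ∧ b ≠ 1 ∧ b ∉ zpowers a ∧
    sigmaCore M ⊓ centralizer ({a} : Set G) = ⊥ ∧ sigmaCore M ⊓ centralizer ({b} : Set G) = ⊥ := by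
  obtain ⟨a, ha, ha1, haM, -⟩ := hg.exists_line U
  obtain ⟨g, hgA, hgM⟩ := hg.exists_out U
  have hg2 := not_mem_of_sq U.hG.1 hgM
  have hg2A : g ^ 2 ∈ normalizer (A : Set G) := pow_mem hgA 2
  have h1 : ∀ x : G, x * a * x⁻¹ = 1 → False := fun x h => ha1 (by simpa using h)
  refine ⟨g * a * g⁻¹, (mem_normalizer_iff.1 hgA a).1 ha, g ^ 2 * a * (g ^ 2)⁻¹, (mem_normalizer_iff.1 hg2A a).1 ha,
    h1 g, h1 _, ?_, hg.fixed_conj_line U ha haM hgA hgM, hg.fixed_conj_line U ha haM hg2A hg2⟩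
  intro h
  refine hgM (haM ?_)
  have hga : g * a * g⁻¹ ∈ zpowers a := by
    obtain ⟨i, hi⟩ := h
    refine ⟨i, ?_⟩
    have h2 : g⁻¹ * (g * a * g⁻¹) ^ i * g = g⁻¹ * (g ^ 2 * a * (g ^ 2)⁻¹) * g := by
      rw [show (g * a * g⁻¹) ^ i = g ^ 2 * a * (g ^ 2)⁻¹ from hi]
    rw [conj_zpow] at h2
    show a ^ i = g * a * g⁻¹
    calc a ^ i = g⁻¹ * (g * a ^ i * g⁻¹) * g := by group
      _ = g⁻¹ * (g ^ 2 * a * (g ^ 2)⁻¹) * g := h2
      _ = g * a * g⁻¹ := by group
  refine mem_normalizer_iff_conj.2 (eq_of_le_of_card_ge ?_ (card_conj g _).ge)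
  rw [Solvable.conj_eq_map, MonoidHom.map_zpowers, zpowers_le]
  exact hga

/-- `M_σ` is nilpotent. -/
theorem Good.nilpotent : Group.IsNilpotent ↥(sigmaCore M) := by
  obtain ⟨a, ha, -, -, ha1, -, -, hfix, -⟩ := hg.two_free U
  exact nilpotent_of_fpf (orderOf_eq hg.elem ha ha1) (hg.solvable_core U) (hg.normalizes_core ha) hfix

theorem Good.normalizer_sylow_core {q : ℕ} [hq : Fact q.Prime] {Q : Subgroup G} (hQσ : Q ≤ sigmaCore M)
    (hQ : IsPGroup q Q) (hi : ¬ q ∣ Q.index) (hQ1 : Q ≠ ⊥) : normalizer (Q : Set G) = M :=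
  OddMax.normalizer_eq U.hG hg.coatom hQ1 (hQσ.trans (OddMax.sigmaCore_le M))
    (le_normalizer_sylow (hg.nilpotent U) hQσ hQ hi (OddMax.le_normalizer_sigmaCore M))

/-- An invariant `σ'`-subgroup of prime power order without fixed points centralises `M_σ`. -/
theorem Good.centralizes {q : ℕ} [hq : Fact q.Prime] (hqσ : q ∉ sigma M) (hqp : q ≠ p) {S : Subgroup G}
    (hS : IsPGroup q S) (hSM : S ≤ M) (hAS : A ≤ normalizer (S : Set G))
    (hSA : S ⊓ centralizer (A : Set G) = ⊥) : S ≤ centralizer (sigmaCore M : Set G) := by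
  suffices h : sigmaCore M ≤ sigmaCore M ⊓ centralizer (S : Set G) from
    le_centralizer_iff.1 (h.trans inf_le_right)
  refine (eq_of_le_of_card_ge inf_le_left (Nat.le_of_dvd Nat.card_pos ?_)).ge
  rw [← Nat.factorization_le_iff_dvd Nat.card_pos.ne' Nat.card_pos.ne', Finsupp.le_def]
  intro r
  by_cases hd : r.Prime ∧ r ∣ Nat.card (sigmaCore M)
  swap
  · rcases not_and_or.1 hd with h | h
    · simp [Nat.factorization_eq_zero_of_not_prime _ h]
    · simp [Nat.factorization_eq_zero_of_not_dvd h]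
  obtain ⟨hr, hd⟩ := hd
  have := Fact.mk hr
  have hrσ : r ∈ sigma M := OddMax.sigmaCore_pi M r hr hd
  obtain ⟨R, -, hRσ, hR, hAR, hRi, hR1, -⟩ := hg.exists_sylow_ge U hrσ (Y := ⊥) bot_le
    IsPGroup.of_bot ((normalizer_eq_top_iff.2 (inferInstance : (⊥ : Subgroup G).Normal)).symm ▸ le_top)
  refine (hr.pow_dvd_iff_le_factorization Nat.card_pos.ne').1 ?_
  suffices hcen : S ≤ centralizer (R : Set G) by
    refine dvd_trans ?_ (card_dvd_of_le (le_inf hRσ (le_centralizer_iff.1 hcen)))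
    obtain ⟨j, hj⟩ := hR.exists_card_eq
    have hrel : ¬ r ∣ R.relIndex (sigmaCore M) := fun h => hRi (h.trans (Dvd.intro _ (relIndex_mul_index hRσ)))
    rw [← OddMax.card_mul_relIndex hRσ, Nat.factorization_mul Nat.card_pos.ne'
      (fun h => hrel ((congrArg (r ∣ ·) h).mpr (dvd_zero r))), Finsupp.add_apply,
      Nat.factorization_eq_zero_of_not_dvd hrel, add_zero, hj, hr.factorization_pow, Finsupp.single_eq_same]
  by_contra hcen
  have hRN : S ≤ normalizer (R : Set G) := hSM.trans (hg.normalizer_sylow_core U hRσ hR hRi hR1).ge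
  obtain ⟨c, hc, hc1, -, hfix⟩ := exists_bad_line hqp.symm (fun h => hg.notSigma (h ▸ hrσ))
    (fun h => hqσ (h ▸ hrσ)) hg.elem hg.card hR hS hAR hAS hRN hSA hcen
  obtain ⟨a, ha, b, hb, ha1, hb1, hab, hfa, hfb⟩ := hg.two_free U
  by_cases hac : a ∈ zpowers c
  · refine hfix b hb hb1 (fun hbc => hab ?_) (le_bot_iff.1 ((inf_le_inf_right _ hRσ).trans hfb.le))
    rwa [line_eq (card_line hg.elem hc hc1) hac ha1]
  · exact hfix a ha ha1 hac (le_bot_iff.1 ((inf_le_inf_right _ hRσ).trans hfa.le))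

/-- The narrow structure of a Sylow subgroup of rank at least three above `A`. -/
theorem Good.narrow_data {P : Sylow p G} (hAP : A ≤ P) (hr : ¬ PRankLE p 2 (P : Subgroup G)) :
    ∃ e ∈ A, ∃ C : Subgroup G, IsCyclic C ∧ (∀ c ∈ C, Commute e c) ∧
      ∀ x ∈ (P : Subgroup G), x ∈ centralizer (A : Set G) → ∃ i : ℕ, ∃ c ∈ C, x = e ^ i * c := by
  have hmax := hg.max U
  have hp2 : p ≠ 2 := OddSigma.prime_ne_two U.hG hg.dvd
  set R := (P : Subgroup G) with hR
  set E := A.subgroupOf R with hE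
  have hAR : A ≤ R := hAP
  have hEe : IsElementaryAbelian p E :=
    ⟨⟨⟨fun a b => Subtype.ext (Subtype.ext (OddSigma.elem_comm hg.elem a.2 b.2))⟩⟩,
      fun a ha => Subtype.ext (hg.elem.2 _ ha)⟩
  have hE2 : Nat.card E = p ^ 2 := by rw [hE, Cores.card_subgroupOf hAR, hg.card]
  have hEmax : ∀ B : Subgroup R, IsElementaryAbelian p B → E ≤ B → B = E := by
    intro B hB hEB
    have h := hmax.2.2 (B.map R.subtype) ?_ (fun a ha => ⟨⟨a, hAR ha⟩, hEB ha, rfl⟩)
    · rw [hE, ← h, subgroupOf, comap_map_eq_self_of_injective R.subtype_injective]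
    · refine ⟨⟨⟨?_⟩⟩, ?_⟩
      · rintro ⟨_, a, ha, rfl⟩ ⟨_, b, hb, rfl⟩
        exact Subtype.ext (congrArg (fun x : R => (x : G)) (OddSigma.elem_comm hB ha hb))
      · rintro _ ⟨a, ha, rfl⟩
        rw [← map_pow, hB.2 a ha, map_one]
  obtain ⟨hET, -, -, hTc, hTi⟩ := Cfsg.Agent.S1453.result p hp2 P.2 hr E hEe hE2 hEmax
  set T := centralizer ((closure {x : R | x ∈ Subgroup.upperCentralSeries R 2 ∧ x ^ p = 1} : Subgroup R) : Set R)
  have hTn : T.Normal := inferInstance
  obtain ⟨e, he, heT⟩ := SetLike.not_le_iff_exists.1 hET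
  set C := T ⊓ centralizer (E : Set R) with hC
  have hCcyc : IsCyclic C := by
    have hCp : IsPGroup p C := P.2.to_subgroup C
    have hle : PRankLE p 1 ↥(T ⊓ centralizer (E : Set R)) := by
      intro B hB hB'
      have hBE : B.map C.subtype ≤ E ⊓ T := by
        rintro _ ⟨b, hb, rfl⟩
        refine ⟨?_, b.2.1⟩
        have hel := OddSigma.elementary_sup_zpowers hEe (x := (b : R)) (by
          rw [← coe_pow, hB' b hb, coe_one]) b.2.2
        rw [← hEmax _ hel le_sup_left]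
        exact mem_sup_right (mem_zpowers _)
      have hlt : E ⊓ T < E := lt_of_le_of_ne inf_le_left fun h => heT ((inf_eq_left.1 h) he)
      rw [← card_map_of_injective C.subtype_injective]
      refine (card_le_of_le hBE).trans ?_
      obtain ⟨j, hj⟩ := ((Signalizer.isPGroup_of_elemAb hEe).to_le hlt.le).exists_card_eq
      have h1 : Nat.card ↥(E ⊓ T) < p ^ 2 := hE2 ▸ lt_of_le_of_ne (card_le_of_le hlt.le)
        fun h => hlt.ne (eq_of_le_of_card_ge hlt.le h.ge)
      rw [hj] at h1 ⊢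
      have := (Nat.pow_lt_pow_iff_right hp.out.one_lt).1 h1
      exact Nat.pow_le_pow_right hp.out.pos (by omega)
    have h2 : IsCyclic (⊤ : Subgroup ↥C) :=
      Isolated.isCyclic_of_rank_le_one hp2 hle _ (hCp.to_subgroup ⊤)
    exact isCyclic_of_surjective (Subgroup.topEquiv (G := ↥C)).toMonoidHom (Subgroup.topEquiv (G := ↥C)).surjective
  have hgen : ∀ x ∈ centralizer (E : Set R), ∃ i : ℕ, ∃ c ∈ C, x = e ^ i * c := by
    intro x hx
    have hq : Nat.card (R ⧸ T) = p := hTi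
    have hcyc := isCyclic_of_prime_card hq
    have he' : (e : R ⧸ T) ≠ 1 := fun h => heT ((QuotientGroup.eq_one_iff e).1 h)
    have htop : zpowers (e : R ⧸ T) = ⊤ := zpowers_eq_top_of_prime_card hq he'
    have hxm : (x : R ⧸ T) ∈ Submonoid.powers (e : R ⧸ T) :=
      (isOfFinOrder_of_finite _).mem_powers_iff_mem_zpowers.2 (htop ▸ mem_top _)
    obtain ⟨i, hi⟩ := (Submonoid.mem_powers_iff _ _).1 hxm
    refine ⟨i, (e ^ i)⁻¹ * x, mem_inf.2 ⟨?_, ?_⟩, by group⟩
    · apply QuotientGroup.eq.1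
      rw [QuotientGroup.mk_pow]
      exact hi
    · exact mul_mem (inv_mem (pow_mem (show e ∈ centralizer (E : Set R) from fun b hb => OddSigma.elem_comm hEe hb he) i)) hx
  refine ⟨(e : G), he, C.map R.subtype,
    isCyclic_of_surjective (C.equivMapOfInjective R.subtype R.subtype_injective).toMonoidHom
      (C.equivMapOfInjective R.subtype R.subtype_injective).surjective, ?_, fun x hx hxA => ?_⟩
  · rintro _ ⟨c, hc, rfl⟩
    exact congrArg Subtype.val (hc.2 e he)
  · obtain ⟨i, c, hc, h⟩ := hgen ⟨x, hx⟩ (fun b hb => Subtype.ext (hxA (b : R) hb))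
    exact ⟨i, c, mem_map_of_mem _ hc, congrArg Subtype.val h⟩

/-- Sylow `p`-subgroups of `M` are abelian. -/
theorem Good.sylow_commutative_of_le {S : Subgroup G} (hS : SylowOf p M S) (hAS : A ≤ S) : IsMulCommutative S := by
  obtain ⟨P, hP⟩ := hS.1.exists_le_sylow
  have hmax := hg.max U
  have hSC := hg.sylow_centralizes U hS hAS
  suffices h : ∀ x ∈ (P : Subgroup G), ∀ y ∈ (P : Subgroup G), x ∈ centralizer (A : Set G) →
      y ∈ centralizer (A : Set G) → x * y = y * x from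
    ⟨⟨fun x y => Subtype.ext (h x (hP x.2) y (hP y.2) (hSC x.2) (hSC y.2))⟩⟩
  by_cases hr : PRankLE p 2 (P : Subgroup G)
  · rcases U.s1412 p P hr with hab | ⟨P₁, P₂, hsup, hcomm, hna, hcard, hexp, hcyc, hom⟩
    · exact fun x hx y hy _ _ => congrArg Subtype.val (hab.is_comm.comm ⟨x, hx⟩ ⟨y, hy⟩)
    have hP₁n : P₂ ≤ normalizer (P₁ : Set G) := (le_centralizer_iff.1 (fun a ha b hb => (hcomm a ha b hb).symm)).trans
      (centralizer_le_normalizer _)
    have hdec : ∀ x ∈ (P : Subgroup G), ∃ a ∈ P₁, ∃ b ∈ P₂, x = a * b := by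
      intro x hx
      rw [← hsup, ← SetLike.mem_coe, coe_mul_of_right_le_normalizer_left P₁ P₂ hP₁n] at hx
      obtain ⟨a, ha, b, hb, rfl⟩ := hx
      exact ⟨a, ha, b, hb, rfl⟩
    have hP2c : ∀ b ∈ P₂, ∀ b' ∈ P₂, b * b' = b' * b := fun b hb b' hb' => by
      have := hcyc.isMulCommutative
      exact congrArg Subtype.val (mul_comm' (⟨b, hb⟩ : P₂) ⟨b', hb'⟩)
    -- an element `e ∈ A` with non-central `P₁`-part
    obtain ⟨e, he, a₀, ha₀, b₀, hb₀, heq, a₁, ha₁, hne⟩ : ∃ e ∈ A, ∃ a₀ ∈ P₁, ∃ b₀ ∈ P₂, e = a₀ * b₀ ∧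
        ∃ a₁ ∈ P₁, a₁ * a₀ ≠ a₀ * a₁ := by
      by_contra hcon
      push Not at hcon
      have hAc : A ≤ centralizer ((P : Subgroup G) : Set G) := by
        intro e he x hx
        obtain ⟨a₀, ha₀, b₀, hb₀, rfl⟩ := hdec e (hP (hAS he))
        obtain ⟨a, ha, b, hb, rfl⟩ := hdec x hx
        have h1 : Commute a a₀ := hcon _ he a₀ ha₀ b₀ hb₀ rfl a ha
        have h2 : Commute a b₀ := hcomm a ha b₀ hb₀
        have h3 : Commute b a₀ := (hcomm a₀ ha₀ b hb).symm
        have h4 : Commute b b₀ := hP2c b hb b₀ hb₀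
        exact ((h1.mul_right h2).mul_left (h3.mul_right h4)).eq
      refine hna ⟨⟨fun a a' => Subtype.ext ?_⟩⟩
      have hA' : ∀ a ∈ P₁, a ∈ A := fun a ha => by
        refine (hmax.omega (le_centralizer_iff.1 hAc (hsup ▸ mem_sup_left ha))).1 ?_
        have := Monoid.pow_exponent_eq_one (⟨a, ha⟩ : P₁)
        rw [hexp] at this
        exact congrArg Subtype.val this
      exact OddSigma.elem_comm hg.elem (hA' a a.2) (hA' a' a'.2)
    set D := P₁ ⊓ centralizer ({a₀} : Set G) with hD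
    have hDlt : D < P₁ := lt_of_le_of_ne inf_le_left fun h =>
      hne (mem_centralizer_singleton_iff.1 ((h ▸ inf_le_right : P₁ ≤ centralizer ({a₀} : Set G)) ha₁))
    have hDc : IsMulCommutative D := by
      have hP₁p : IsPGroup p P₁ := P.2.to_le (hsup ▸ le_sup_left)
      obtain ⟨j, hj⟩ := (hP₁p.to_le inf_le_left : IsPGroup p D).exists_card_eq
      have h1 : Nat.card D < p ^ 3 := hcard ▸ lt_of_le_of_ne (card_le_of_le hDlt.le)
        fun h => hDlt.ne (eq_of_le_of_card_ge hDlt.le h.ge)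
      rw [hj] at h1
      have hj3 := (Nat.pow_lt_pow_iff_right hp.out.one_lt).1 h1
      interval_cases j
      · have hsub : Subsingleton D := (Nat.card_eq_one_iff_unique.1 (hj.trans (pow_zero p))).1
        exact ⟨⟨fun a b => Subsingleton.elim _ _⟩⟩
      · have : IsCyclic D := isCyclic_of_prime_card (p := p) (by rw [hj, pow_one])
        exact IsCyclic.isMulCommutative
      · exact IsPGroup.isMulCommutative_of_card_eq_prime_sq hj
    intro x hx y hy hxA hyA
    have hpart : ∀ z ∈ (P : Subgroup G), z ∈ centralizer (A : Set G) → ∃ a ∈ D, ∃ b ∈ P₂, z = a * b := by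
      intro z hz hzA
      obtain ⟨a, ha, b, hb, rfl⟩ := hdec z hz
      refine ⟨a, ⟨ha, mem_centralizer_singleton_iff.2 ?_⟩, b, hb, rfl⟩
      have h := hzA e he
      rw [heq] at h
      have h2 : Commute a b₀ := hcomm a ha b₀ hb₀
      have h3 : Commute b a₀ := (hcomm a₀ ha₀ b hb).symm
      have h4 : Commute b b₀ := hP2c b hb b₀ hb₀
      have h5 : a₀ * a * (b₀ * b) = a * a₀ * (b₀ * b) := by
        calc a₀ * a * (b₀ * b) = a₀ * (a * b₀) * b := by group
          _ = a₀ * (b₀ * a) * b := by rw [h2.eq]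
          _ = (a₀ * b₀) * (a * b) := by group
          _ = (a * b) * (a₀ * b₀) := h
          _ = a * (b * a₀) * b₀ := by group
          _ = a * (a₀ * b) * b₀ := by rw [h3.eq]
          _ = a * a₀ * (b * b₀) := by group
          _ = a * a₀ * (b₀ * b) := by rw [h4.eq]
      exact (mul_right_cancel h5).symm
    obtain ⟨a, ha, b, hb, rfl⟩ := hpart x hx hxA
    obtain ⟨a', ha', b', hb', rfl⟩ := hpart y hy hyA
    have h1 : Commute a a' := congrArg Subtype.val (hDc.is_comm.comm ⟨a, ha⟩ ⟨a', ha'⟩)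
    exact ((h1.mul_right (hcomm a ha.1 b' hb')).mul_left
      ((show Commute b a' from (hcomm a' ha'.1 b hb).symm).mul_right (hP2c b hb b' hb'))).eq
  -- rank at least three: the narrow structure
  obtain ⟨e, he, C, hCcyc, hec, hgen⟩ := hg.narrow_data U (hAS.trans hP) hr
  intro x hx y hy hxA hyA
  obtain ⟨i, c, hc, rfl⟩ := hgen x hx hxA
  obtain ⟨j, c', hc', rfl⟩ := hgen y hy hyA
  have hcc : Commute c c' := by
    have := hCcyc.isMulCommutative
    exact congrArg Subtype.val (mul_comm' (⟨c, hc⟩ : C) ⟨c', hc'⟩)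
  exact (((Commute.pow_pow_self e i j).mul_right ((hec c' hc').pow_left i)).mul_left
    (((hec c hc).pow_left j).symm.mul_right hcc)).eq

theorem Good.sylow_commutative {S : Subgroup G} (hS : SylowOf p M S) : IsMulCommutative S := by
  obtain ⟨T, hT, hAT⟩ := exists_sylowOf_ge (Signalizer.isPGroup_of_elemAb hg.elem) hg.le
  have := hg.sylow_commutative_of_le U hT hAT
  obtain ⟨P, hP⟩ := OddMax.exists_sylow_eq hS.1 hS.2.1 hS.2.2
  obtain ⟨Q, hQ⟩ := OddMax.exists_sylow_eq hT.1 hT.2.1 hT.2.2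
  obtain ⟨m, hm⟩ := MulAction.exists_smul_eq M Q P
  have he : MulAut.conj (m : G) • T = S := by rw [← hQ, ← Coprime.map_subtype_smul, hm, hP]
  refine ⟨⟨?_⟩⟩
  rintro ⟨x, hx⟩ ⟨y, hy⟩
  rw [← he] at hx hy
  obtain ⟨x', hx', rfl⟩ := hx
  obtain ⟨y', hy', rfl⟩ := hy
  apply Subtype.ext
  show MulAut.conj (m : G) x' * MulAut.conj (m : G) y' = MulAut.conj (m : G) y' * MulAut.conj (m : G) x'
  rw [← map_mul, ← map_mul]
  exact congrArg (fun z : T => MulAut.conj (m : G) (z : G)) (mul_comm' (⟨x', hx'⟩ : T) ⟨y', hy'⟩)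

omit hg in
/-- A Sylow subgroup of `G` inside `H'`, prime outside `α(H)`, centralising `H_α`: it is normal in `H`. -/
theorem le_normalizer_of_centralizes_alpha {H : Subgroup G} (hH : IsCoatom H) {r : ℕ} [hr : Fact r.Prime]
    (hrα : r ∉ alpha H) {T : Subgroup G} (hT : IsPGroup r T) (hi : ¬ r ∣ T.index) (hTH : T ≤ ⁅H, H⁆)
    (hTc : T ≤ centralizer (alphaCore H : Set G)) : H ≤ normalizer (T : Set G) := by
  have hTH' : T ≤ H := hTH.trans (commutator_le_self H)
  obtain ⟨P, hP⟩ := OddMax.exists_sylow_eq hT hTH' fun h => hi (h.trans (Dvd.intro _ (relIndex_mul_index hTH')))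
  set α' := piCore (alpha H) ↥H
  have hn' : ((P : Subgroup H).map (QuotientGroup.mk' α')).Normal :=
    OddSigma.sylow_normal_of_le_nilpotent (commutator _)
      (OddSigma.derived_quotient_nilpotent U.hG U.hU U.hR2 U.hF hH)
      (P.mapSurjective (QuotientGroup.mk'_surjective _)) (by
        have hPc : (P : Subgroup H) ≤ commutator ↥H := by
          rw [← map_subtype_le_map_subtype, hP, map_subtype_commutator]
          exact hTH
        refine (map_mono hPc).trans ?_
        rw [_root_.commutator_def, _root_.commutator_def, map_commutator]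
        exact commutator_mono le_top le_top)
  have h2 : ((P : Subgroup H) ⊔ α').Normal := by
    have h := hn'.comap (QuotientGroup.mk' α')
    rwa [comap_map_eq, QuotientGroup.ker_mk'] at h
  set N := T ⊔ alphaCore H with hN
  have hHN : H ≤ normalizer (N : Set G) := by
    have h3 : ((P : Subgroup H) ⊔ α').map H.subtype = N := by
      rw [Subgroup.map_sup, hP]
      rfl
    rw [← h3]
    exact OddMax.le_normalizer_map_of_normal _
  have hNT : N ≤ normalizer (T : Set G) :=
    sup_le le_normalizer ((le_centralizer_iff.1 hTc).trans (centralizer_le_normalizer _))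
  intro n hn
  have hle : MulAut.conj n • T ≤ N := by
    refine (conj_mono n (le_sup_left : T ≤ N)).trans ?_
    rw [mem_normalizer_iff_conj.1 (hHN hn)]
  have : (T.subgroupOf N).Normal := normal_subgroupOf_of_le_normalizer hNT
  have h1 : (MulAut.conj n • T).subgroupOf N ≤ T.subgroupOf N := by
    refine OddSigma.le_of_pi_index (π := {r}) (fun q hq hqr hd => ?_) fun q hq hd => ?_
    · rw [Set.mem_singleton_iff.1 hqr] at hd
      exact hi (hd.trans (Dvd.intro _ (relIndex_mul_index le_sup_left)))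
    · rw [Cores.card_subgroupOf hle, card_conj] at hd
      exact OddTrans.pi_of_isPGroup hT q hq hd
  exact mem_normalizer_iff_conj.2 (eq_of_le_of_card_ge (fun y hy => h1 (x := ⟨y, hle hy⟩) hy) (card_conj n T).ge)

/-- Another maximal subgroup containing `A` meets `M_σ` trivially. -/
theorem Good.inf_eq_bot {H : Subgroup G} (hH : IsCoatom H) (hHM : H ≠ M) (hAH : A ≤ H) :
    sigmaCore M ⊓ H = ⊥ := by
  by_cases hpH : p ∈ sigma H
  · exact hg.inf_eq_bot_of_sigma U hH hAH hpH
  have hgH : Good p H A := ⟨hH, hpH, hAH, hg.elem, hg.card⟩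
  refine eq_bot_of_sylows (Signalizer.le_normalizer_inf hg.normalizes_core (hAH.trans le_normalizer)) (hg.coprime_inf H)
    (Coprime.isSolvable_of_le inf_le_left (hg.solvable_core U)) fun q hq hd Y hY hYq hAY => ?_
  by_contra hY1
  have hqσ : q ∈ sigma M := OddMax.sigmaCore_pi M q hq.out (hd.trans (card_dvd_of_le inf_le_left))
  have hqp : q ≠ p := fun h => hg.notSigma (h ▸ hqσ)
  obtain ⟨Q, hYQ, hQσ, hQ, hAQ, hQi, hQ1, -⟩ := hg.exists_sylow_ge U hqσ (hY.trans inf_le_left) hYq hAY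
  have hNQ := hg.normalizer_sylow_core U hQσ hQ hQi hQ1
  set S := Q ⊓ H with hS
  have hS1 : S ≠ ⊥ := ne_bot_of_le_ne_bot hY1 (le_inf hYQ (hY.trans inf_le_right))
  have hSH : S ≤ H := inf_le_right
  have hSp : IsPGroup q S := hQ.to_le inf_le_left
  have hAS : A ≤ normalizer (S : Set G) := Signalizer.le_normalizer_inf hAQ (hAH.trans le_normalizer)
  have hSA : S ⊓ centralizer (A : Set G) = ⊥ :=
    le_bot_iff.1 ((inf_le_inf_right _ (inf_le_left.trans hQσ)).trans (hg.fixed U).le)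
  have hC : centralizer (A : Set G) ≤ H := hgH.cent_le U
  have hqH : q ∉ sigma H := by
    intro h
    obtain ⟨R, -, hRσ, hR, hAR, hRi, hR1, hNR⟩ := hgH.exists_sylow_ge U h (Y := ⊥) bot_le
      IsPGroup.of_bot ((normalizer_eq_top_iff.2 (inferInstance : (⊥ : Subgroup G).Normal)).symm ▸ le_top)
    obtain ⟨k, hk, e⟩ := conj_of_overgroup U (hg.max U) hqp (sylow_mem_max hR hRi hAR) (sylow_mem_max hQ hQi hAQ)
      hH.1 hAH (fun hb => hR1 (le_bot_iff.1 ((le_inf (hRσ.trans (OddMax.sigmaCore_le H)) le_rfl).trans hb.le)))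
      (by rw [inf_comm]; exact hS1)
    refine hHM (eq_of_le_coatom hg.coatom hH ?_).symm
    rw [← hNQ, e, OddMax.normalizer_conj]
    refine (conj_mono k hNR).trans ?_
    rw [mem_normalizer_iff_conj.1 (le_normalizer (hC hk))]
  have hcent := hgH.centralizes U hqH hqp hSp hSH hAS hSA
  have hclaim : normalizer (S : Set G) ≤ H := by
    obtain ⟨H', hH', hNS⟩ := OddSigma.exists_coatom (OddSigma.normalizer_ne_top U.hG hS1
      (fun h => hH.1 (top_le_iff.1 (h.ge.trans hSH))))
    suffices h : H' = H from h ▸ hNS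
    have hAH' : A ≤ H' := hAS.trans hNS
    have hHσ : sigmaCore H ≤ H' :=
      (le_centralizer_iff.1 hcent).trans ((centralizer_le_normalizer _).trans hNS)
    obtain ⟨r, hrσ⟩ := OddSigma.exists_sigma U.hG U.hU U.hR2 U.hF hH
    have := Fact.mk hrσ.1
    obtain ⟨R, -, hRσ, hR, hAR, hRi, hR1, -⟩ := hgH.exists_sylow_ge U hrσ (Y := ⊥) bot_le
      IsPGroup.of_bot ((normalizer_eq_top_iff.2 (inferInstance : (⊥ : Subgroup G).Normal)).symm ▸ le_top)
    have hNR := hgH.normalizer_sylow_core U hRσ hR hRi hR1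
    have hRH' : R ≤ H' := hRσ.trans hHσ
    by_cases hrH' : r ∈ sigma H'
    · exact (eq_of_le_coatom hH hH' (hNR ▸ OddMax.normalizer_le_of_mem_sigma hrH' hR hRH'
        fun hd => hRi (hd.trans (Dvd.intro _ (relIndex_mul_index hRH'))))).symm
    have hRA : R ⊓ centralizer (A : Set G) = ⊥ := le_bot_iff.1 ((inf_le_inf_right _ hRσ).trans (hgH.fixed U).le)
    have hpH' : p ∉ sigma H' := fun h => hR1 (le_bot_iff.1
      ((le_inf le_rfl (sigma_centralizes U (hg.max U) hH' h hAH' hrH' hR hRH' hAR)).trans hRA.le))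
    have hgH' : Good p H' A := ⟨hH', hpH', hAH', hg.elem, hg.card⟩
    have hrp : r ≠ p := fun h => hpH (h ▸ hrσ)
    have hH'σ : sigmaCore H' ≤ H :=
      (le_centralizer_iff.1 (hgH'.centralizes U hrH' hrp hR hRH' hAR hRA)).trans
        ((centralizer_le_normalizer _).trans hNR.le)
    obtain ⟨s, hsσ⟩ := OddSigma.exists_sigma U.hG U.hU U.hR2 U.hF hH'
    have := Fact.mk hsσ.1
    obtain ⟨T, -, hTσ, hT, hAT, hTi, hT1, -⟩ := hgH'.exists_sylow_ge U hsσ (Y := ⊥) bot_le
      IsPGroup.of_bot ((normalizer_eq_top_iff.2 (inferInstance : (⊥ : Subgroup G).Normal)).symm ▸ le_top)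
    have hNT := hgH'.normalizer_sylow_core U hTσ hT hTi hT1
    have hTH : T ≤ H := hTσ.trans hH'σ
    by_cases hsH : s ∈ sigma H
    · exact eq_of_le_coatom hH' hH (hNT ▸ OddMax.normalizer_le_of_mem_sigma hsH hT hTH
        fun hd => hTi (hd.trans (Dvd.intro _ (relIndex_mul_index hTH))))
    have hsp : s ≠ p := fun h => hpH' (h ▸ hsσ)
    have hTA : T ⊓ centralizer (A : Set G) = ⊥ := le_bot_iff.1 ((inf_le_inf_right _ hTσ).trans (hgH'.fixed U).le)
    have hTc : T ≤ centralizer (alphaCore H : Set G) := (hgH.centralizes U hsH hsp hT hTH hAT hTA).trans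
      (Subgroup.centralizer_le (OddSigma.alphaCore_le_sigmaCore U.hG U.hU hH))
    have hTH' : T ≤ ⁅H, H⁆ := (eq_commutator_of_fixed_free U (hg.max U) hsp hT hAT hTA).ge.trans
      (commutator_mono hTH hAH)
    refine (eq_of_le_coatom hH hH' ?_).symm
    rw [← hNT]
    exact le_normalizer_of_centralizes_alpha U hH
      (fun h => hsH (OddSigma.alpha_subset_sigma U.hG U.hU hH h)) hT hTi hTH' hTc
  have hSQ : S = Q := by
    by_contra h
    exact (OddTrans.lt_inf_normalizer hQ (lt_of_le_of_ne inf_le_left h)).not_ge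
      (le_inf inf_le_left (inf_le_right.trans hclaim))
  exact hHM (eq_of_le_coatom hg.coatom hH (by rw [← hNQ, ← hSQ]; exact hclaim)).symm

end Cfsg.Agent.OddTau2
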