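/-
Bender-Glauberman 12.5 (d), 12.6: `A` is normal in every complement containing it.
Main results (namespace `Cfsg.Agent.OddTau2`): `sylowOf_compl`, `Good.pPrimeCore_centralizes`,
`Good.le_normalizer_compl`, `Good.inf_normalizer_eq`, `s1417`, `s1418`.
-/
import Cfsg.Agent.Lib.OddOrder.TauTwoMeet
import Cfsg.Agent.Lib.Coprime.Abelian
import Cfsg.Agent.Lib.TIHall.Basic
import Cfsg.Agent.S1450

set_option autoImplicit false
set_option linter.unusedSectionVars false
set_option linter.unusedVariables false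

open Subgroup
open scoped Pointwise commutatorElement

universe u

namespace Cfsg.Agent.OddTau2

open Cfsg.Agent.Solvable

variable {G : Type u} [Group G] [Finite G]

theorem pow_conj_eq_one {x e : G} {n : ℕ} (h : x ^ n = 1) : (e * x * e⁻¹) ^ n = 1 := by
  show (MulAut.conj e x) ^ n = 1
  rw [← map_pow, h, map_one]

theorem good_of_rank {r : ℕ} [hr : Fact r.Prime] (U : Upstream G) {M B : Subgroup G} (hM : IsCoatom M)
    (hrσ : r ∉ sigma M) (hBM : B ≤ M) (hB : IsElementaryAbelian r B) (hBc : r ^ (1 + 1) ≤ Nat.card B) :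
    Good r M B := by
  refine ⟨hM, hrσ, hBM, hB, le_antisymm (not_lt.1 fun h => hrσ ?_) hBc⟩
  exact OddSigma.alpha_subset_sigma U.hG U.hU hM ⟨hr.out, OddSigma.not_prankLE_of_le hBM hB h⟩

theorem normalizer_le_of_cyclic {R Y : Subgroup G} [IsCyclic R] (hY : Y ≤ R) :
    normalizer (R : Set G) ≤ normalizer (Y : Set G) := by
  intro g hg
  refine mem_normalizer_iff_conj.2 ?_
  have hle : MulAut.conj g • Y ≤ R := (conj_mono g hY).trans (mem_normalizer_iff_conj.1 hg).le
  exact TIHall.eq_of_card_eq_cyclic (C := R) hle hY (card_conj g Y)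

variable (U : Upstream G) {M E : Subgroup G} (hM : IsCoatom M) (hE : IsComplIn E (sigmaCore M) M)
include U hM hE

/-- A Sylow subgroup of a complement is one of `M`, at primes outside `σ(M)`. -/
theorem sylowOf_compl {r : ℕ} [hr : Fact r.Prime] (hrσ : r ∉ sigma M) {S : Subgroup G} (hS : SylowOf r E S) :
    SylowOf r M S := by
  refine ⟨hS.1, hS.2.1.trans hE.1, ?_⟩
  rw [← relIndex_mul_relIndex S E M hS.2.1 hE.1, OddMax.compl_relIndex_left (OddMax.compl_symm hE)]
  exact hr.out.not_dvd_mul hS.2.2 fun h => hrσ (OddMax.sigmaCore_pi M r hr.out h)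

variable {p : ℕ} [hp : Fact p.Prime] {A : Subgroup G} (hg : Good p M A) (hAE : A ≤ E)
include hg hAE

omit U hM hg in
theorem le_normalizer_core : A ≤ normalizer (((pPrimeCore p ↥E).map E.subtype : Subgroup G) : Set G) :=
  hAE.trans (OddMax.le_normalizer_map_of_normal _)

/-- `A` centralises `O_{p'}(E)`. -/
theorem Good.pPrimeCore_centralizes : (pPrimeCore p ↥E).map E.subtype ≤ centralizer (A : Set G) := by
  set W := (pPrimeCore p ↥E).map E.subtype with hW
  have hWE : W ≤ E := map_subtype_le _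
  have hWn : E ≤ normalizer (W : Set G) := OddMax.le_normalizer_map_of_normal _
  have hEs := compl_solvable (base U) hM hE
  have hWs : Group.IsSolvable W := Coprime.isSolvable_of_le hWE hEs
  have hAW : A ≤ normalizer (W : Set G) := le_normalizer_core hE hAE
  have hpW : (Nat.card W).Coprime p := by
    rw [hW, card_map_of_injective E.subtype_injective]
    exact Cores.coprime_card_pPrimeCore p
  have hcop : (Nat.card A).Coprime (Nat.card W) := by rw [hg.card]; exact hpW.symm.pow_left 2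
  suffices h : W ≤ W ⊓ centralizer (A : Set G) from h.trans inf_le_right
  refine (eq_of_le_of_card_ge inf_le_left (Nat.le_of_dvd Nat.card_pos ?_)).ge
  rw [← Nat.factorization_le_iff_dvd Nat.card_pos.ne' Nat.card_pos.ne', Finsupp.le_def]
  intro r
  by_cases hd : r.Prime ∧ r ∣ Nat.card W
  swap
  · rcases not_and_or.1 hd with h | h
    · simp [Nat.factorization_eq_zero_of_not_prime _ h]
    · simp [Nat.factorization_eq_zero_of_not_dvd h]
  obtain ⟨hr, hd⟩ := hd
  have := Fact.mk hr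
  have hrp : r ≠ p := fun h => hr.one_lt.ne'
    (by rw [h]; exact Nat.Coprime.eq_one_of_dvd hpW.symm (h ▸ hd))
  have hrE : r ∣ Nat.card E := hd.trans (card_dvd_of_le hWE)
  have hrσ : r ∉ sigma M := compl_pi (base U) hM hE hr hrE
  obtain ⟨S₀, hAS₀⟩ := Coprime.exists_invariant_sylow hAW hcop (Or.inr hWs) r
  set R := (S₀ : Subgroup W).map W.subtype with hR
  have hRW : R ≤ W := map_subtype_le _
  have hRp : IsPGroup r R := S₀.2.map _
  refine (hr.pow_dvd_iff_le_factorization Nat.card_pos.ne').1 ?_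
  suffices hcen : R ≤ centralizer (A : Set G) by
    have h1 := card_dvd_of_le (le_inf hRW hcen)
    rwa [hR, card_map_of_injective W.subtype_injective, S₀.card_eq_multiplicity] at h1
  by_contra hne
  have hRE : R ≤ E := hRW.trans hWE
  -- `r > p`
  have hpr : p < r := by
    rcases lt_trichotomy r p with hlt | heq | hgt
    · exfalso
      refine hne ?_
      obtain ⟨h1, -⟩ := Cfsg.Agent.S1450.result (OddSigma.odd_card U.hG E) r hrE (rankLE_compl (base U) hM hE r hr)
      set V := pPrimeCore r ↥E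
      have hAV : A.subgroupOf E ≤ V := by
        refine OddSigma.le_of_pi_index (π := {p}) (fun q hq hqp hdq => ?_) fun q hq hdq => ?_
        · have := h1 q hq hdq
          rw [Set.mem_singleton_iff.1 hqp] at this
          omega
        · rw [Cores.card_subgroupOf hAE] at hdq
          exact OddTrans.pi_of_isPGroup (Signalizer.isPGroup_of_elemAb hg.elem) q hq hdq
      have hAV' : A ≤ V.map E.subtype := fun a ha => ⟨⟨a, hAE ha⟩, hAV ha, rfl⟩
      have hint : R ⊓ V.map E.subtype = ⊥ := Solvable.inf_eq_bot_of_coprime (by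
        obtain ⟨j, hj⟩ := hRp.exists_card_eq
        rw [hj, card_map_of_injective E.subtype_injective]
        exact (Cores.coprime_card_pPrimeCore r).symm.pow_left j)
      have h2 : ⁅R, A⁆ ≤ R ⊓ V.map E.subtype := le_inf (le_normalizer_iff_commutator_le_left.1 hAS₀)
        ((commutator_mono le_rfl hAV').trans
          (le_normalizer_iff_commutator_le_right.1 (hRE.trans (OddMax.le_normalizer_map_of_normal _))))
      rw [hint, le_bot_iff, commutator_eq_bot_iff_le_centralizer] at h2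
      exact h2
    · exact absurd heq hrp
    · exact hgt
  have hRS : SylowOf r E R := by
    refine ⟨hRp, hRE, ?_⟩
    rw [← relIndex_mul_relIndex R W E hRW hWE, hR, OddSigma.relIndex_sylow_map]
    refine hr.not_dvd_mul S₀.not_dvd_index fun h => ?_
    have hpE : p ∣ Nat.card E := (dvd_card hg.card).trans (card_dvd_of_le hAE)
    have h' : r ∣ (pPrimeCore p ↥E).index := by
      rwa [hW, OddMax.relIndex_eq_index] at h
    have := (Cfsg.Agent.S1450.result (OddSigma.odd_card U.hG E) p hpE (rankLE_compl (base U) hM hE p hp.out)).1 r hr h'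
    omega
  have hRSM := sylowOf_compl U hM hE hrσ hRS
  -- `R` is abelian
  have hr2 : r ≠ 2 := OddSigma.prime_ne_two U.hG hrE
  have hdich : IsCyclic R ∨ ∃ B, Good r M B ∧ B ≤ R := by
    by_cases h1 : PRankLE r 1 R
    · left
      have h2 := Isolated.isCyclic_of_rank_le_one hr2 h1 _ (hRp.to_subgroup ⊤)
      exact isCyclic_of_surjective (Subgroup.topEquiv (G := ↥R)).toMonoidHom (Subgroup.topEquiv (G := ↥R)).surjective
    · obtain ⟨B, hB, hBe, hBc⟩ := OddSigma.exists_elementary h1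
      exact Or.inr ⟨B, good_of_rank U hM hrσ (hB.trans hRSM.2.1) hBe hBc, hB⟩
  have hRab : IsMulCommutative R := by
    rcases hdich with h | ⟨B, hgB, -⟩
    · exact IsCyclic.isMulCommutative
    · exact hgB.sylow_commutative U hRSM
  set Y := ⁅R, A⁆ with hY
  have hYR : Y ≤ R := le_normalizer_iff_commutator_le_left.1 hAS₀
  have hY1 : Y ≠ ⊥ := fun h => hne (commutator_eq_bot_iff_le_centralizer.1 h)
  have hcopR : (Nat.card A).Coprime (Nat.card R) := hcop.coprime_dvd_right (card_dvd_of_le hRW)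
  have hYA : Y ⊓ centralizer (A : Set G) = ⊥ := by
    refine le_bot_iff.1 (le_trans ?_ (Coprime.abelian_inf_eq_bot hAS₀ hcopR).le)
    exact le_inf (inf_le_inf_right _ hYR) inf_le_left
  have hAY : A ≤ normalizer (Y : Set G) := normalizer_commutator_ge_right R A
  have hYK := hg.centralizes U hrσ hrp (hRp.to_le hYR) (hYR.trans hRSM.2.1) hAY hYA
  set D := E ⊓ centralizer (sigmaCore M : Set G) ⊓ ⁅E, E⁆ with hD
  have hDnil : Group.IsNilpotent D := Cores.isNilpotent_of_le inf_le_right (compl_commutator_nilpotent (base U) hM hE)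
  have hED : E ≤ normalizer (D : Set G) :=
    Signalizer.le_normalizer_inf (Signalizer.le_normalizer_inf le_normalizer
      (Signalizer.le_normalizer_centralizer (hE.1.trans (OddMax.le_normalizer_sigmaCore M))))
      (le_normalizer.trans (Signalizer.normalizer_le_normalizer_commutator E))
  have hYD : Y ≤ D := le_inf (le_inf (hYR.trans hRE) hYK) (commutator_mono hRE hAE)
  obtain ⟨P₀, hP₀⟩ := ((hRp.to_le hYR).comap_of_injective D.subtype D.subtype_injective).exists_le_sylow
  set Y₀ := (P₀ : Subgroup D).map D.subtype with hY₀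
  have hYY₀ : Y ≤ Y₀ := fun y hy => ⟨⟨y, hYD hy⟩, hP₀ hy, rfl⟩
  have hEY₀ : E ≤ normalizer (Y₀ : Set G) := hED.trans (OddMax.normalizer_le_normalizer_sylow hDnil P₀)
  have hY₀p : IsPGroup r Y₀ := P₀.2.map _
  have hY₀E : Y₀ ≤ E := (map_subtype_le _).trans (inf_le_left.trans inf_le_left)
  have hY₀R : Y₀ ≤ R := by
    have h1 := hRS.eq_of_le (hRp.to_sup_of_normal_right' hY₀p (hRE.trans hEY₀)) (sup_le hRE hY₀E) le_sup_left
    exact h1 ▸ le_sup_right
  have hY₀K : Y₀ ≤ centralizer (sigmaCore M : Set G) := (map_subtype_le _).trans (inf_le_left.trans inf_le_right)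
  have hY₀1 : Y₀ ≠ ⊥ := ne_bot_of_le_ne_bot hY1 hYY₀
  have hMY₀ : M ≤ normalizer (Y₀ : Set G) := by
    rw [← OddMax.compl_eq_sup hE]
    exact sup_le hEY₀ ((le_centralizer_iff.1 hY₀K).trans (centralizer_le_normalizer _))
  have hrM : r ∣ Nat.card M := hrE.trans (card_dvd_of_le hE.1)
  rcases hdich with hcyc | ⟨B, hgB, hBR⟩
  · obtain ⟨g, hgR, hgM⟩ := sylowOf_exists_out hM hrσ hrM hRSM
    refine hgM ?_
    rw [← OddMax.normalizer_eq U.hG hM hY₀1 (hY₀E.trans hE.1) hMY₀]
    exact normalizer_le_of_cyclic hY₀R hgR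
  -- rank two
  have homega : ∀ x ∈ R, x ^ r = 1 ↔ x ∈ B := fun x hx => hgB.omega_eq U hRSM hBR hx
  have hBY₀ : ¬ B ≤ Y₀ := fun h => by
    refine OddSigma.sigmaCore_ne_bot U.hG U.hU U.hR2 U.hF hM (le_bot_iff.1 ?_)
    exact (le_inf le_rfl (le_centralizer_iff.1 (h.trans hY₀K))).trans (hgB.fixed U).le
  have hAB : A ≤ normalizer (B : Set G) := fun a ha => Signalizer.mem_normalizer_of_conj_mem fun x hx =>
    (homega _ ((mem_normalizer_iff.1 (hAS₀ ha) x).1 (hBR hx))).1 (pow_conj_eq_one (hgB.elem.2 x hx))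
  obtain ⟨y, hyY, hyo⟩ : ∃ y ∈ Y, orderOf y = r := by
    obtain ⟨j, hj⟩ := (hRp.to_le hYR).exists_card_eq
    have hdY : r ∣ Nat.card Y := by
      rw [hj]
      exact dvd_pow_self r fun h0 => hY1 (card_eq_one.1 (by rw [hj, h0, pow_zero]))
    obtain ⟨y, hy⟩ := exists_prime_orderOf_dvd_card' r hdY
    exact ⟨y, y.2, by rw [Subgroup.orderOf_coe, hy]⟩
  have hyr : y ^ r = 1 := hyo ▸ pow_orderOf_eq_one y
  have hy1 : y ≠ 1 := fun h => hr.one_lt.ne (by rw [← hyo, h, orderOf_one])
  have hyB : y ∈ B := (homega y (hYR hyY)).1 hyr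
  have honly : ∀ x ∈ Y₀, x ^ r = 1 → x ∈ zpowers y := fun x hx hxr => by
    by_contra hxy
    refine hBY₀ ?_
    rw [← sup_line hgB.elem hgB.card hyB hy1 ((homega x (hY₀R hx)).1 hxr) hxy]
    exact sup_le (zpowers_le.2 (hYY₀ hyY)) (zpowers_le.2 hx)
  have hMy : M ≤ normalizer (zpowers y : Set G) := fun m hm => by
    refine mem_normalizer_iff_conj.2 (eq_of_le_of_card_ge ?_ (card_conj m _).ge)
    rw [Solvable.conj_eq_map, MonoidHom.map_zpowers, zpowers_le]
    exact honly _ ((mem_normalizer_iff.1 (hMY₀ hm) y).1 (hYY₀ hyY)) (pow_conj_eq_one hyr)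
  have hNy : normalizer (zpowers y : Set G) = M :=
    OddMax.normalizer_eq U.hG hM (zpowers_ne_bot.2 hy1) (zpowers_le.2 (hgB.le hyB)) hMy
  obtain ⟨g, hgBn, hgM⟩ := hgB.exists_out U
  obtain ⟨H, hH, hNH⟩ := OddSigma.exists_coatom (OddSigma.normalizer_ne_top U.hG (hgB.max U).ne_bot
    (fun h => hM.1 (top_le_iff.1 (h.ge.trans hgB.le))))
  have hHM : H ≠ M := fun h => hgM (h ▸ hNH hgBn)
  have hAH : A ≤ H := hAB.trans hNH
  have hyH : zpowers y ≤ H := zpowers_le.2 (hNH (le_normalizer hyB))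
  have hRH : R ≤ H := fun x hx => hNH (centralizer_le_normalizer _ fun b hb =>
    congrArg Subtype.val (hRab.is_comm.comm (⟨b, hBR hb⟩ : R) ⟨x, hx⟩))
  have hyp : IsPGroup r (zpowers y) := Signalizer.isPGroup_zpowers_of_pow_eq_one hyr
  have hAy : A ≤ normalizer (zpowers y : Set G) := hg.le.trans hMy
  have hyA : zpowers y ⊓ centralizer (A : Set G) = ⊥ :=
    le_bot_iff.1 ((inf_le_inf_right _ (zpowers_le.2 hyY)).trans hYA.le)
  have hycent : ¬ zpowers y ≤ centralizer (A : Set G) := fun h =>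
    hy1 (mem_bot.1 (hyA.le ⟨mem_zpowers y, h (mem_zpowers y)⟩))
  by_cases hpH : p ∈ sigma H
  · refine hycent ?_
    by_cases hrH : r ∈ sigma H
    · exact beta_commute U hH hrp.symm ((hg.max U).not_beta U) ((hgB.max U).not_beta U)
        (Signalizer.isPGroup_of_elemAb hg.elem) hyp (pgroup_le_sigmaCore U hH hpH hAH (Signalizer.isPGroup_of_elemAb hg.elem))
        (pgroup_le_sigmaCore U hH hrH hyH hyp) hAy
    · exact sigma_centralizes U (hg.max U) hH hpH hAH hrH hyp hyH hAy
  have hgH : Good p H A := ⟨hH, hpH, hAH, hg.elem, hg.card⟩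
  by_cases hrH : r ∈ sigma H
  · have hRσ : R ≤ sigmaCore H := pgroup_le_sigmaCore U hH hrH hRH hRp
    have hRA : R ⊓ centralizer (A : Set G) = ⊥ :=
      le_bot_iff.1 ((inf_le_inf_right _ hRσ).trans (hgH.fixed U).le)
    exact hBY₀ (hBR.trans ((eq_commutator_of_fixed_free U (hg.max U) hrp hRp hAS₀ hRA).ge.trans hYY₀))
  · have hcy := hgH.centralizes U hrH hrp hyp hyH hAy hyA
    refine OddSigma.sigmaCore_ne_bot U.hG U.hU U.hR2 U.hF hH (le_bot_iff.1 ?_)
    refine le_trans (le_inf le_rfl ?_) (hgH.inf_eq_bot U hM hHM.symm hg.le).le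
    exact (le_centralizer_iff.1 hcy).trans ((centralizer_le_normalizer _).trans hNy.le)

/-- `A` is normal in `E`, and contains every element of order `p` of `E`. -/
theorem Good.le_normalizer_compl : E ≤ normalizer (A : Set G) ∧ ∀ x ∈ E, x ^ p = 1 → x ∈ A := by
  have hAp := Signalizer.isPGroup_of_elemAb hg.elem
  obtain ⟨P, hP⟩ := (hAp.comap_of_injective E.subtype E.subtype_injective).exists_le_sylow
  set S := (P : Subgroup E).map E.subtype with hS
  have hAS : A ≤ S := fun a ha => ⟨⟨a, hAE ha⟩, hP ha, rfl⟩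
  have hSM := sylowOf_compl U hM hE hg.notSigma ⟨P.2.map _, map_subtype_le _, OddMax.sylow_relIndex P⟩
  have hSC := hg.sylow_centralizes U hSM hAS
  have hW := hg.pPrimeCore_centralizes U hM hE hAE
  have hpE : p ∣ Nat.card E := (dvd_card hg.card).trans (card_dvd_of_le hAE)
  have := compl_solvable (base U) hM hE
  obtain ⟨-, -, -, -, -, hidx⟩ :=
    Cfsg.Agent.S1450.result (OddSigma.odd_card U.hG E) p hpE (rankLE_compl (base U) hM hE p hp.out)
  have hN : (pPrimePCore p ↥E).map E.subtype ≤ centralizer (A : Set G) := by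
    rw [OddSigma.pPrimePCore_eq_sup hidx P, Subgroup.map_sup]
    exact sup_le hW hSC
  have hAN : A ≤ (pPrimePCore p ↥E).map E.subtype := by
    rw [OddSigma.pPrimePCore_eq_sup hidx P, Subgroup.map_sup]
    exact hAS.trans le_sup_right
  refine ⟨fun e he => Signalizer.mem_normalizer_of_conj_mem fun a ha => ?_, fun x hx hxp => ?_⟩
  · refine ((hg.max U).omega (hN ?_)).1 (pow_conj_eq_one (hg.elem.2 a ha))
    exact (mem_normalizer_iff.1 (OddMax.le_normalizer_map_of_normal (M := E) _ he) a).1 (hAN ha)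
  · obtain ⟨y, hy, hxy⟩ : ∃ y ∈ pPrimePCore p ↥E, (y : G) = x := by
      refine ⟨⟨x, hx⟩, ?_, rfl⟩
      rw [← QuotientGroup.eq_one_iff (N := pPrimePCore p ↥E)]
      refine orderOf_eq_one_iff.1 (Nat.eq_one_of_dvd_coprimes hidx.symm ?_ (orderOf_dvd_natCard _))
      refine orderOf_dvd_of_pow_eq_one ?_
      rw [← QuotientGroup.mk_pow, show (⟨x, hx⟩ : E) ^ p = 1 from Subtype.ext hxp]
      rfl
    exact ((hg.max U).omega (hN ⟨y, hy, hxy⟩)).1 hxp

/-- `M ∩ N(A) = E`. -/
theorem Good.inf_normalizer_eq : M ⊓ normalizer (A : Set G) = E := by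
  have hn := (hg.le_normalizer_compl U hM hE hAE).1
  refine le_antisymm ?_ (le_inf hE.1 hn)
  rintro m ⟨hm, hmA⟩
  obtain ⟨e, he, k, hk, rfl⟩ := hE.2.2.2 m hm
  have hkA : k ∈ normalizer (A : Set G) := by
    simpa using mul_mem (inv_mem (hn he)) hmA
  have hkC : k ∈ sigmaCore M ⊓ centralizer (A : Set G) := by
    refine ⟨hk, fun a ha => ?_⟩
    have h1 : k * a * k⁻¹ * a⁻¹ ∈ sigmaCore M ⊓ A := by
      refine mem_inf.2 ⟨?_, mul_mem ((mem_normalizer_iff.1 hkA a).1 ha) (inv_mem ha)⟩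
      have h2 := (mem_normalizer_iff.1 (hg.normalizes_core ha) _).1 (inv_mem hk)
      simpa [mul_assoc] using mul_mem hk h2
    rw [Solvable.inf_eq_bot_of_coprime (coprime_sigmaCore U (hg.max U) hg.notSigma).symm, mem_bot,
      mul_inv_eq_one, mul_inv_eq_iff_eq_mul] at h1
    exact h1.symm
  rw [hg.fixed U, mem_bot] at hkC
  simpa [hkC] using he

omit hE hAE in
/-- Statement 1417 from the inputs of section 10. -/
theorem s1417 :
    Group.IsNilpotent (sigmaCore M) ∧
      (∀ P : Sylow p M, IsMulCommutative (P : Subgroup M) ∧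
        (A ≤ (P : Subgroup M).map M.subtype →
          (∀ x ∈ (P : Subgroup M).map M.subtype, x ^ p = 1 ↔ x ∈ A) ∧
          ¬ normalizer ((((P : Subgroup M).map M.subtype : Subgroup G)) : Set G) ≤ M)) ∧
      M ≤ normalizer ((sigmaCore M ⊔ A : Subgroup G) : Set G) ∧
      sigmaCore M ⊓ centralizer (A : Set G) = ⊥ ∧
      (∀ Mstar : Subgroup G, IsCoatom Mstar → Mstar ≠ M → A ≤ Mstar → sigmaCore M ⊓ Mstar = ⊥) ∧
      ∃ A₁ : Subgroup G, A₁ ≤ A ∧ Nat.card A₁ = p ∧ sigmaCore M ⊓ centralizer (A₁ : Set G) = ⊥ := by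
  refine ⟨hg.nilpotent U, fun P => ?_, ?_, hg.fixed U, fun H hH hne hAH => hg.inf_eq_bot U hH hne hAH, ?_⟩
  · have hS : SylowOf p M ((P : Subgroup M).map M.subtype) := ⟨P.2.map _, map_subtype_le _, OddMax.sylow_relIndex P⟩
    refine ⟨?_, fun hAP => ⟨fun x hx => hg.omega_eq U hS hAP hx, fun h => ?_⟩⟩
    · have := hg.sylow_commutative U hS
      refine ⟨⟨fun x y => ?_⟩⟩
      have h := congrArg Subtype.val
        (mul_comm' (⟨_, mem_map_of_mem M.subtype x.2⟩ : ((P : Subgroup M).map M.subtype : Subgroup G))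
          ⟨_, mem_map_of_mem M.subtype y.2⟩)
      exact Subtype.ext (Subtype.ext h)
    · obtain ⟨g, hgS, hgM⟩ := sylowOf_exists_out hM hg.notSigma hg.dvd hS
      exact hgM (h hgS)
  · have := OddSigma.proper_solvable U.hG hM.1
    have hh := sigma_hall U hM
    obtain ⟨E, hE, hAE⟩ := OddMax.exists_compl_ge (M := M) (X := A) (OddMax.sigmaCore_le M)
      (OddMax.le_normalizer_sigmaCore M) (Nat.coprime_of_dvd fun q hq h1 h2 => hh.2.2 q hq (hh.2.1 q hq h1) h2)
      hg.le (coprime_sigmaCore U (hg.max U) hg.notSigma)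
    have hEn := (hg.le_normalizer_compl U hM hE hAE).1
    conv_lhs => rw [← OddMax.compl_eq_sup hE]
    refine sup_le (Signalizer.le_normalizer_sup (hE.1.trans (OddMax.le_normalizer_sigmaCore M)) hEn) ?_
    exact le_sup_left.trans le_normalizer
  · obtain ⟨a, ha, -, -, ha1, -, -, hfix, -⟩ := hg.two_free U
    exact ⟨zpowers a, zpowers_le.2 ha, card_line hg.elem ha ha1, by rw [centralizer_line]; exact hfix⟩

/-- Statement 1418 from the inputs of section 10. -/
theorem s1418 :
    (E ≤ normalizer (A : Set G) ∧ ∀ X : Subgroup G, X ≤ E → Nat.card X = p → X ≤ A) ∧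
      (centralizer (A : Set G) ≤ M ⊓ normalizer (A : Set G) ∧ M ⊓ normalizer (A : Set G) = E ∧
        ¬ normalizer (A : Set G) ≤ M) ∧
      ∀ X : Subgroup G, X ≤ A → Nat.card X = p → sigmaCore M ⊓ centralizer (X : Set G) ≠ ⊥ →
        (centralizer (X : Set G) ≤ M ∧ ∀ L : Subgroup G, IsCoatom L → centralizer (X : Set G) ≤ L → L = M) := by
  obtain ⟨hn, hall⟩ := hg.le_normalizer_compl U hM hE hAE
  refine ⟨⟨hn, fun X hX hc => ?_⟩, ⟨le_inf (hg.cent_le U) (centralizer_le_normalizer _),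
    hg.inf_normalizer_eq U hM hE hAE, fun h => ?_⟩, fun X hX hc hfix => ?_⟩
  · obtain ⟨x, hx, hx1, rfl⟩ := exists_gen hc
    refine zpowers_le.2 (hall x (hX hx) ?_)
    rw [← hc, Nat.card_zpowers]
    exact pow_orderOf_eq_one x
  · obtain ⟨g, hgA, hgM⟩ := hg.exists_out U
    exact hgM (h hgA)
  · have huniq : ∀ L : Subgroup G, IsCoatom L → centralizer (X : Set G) ≤ L → L = M := fun L hL hXL => by
      by_contra hne
      refine hfix (le_bot_iff.1 ((inf_le_inf_left _ hXL).trans ?_))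
      exact (hg.inf_eq_bot U hL hne ((OddSigma.elementary_le_centralizer hg.elem hX).trans hXL)).le
    obtain ⟨x, hx, hx1⟩ : ∃ x ∈ X, x ≠ 1 :=
      (bot_or_exists_ne_one X).resolve_left (ne_bot_card hc)
    obtain ⟨L, hL, hXL⟩ := OddSigma.exists_coatom (OddTrans.centralizer_ne_top U.hG.2.1 U.hG.2.2.1
      (S := (X : Set G)) hx hx1)
    exact ⟨huniq L hL hXL ▸ hXL, huniq⟩

end Cfsg.Agent.OddTau2
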