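/-
Bender-Glauberman 12.7-12.9: two primes in `τ₂(M)` and non-abelian Sylow subgroups.
Main results (namespace `Cfsg.Agent.OddTau2`): `exists_good_in_compl`, `tau_two_commute`,
`Good.nonabelian_line`, `s1419`, `abelian_of_nilpotent_sigma'`, `s1420`.
-/
import Cfsg.Agent.Lib.OddOrder.TauTwoNormal

set_option autoImplicit false
set_option linter.unusedSectionVars false
set_option linter.unusedVariables false

open Subgroup
open scoped Pointwise commutatorElement

universe u

namespace Cfsg.Agent.OddTau2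

open Cfsg.Agent.Solvable

variable {G : Type u} [Group G] [Finite G]

theorem SylowOf.exists_elementary {r k : ℕ} [Fact r.Prime] {M S : Subgroup G} (hS : SylowOf r M S)
    (h : ¬ PRankLE r k M) : ∃ B ≤ S, IsElementaryAbelian r B ∧ r ^ (k + 1) ≤ Nat.card B := by
  obtain ⟨P, hP⟩ := OddMax.exists_sylow_eq hS.1 hS.2.1 hS.2.2
  exact OddSigma.exists_elementary fun h' => h (OddSigma.prankLE_of_sylow P (hP.symm ▸ h'))

theorem nilpotent_sylow_eq {D Y : Subgroup G} (hD : Group.IsNilpotent D) {r : ℕ} [Fact r.Prime] (P : Sylow r D)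
    (hY : Y ≤ D) (hYr : IsPGroup r Y) : Y ≤ (P : Subgroup D).map D.subtype := by
  obtain ⟨Q, hQ⟩ := (hYr.comap_of_injective D.subtype D.subtype_injective).exists_le_sylow
  have hn : ∀ T : Sylow r D, (T : Subgroup D).Normal :=
    fun T => (Group.isNilpotent_of_finite_tfae.out 0 3 rfl rfl).1 hD r ‹_› T
  have := Sylow.unique_of_normal P (hn P)
  have h : Q = P := Subsingleton.elim _ _
  exact fun y hy => ⟨⟨y, hY hy⟩, h ▸ hQ hy, rfl⟩

variable (U : Upstream G)
include U

/-- For `r ∈ τ₂(M)` every complement contains an elementary abelian group of order `r ^ 2`. -/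
theorem exists_good_in_compl {M E : Subgroup G} (hM : IsCoatom M) (hE : IsComplIn E (sigmaCore M) M) {r : ℕ}
    [hr : Fact r.Prime] (hrσ : r ∉ sigma M) (hr1 : ¬ PRankLE r 1 M) : ∃ B, Good r M B ∧ B ≤ E := by
  obtain ⟨P⟩ : Nonempty (Sylow r E) := inferInstance
  have hS : SylowOf r E ((P : Subgroup E).map E.subtype) := ⟨P.2.map _, map_subtype_le _, OddMax.sylow_relIndex P⟩
  have hSM := sylowOf_compl U hM hE hrσ hS
  obtain ⟨B, hB, hBe, hBc⟩ := hSM.exists_elementary hr1
  exact ⟨B, good_of_rank U hM hrσ (hB.trans hSM.2.1) hBe hBc, hB.trans hS.2.1⟩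

/-- A nilpotent Hall `β'`-subgroup of `H_σ` above a given `β'`-subgroup. -/
theorem exists_beta_hall {H X : Subgroup G} (hH : IsCoatom H) (hX : X ≤ sigmaCore H)
    (hπ : ∀ q : ℕ, q.Prime → q ∣ Nat.card X → q ∉ beta H) :
    ∃ Y, X ≤ Y ∧ Y ≤ sigmaCore H ∧ Group.IsNilpotent Y ∧
      ∀ q : ℕ, q.Prime → q ∉ beta H → ¬ q ∣ Y.relIndex (sigmaCore H) := by
  obtain ⟨K, hK, hKn⟩ := (U.s1414 H hH).2.2.2.1
  have : Group.IsSolvable ↥(sigmaCore H) :=
    Coprime.isSolvable_of_le (OddMax.sigmaCore_le H) (OddSigma.proper_solvable U.hG hH.1)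
  have hall := isPiHall_subgroupOf hK
  obtain ⟨g, hg⟩ := exists_conj_ge_of_solvable (U := X.subgroupOf (sigmaCore H)) hall fun q hq hd => by
    rw [Cores.card_subgroupOf hX] at hd
    exact ⟨hq, hπ q hq hd⟩
  refine ⟨(MulAut.conj g • K.subgroupOf (sigmaCore H)).map (sigmaCore H).subtype,
    fun x hx => ⟨⟨x, hX hx⟩, hg hx, rfl⟩, map_subtype_le _, ?_, fun q hq hqb => ?_⟩
  · have := hKn
    exact Cores.isNilpotent_map _ (Cores.isNilpotent_map _ (Group.nilpotent_of_mulEquiv (subgroupOfEquivOfLe hK.1).symm))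
  · rw [OddMax.relIndex_eq_index, index_conj]
    exact hall.2 q hq ⟨hq, hqb⟩

/-- Two primes in `τ₂(M)`: `q`-elements of `E` centralise the `E_{p²}` of `E`. -/
theorem tau_two_commute {M E A B : Subgroup G} {p q : ℕ} [hp : Fact p.Prime] [hq : Fact q.Prime] (hpq : p ≠ q)
    (hE : IsComplIn E (sigmaCore M) M) (hgA : Good p M A) (hAE : A ≤ E) (hgB : Good q M B) (hBE : B ≤ E)
    {y : G} (hy : y ∈ E) {n : ℕ} (hyq : orderOf y = q ^ n) : y ∈ centralizer (A : Set G) := by
  have hM := hgA.coatom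
  have hnA := (hgA.le_normalizer_compl U hM hE hAE).1
  have hnB := (hgB.le_normalizer_compl U hM hE hBE).1
  obtain ⟨g, hgAn, hgM⟩ := hgA.exists_out U
  obtain ⟨H, hH, hNH⟩ := OddSigma.exists_coatom (OddSigma.normalizer_ne_top U.hG (hgA.max U).ne_bot
    (fun h => hM.1 (top_le_iff.1 (h.ge.trans hgA.le))))
  have hAH : A ≤ H := le_normalizer.trans hNH
  have hyH : zpowers y ≤ H := zpowers_le.2 (hNH (hnA hy))
  have hpH : p ∈ sigma H := by
    by_contra hpH
    obtain ⟨g', hg'A, hg'H⟩ := Good.exists_out U (⟨hH, hpH, hAH, hgA.elem, hgA.card⟩ : Good p H A)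
    exact hg'H (hNH hg'A)
  have hAσ : A ≤ sigmaCore H := pgroup_le_sigmaCore U hH hpH hAH (Signalizer.isPGroup_of_elemAb hgA.elem)
  have hBH : B ≤ H := (hBE.trans hnA).trans hNH
  have hABc : A ≤ centralizer (B : Set G) := by
    have h0 : A ⊓ B = ⊥ := Solvable.inf_eq_bot_of_coprime (by
      rw [hgA.card, hgB.card]; exact ((Nat.coprime_primes hp.out hq.out).2 hpq).pow 2 2)
    refine commutator_eq_bot_iff_le_centralizer.1 (le_bot_iff.1 (le_trans ?_ h0.le))
    exact le_inf (le_normalizer_iff_commutator_le_left.1 (hBE.trans hnA))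
      (le_normalizer_iff_commutator_le_right.1 (hAE.trans hnB))
  have hqH : q ∈ sigma H := by
    by_contra hqH
    have hgH : Good q H B := ⟨hH, hqH, hBH, hgB.elem, hgB.card⟩
    refine (hgA.max U).ne_bot (le_bot_iff.1 (le_trans (le_inf hAσ hABc) ?_))
    exact (hgH.fixed U).le
  have hyp : IsPGroup q (zpowers y) := IsPGroup.of_card (n := n) (by rw [Nat.card_zpowers, hyq])
  have h := beta_commute U hH hpq.symm ((hgB.max U).not_beta U) ((hgA.max U).not_beta U) hyp
    (Signalizer.isPGroup_of_elemAb hgA.elem) (pgroup_le_sigmaCore U hH hqH hyH hyp) hAσ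
    ((zpowers_le.2 hy).trans hnA)
  exact fun a ha => ((h ha) y (mem_zpowers y)).symm

section Nonabelian

variable {p : ℕ} [hp : Fact p.Prime] {M A : Subgroup G} (hg : Good p M A)
  (hS : ∀ S : Sylow p G, ¬ IsMulCommutative (S : Subgroup G))
include hg hS

/-- The structure given by a non-abelian Sylow subgroup. -/
theorem Good.nonabelian_line :
    ∃ (P : Sylow p G) (S : Subgroup G) (u a₀ z : G), A ≤ P ∧ SylowOf p M S ∧ A ≤ S ∧ S ≤ P ∧
      u ∈ (P : Subgroup G) ∧ u ∈ normalizer (S : Set G) ∧ u ∈ normalizer (A : Set G) ∧ u ∉ M ∧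
      u ∉ centralizer (A : Set G) ∧ a₀ ∈ A ∧ a₀ ≠ 1 ∧ normalizer (zpowers a₀ : Set G) ≤ M ∧
      z ∈ A ∧ z ≠ 1 ∧ z ∈ centralizer ((P : Subgroup G) : Set G) ∧
      normalizer ((P : Subgroup G) : Set G) ≤ normalizer (zpowers z : Set G) ∧
      sigmaCore M ≤ centralizer ({a₀} : Set G) ∧
      ∀ x ∈ A, x ≠ 1 → x ∉ zpowers a₀ → sigmaCore M ⊓ centralizer ({x} : Set G) = ⊥ ∧
        ¬ centralizer ({x} : Set G) ≤ M := by
  have hM := hg.coatom
  have hmax := hg.max U
  obtain ⟨S, hSM, hAS⟩ := exists_sylowOf_ge (Signalizer.isPGroup_of_elemAb hg.elem) hg.le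
  have hSab := hg.sylow_commutative U hSM
  obtain ⟨P, hSP⟩ := hSM.1.exists_le_sylow
  have hAP : A ≤ P := hAS.trans hSP
  have hlt : S < (P : Subgroup G) := lt_of_le_of_ne hSP fun h => hS P (h ▸ hSab)
  obtain ⟨u, hu, huS⟩ := SetLike.exists_of_lt (OddTrans.lt_inf_normalizer P.2 hlt)
  have huM : u ∉ M := fun h => huS (by
    have := hSM.eq_of_le (T := (P : Subgroup G) ⊓ M) (P.2.to_le inf_le_left) inf_le_right (le_inf hSP hSM.2.1)
    exact this.le ⟨hu.1, h⟩)
  have huA : u ∈ normalizer (A : Set G) := hg.normalizer_sylow_le U hSM hAS hu.2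
  have huC : u ∉ centralizer (A : Set G) := fun h => huM (hg.cent_le U h)
  obtain ⟨z, hz, hzo⟩ := OddSigma.exists_center_orderOf P.isPGroup' (ne_bot_of_le_ne_bot hmax.ne_bot hAP)
  have hzP := OddSigma.mem_centralizer_of_center hz
  have hzp : z ^ p = 1 := hzo ▸ pow_orderOf_eq_one z
  have hz1 : z ≠ 1 := fun h => hp.out.one_lt.ne (by rw [← hzo, h, orderOf_one])
  have hzA : z ∈ A := (hmax.omega (centralizer_le hAP hzP)).1 hzp
  have honly : ∀ w ∈ centralizer ((P : Subgroup G) : Set G), w ^ p = 1 → w ∈ zpowers z := by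
    intro w hw hwp
    by_contra hwz
    have hwA : w ∈ A := (hmax.omega (centralizer_le hAP hw)).1 hwp
    refine huC ?_
    rw [centralizer_eq hg.elem hg.card hzA hz1 hwA hwz]
    exact ⟨mem_centralizer_singleton_iff.2 (hzP u hu.1), mem_centralizer_singleton_iff.2 (hw u hu.1)⟩
  have hNP : normalizer ((P : Subgroup G) : Set G) ≤ normalizer (zpowers z : Set G) := fun g hg' => by
    refine mem_normalizer_iff_conj.2 (eq_of_le_of_card_ge ?_ (card_conj g _).ge)
    rw [Solvable.conj_eq_map, MonoidHom.map_zpowers, zpowers_le]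
    exact honly _ (OddSigma.mem_centralizer_of_center (OddSigma.conj_mem_center hg' hz)) (pow_conj_eq_one hzp)
  obtain ⟨a₀, ha₀, ha₀1, ha₀M, -⟩ := hg.exists_line U
  have huz : u * z * u⁻¹ = z := by rw [hzP u hu.1, mul_inv_cancel_right]
  have huzC : u ∈ centralizer ({z} : Set G) := mem_centralizer_singleton_iff.2 (hzP u hu.1)
  have ha₀z : a₀ ∉ zpowers z := fun h => huM (ha₀M (by
    rw [line_eq (card_line hg.elem hzA hz1) h ha₀1]
    exact centralizer_le_normalizer_line z huzC))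
  have hzfix : sigmaCore M ⊓ centralizer ({z} : Set G) = ⊥ := by
    obtain ⟨H, hH, hNH⟩ := OddSigma.exists_coatom (normalizer_line_ne_top U hmax hzA hz1)
    have hHM : H ≠ M := fun h => huM (h ▸ hNH (centralizer_le_normalizer_line z huzC))
    refine le_bot_iff.1 ((inf_le_inf_left _ ((centralizer_le_normalizer_line z).trans hNH)).trans ?_)
    exact (hg.inf_eq_bot U hH hHM (line_subgroup_le_of_normalizer hg.elem.1 hzA hNH)).le
  obtain ⟨n, hn⟩ := IsPGroup.iff_orderOf.1 P.2 ⟨u, hu.1⟩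
  rw [orderOf_mk] at hn
  -- every line other than `⟨z⟩`, `⟨a₀⟩` is a conjugate of `⟨a₀⟩` by an element outside `M`
  have hconj : ∀ x ∈ A, x ≠ 1 → x ∉ zpowers a₀ → x ∈ zpowers z ∨
      ∃ v ∈ normalizer (A : Set G), v ∉ M ∧ x ∈ zpowers (v * a₀ * v⁻¹) := by
    intro x hx hx1 hxa
    refine or_iff_not_imp_left.2 fun hxz => ?_
    obtain ⟨i, hi⟩ := exists_pow_conj_line hg.elem hg.card hn huA huC hzA hz1 huz ha₀ ha₀1 ha₀z hx hxz
    refine ⟨u ^ i, pow_mem huA i, fun hv => hxa ?_, hi⟩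
    have hvE : u ^ i ∈ centralizer (A : Set G) := by
      have hvS : u ^ i ∈ S := (hSM.eq_of_le (T := (P : Subgroup G) ⊓ M) (P.2.to_le inf_le_left) inf_le_right
        (le_inf hSP hSM.2.1)).le ⟨pow_mem hu.1 i, hv⟩
      exact hg.sylow_centralizes U hSM hAS hvS
    have h2 := hvE a₀ ha₀
    rwa [← h2, mul_inv_cancel_right] at hi
  have hline : ∀ {x y : G}, y ≠ 1 → y ∈ A → x ≠ 1 → x ∈ zpowers y →
      centralizer ({x} : Set G) = centralizer ({y} : Set G) := fun {x y} hy1 hy hx1 hxy => by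
    rw [← centralizer_line x, line_eq (card_line hg.elem hy hy1) hxy hx1, centralizer_line]
  have hfree : ∀ x ∈ A, x ≠ 1 → x ∉ zpowers a₀ → sigmaCore M ⊓ centralizer ({x} : Set G) = ⊥ := by
    intro x hx hx1 hxa
    rcases hconj x hx hx1 hxa with h | ⟨v, hvA, hvM, h⟩
    · rw [hline hz1 hzA hx1 h, hzfix]
    · rw [hline (fun hb => ha₀1 (by simpa using hb)) ((mem_normalizer_iff.1 hvA a₀).1 ha₀) hx1 h]
      exact hg.fixed_conj_line U ha₀ ha₀M hvA hvM
  have hK : sigmaCore M ≤ centralizer ({a₀} : Set G) := by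
    refine (Signalizer.le_of_elements hg.elem hg.card.ge (sigmaCore M ⊓ centralizer ({a₀} : Set G)) (sigmaCore M)
      (not_dvd_sigmaCore hg.notSigma) hg.normalizes_core fun a ha ha1 => ?_).trans inf_le_right
    by_cases h : a ∈ zpowers a₀
    · rw [hline ha₀1 ha₀ ha1 h]
    · rw [hfree a ha ha1 h]
      exact bot_le
  refine ⟨P, S, u, a₀, z, hAP, hSM, hAS, hSP, hu.1, hu.2, huA, huM, huC, ha₀, ha₀1, ha₀M, hzA, hz1, hzP, hNP, hK,
    fun x hx hx1 hxa => ⟨hfree x hx hx1 hxa, fun hle => ?_⟩⟩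
  rcases hconj x hx hx1 hxa with h | ⟨v, hvA, hvM, h⟩
  · rw [hline hz1 hzA hx1 h] at hle
    exact huM (hle huzC)
  · rw [hline (fun hb => ha₀1 (by simpa using hb)) ((mem_normalizer_iff.1 hvA a₀).1 ha₀) hx1 h] at hle
    have hA' : A ≤ MulAut.conj v⁻¹ • M :=
      le_trans (le_of_eq (mem_normalizer_iff_conj.1 (inv_mem hvA)).symm) (conj_mono v⁻¹ hg.le)
    refine OddSigma.sigmaCore_ne_bot U.hG U.hU U.hR2 U.hF hM (le_bot_iff.1 (le_trans ?_
      (hg.conj_inf U (fun h' => hvM (inv_inv v ▸ inv_mem h')) hA').le))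
    refine le_inf le_rfl fun k hk => ⟨v * k * v⁻¹, hle (mem_centralizer_singleton_iff.2 ?_), by simp [mul_assoc]⟩
    have h2 := mem_centralizer_singleton_iff.1 (hK hk)
    calc v * k * v⁻¹ * (v * a₀ * v⁻¹) = v * (k * a₀) * v⁻¹ := by group
      _ = v * (a₀ * k) * v⁻¹ := by rw [h2]
      _ = v * a₀ * v⁻¹ * (v * k * v⁻¹) := by group

/-- `℧(C_P(A))` is cyclic. -/
theorem Good.exists_cyclic_pow {P : Sylow p G} (hAP : A ≤ P) :
    ∃ C : Subgroup G, IsCyclic C ∧ ∀ x ∈ (P : Subgroup G), x ∈ centralizer (A : Set G) → x ^ p ∈ C := by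
  by_cases hr : PRankLE p 2 (P : Subgroup G)
  · rcases U.s1412 p P hr with hab | ⟨P₁, P₂, hsup, hcomm, hna, hcard, hexp, hcyc, hom⟩
    · exact absurd hab (hS P)
    refine ⟨P₂, hcyc, fun x hx _ => ?_⟩
    have hP₁n : P₂ ≤ normalizer (P₁ : Set G) := (le_centralizer_iff.1 (fun a ha b hb => (hcomm a ha b hb).symm)).trans
      (centralizer_le_normalizer _)
    rw [← hsup, ← SetLike.mem_coe, coe_mul_of_right_le_normalizer_left P₁ P₂ hP₁n] at hx
    obtain ⟨a, ha, b, hb, rfl⟩ := hx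
    have h1 : a ^ p = 1 := by
      have := Monoid.pow_exponent_eq_one (⟨a, ha⟩ : P₁)
      rw [hexp] at this
      exact congrArg Subtype.val this
    rw [(show Commute a b from hcomm a ha b hb).mul_pow, h1, one_mul]
    exact pow_mem hb p
  · obtain ⟨e, he, C, hC, hec, hgen⟩ := hg.narrow_data U hAP hr
    refine ⟨C, hC, fun x hx hxA => ?_⟩
    obtain ⟨i, c, hc, rfl⟩ := hgen x hx hxA
    rw [((hec c hc).pow_left i).mul_pow, ← pow_mul, mul_comm, pow_mul, hg.elem.2 e he, one_pow, one_mul]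
    exact pow_mem hc p

/-- Statement 1419 from the inputs of section 10. -/
theorem s1419 {E : Subgroup G} (hE : IsComplIn E (sigmaCore M) M) (hAE : A ≤ E) :
    tau2 M = {p} ∧
      (Nat.card ↥(A ⊓ centralizer (sigmaCore M : Set G)) = p ∧
        fittingOf M = sigmaCore M ⊔ (A ⊓ centralizer (sigmaCore M : Set G))) ∧
      ∀ X : Subgroup G, X ≤ E → Nat.card X = p → X ≠ A ⊓ centralizer (sigmaCore M : Set G) →
        sigmaCore M ⊓ centralizer (X : Set G) = ⊥ ∧ ¬ centralizer (X : Set G) ≤ M := by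
  obtain ⟨P, S, u, a₀, z, hAP, hSM, hAS, hSP, huP, huS, huA, huM, huC, ha₀, ha₀1, ha₀M, hzA, hz1, hzP, hNP, hK,
    hlines⟩ := hg.nonabelian_line U hS
  have hM := hg.coatom
  have hmax := hg.max U
  obtain ⟨hEA, hall⟩ := hg.le_normalizer_compl U hM hE hAE
  have hA₀ : A ⊓ centralizer (sigmaCore M : Set G) = zpowers a₀ := by
    refine le_antisymm (fun x hx => ?_) (zpowers_le.2 ⟨ha₀, fun k hk => mem_centralizer_singleton_iff.1 (hK hk)⟩)
    by_contra hxa
    have hx1 : x ≠ 1 := fun h => hxa (h ▸ one_mem _)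
    refine OddSigma.sigmaCore_ne_bot U.hG U.hU U.hR2 U.hF hM (le_bot_iff.1 (le_trans ?_ (hlines x hx.1 hx1 hxa).1.le))
    exact le_inf le_rfl fun k hk => mem_centralizer_singleton_iff.2 (hx.2 k hk)
  have hτ : tau2 M = {p} := by
    refine Set.Subset.antisymm (fun q hq => ?_) (by
      rintro _ rfl
      exact ⟨hp.out, hg.notSigma, hg.prank U, fun h =>
        OddSigma.not_prankLE_of_le hg.le hg.elem (by
          rw [hg.card]; exact Nat.pow_lt_pow_right hp.out.one_lt one_lt_two) h⟩)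
    by_contra hqp
    rw [Set.mem_singleton_iff] at hqp
    have := Fact.mk hq.1
    obtain ⟨B, hgB, hBE⟩ := exists_good_in_compl U hM hE hq.2.1 hq.2.2.2
    have hBA : B ≤ centralizer (A : Set G) := fun b hb => by
      by_cases hb1 : b = 1
      · exact hb1 ▸ one_mem _
      exact tau_two_commute U (Ne.symm hqp) hE hg hAE hgB hBE (hBE hb) (n := 1)
        (by rw [pow_one, orderOf_eq hgB.elem hb hb1])
    obtain ⟨H, hH, hNH⟩ := OddSigma.exists_coatom (normalizer_line_ne_top U hmax hzA hz1)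
    have hpH : p ∈ sigma H := sigma_of_central_line hmax hAP hNP hNH
    have hCz : centralizer ({z} : Set G) ≤ H := (centralizer_le_normalizer_line z).trans hNH
    have hAH : A ≤ H := line_subgroup_le_of_normalizer hg.elem.1 hzA hNH
    have hBH : B ≤ H := hBA.trans ((Signalizer.centralizer_le_singleton hzA).trans hCz)
    have hAσ : A ≤ sigmaCore H := pgroup_le_sigmaCore U hH hpH hAH hmax.isPGroup
    have hABc : A ≤ centralizer (B : Set G) := le_centralizer_iff.1 hBA
    have hqH : q ∈ sigma H := by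
      by_contra hqH
      have hgH : Good q H B := ⟨hH, hqH, hBH, hgB.elem, hgB.card⟩
      exact hmax.ne_bot (le_bot_iff.1 ((le_inf hAσ hABc).trans (hgH.fixed U).le))
    have hBσ : B ≤ sigmaCore H := pgroup_le_sigmaCore U hH hqH hBH (Signalizer.isPGroup_of_elemAb hgB.elem)
    have hπ : ∀ r : ℕ, r.Prime → r ∣ Nat.card ↥(A ⊔ B) → r ∉ beta H := fun r hr hd => by
      have hn : (B.subgroupOf (A ⊔ B)).Normal := normal_subgroupOf_of_le_normalizer
        (sup_le (hABc.trans (centralizer_le_normalizer _)) le_normalizer)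
      have htop : A.subgroupOf (A ⊔ B) ⊔ B.subgroupOf (A ⊔ B) = ⊤ := by
        rw [← subgroupOf_sup le_sup_left le_sup_right, subgroupOf_self]
      have h1 := card_sup_dvd (A.subgroupOf (A ⊔ B)) (B.subgroupOf (A ⊔ B))
      rw [htop, Subgroup.card_top, Cores.card_subgroupOf le_sup_left, Cores.card_subgroupOf le_sup_right] at h1
      rcases hr.dvd_mul.1 (hd.trans h1) with h | h
      · exact (Set.mem_singleton_iff.1 (OddTrans.pi_of_isPGroup hmax.isPGroup r hr h)) ▸ hmax.not_beta U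
      · exact (Set.mem_singleton_iff.1 (OddTrans.pi_of_isPGroup (Signalizer.isPGroup_of_elemAb hgB.elem) r hr h)) ▸
          (hgB.max U).not_beta U
    obtain ⟨Y, hXY, hYσ, hYn, hYi⟩ := exists_beta_hall U hH (sup_le hAσ hBσ) hπ
    obtain ⟨T⟩ : Nonempty (Sylow p Y) := inferInstance
    set T' := (T : Subgroup Y).map Y.subtype with hT'
    have hT'i : ¬ p ∣ T'.index := by
      refine sylow_sigmaCore U hH hpH ((map_subtype_le _).trans (hYσ.trans (OddMax.sigmaCore_le H))) ?_
      rw [← relIndex_mul_relIndex T' (sigmaCore H) H ((map_subtype_le _).trans hYσ) (OddMax.sigmaCore_le H),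
        ← relIndex_mul_relIndex T' Y (sigmaCore H) (map_subtype_le _) hYσ, hT', OddSigma.relIndex_sylow_map]
      exact hp.out.not_dvd_mul (hp.out.not_dvd_mul T.not_dvd_index (hYi p hp.out (hmax.not_beta U)))
        ((sigma_hall U hH).2.2 p hp.out hpH)
    have hT'M : T' ≤ M := (commute_of_nilpotent hYn (Ne.symm hqp) (T.2.map _)
      (Signalizer.isPGroup_of_elemAb hgB.elem) (map_subtype_le _) (le_sup_right.trans hXY)).trans (hgB.cent_le U)
    have := hg.sylow_commutative U (S := T')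
      ⟨T.2.map _, hT'M, fun h => hT'i (h.trans (Dvd.intro _ (relIndex_mul_index hT'M)))⟩
    exact hS ((T.2.map Y.subtype).toSylow hT'i) this
  refine ⟨hτ, ⟨by rw [hA₀, card_line hg.elem ha₀ ha₀1], ?_⟩, fun X hX hc hne => ?_⟩
  swap
  · obtain ⟨x, hx, hx1, rfl⟩ := exists_gen hc
    rw [hA₀] at hne
    have hxA : x ∈ A := hall x (hX hx) (by
      rw [← hc, Nat.card_zpowers]
      exact pow_orderOf_eq_one x)
    rw [centralizer_line]
    exact hlines x hxA hx1 fun h => hne (line_eq (card_line hg.elem ha₀ ha₀1) h hx1)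
  -- the Fitting subgroup
  have hMa : M ≤ normalizer ((A ⊓ centralizer (sigmaCore M : Set G) : Subgroup G) : Set G) := by
    conv_lhs => rw [← OddMax.compl_eq_sup hE]
    refine sup_le (Signalizer.le_normalizer_inf hEA (Signalizer.le_normalizer_centralizer
      (hE.1.trans (OddMax.le_normalizer_sigmaCore M)))) ?_
    exact (le_centralizer_iff.1 inf_le_right).trans (centralizer_le_normalizer _)
  refine le_antisymm ?_ (sup_le (OddMax.le_fittingOf (OddMax.sigmaCore_le M) (OddMax.le_normalizer_sigmaCore M)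
    (hg.nilpotent U)) (OddMax.le_fittingOf (inf_le_left.trans hg.le) hMa ?_))
  swap
  · have : IsMulCommutative ↥(A ⊓ centralizer (sigmaCore M : Set G)) :=
      (OddSigma.isElementary_mono hg.elem inf_le_left).1
    exact Cores.isNilpotent_of_isMulCommutative _
  set F := fittingOf M with hF
  have hFn : Group.IsNilpotent F := OddMax.fittingOf_nilpotent M
  have hFM : F ≤ M := OddMax.fittingOf_le M
  have hKF : sigmaCore M ≤ F :=
    OddMax.le_fittingOf (OddMax.sigmaCore_le M) (OddMax.le_normalizer_sigmaCore M) (hg.nilpotent U)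
  suffices h : F ≤ F ⊓ (sigmaCore M ⊔ (A ⊓ centralizer (sigmaCore M : Set G))) from h.trans inf_le_right
  refine (eq_of_le_of_card_ge inf_le_left (Nat.le_of_dvd Nat.card_pos ?_)).ge
  rw [← Nat.factorization_le_iff_dvd Nat.card_pos.ne' Nat.card_pos.ne', Finsupp.le_def]
  intro r
  by_cases hd : r.Prime ∧ r ∣ Nat.card F
  swap
  · rcases not_and_or.1 hd with h | h
    · simp [Nat.factorization_eq_zero_of_not_prime _ h]
    · simp [Nat.factorization_eq_zero_of_not_dvd h]
  obtain ⟨hr, hd⟩ := hd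
  have := Fact.mk hr
  obtain ⟨R⟩ : Nonempty (Sylow r F) := inferInstance
  set Fr := (R : Subgroup F).map F.subtype with hFr
  have hFrp : IsPGroup r Fr := R.2.map _
  have hFrF : Fr ≤ F := map_subtype_le _
  refine (hr.pow_dvd_iff_le_factorization Nat.card_pos.ne').1 ?_
  suffices hle : Fr ≤ sigmaCore M ⊔ (A ⊓ centralizer (sigmaCore M : Set G)) by
    have h1 := card_dvd_of_le (le_inf hFrF hle)
    rwa [hFr, card_map_of_injective F.subtype_injective, R.card_eq_multiplicity] at h1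
  by_cases hrσ : r ∈ sigma M
  · exact le_sup_of_le_left (pgroup_le_sigmaCore U hM hrσ (hFrF.trans hFM) hFrp)
  have hMFr : M ≤ normalizer (Fr : Set G) :=
    (OddMax.le_normalizer_fittingOf M).trans (OddMax.normalizer_le_normalizer_sylow hFn R)
  have hFrK : Fr ≤ centralizer (sigmaCore M : Set G) := by
    refine le_centralizer_iff.1 fun k hk y hy => ?_
    have hcop : (orderOf (⟨y, hFrF hy⟩ : F)).Coprime (orderOf (⟨k, hKF hk⟩ : F)) := by
      rw [orderOf_mk, orderOf_mk]
      refine Nat.coprime_of_dvd fun s hs h1 h2 => hrσ ?_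
      rw [← Set.mem_singleton_iff.1 (OddTrans.pi_of_isPGroup hFrp s hs (h1.trans (Subgroup.orderOf_dvd_natCard _ hy)))]
      exact OddMax.sigmaCore_pi M s hs (h2.trans (Subgroup.orderOf_dvd_natCard _ hk))
    exact congrArg Subtype.val (NilGroup.commute_of_coprime hFn hcop).eq
  have hFr1 : Fr ≠ ⊥ := fun h => R.not_dvd_index (by
    rw [(map_eq_bot_iff_of_injective _ F.subtype_injective).1 h, index_bot]; exact hd)
  by_cases hrp : r = p
  · subst hrp
    obtain ⟨m, hm⟩ : ∃ T, SylowOf r M T ∧ Fr ≤ T := exists_sylowOf_ge hFrp (hFrF.trans hFM)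
    have hFrS : Fr ≤ S := by
      have h1 := hSM.eq_of_le (hSM.1.to_sup_of_normal_right' hFrp (hSM.2.1.trans hMFr))
        (sup_le hSM.2.1 (hFrF.trans hFM)) le_sup_left
      exact h1 ▸ le_sup_right
    obtain ⟨C, hCcyc, hC⟩ := hg.exists_cyclic_pow U hS hAP
    have hSC := hg.sylow_centralizes U hSM hAS
    have hone : ∀ x ∈ Fr, x ^ r = 1 → x ∈ zpowers a₀ := fun x hx hxp =>
      hA₀ ▸ ⟨(hg.omega_eq U hSM hAS (hFrS hx)).1 hxp, hFrK hx⟩
    have hexp : ∀ x ∈ Fr, x ^ r = 1 := by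
      intro x hx
      by_contra hx1
      obtain ⟨n, hn⟩ := IsPGroup.iff_orderOf.1 hFrp ⟨x, hx⟩
      rw [orderOf_mk] at hn
      have hn2 : 2 ≤ n := by
        by_contra hn2
        refine hx1 (orderOf_dvd_iff_pow_eq_one.1 ?_)
        rw [hn]
        exact (pow_dvd_pow r (by omega : n ≤ 1)).trans (by rw [pow_one])
      set y := x ^ r ^ (n - 2) with hy
      have hyF : y ∈ Fr := pow_mem hx _
      have hw1 : y ^ r ≠ 1 := by
        intro h
        rw [hy, ← pow_mul, ← pow_succ] at h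
        have h2 := orderOf_dvd_of_pow_eq_one h
        rw [hn] at h2
        have := Nat.pow_dvd_pow_iff_le_right hr.one_lt |>.1 h2
        omega
      have hw : (y ^ r) ^ r = 1 := by
        rw [← pow_mul, hy, ← pow_mul, ← pow_two, ← pow_add, show n - 2 + 2 = n by omega, ← hn, pow_orderOf_eq_one]
      have hwa := hone _ (pow_mem hyF r) hw
      have hu' : u * y * u⁻¹ ∈ S := (mem_normalizer_iff.1 huS y).1 (hFrS hyF)
      have hC1 : y ^ r ∈ C := hC y (hSP (hFrS hyF)) (hSC (hFrS hyF))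
      have hC2 : (u * y * u⁻¹) ^ r ∈ C := hC _ (hSP hu') (hSC hu')
      rw [conj_pow] at hC2
      have heq : zpowers (y ^ r) = zpowers (u * y ^ r * u⁻¹) := by
        refine TIHall.eq_of_card_eq_cyclic (C := C) (zpowers_le.2 hC1) (zpowers_le.2 hC2) ?_
        rw [Nat.card_zpowers, Nat.card_zpowers]
        exact (MulEquiv.orderOf_eq (MulAut.conj u) (y ^ r)).symm
      refine huM (ha₀M (mem_normalizer_iff_conj.2 ?_))
      rw [← line_eq (card_line hg.elem ha₀ ha₀1) hwa hw1, Solvable.conj_eq_map, MonoidHom.map_zpowers]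
      exact heq.symm
    exact le_sup_of_le_right (hA₀ ▸ fun x hx => hone x hx (hexp x hx))
  · obtain ⟨T, hT, hFT⟩ := exists_sylowOf_ge hFrp (hFrF.trans hFM)
    have hr1 : PRankLE r 1 M := by
      by_contra h1
      exact hrp (Set.mem_singleton_iff.1 (hτ ▸ ⟨hr, hrσ,
        not_not.1 (fun h => hrσ (OddSigma.alpha_subset_sigma U.hG U.hU hM ⟨hr, h⟩)), h1⟩))
    have hrM : r ∣ Nat.card M := hd.trans (card_dvd_of_le hFM)
    have hTc : IsCyclic T := by
      have h2 := Isolated.isCyclic_of_rank_le_one (OddSigma.prime_ne_two U.hG hrM)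
        (OddSigma.prankLE_mono hT.2.1 hr1) _ (hT.1.to_subgroup ⊤)
      exact isCyclic_of_surjective (Subgroup.topEquiv (G := ↥T)).toMonoidHom (Subgroup.topEquiv (G := ↥T)).surjective
    obtain ⟨g, hgT, hgM⟩ := sylowOf_exists_out hM hrσ hrM hT
    refine absurd ?_ hgM
    rw [← OddMax.normalizer_eq U.hG hM hFr1 (hFrF.trans hFM) hMFr]
    exact normalizer_le_of_cyclic hFT hgT

end Nonabelian

/-- Nilpotent `σ(M)'`-subgroups of `M` are abelian. -/
theorem abelian_of_nilpotent {M : Subgroup G} (hM : IsCoatom M) {N : Subgroup G} (hNM : N ≤ M)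
    (hN : Group.IsNilpotent N) (hπ : ∀ p : ℕ, p.Prime → p ∣ Nat.card N → p ∉ sigma M) : IsMulCommutative N := by
  refine ⟨⟨fun x y => NilGroup.commute_of_sylow hN (fun r hr P x hx y hy => ?_) x y⟩⟩
  have := Fact.mk hr
  by_cases hd : r ∣ Nat.card N
  swap
  · have h1 : (P : Subgroup N) = ⊥ := card_eq_one.1 (by
      rw [P.card_eq_multiplicity, Nat.factorization_eq_zero_of_not_dvd hd, pow_zero])
    rw [h1, mem_bot] at hx hy
    rw [hx, hy]
    exact Commute.refl _
  have hrσ := hπ r hr hd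
  obtain ⟨T, hT, hPT⟩ := exists_sylowOf_ge (M := M) (P.2.map N.subtype) ((map_subtype_le _).trans hNM)
  have hTc : IsMulCommutative T := by
    by_cases h1 : PRankLE r 1 M
    · have h2 := Isolated.isCyclic_of_rank_le_one (OddSigma.prime_ne_two U.hG hd)
        (OddSigma.prankLE_mono hT.2.1 h1) _ (hT.1.to_subgroup ⊤)
      have : IsCyclic T :=
        isCyclic_of_surjective (Subgroup.topEquiv (G := ↥T)).toMonoidHom (Subgroup.topEquiv (G := ↥T)).surjective
      exact IsCyclic.isMulCommutative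
    · obtain ⟨B, hB, hBe, hBc⟩ := hT.exists_elementary h1
      exact (good_of_rank U hM hrσ (hB.trans hT.2.1) hBe hBc).sylow_commutative U hT
  have h := congrArg Subtype.val (hTc.is_comm.comm (⟨_, hPT (mem_map_of_mem N.subtype hx)⟩ : T)
    ⟨_, hPT (mem_map_of_mem N.subtype hy)⟩)
  exact Subtype.ext h

/-- Statement 1420 from the inputs of section 10. -/
theorem s1420 {M E : Subgroup G} (hM : IsCoatom M) (hE : IsComplIn E (sigmaCore M) M) :
    (∀ N : Subgroup G, N ≤ M → Group.IsNilpotent N → (∀ p : ℕ, p.Prime → p ∣ Nat.card N → p ∉ sigma M) →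
        IsMulCommutative N) ∧
      IsMulCommutative ↥⁅E, E⁆ ∧
      (∀ (p : ℕ) (P : Subgroup G), p ∈ sigma M → IsPGroup p P → P ≤ M → ¬ IsCyclic P →
        normalizer (P : Set G) ≤ M) ∧
      ∀ x ∈ M, x ≠ 1 → (∀ p : ℕ, p.Prime → p ∣ orderOf x → p ∈ tau2 M) → x ∈ sigmaHat M →
        centralizer ({x} : Set G) ≤ M ∧ ∀ L : Subgroup G, IsCoatom L → centralizer ({x} : Set G) ≤ L → L = M := by
  refine ⟨fun N h1 h2 h3 => abelian_of_nilpotent U hM h1 h2 h3,
    abelian_of_nilpotent U hM ((commutator_le_self E).trans hE.1) (compl_commutator_nilpotent (base U) hM hE)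
      (fun q hq hd => compl_pi (base U) hM hE hq (hd.trans (card_dvd_of_le (commutator_le_self E)))), ?_, ?_⟩
  · intro p P hp hP hPM hcyc
    have := Fact.mk hp.1
    have hp2 : p ≠ 2 := OddSigma.prime_ne_two U.hG hp.2.1
    have hP1 : P ≠ ⊥ := by
      rintro rfl
      exact hcyc inferInstance
    have h1 : ¬ PRankLE p 1 P := fun h => hcyc (by
      have h2 := Isolated.isCyclic_of_rank_le_one hp2 h _ (hP.to_subgroup ⊤)
      exact isCyclic_of_surjective (Subgroup.topEquiv (G := ↥P)).toMonoidHom (Subgroup.topEquiv (G := ↥P)).surjective)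
    obtain ⟨B, hB, hBe, hBc⟩ := OddSigma.exists_elementary h1
    obtain ⟨B', hB'B, hB'c⟩ : ∃ B' ≤ B, Nat.card B' = p ^ 2 := by
      obtain ⟨K, hK⟩ := Sylow.exists_subgroup_card_pow_prime p
        (show p ^ 2 ∣ Nat.card B by
          obtain ⟨j, hj⟩ := (Signalizer.isPGroup_of_elemAb hBe).exists_card_eq
          rw [hj] at hBc ⊢
          exact pow_dvd_pow p ((Nat.pow_le_pow_iff_right hp.1.one_lt).1 hBc))
      exact ⟨K.map B.subtype, map_subtype_le _, by rw [card_map_of_injective B.subtype_injective, hK]⟩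
    have hC := (s1416 U M hM B' ⟨(hB'B.trans hB).trans hPM, OddSigma.isElementary_mono hBe hB'B, hB'c⟩).1
    rw [OddSigma.normalizer_eq_sup U.hG U.hU U.hR2 hM hp hP hP1 hPM]
    exact sup_le inf_le_left ((centralizer_le (hB'B.trans hB)).trans hC)
  · intro x hxM hx1 hτ hhat
    obtain ⟨-, y, hy, hy1, hxy⟩ := hhat
    have := OddSigma.proper_solvable U.hG hM.1
    have hh := sigma_hall U hM
    have hxσ : ∀ q : ℕ, q.Prime → q ∣ orderOf x → q ∉ sigma M := fun q hq hd => (hτ q hq hd).2.1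
    obtain ⟨F, hF, hxF⟩ := OddMax.exists_compl_ge (M := M) (X := zpowers x) (OddMax.sigmaCore_le M)
      (OddMax.le_normalizer_sigmaCore M) (Nat.coprime_of_dvd fun q hq h1 h2 => hh.2.2 q hq (hh.2.1 q hq h1) h2)
      (zpowers_le.2 hxM) (Nat.coprime_of_dvd fun q hq h1 h2 => hxσ q hq (by rwa [Nat.card_zpowers] at h1)
        (OddMax.sigmaCore_pi M q hq h2))
    obtain ⟨q, hq, hqd⟩ := Nat.exists_prime_and_dvd (mt orderOf_eq_one_iff.1 hx1)
    have := Fact.mk hq
    obtain ⟨B, hgB, hBF⟩ := exists_good_in_compl U hM hF (hτ q hq hqd).2.1 (hτ q hq hqd).2.2.2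
    -- all parts of `x` centralise `B`
    have hxB : zpowers x ≤ zpowers x ⊓ centralizer (B : Set G) := by
      refine (eq_of_le_of_card_ge inf_le_left (Nat.le_of_dvd Nat.card_pos ?_)).ge
      rw [← Nat.factorization_le_iff_dvd Nat.card_pos.ne' Nat.card_pos.ne', Finsupp.le_def]
      intro r
      by_cases hd : r.Prime ∧ r ∣ Nat.card (zpowers x)
      swap
      · rcases not_and_or.1 hd with h | h
        · rw [Nat.factorization_eq_zero_of_not_prime _ h]
          exact Nat.zero_le _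
        · rw [Nat.factorization_eq_zero_of_not_dvd h]
          exact Nat.zero_le _
      obtain ⟨hr, hd⟩ := hd
      have := Fact.mk hr
      refine (hr.pow_dvd_iff_le_factorization Nat.card_pos.ne').1 ?_
      rw [Nat.card_zpowers] at hd ⊢
      set k := (orderOf x).factorization r
      set w := x ^ (orderOf x / r ^ k) with hw
      have hwo : orderOf w = r ^ k := orderOf_pow_orderOf_div (orderOf_pos x).ne' (Nat.ordProj_dvd _ _)
      have hwx : w ∈ zpowers x := npow_mem_zpowers x _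
      rw [← hwo, ← Nat.card_zpowers]
      refine card_dvd_of_le (zpowers_le.2 ⟨hwx, ?_⟩)
      by_cases hrq : r = q
      · subst hrq
        obtain ⟨T, hT, hwT⟩ := exists_sylowOf_ge (M := F) (p := r)
          (IsPGroup.of_card (n := k) (G := zpowers w) (by rw [Nat.card_zpowers, hwo])) (zpowers_le.2 (hxF hwx))
        have hTM := sylowOf_compl U hM hF hgB.notSigma hT
        have hBT : B ≤ T := by
          have h1 := hT.eq_of_le (hT.1.to_sup_of_normal_right' (Signalizer.isPGroup_of_elemAb hgB.elem)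
            (hT.2.1.trans (hgB.le_normalizer_compl U hM hF hBF).1)) (sup_le hT.2.1 hBF) le_sup_left
          exact h1 ▸ le_sup_right
        exact hgB.sylow_centralizes U hTM hBT (hwT (mem_zpowers w))
      · obtain ⟨C, hgC, hCF⟩ := exists_good_in_compl U hM hF (hτ r hr hd).2.1 (hτ r hr hd).2.2.2
        exact tau_two_commute U (Ne.symm hrq) hF hgB hBF hgC hCF (hxF hwx) hwo
    have hBx : B ≤ centralizer ({x} : Set G) := fun b hb =>
      mem_centralizer_singleton_iff.2 ((hxB (mem_zpowers x)).2 b hb)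
    have huniq : ∀ L : Subgroup G, IsCoatom L → centralizer ({x} : Set G) ≤ L → L = M := fun L hL hxL => by
      by_contra hne
      refine hy1 (mem_bot.1 ?_)
      rw [← hgB.inf_eq_bot U hL hne (hBx.trans hxL)]
      exact ⟨hy, hxL (mem_centralizer_singleton_iff.2 hxy.symm)⟩
    obtain ⟨L, hL, hxL⟩ := OddSigma.exists_coatom
      (OddTrans.centralizer_ne_top U.hG.2.1 U.hG.2.2.1 (Set.mem_singleton x) hx1)
    exact ⟨huniq L hL hxL ▸ hxL, huniq⟩

end Cfsg.Agent.OddTau2
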