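/-
Bender-Glauberman 12.8, 12.11: abelian Sylow subgroups at primes of `τ₂(M)`.
Main results (namespace `Cfsg.Agent.OddTau2`): `Good.abelian_sylow_le`, `Good.commutator_normalizer_le`,
`Good.normalizer_le_sylow`, `Good.exists_invariant_line`, `Good.exists_top_line`, `exists_invariant_cyclic`.
-/
import Cfsg.Agent.Lib.OddOrder.TauTwoPrimes
import Cfsg.Agent.Lib.OddOrder.Criterion
import Cfsg.Agent.Lib.OddOrder.UniqueSCN
import Cfsg.Agent.Lib.Coprime.Generation
import Cfsg.Agent.Lib.Transfer.Criteria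

set_option autoImplicit false
set_option linter.unusedSectionVars false
set_option linter.unusedVariables false

open Subgroup
open scoped Pointwise commutatorElement

universe u

namespace Cfsg.Agent.OddTau2

open Cfsg.Agent.Solvable

variable {G : Type u} [Group G] [Finite G]

/-- The preimage of a characteristic subgroup modulo a characteristic subgroup. -/
theorem pPrimePCore_char (p : ℕ) (X : Type*) [Group X] : (pPrimePCore p X).Characteristic := by
  refine characteristic_iff_comap_eq.2 fun e => ?_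
  set e' := QuotientGroup.congr (pPrimeCore p X) (pPrimeCore p X) e
    (characteristic_iff_map_eq.1 inferInstance e)
  ext x
  show QuotientGroup.mk' (pPrimeCore p X) (e x) ∈ pCore p _ ↔ QuotientGroup.mk' (pPrimeCore p X) x ∈ pCore p _
  conv_rhs => rw [← characteristic_iff_comap_eq.1 (Cores.pCore_characteristic p _) e']
  rfl

/-- An element of a group of odd order whose square lies in `H` lies in `H`. -/
theorem mem_of_sq_mem (hG : Odd (Nat.card G)) {H : Subgroup G} {x : G} (h : x ^ 2 ∈ H) : x ∈ H :=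
  Coprime.mem_of_pow_mem (Nat.coprime_two_right.2 (hG.of_dvd_nat (orderOf_dvd_natCard x))) h

/-- The fixed points on an abelian normal `p`-section of `A`, under `x` and its conjugates modulo `C(A)`. -/
theorem conj_eq_of_commutator {A : Subgroup G} {N : Subgroup G} (hN : N ≤ normalizer (A : Set G))
    (hc : ⁅N, N⁆ ≤ centralizer (A : Set G)) {x y : G} (hx : x ∈ N) (hy : y ∈ N) {a : G} (ha : a ∈ A) :
    x * (y * a * y⁻¹) * x⁻¹ = y * (x * a * x⁻¹) * y⁻¹ := by
  have hb : y * (x * a * x⁻¹) * y⁻¹ ∈ A :=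
    (mem_normalizer_iff.1 (hN hy) _).1 ((mem_normalizer_iff.1 (hN hx) a).1 ha)
  have h := hc (commutator_mem_commutator hx hy) _ hb
  calc x * (y * a * y⁻¹) * x⁻¹ = ⁅x, y⁆ * (y * (x * a * x⁻¹) * y⁻¹) * ⁅x, y⁆⁻¹ := by
        rw [commutatorElement_def]; group
    _ = y * (x * a * x⁻¹) * y⁻¹ := by rw [← h, mul_inv_cancel_right]

theorem mem_normalizer_zpowers {g a : G} :
    g ∈ normalizer (zpowers a : Set G) ↔ zpowers (g * a * g⁻¹) = zpowers a := by
  rw [mem_normalizer_iff_conj, Solvable.conj_eq_map, MonoidHom.map_zpowers]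
  rfl

section Lines

variable {p : ℕ} [hp : Fact p.Prime] {A : Subgroup G}

/-- An element of `N(A)` fixing three lines of `A` fixes all of them. -/
theorem scalar_of_three_lines (hA : IsElementaryAbelian p A) (hA2 : Nat.card A = p ^ 2) {e a b c : G}
    (ha : a ∈ A) (ha1 : a ≠ 1) (hb : b ∈ A) (hba : b ∉ zpowers a) (hc : c ∈ A) (hca : c ∉ zpowers a)
    (hcb : c ∉ zpowers b) (hea : e ∈ normalizer (zpowers a : Set G)) (heb : e ∈ normalizer (zpowers b : Set G))
    (hec : e ∈ normalizer (zpowers c : Set G)) {x : G} (hx : x ∈ A) : e ∈ normalizer (zpowers x : Set G) := by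
  have hsup := sup_line hA hA2 ha ha1 hb hba
  have hn : zpowers b ≤ normalizer (zpowers a : Set G) := zpowers_le.2
    (centralizer_le_normalizer_line a (mem_centralizer_singleton_iff.2 (OddSigma.elem_comm hA hb ha)))
  rw [← hsup, ← SetLike.mem_coe, coe_mul_of_right_le_normalizer_left _ _ hn] at hc
  obtain ⟨a', ha', b', hb', hce⟩ := hc
  simp only at hce
  subst hce
  have haA := zpowers_le.2 ha ha'
  have hbA := zpowers_le.2 hb hb'
  have hcA : a' * b' ∈ A := mul_mem haA hbA
  have ha'1 : a' ≠ 1 := by rintro rfl; exact hcb (by simpa using hb')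
  have hb'1 : b' ≠ 1 := by rintro rfl; exact hca (by simpa using ha')
  obtain ⟨u, hu⟩ : ∃ u : ℤ, (a' * b') ^ u = e * (a' * b') * e⁻¹ :=
    mem_zpowers_iff.1 ((mem_normalizer_iff.1 hec _).1 (mem_zpowers _))
  have hconj : e * (a' * b') * e⁻¹ = (e * a' * e⁻¹) * (e * b' * e⁻¹) := by group
  have hea' : e * a' * e⁻¹ ∈ zpowers a := (mem_normalizer_iff.1 hea a').1 ha'
  have heb' : e * b' * e⁻¹ ∈ zpowers b := (mem_normalizer_iff.1 heb b').1 hb'
  have hcomm : Commute a' b' := OddSigma.elem_comm hA haA hbA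
  rw [hcomm.mul_zpow, hconj] at hu
  have hdis : zpowers a ⊓ zpowers b = ⊥ := by
    refine (eq_bot_iff_forall _).2 fun z hz => ?_
    by_contra hz1
    have hz1' : z ∈ A := zpowers_le.2 ha hz.1
    have := line_eq (card_line hA ha ha1) hz.1 hz1
    have hb1 : b ≠ 1 := fun h => hba (h ▸ one_mem _)
    exact hba (this ▸ (line_eq (card_line hA hb hb1) hz.2 hz1).symm ▸ mem_zpowers b)
  have h1 : (e * a' * e⁻¹)⁻¹ * a' ^ u = (e * b' * e⁻¹) * (b' ^ u)⁻¹ := by
    rw [inv_mul_eq_iff_eq_mul, ← mul_assoc, ← hu, mul_inv_cancel_right]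
  have h2 : (e * a' * e⁻¹)⁻¹ * a' ^ u ∈ zpowers a ⊓ zpowers b :=
    mem_inf.2 ⟨mul_mem (inv_mem hea') (zpow_mem ha' u), h1 ▸ mul_mem heb' (inv_mem (zpow_mem hb' u))⟩
  have hau : e * a' * e⁻¹ = a' ^ u := by
    rw [hdis, mem_bot, inv_mul_eq_one] at h2
    exact h2
  have hbu : e * b' * e⁻¹ = b' ^ u := by
    rw [hau, inv_mul_cancel] at h1
    exact mul_inv_eq_one.1 h1.symm
  have hgen : zpowers a' ⊔ zpowers b' = A := by
    rw [line_eq (card_line hA ha ha1) ha' ha'1,
      line_eq (card_line hA hb fun h => hba (h ▸ one_mem _)) hb' hb'1, hsup]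
  have hn' : zpowers b' ≤ normalizer (zpowers a' : Set G) := zpowers_le.2
    (centralizer_le_normalizer_line a' (mem_centralizer_singleton_iff.2 hcomm.symm.eq))
  rw [← hgen, ← SetLike.mem_coe, coe_mul_of_right_le_normalizer_left _ _ hn'] at hx
  obtain ⟨-, ⟨i, rfl⟩, -, ⟨j, rfl⟩, rfl⟩ := hx
  simp only
  have hex : e * (a' ^ i * b' ^ j) * e⁻¹ = (a' ^ i * b' ^ j) ^ u := by
    rw [(hcomm.zpow_zpow i j).mul_zpow, ← zpow_mul, ← zpow_mul, mul_comm i u, mul_comm j u, zpow_mul, zpow_mul,
      ← hau, ← hbu, conj_zpow, conj_zpow]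
    group
  refine mem_normalizer_zpowers.2 (eq_of_le_of_card_ge (zpowers_le.2 (hex ▸ zpow_mem (mem_zpowers _) u)) ?_)
  rw [Nat.card_zpowers, Nat.card_zpowers]
  exact (MulEquiv.orderOf_eq (MulAut.conj e) _).ge

end Lines

variable (U : Upstream G) {p : ℕ} [hp : Fact p.Prime] {M E A : Subgroup G} (hg : Good p M A)
  (hE : IsComplIn E (sigmaCore M) M) (hAE : A ≤ E) {P : Sylow p G} (hAP : A ≤ P)
  (hab : IsMulCommutative (P : Subgroup G))
include U hg hAP hab

theorem Good.sylow_le_centralizer : (P : Subgroup G) ≤ centralizer (A : Set G) := fun x hx a ha =>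
  congrArg Subtype.val (hab.is_comm.comm (⟨a, hAP ha⟩ : (P : Subgroup G)) ⟨x, hx⟩)

theorem Good.mem_of_pow_sylow {x : G} (hx : x ∈ (P : Subgroup G)) (h : x ^ p = 1) : x ∈ A :=
  ((hg.max U).omega (hg.sylow_le_centralizer U hAP hab hx)).1 h

/-- `N(A)' ≤ C(A)`. -/
theorem Good.commutator_normalizer_le :
    ⁅normalizer (A : Set G), normalizer (A : Set G)⁆ ≤ centralizer (A : Set G) := by
  set N := normalizer (A : Set G) with hN
  have hNt : N ≠ ⊤ := OddSigma.normalizer_ne_top U.hG (hg.max U).ne_bot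
    fun h => hg.coatom.1 (top_le_iff.1 (h.ge.trans hg.le))
  have := OddSigma.proper_solvable U.hG hNt
  have hPN : (P : Subgroup G) ≤ N := (hg.sylow_le_centralizer U hAP hab).trans (centralizer_le_normalizer _)
  have hrank : PRankLE p 2 N := by
    refine OddSigma.prankLE_of_sylow (P.subtype hPN) ?_
    by_contra h
    obtain ⟨B, hB, hBe, hBc⟩ := OddSigma.exists_elementary h
    rw [Sylow.coe_subtype, subgroupOf_map_subtype, inf_of_le_left hPN] at hB
    have h1 := card_dvd_of_le (fun b hb => hg.mem_of_pow_sylow U hAP hab (hB hb) (hBe.2 b hb) : B ≤ A)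
    rw [hg.card] at h1
    have := (Nat.le_of_dvd (pow_pos hp.out.pos 2) h1).trans_lt (Nat.pow_lt_pow_right hp.out.one_lt (by omega : 2 < 2 + 1))
    omega
  have hpN : p ∣ Nat.card N := (dvd_card hg.card).trans (card_dvd_of_le le_normalizer)
  obtain ⟨-, -, -, -, hcomm, hidx⟩ :=
    Cfsg.Agent.S1450.result (OddSigma.odd_card U.hG N) p hpN hrank
  set W := (pPrimeCore p ↥N).map N.subtype with hW
  have hWA : W ≤ centralizer (A : Set G) := by
    refine commutator_eq_bot_iff_le_centralizer.1 (le_bot_iff.1 (le_trans (b := W ⊓ A) ?_ ?_))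
    · exact le_inf (le_normalizer_iff_commutator_le_left.1
        (le_normalizer.trans (OddMax.le_normalizer_map_of_normal _)))
        (le_normalizer_iff_commutator_le_right.1 (map_subtype_le _))
    · refine (Solvable.inf_eq_bot_of_coprime ?_).le
      rw [hg.card, hW, card_map_of_injective N.subtype_injective]
      exact (Cores.coprime_card_pPrimeCore p).pow_right 2
  have hle : (pPrimePCore p ↥N).map N.subtype ≤ centralizer (A : Set G) := by
    rw [OddSigma.pPrimePCore_eq_sup hidx (P.subtype hPN), Subgroup.map_sup]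
    refine sup_le hWA ?_
    rw [Sylow.coe_subtype, subgroupOf_map_subtype, inf_of_le_left hPN]
    exact hg.sylow_le_centralizer U hAP hab
  refine le_trans ?_ hle
  rw [← map_subtype_commutator]
  exact map_mono hcomm

include hE hAE

theorem Good.centralizer_le_compl : centralizer (A : Set G) ≤ E :=
  (le_inf (hg.cent_le U) (centralizer_le_normalizer _)).trans (hg.inf_normalizer_eq U hg.coatom hE hAE).le

theorem Good.abelian_sylow_le : (P : Subgroup G) ≤ E :=
  (hg.sylow_le_centralizer U hAP hab).trans (hg.centralizer_le_compl U hE hAE hAP hab)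

theorem Good.abelian_sylowOf : SylowOf p E (P : Subgroup G) :=
  ⟨P.2, hg.abelian_sylow_le U hE hAE hAP hab,
    fun h => P.not_dvd_index (h.trans (relIndex_dvd_index_of_le (hg.abelian_sylow_le U hE hAE hAP hab)))⟩

/-- The Sylow subgroup centralises `O_{p'}(C(A))`. -/
theorem Good.sylow_centralizes_core :
    (P : Subgroup G) ≤ centralizer
      (((pPrimeCore p ↥(centralizer (A : Set G))).map (centralizer (A : Set G)).subtype : Subgroup G) : Set G) := by
  set C := centralizer (A : Set G) with hC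
  set V := (pPrimeCore p ↥C).map C.subtype with hV
  set N := normalizer (A : Set G) with hN
  have hM := hg.coatom
  have hCE : C ≤ E := hg.centralizer_le_compl U hE hAE hAP hab
  have hPC : (P : Subgroup G) ≤ C := hg.sylow_le_centralizer U hAP hab
  have hVC : V ≤ C := map_subtype_le _
  have hNV : N ≤ normalizer (V : Set G) :=
    (Signalizer.le_normalizer_centralizer le_rfl).trans (Cores.normalizer_le_normalizer_map _)
  have hPN : (P : Subgroup G) ≤ N := hPC.trans (centralizer_le_normalizer _)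
  have hpV : (Nat.card V).Coprime p := by
    rw [hV, card_map_of_injective C.subtype_injective]
    exact Cores.coprime_card_pPrimeCore p
  have hVs : Group.IsSolvable V := Coprime.isSolvable_of_le (hVC.trans hCE) (compl_solvable (base U) hM hE)
  refine le_centralizer_iff.1 ?_
  suffices h : V ≤ V ⊓ centralizer ((P : Subgroup G) : Set G) from h.trans inf_le_right
  refine (eq_of_le_of_card_ge inf_le_left (Nat.le_of_dvd Nat.card_pos ?_)).ge
  rw [← Nat.factorization_le_iff_dvd Nat.card_pos.ne' Nat.card_pos.ne', Finsupp.le_def]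
  intro r
  by_cases hd : r.Prime ∧ r ∣ Nat.card V
  swap
  · rcases not_and_or.1 hd with h | h
    · rw [Nat.factorization_eq_zero_of_not_prime _ h]
      exact Nat.zero_le _
    · rw [Nat.factorization_eq_zero_of_not_dvd h]
      exact Nat.zero_le _
  obtain ⟨hr, hd⟩ := hd
  have := Fact.mk hr
  have hrp : p ≠ r := fun h => hp.out.one_lt.ne' (hpV.symm.eq_one_of_dvd (h ▸ hd))
  have hrE : r ∣ Nat.card E := hd.trans (card_dvd_of_le (hVC.trans hCE))
  have hrσ : r ∉ sigma M := compl_pi (base U) hM hE hr hrE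
  refine (hr.pow_dvd_iff_le_factorization Nat.card_pos.ne').1 ?_
  suffices h : ∃ R : Sylow r V, (R : Subgroup V).map V.subtype ≤ centralizer ((P : Subgroup G) : Set G) by
    obtain ⟨R, hR⟩ := h
    have h1 := card_dvd_of_le (le_inf (map_subtype_le (R : Subgroup V)) hR)
    rwa [card_map_of_injective V.subtype_injective, R.card_eq_multiplicity] at h1
  by_cases hr1 : PRankLE r 1 M
  swap
  · obtain ⟨B, hgB, hBE⟩ := exists_good_in_compl U hM hE hrσ hr1
    have hcopP : (Nat.card (P : Subgroup G)).Coprime (Nat.card V) := by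
      obtain ⟨j, hj⟩ := P.isPGroup'.exists_card_eq
      rw [hj]
      exact hpV.symm.pow_left j
    obtain ⟨R, hPR⟩ := Coprime.exists_invariant_sylow (hPN.trans hNV) hcopP (Or.inr hVs) r
    refine ⟨R, le_centralizer_iff.1 ?_⟩
    set R' := (R : Subgroup V).map V.subtype with hR'
    have hR'E : R' ≤ E := (map_subtype_le _).trans (hVC.trans hCE)
    have : IsMulCommutative R' := abelian_of_nilpotent U hM (hR'E.trans hE.1)
      (R.2.map V.subtype).isNilpotent (fun q hq hq' => compl_pi (base U) hM hE hq (hq'.trans (card_dvd_of_le hR'E)))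
    refine Coprime.abelian_trivial_of_prime_order hPR
      (hcopP.coprime_dvd_right (card_dvd_of_le (map_subtype_le _))) fun v hv hvo x hx => ?_
    have hvr : orderOf v = r := by
      refine Set.mem_singleton_iff.1 (OddTrans.pi_of_isPGroup (R.2.map V.subtype) _ hvo ?_)
      exact Subgroup.orderOf_dvd_natCard _ hv
    have hvB : v ∈ B := (hgB.le_normalizer_compl U hM hE hBE).2 v (hR'E hv) (hvr ▸ pow_orderOf_eq_one v)
    obtain ⟨n, hn⟩ := IsPGroup.iff_orderOf.1 P.isPGroup' ⟨x, hx⟩
    rw [orderOf_mk] at hn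
    exact (tau_two_commute U hrp.symm hE hgB hBE hg hAE
      (hg.abelian_sylow_le U hE hAE hAP hab hx) hn v hvB).symm
  -- rank one
  obtain ⟨R⟩ : Nonempty (Sylow r V) := inferInstance
  set R' := (R : Subgroup V).map V.subtype with hR'
  have hR'c : IsCyclic R' := by
    have h2 := Isolated.isCyclic_of_rank_le_one (OddSigma.prime_ne_two U.hG hrE)
      (OddSigma.prankLE_mono ((map_subtype_le _).trans (hVC.trans (hCE.trans hE.1))) hr1) _
      ((R.2.map V.subtype).to_subgroup ⊤)
    exact isCyclic_of_surjective (Subgroup.topEquiv (G := ↥R')).toMonoidHom (Subgroup.topEquiv (G := ↥R')).surjective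
  set H := N ⊓ normalizer (R' : Set G) with hH
  have hHN : H ≤ N := inf_le_left
  set X := V ⊔ (H ⊓ centralizer (R' : Set G)) with hX
  have hsup : N ≤ V ⊔ H := by
    intro n hn
    have hVn : V ≤ normalizer (V : Set G) := le_normalizer
    set RV : Sylow r V := R with hRV
    obtain ⟨R₂, hR₂⟩ : ∃ R₂ : Sylow r V, (R₂ : Subgroup V).map V.subtype = MulAut.conj n • R' := by
      have hc : MulAut.conj n • R' ≤ V :=
        (conj_mono n (map_subtype_le _)).trans (mem_normalizer_iff_conj.1 (hNV hn)).le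
      obtain ⟨R₂, hR₂⟩ := (((Solvable.conj_eq_map n R').symm ▸
        (R.2.map V.subtype).map _).comap_of_injective V.subtype V.subtype_injective).exists_le_sylow
      refine ⟨R₂, (eq_of_le_of_card_ge (fun x hx => mem_map.2 ⟨⟨x, hc hx⟩, hR₂ (mem_comap.2 hx), rfl⟩) ?_).symm⟩
      rw [card_map_of_injective V.subtype_injective, card_conj, hR', card_map_of_injective V.subtype_injective,
        R.card_eq_multiplicity, R₂.card_eq_multiplicity]
    obtain ⟨v, hv⟩ := MulAction.exists_smul_eq V R R₂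
    have hvn : (v : G)⁻¹ * n ∈ H := by
      refine mem_inf.2 ⟨mul_mem (inv_mem (centralizer_le_normalizer _ (hVC v.2))) hn, mem_normalizer_iff_conj.2 ?_⟩
      rw [map_mul, mul_smul, ← hR₂, ← hv, map_inv, inv_smul_eq_iff, Sylow.coe_subgroup_smul]
      simp only [Solvable.conj_eq_map, hR', map_map]
      congr 1
    exact (by group : n = (v : G) * ((v : G)⁻¹ * n)) ▸ mul_mem (mem_sup_left v.2) (mem_sup_right hvn)
  have hXn : N ≤ normalizer (X : Set G) := by
    refine hsup.trans (sup_le ?_ (Signalizer.le_normalizer_sup (hHN.trans hNV)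
      (Signalizer.le_normalizer_inf le_normalizer (Signalizer.le_normalizer_centralizer inf_le_right))))
    exact le_sup_left.trans le_normalizer
  have hHH : ⁅H, H⁆ ≤ H ⊓ centralizer (R' : Set G) :=
    le_inf (commutator_le_self H) (OddUniq.commutator_le_centralizer_cyclic hR'c inf_le_right)
  have hNN : ⁅N, N⁆ ≤ X := by
    have hs : N ≤ X ⊔ H := hsup.trans (sup_le (le_sup_left.trans le_sup_left) le_sup_right)
    have hHX : H ≤ normalizer (X : Set G) := hHN.trans hXn
    rw [commutator_le]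
    intro a ha b hb
    have ha' := hs ha
    have hb' := hs hb
    rw [← SetLike.mem_coe, coe_mul_of_right_le_normalizer_left _ _ hHX] at ha' hb'
    obtain ⟨x₁, hx₁, h₁, hh₁, rfl⟩ := ha'
    obtain ⟨x₂, hx₂, h₂, hh₂, rfl⟩ := hb'
    simp only
    have hXN : X ≤ N := sup_le (hVC.trans (centralizer_le_normalizer _)) (inf_le_left.trans hHN)
    rw [commutatorElement_def, show x₁ * h₁ * (x₂ * h₂) * (x₁ * h₁)⁻¹ * (x₂ * h₂)⁻¹ =
      x₁ * (h₁ * x₂ * h₁⁻¹) * ((h₁ * h₂ * h₁⁻¹) * x₁⁻¹ * (h₁ * h₂ * h₁⁻¹)⁻¹) * (h₁ * h₂ * h₁⁻¹ * h₂⁻¹) * x₂⁻¹ by group]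
    refine mul_mem (mul_mem (mul_mem (mul_mem hx₁ ((mem_normalizer_iff.1 (hHX hh₁) x₂).1 hx₂)) ?_) ?_) (inv_mem hx₂)
    · exact (mem_normalizer_iff.1 (hHX (mul_mem (mul_mem hh₁ hh₂) (inv_mem hh₁))) _).1 (inv_mem hx₁)
    · exact le_sup_right (a := V) (hHH (commutator_mem_commutator hh₁ hh₂))
  -- a Sylow `p`-subgroup of `H ⊓ C(R')`
  have hPX : (P : Subgroup G) ≤ X := (sylow_le_commutator U P).trans ((commutator_mono ?_ ?_).trans hNN)
  swap
  · exact fun g hg' => Signalizer.mem_normalizer_of_conj_mem fun a ha =>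
      hg.mem_of_pow_sylow U hAP hab ((mem_normalizer_iff.1 hg' a).1 (hAP ha)) (pow_conj_eq_one (hg.elem.2 a ha))
  swap
  · exact fun g hg' => Signalizer.mem_normalizer_of_conj_mem fun a ha =>
      hg.mem_of_pow_sylow U hAP hab ((mem_normalizer_iff.1 hg' a).1 (hAP ha)) (pow_conj_eq_one (hg.elem.2 a ha))
  set D := H ⊓ centralizer (R' : Set G) with hD
  obtain ⟨T⟩ : Nonempty (Sylow p D) := inferInstance
  set T' := (T : Subgroup D).map D.subtype with hT'
  have hcard : Nat.card (P : Subgroup G) ∣ Nat.card T' := by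
    have h1 : Nat.card X ∣ Nat.card V * Nat.card D := by
      have hn : (V.subgroupOf X).Normal := normal_subgroupOf_of_le_normalizer
        (sup_le le_normalizer (inf_le_left.trans (hHN.trans hNV)))
      have htop : D.subgroupOf X ⊔ V.subgroupOf X = ⊤ := by
        rw [← subgroupOf_sup le_sup_right le_sup_left, sup_comm, subgroupOf_self]
      have h := card_sup_dvd (D.subgroupOf X) (V.subgroupOf X)
      rw [htop, Subgroup.card_top, Cores.card_subgroupOf le_sup_left, Cores.card_subgroupOf le_sup_right] at h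
      rwa [mul_comm]
    obtain ⟨j, hj⟩ := P.isPGroup'.exists_card_eq
    have h2 : p ^ j ∣ Nat.card D := (hpV.symm.pow_left j).dvd_of_dvd_mul_left ((hj ▸ card_dvd_of_le hPX).trans h1)
    rw [hj, hT', card_map_of_injective D.subtype_injective, T.card_eq_multiplicity]
    exact pow_dvd_pow p ((hp.out.pow_dvd_iff_le_factorization Nat.card_pos.ne').1 h2)
  obtain ⟨P₂, hP₂⟩ := (T.2.map D.subtype).exists_le_sylow
  have hT'P₂ : T' = P₂ := eq_of_le_of_card_ge hP₂ (by
    rw [P₂.card_eq_multiplicity, ← P.card_eq_multiplicity]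
    exact Nat.le_of_dvd Nat.card_pos hcard)
  have hP₂N : (P₂ : Subgroup G) ≤ N := hT'P₂ ▸ (map_subtype_le _).trans (inf_le_left.trans hHN)
  obtain ⟨n, hn⟩ := MulAction.exists_smul_eq N (P₂.subtype hP₂N) (P.subtype hPN)
  have hnP : MulAut.conj (n : G) • (P₂ : Subgroup G) = (P : Subgroup G) := by
    have h := congrArg (fun S : Sylow p N => (S : Subgroup N).map N.subtype) hn
    simp only [Sylow.coe_subtype, subgroupOf_map_subtype, inf_of_le_left hPN] at h
    rw [← h, Sylow.coe_subgroup_smul, Sylow.coe_subtype, Solvable.conj_eq_map, Solvable.conj_eq_map, map_map]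
    conv_lhs => rw [← inf_of_le_left hP₂N, ← subgroupOf_map_subtype, map_map]
    congr 1
  have hVc : MulAut.conj (n : G) • R' ≤ V :=
    (conj_mono _ (map_subtype_le _)).trans (mem_normalizer_iff_conj.1 (hNV n.2)).le
  obtain ⟨R₂, hR₂⟩ := (((Solvable.conj_eq_map (n : G) R').symm ▸
    (R.2.map V.subtype).map _).comap_of_injective V.subtype V.subtype_injective).exists_le_sylow
  refine ⟨R₂, ?_⟩
  have heq : (R₂ : Subgroup V).map V.subtype = MulAut.conj (n : G) • R' := by
    refine (eq_of_le_of_card_ge (fun x hx => mem_map.2 ⟨⟨x, hVc hx⟩, hR₂ (mem_comap.2 hx), rfl⟩) ?_).symm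
    rw [card_map_of_injective V.subtype_injective, card_conj, hR', card_map_of_injective V.subtype_injective,
      R.card_eq_multiplicity, R₂.card_eq_multiplicity]
  rw [heq, ← hnP, Solvable.conj_eq_map, Solvable.conj_eq_map]
  refine (map_mono ?_).trans (map_centralizer_le_centralizer_image _ _)
  exact le_centralizer_iff.1 (hT'P₂ ▸ (map_subtype_le _).trans inf_le_right)

/-- `P` is normal in `N(A)`. -/
theorem Good.normalizer_le_sylow : normalizer (A : Set G) ≤ normalizer ((P : Subgroup G) : Set G) := by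
  set C := centralizer (A : Set G) with hC
  set V := (pPrimeCore p ↥C).map C.subtype with hV
  have hM := hg.coatom
  have hCE : C ≤ E := hg.centralizer_le_compl U hE hAE hAP hab
  have hPC : (P : Subgroup G) ≤ C := hg.sylow_le_centralizer U hAP hab
  have : Group.IsSolvable C := Coprime.isSolvable_of_le hCE (compl_solvable (base U) hM hE)
  have hpC : p ∣ Nat.card C := (dvd_card hg.card).trans (card_dvd_of_le (hAP.trans hPC))
  have h1 : ((P.subtype hPC : Sylow p C) : Subgroup C) ≤ pPrimePCore p C := by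
    refine OddUniq.le_pPrimePCore_of_abelian_normal (OddSigma.odd_card U.hG C) (OddSigma.prime_ne_two U.hG hpC)
      (P.subtype hPC) le_rfl ?_ le_normalizer
    refine ⟨⟨fun x y => Subtype.ext (Subtype.ext ?_)⟩⟩
    have h := congrArg (fun z : (P : Subgroup G) => (z : G))
      (hab.is_comm.comm (⟨((x : C) : G), x.2⟩ : (P : Subgroup G)) ⟨((y : C) : G), y.2⟩)
    exact h
  have h2 : pPrimePCore p C ≤ pPrimeCore p C ⊔ ((P.subtype hPC : Sylow p C) : Subgroup C) := by
    intro x hx
    have h3 := Cores.pCore_le_sylow ((P.subtype hPC).mapSurjective (QuotientGroup.mk'_surjective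
      (pPrimeCore p C))) hx
    rw [Sylow.coe_mapSurjective, ← Subgroup.mem_comap, comap_map_eq, QuotientGroup.ker_mk', sup_comm] at h3
    exact h3
  have hsupP : pPrimePCore p C = pPrimeCore p C ⊔ ((P.subtype hPC : Sylow p C) : Subgroup C) := by
    refine le_antisymm h2 (sup_le ?_ h1)
    exact (QuotientGroup.ker_mk' (pPrimeCore p C)).ge.trans (MonoidHom.ker_le_comap _ _)
  set O := (pPrimePCore p C).map C.subtype with hO
  have hOeq : O = V ⊔ (P : Subgroup G) := by
    rw [hO, hsupP, Subgroup.map_sup, Sylow.coe_subtype, subgroupOf_map_subtype, inf_of_le_left hPC]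
  have hOP : O ≤ normalizer ((P : Subgroup G) : Set G) := by
    rw [hOeq]
    refine sup_le (le_trans ?_ (centralizer_le_normalizer _)) le_normalizer
    exact le_centralizer_iff.1 (hg.sylow_centralizes_core U hE hAE hAP hab)
  intro g hg'
  have hNO : normalizer (A : Set G) ≤ normalizer (O : Set G) := by
    rw [hOeq]
    refine fun x hx => ?_
    have hxC : x ∈ normalizer (C : Set G) := Signalizer.le_normalizer_centralizer le_rfl hx
    have hxO : x ∈ normalizer (O : Set G) := by
      have : (pPrimePCore p C).Characteristic := pPrimePCore_char p C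
      exact Cores.normalizer_le_normalizer_map _ hxC
    rwa [hOeq] at hxO
  refine mem_normalizer_iff_conj.2 (eq_of_le_of_card_ge ?_ (card_conj g _).ge)
  have h4 : MulAut.conj g • (P : Subgroup G) ≤ O := by
    refine (conj_mono g (hOeq ▸ le_sup_right)).trans (mem_normalizer_iff_conj.1 (hNO hg')).le
  have h5 : IsPGroup p ↥(MulAut.conj g • (P : Subgroup G)) := by
    rw [Solvable.conj_eq_map]
    exact P.2.map _
  exact le_sup_left.trans (P.is_maximal' (h5.to_sup_of_normal_right' P.2 (h4.trans hOP)) le_sup_right).le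

/-- A line normalised by `N(A)` has no fixed points on `M_σ`. -/
theorem Good.fixed_of_normal_line {a : G} (ha : a ∈ A) (ha1 : a ≠ 1)
    (hn : normalizer (A : Set G) ≤ normalizer (zpowers a : Set G)) :
    sigmaCore M ⊓ centralizer ({a} : Set G) = ⊥ := by
  by_contra hne
  have hM := hg.coatom
  obtain ⟨g, hgA, hgM⟩ := hg.exists_out U
  obtain ⟨h1, h2⟩ := (s1418 U hM hE hg hAE).2.2 (zpowers a) (zpowers_le.2 ha) (card_line hg.elem ha ha1)
    (by rwa [centralizer_line])
  refine hgM ?_
  have hgC : g ∈ normalizer (centralizer (zpowers a : Set G) : Set G) :=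
    Signalizer.le_normalizer_centralizer le_rfl (hn hgA)
  have h3 : centralizer (zpowers a : Set G) ≤ MulAut.conj g • M :=
    (mem_normalizer_iff_conj.1 hgC).ge.trans (conj_mono g h1)
  have h4 := h2 _ (OddUniq.coatom_conj hM g) h3
  rw [← OddSigma.normalizer_coatom U.hG hM]
  exact mem_normalizer_iff_conj.2 h4

omit hAP hab in
/-- An element of `τ₁ ∪ τ₃` order fixes no point of `M_σ`, in the Frobenius situation. -/
theorem Good.commute_kernel
    (hfix : ∀ (r : ℕ) (g : G), r.Prime → g ∈ E → orderOf g = r → r ∉ tau2 M →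
      sigmaCore M ⊓ centralizer ({g} : Set G) = ⊥)
    {r : ℕ} [hr : Fact r.Prime] (hrτ : r ∉ tau2 M) (hrp : r ≠ p) {g : G} (hgE : g ∈ E) (hgo : orderOf g = r) :
    A ⊓ centralizer ({g} : Set G) ≠ ⊥ := by
  intro hA0
  have hM := hg.coatom
  have hgA : g ∈ normalizer (A : Set G) := (hg.le_normalizer_compl U hM hE hAE).1 hgE
  have hgK : g ∈ normalizer (sigmaCore M : Set G) := OddMax.le_normalizer_sigmaCore M (hE.1 hgE)
  have hK := hfix r g hr.out hgE hgo hrτ
  set X := sigmaCore M ⊔ A with hX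
  have hXM : X ≤ M := sup_le (OddMax.sigmaCore_le M) hg.le
  have hXs : Group.IsSolvable X := Coprime.isSolvable_of_le hXM (OddSigma.proper_solvable U.hG hM.1)
  have hgX : g ∈ normalizer (X : Set G) :=
    Signalizer.le_normalizer_sup (zpowers_le.2 hgK) (zpowers_le.2 hgA) (mem_zpowers g)
  have hdis : sigmaCore M ⊓ A = ⊥ :=
    Solvable.inf_eq_bot_of_coprime (coprime_sigmaCore U (hg.max U) hg.notSigma).symm
  have hfX : X ⊓ centralizer ({g} : Set G) = ⊥ := by
    refine (eq_bot_iff_forall _).2 fun x hx => ?_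
    obtain ⟨hxX, hxg⟩ := hx
    replace hxX : x ∈ sigmaCore M ⊔ A := hxX
    rw [← SetLike.mem_coe, coe_mul_of_right_le_normalizer_left _ _ hg.normalizes_core] at hxX
    obtain ⟨k, hk, a, ha, rfl⟩ := hxX
    simp only at hxg ⊢
    replace hk : k ∈ sigmaCore M := hk
    replace ha : a ∈ A := ha
    replace hxg : k * a * g = g * (k * a) := mem_centralizer_singleton_iff.1 hxg
    have hk' := (mem_normalizer_iff.1 hgK k).1 hk
    have ha' := (mem_normalizer_iff.1 hgA a).1 ha
    have h1 : (g * k * g⁻¹) * (g * a * g⁻¹) = k * a := by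
      rw [show g * k * g⁻¹ * (g * a * g⁻¹) = g * (k * a) * g⁻¹ by group, ← hxg, mul_inv_cancel_right]
    have h2 : k⁻¹ * (g * k * g⁻¹) ∈ sigmaCore M ⊓ A := by
      refine mem_inf.2 ⟨mul_mem (inv_mem hk) hk', ?_⟩
      rw [show k⁻¹ * (g * k * g⁻¹) = a * (g * a * g⁻¹)⁻¹ by
        rw [inv_mul_eq_iff_eq_mul, ← mul_assoc, ← h1, mul_inv_cancel_right]]
      exact mul_mem ha (inv_mem ha')
    rw [hdis, mem_bot, inv_mul_eq_one] at h2
    rw [← h2, mul_left_cancel_iff] at h1
    have hk1 : k ∈ sigmaCore M ⊓ centralizer ({g} : Set G) :=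
      ⟨hk, mem_centralizer_singleton_iff.2 (mul_inv_eq_iff_eq_mul.1 h2.symm).symm⟩
    have ha1 : a ∈ A ⊓ centralizer ({g} : Set G) :=
      ⟨ha, mem_centralizer_singleton_iff.2 (mul_inv_eq_iff_eq_mul.1 h1).symm⟩
    rw [hK, mem_bot] at hk1
    rw [hA0, mem_bot] at ha1
    rw [hk1, ha1, mul_one]
  have hXn := nilpotent_of_fpf hgo hXs hgX hfX
  have hcomm : sigmaCore M ≤ centralizer (A : Set G) := fun k hk a ha => by
    have hcop : (orderOf (⟨a, mem_sup_right ha⟩ : X)).Coprime (orderOf (⟨k, mem_sup_left hk⟩ : X)) := by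
      rw [orderOf_mk, orderOf_mk]
      exact ((coprime_sigmaCore U (hg.max U) hg.notSigma).coprime_dvd_left
        (Subgroup.orderOf_dvd_natCard _ ha)).coprime_dvd_right (Subgroup.orderOf_dvd_natCard _ hk)
    exact congrArg Subtype.val (NilGroup.commute_of_coprime hXn hcop).eq
  exact OddSigma.sigmaCore_ne_bot U.hG U.hU U.hR2 U.hF hM
    (le_bot_iff.1 ((le_inf le_rfl hcomm).trans (hg.fixed U).le))

/-- There is an `E`-invariant line of `A` without fixed points on `M_σ`. -/
theorem Good.exists_invariant_line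
    (hfix : ∀ (r : ℕ) (g : G), r.Prime → g ∈ E → orderOf g = r → r ∉ tau2 M →
      sigmaCore M ⊓ centralizer ({g} : Set G) = ⊥) :
    ∃ a ∈ A, a ≠ 1 ∧ E ≤ normalizer (zpowers a : Set G) ∧ sigmaCore M ⊓ centralizer ({a} : Set G) = ⊥ := by
  have hM := hg.coatom
  have hEA := (hg.le_normalizer_compl U hM hE hAE).1
  have hNc := hg.commutator_normalizer_le U hAP hab
  by_cases hscal : ∀ (r : ℕ) (e : G), r.Prime → (∃ k, orderOf e = r ^ k) → e ∈ E →
      ∀ x ∈ A, e ∈ normalizer (zpowers x : Set G)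
  · obtain ⟨a, ha, -, -, ha1, -, -, hfa, -⟩ := hg.two_free U
    refine ⟨a, ha, ha1, fun e he => Transfer.mem_of_forall_primePow fun r hr y hy hyo => ?_, hfa⟩
    exact hscal r y hr hyo (zpowers_le.2 he hy) a ha
  push Not at hscal
  obtain ⟨r, e, hr, ⟨k, hk⟩, heE, x₀, hx₀, hx₀e⟩ := hscal
  have := Fact.mk hr
  by_cases hline : ∃ a ∈ A, a ≠ 1 ∧ e ∈ normalizer (zpowers a : Set G)
  · obtain ⟨a, ha, ha1, hea⟩ := hline
    have hNl : normalizer (A : Set G) ≤ normalizer (zpowers a : Set G) := by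
      intro g hgA
      by_contra hga
      have hmove : ∀ {y : G}, y ∈ normalizer (A : Set G) → e ∈ normalizer (zpowers (y * a * y⁻¹) : Set G) := by
        intro y hy
        rw [mem_normalizer_zpowers, conj_eq_of_commutator le_rfl hNc (hEA heE) hy ha]
        have h := mem_normalizer_zpowers.1 hea
        have h' := congrArg (Subgroup.map (MulAut.conj y).toMonoidHom) h
        rwa [MonoidHom.map_zpowers, MonoidHom.map_zpowers] at h'
      have hA' : ∀ {y : G}, y ∈ normalizer (A : Set G) → y * a * y⁻¹ ∈ A :=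
        fun hy => (mem_normalizer_iff.1 hy a).1 ha
      have hne : ∀ {y : G}, y ∈ normalizer (A : Set G) → y * a * y⁻¹ ≠ 1 := fun _ h =>
        ha1 (by simpa using h)
      have hg2 : g ^ 2 ∈ normalizer (A : Set G) := pow_mem hgA 2
      have hga' : g * a * g⁻¹ ∉ zpowers a := fun h => hga (mem_normalizer_zpowers.2
        (line_eq (card_line hg.elem ha ha1) h (hne hgA)))
      have hg2a : g ^ 2 * a * (g ^ 2)⁻¹ ∉ zpowers a := fun h => hga (mem_of_sq_mem U.hG.1 (mem_normalizer_zpowers.2
        (line_eq (card_line hg.elem ha ha1) h (hne hg2))))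
      have hg2g : g ^ 2 * a * (g ^ 2)⁻¹ ∉ zpowers (g * a * g⁻¹) := fun h => by
        have h2 : g * (g * a * g⁻¹) * g⁻¹ ∈ (zpowers a).map (MulAut.conj g).toMonoidHom := by
          rw [MonoidHom.map_zpowers]
          simpa [pow_two, mul_assoc] using h
        obtain ⟨w, hw, hwe⟩ := h2
        exact hga' ((MulAut.conj g).injective hwe ▸ hw)
      refine hx₀e (scalar_of_three_lines hg.elem hg.card ha ha1 (hA' hgA) hga' (hA' hg2) hg2a hg2g hea
        (hmove hgA) (hmove hg2) hx₀)
    exact ⟨a, ha, ha1, hEA.trans hNl, hg.fixed_of_normal_line U hE hAE hAP hab ha ha1 hNl⟩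
  -- an element acting irreducibly
  exfalso
  push Not at hline
  have heA : e ∈ normalizer (A : Set G) := hEA heE
  have hirr : ∀ y ∈ normalizer (A : Set G), ∀ a ∈ A, a ≠ 1 → y * a * y⁻¹ = a → y ∈ centralizer (A : Set G) := by
    intro y hy a ha ha1 hya
    have he' : e * a * e⁻¹ ∈ A := (mem_normalizer_iff.1 heA a).1 ha
    have he1 : e * a * e⁻¹ ≠ 1 := fun h => ha1 (by simpa using h)
    have hnl : e * a * e⁻¹ ∉ zpowers a := fun h => hline a ha ha1 (mem_normalizer_zpowers.2
      (line_eq (card_line hg.elem ha ha1) h he1))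
    rw [centralizer_eq hg.elem hg.card ha ha1 he' hnl]
    refine ⟨mem_centralizer_singleton_iff.2 (mul_inv_eq_iff_eq_mul.1 hya), mem_centralizer_singleton_iff.2 ?_⟩
    refine mul_inv_eq_iff_eq_mul.1 ?_
    rw [conj_eq_of_commutator le_rfl hNc hy heA ha, hya]
  have heC : e ∉ centralizer (A : Set G) := fun h => by
    obtain ⟨a, ha, ha1⟩ : ∃ a ∈ A, a ≠ 1 := by
      by_contra h'
      push Not at h'
      exact (hg.max U).ne_bot ((eq_bot_iff_forall _).2 h')
    exact hline a ha ha1 (centralizer_le_normalizer_line a (Signalizer.centralizer_le_singleton ha h))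
  have he1 : e ≠ 1 := fun h => heC (h ▸ one_mem _)
  have hre : r ∣ orderOf e := hk ▸ dvd_pow_self r fun h0 => he1 (orderOf_eq_one_iff.1 (by rw [hk, h0, pow_zero]))
  have hrE : r ∣ Nat.card E := hre.trans (Subgroup.orderOf_dvd_natCard _ heE)
  have hrM : r ∣ Nat.card M := hrE.trans (card_dvd_of_le hE.1)
  have hrσ : r ∉ sigma M := compl_pi (base U) hM hE hr hrE
  have hrp : r ≠ p := by
    rintro rfl
    obtain ⟨Q, hQ⟩ := (IsPGroup.of_card (n := k) (G := zpowers e) (by rw [Nat.card_zpowers, hk])).exists_le_sylow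
    have hEP : E ≤ normalizer ((P : Subgroup G) : Set G) := hEA.trans (hg.normalizer_le_sylow U hE hAE hAP hab)
    have h1 : IsPGroup r ↥(zpowers e ⊔ (P : Subgroup G)) :=
      (IsPGroup.of_card (n := k) (G := zpowers e) (by rw [Nat.card_zpowers, hk])).to_sup_of_normal_right' P.2
        ((zpowers_le.2 heE).trans hEP)
    exact heC (hg.sylow_le_centralizer U hAP hab ((P.is_maximal' h1 le_sup_right).le (mem_sup_left (mem_zpowers e))))
  have hr1 : PRankLE r 1 M := by
    by_contra h1
    obtain ⟨B, hgB, hBE⟩ := exists_good_in_compl U hM hE hrσ h1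
    exact heC (tau_two_commute U hrp.symm hE hg hAE hgB hBE heE hk)
  have hrτ : r ∉ tau2 M := fun h => h.2.2.2 hr1
  -- the element of order `r` centralises `A`
  obtain ⟨g, hge, hgo⟩ : ∃ g ∈ zpowers e, orderOf g = r := by
    have hd : r ∣ Nat.card (zpowers e) := by rwa [Nat.card_zpowers]
    obtain ⟨x, hx⟩ := exists_prime_orderOf_dvd_card' r hd
    exact ⟨x, x.2, by rw [Subgroup.orderOf_coe, hx]⟩
  have hgE : g ∈ E := zpowers_le.2 heE hge
  have hg1 : g ≠ 1 := fun h => hr.one_lt.ne (by rw [← hgo, h, orderOf_one])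
  have hgC : g ∈ centralizer (A : Set G) := by
    obtain ⟨a, ⟨ha, hag⟩, ha1⟩ : ∃ a ∈ A ⊓ centralizer ({g} : Set G), a ≠ 1 := by
      by_contra h
      push Not at h
      exact hg.commute_kernel U hE hAE hfix hrτ hrp hgE hgo ((eq_bot_iff_forall _).2 h)
    refine hirr g (hEA hgE) a ha ha1 ?_
    rw [← mem_centralizer_singleton_iff.1 hag, mul_inv_cancel_right]
  obtain ⟨H, hH, hNH⟩ := OddSigma.exists_coatom (OddSigma.normalizer_ne_top U.hG (zpowers_ne_bot.2 hg1)
    (fun h => hM.1 (top_le_iff.1 (h.ge.trans (zpowers_le.2 (hE.1 hgE))))))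
  have hHM : H ≠ M := by
    intro h
    subst h
    exact (U.s1409 H hH r hrσ (zpowers g) (by rw [Nat.card_zpowers, hgo]) hNH).1.2 hr1
  have hAH : A ≤ H := fun a ha => hNH (centralizer_le_normalizer_line g
    (mem_centralizer_singleton_iff.2 (hgC a ha)))
  have heH : e ∈ H := by
    refine hNH (centralizer_le_normalizer_line g (mem_centralizer_singleton_iff.2 ?_))
    obtain ⟨i, rfl⟩ := hge
    exact (Commute.refl e).zpow_right i |>.eq
  have heH' : zpowers e ≤ normalizer (A : Set G) := zpowers_le.2 heA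
  have hep : IsPGroup r (zpowers e) := IsPGroup.of_card (n := k) (by rw [Nat.card_zpowers, hk])
  have hgH : g ∈ H := hNH (le_normalizer (mem_zpowers g))
  have hAp : IsPGroup p A := (hg.max U).isPGroup
  have hgp : IsPGroup r (zpowers g) := IsPGroup.of_card (n := 1) (by rw [Nat.card_zpowers, hgo, pow_one])
  by_cases hrH : r ∈ sigma H
  · by_cases hpH : p ∈ sigma H
    · by_cases hrb : r ∈ beta H
      · -- `r` ideal
        have hb := (U.s1414 H hH).1
        set Q := piCoreOf (beta H) H
        have hHQ : H ≤ normalizer (Q : Set G) := OddTrans.le_normalizer_piCoreOf _ _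
        have heQ : zpowers e ≤ Q := by
          have : (Q.subgroupOf H).Normal := normal_subgroupOf_of_le_normalizer hHQ
          have h1 : (zpowers e).subgroupOf H ≤ Q.subgroupOf H := by
            refine OddSigma.le_of_pi_index (π := {r}) (fun q hq hqr hdq => ?_) fun q hq hdq => ?_
            · rw [Set.mem_singleton_iff.1 hqr] at hdq
              exact hb.2.2 r hr hrb hdq
            · rw [Cores.card_subgroupOf (zpowers_le.2 heH)] at hdq
              exact OddTrans.pi_of_isPGroup hep q hq hdq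
          exact fun x hx => h1 (show (⟨x, zpowers_le.2 heH hx⟩ : H) ∈ (zpowers e).subgroupOf H from hx)
        have hQA : A ⊓ Q = ⊥ := by
          refine Solvable.inf_eq_bot_of_coprime ?_
          rw [hg.card]
          exact Nat.Coprime.pow_left 2 ((hp.out.coprime_iff_not_dvd).2 fun hd =>
            (hg.max U).not_beta U (hb.2.1 p hp.out hd))
        refine heC ((commutator_eq_bot_iff_le_centralizer.1 (le_bot_iff.1 (le_trans ?_ hQA.le))) (mem_zpowers e))
        exact le_inf (le_normalizer_iff_commutator_le_right.1 heH')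
          ((commutator_mono heQ le_rfl).trans (le_normalizer_iff_commutator_le_left.1 (hAH.trans hHQ)))
      · have h1 := beta_commute U hH hrp hrb ((hg.max U).not_beta U) hep hAp
          (pgroup_le_sigmaCore U hH hrH (zpowers_le.2 heH) hep) (pgroup_le_sigmaCore U hH hpH hAH hAp) heH'
        exact heC (le_centralizer_iff.1 h1 (mem_zpowers e))
    · have hgH' : Good p H A := ⟨hH, hpH, hAH, hg.elem, hg.card⟩
      refine hg1 (mem_bot.1 ?_)
      rw [← hgH'.fixed U]
      exact ⟨pgroup_le_sigmaCore U hH hrH (zpowers_le.2 hgH) hgp (mem_zpowers g), hgC⟩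
  have hr1H : ¬ PRankLE r 1 H := (U.s1409 H hH r hrH (zpowers g) (by rw [Nat.card_zpowers, hgo]) hNH).1.2
  by_cases hpH : p ∈ sigma H
  swap
  · -- both primes outside `σ(H)`
    have hgH' : Good p H A := ⟨hH, hpH, hAH, hg.elem, hg.card⟩
    have := OddSigma.proper_solvable U.hG hH.1
    have hh := sigma_hall U hH
    set X := A ⊔ zpowers e with hX
    have hXH : X ≤ H := sup_le hAH (zpowers_le.2 heH)
    have hcop : (Nat.card X).Coprime (Nat.card (sigmaCore H)) := by
      refine Nat.coprime_of_dvd fun q hq h1 h2 => ?_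
      have hn : (A.subgroupOf X).Normal := normal_subgroupOf_of_le_normalizer (sup_le le_normalizer heH')
      have htop : (zpowers e).subgroupOf X ⊔ A.subgroupOf X = ⊤ := by
        rw [← subgroupOf_sup le_sup_right le_sup_left, sup_comm, subgroupOf_self]
      have h := card_sup_dvd ((zpowers e).subgroupOf X) (A.subgroupOf X)
      rw [htop, Subgroup.card_top, Cores.card_subgroupOf le_sup_left, Cores.card_subgroupOf le_sup_right] at h
      rcases hq.dvd_mul.1 (h1.trans h) with h3 | h3
      · exact hrH (Set.mem_singleton_iff.1 (OddTrans.pi_of_isPGroup hep q hq h3) ▸ OddMax.sigmaCore_pi H q hq h2)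
      · exact hpH (Set.mem_singleton_iff.1 (OddTrans.pi_of_isPGroup hAp q hq h3) ▸ OddMax.sigmaCore_pi H q hq h2)
    obtain ⟨F, hF, hXF⟩ := OddMax.exists_compl_ge (M := H) (X := X) (OddMax.sigmaCore_le H)
      (OddMax.le_normalizer_sigmaCore H) (Nat.coprime_of_dvd fun q hq h1 h2 => hh.2.2 q hq (hh.2.1 q hq h1) h2)
      hXH hcop
    obtain ⟨B, hgB, hBF⟩ := exists_good_in_compl U hH hF hrH hr1H
    exact heC (tau_two_commute U hrp.symm hF hgH' (le_sup_left.trans hXF) hgB hBF
      (hXF (mem_sup_right (mem_zpowers e))) hk)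
  -- `p ∈ σ(H)`, `r ∈ τ₂(H)`
  obtain ⟨B, hBH, hBe, hBc⟩ := OddSigma.exists_elementary hr1H
  have hgB := good_of_rank U hH hrH hBH hBe hBc
  have hKn : Group.IsNilpotent (sigmaCore H) := hgB.nilpotent U
  have hAσ : A ≤ sigmaCore H := pgroup_le_sigmaCore U hH hpH hAH hAp
  obtain ⟨T⟩ : Nonempty (Sylow p (sigmaCore H)) := inferInstance
  set T' := (T : Subgroup (sigmaCore H)).map (sigmaCore H).subtype with hT'
  have hAT : A ≤ T' := nilpotent_sylow_eq hKn T hAσ hAp
  have hHT : H ≤ normalizer (T' : Set G) :=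
    (OddMax.le_normalizer_sigmaCore H).trans (OddMax.normalizer_le_normalizer_sylow hKn T)
  have hT'c : IsMulCommutative T' := by
    obtain ⟨Q, hQ⟩ := (T.2.map (sigmaCore H).subtype).exists_le_sylow
    obtain ⟨x, hx⟩ := MulAction.exists_smul_eq G P Q
    have hQc : IsMulCommutative (Q : Subgroup G) := by
      rw [← hx, Sylow.coe_subgroup_smul, Solvable.conj_eq_map]
      infer_instance
    refine ⟨⟨fun a b => Subtype.ext ?_⟩⟩
    have h := congrArg (fun z : (Q : Subgroup G) => (z : G))
      (hQc.is_comm.comm (⟨a, hQ a.2⟩ : (Q : Subgroup G)) ⟨b, hQ b.2⟩)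
    exact h
  have hT'C : T' ≤ centralizer (A : Set G) := fun x hx a ha =>
    congrArg Subtype.val (hT'c.is_comm.comm (⟨a, hAT ha⟩ : T') ⟨x, hx⟩)
  have hBA : B ≤ normalizer (A : Set G) := fun b hb => Signalizer.mem_normalizer_of_conj_mem fun a ha =>
    ((hg.max U).omega (hT'C ((mem_normalizer_iff.1 (hHT (hBH hb)) a).1 (hAT ha)))).1
      (pow_conj_eq_one (hg.elem.2 a ha))
  have hBM : ¬ B ≤ M := fun h => OddSigma.not_prankLE_of_le h hBe
    (lt_of_lt_of_le (Nat.pow_lt_pow_right hr.one_lt one_lt_two) hBc) hr1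
  obtain ⟨b, hb, hbM⟩ := SetLike.not_le_iff_exists.1 hBM
  have hbA := hBA hb
  have hbr : b ^ r = 1 := hBe.2 b hb
  have hbC : b ∉ centralizer (A : Set G) := fun h => hbM (hg.cent_le U h)
  -- a power of `e` of order `r` modulo `C(A)`
  obtain ⟨e', he'E, he'C, he'r⟩ : ∃ e' ∈ E, e' ∉ centralizer (A : Set G) ∧ e' ^ r ∈ centralizer (A : Set G) := by
    have hex : ∃ j, e ^ r ^ j ∈ centralizer (A : Set G) := ⟨k, by rw [← hk, pow_orderOf_eq_one]; exact one_mem _⟩
    classical
    have hspec := Nat.find_spec hex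
    rcases hj : Nat.find hex with _ | j
    · rw [hj, pow_zero, pow_one] at hspec
      exact absurd hspec heC
    · refine ⟨e ^ r ^ j, pow_mem heE _, Nat.find_min hex (by omega), ?_⟩
      rw [← pow_mul, ← pow_succ, ← hj]
      exact hspec
  have he'A : e' ∈ normalizer (A : Set G) := hEA he'E
  have : IsMulCommutative A := hg.elem.1
  let _ : CommGroup A := { (inferInstance : Group A) with mul_comm := fun x y => mul_comm' x y }
  set φ := Coprime.conjAut (le_refl (normalizer (A : Set G))) with hφ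
  set s := φ ⟨e', he'A⟩ with hs
  set t := φ ⟨b, hbA⟩ with ht
  have hker : ∀ y : normalizer (A : Set G), (y : G) ∈ centralizer (A : Set G) → φ y = 1 := fun y hy =>
    MulEquiv.ext fun a => Subtype.ext (by
      rw [hφ, Coprime.coe_conjAut, MulAut.one_apply, ← hy a a.2, mul_inv_cancel_right])
  have hst : Commute s t := MulEquiv.ext fun a => Subtype.ext (by
    rw [MulAut.mul_apply, MulAut.mul_apply, hs, ht, hφ, Coprime.coe_conjAut, Coprime.coe_conjAut,
      Coprime.coe_conjAut, Coprime.coe_conjAut]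
    exact conj_eq_of_commutator le_rfl hNc he'A hbA a.2)
  have hsr : s ^ r = 1 := by
    rw [hs, ← map_pow]
    exact hker _ (by simpa using he'r)
  have htr : t ^ r = 1 := by
    rw [ht, ← map_pow, show (⟨b, hbA⟩ : normalizer (A : Set G)) ^ r = 1 from Subtype.ext (by simpa using hbr), map_one]
  have hW : ∀ i j : ℕ, ¬(r ∣ i ∧ r ∣ j) → ∀ v : A, (s ^ i * t ^ j) v = v → v ∈ (⊥ : Subgroup A) := by
    intro i j hij v hv
    by_contra hv1
    rw [mem_bot] at hv1
    have hy : e' ^ i * b ^ j ∈ normalizer (A : Set G) := mul_mem (pow_mem he'A i) (pow_mem hbA j)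
    have hfv : e' ^ i * b ^ j * v * (e' ^ i * b ^ j)⁻¹ = (v : G) := by
      have h := congrArg Subtype.val hv
      rwa [hs, ht, ← map_pow, ← map_pow, ← map_mul, hφ, Coprime.coe_conjAut] at h
    have hyC := hirr _ hy v v.2 (fun h => hv1 (Subtype.ext h)) hfv
    have hpow : ∀ {y : G} {n : ℕ}, y ^ r ∈ centralizer (A : Set G) → ¬ r ∣ n → ∀ {H : Subgroup G},
        centralizer (A : Set G) ≤ H → y ^ n ∈ H → y ∈ H := by
      intro y n hyr hn H hCH hyn
      obtain ⟨l, hl⟩ := Nat.exists_mul_mod_eq_one_of_coprime ((hr.coprime_iff_not_dvd.2 hn).symm) hr.one_lt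
      have h1 : y ^ (n * l) = (y ^ r) ^ (n * l / r) * y := by
        rw [← pow_mul, ← pow_succ]
        congr 1
        have := Nat.div_add_mod (n * l) r
        omega
      have h2 : (y ^ r) ^ (n * l / r) * y ∈ H := h1 ▸ (pow_mul y n l).symm ▸ pow_mem hyn l
      exact (mul_mem_cancel_left (pow_mem (hCH hyr) _)).1 h2
    by_cases hi : r ∣ i
    · have hei : e' ^ i ∈ centralizer (A : Set G) := by
        obtain ⟨l, rfl⟩ := hi
        rw [pow_mul]
        exact pow_mem he'r l
      exact hbC (hpow (hbr.symm ▸ one_mem _) (fun hj => hij ⟨hi, hj⟩) le_rfl ((mul_mem_cancel_left hei).1 hyC))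
    by_cases hj : r ∣ j
    · obtain ⟨l, rfl⟩ := hj
      rw [pow_mul, hbr, one_pow, mul_one] at hyC
      exact he'C (hpow he'r hi le_rfl hyC)
    have hbj : b ^ j ∈ M :=
      (mul_mem_cancel_left (pow_mem (hE.1 he'E) i)).1 (hg.cent_le U hyC)
    exact hbM (hpow (hbr.symm ▸ one_mem _) hj (hg.cent_le U) hbj)
  obtain ⟨a, ha, ha1⟩ : ∃ a ∈ A, a ≠ 1 := by
    by_contra h'
    push Not at h'
    exact (hg.max U).ne_bot ((eq_bot_iff_forall _).2 h')
  have h := congrArg Subtype.val (mem_bot.1 (Coprime.pow_mem_of_pair_aut s t hst hr hsr htr ⊥ hW ⟨a, ha⟩))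
  simp only [SubgroupClass.coe_pow, OneMemClass.coe_one] at h
  have := orderOf_dvd_of_pow_eq_one h
  rw [orderOf_eq hg.elem ha ha1] at this
  exact hrp ((Nat.prime_dvd_prime_iff_eq hp.out hr).1 this).symm

end Cfsg.Agent.OddTau2
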