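/-
Bender-Glauberman 12.11: the criterion for a maximal subgroup to be of Frobenius type.
Main results (namespace `Cfsg.Agent.OddTau2`): `exists_invariant_cyclic`, `Good.exists_top_line`,
`Good.no_root`, `s1421`.
-/
import Cfsg.Agent.Lib.OddOrder.TauTwoLine
import Cfsg.Agent.Lib.Solvable.Gaschutz

set_option autoImplicit false
set_option linter.unusedSectionVars false
set_option linter.unusedVariables false

open Subgroup
open scoped Pointwise commutatorElement IsMulCommutative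

universe u

namespace Cfsg.Agent.OddTau2

open Cfsg.Agent.Solvable

variable {G : Type u} [Group G] [Finite G]

theorem mul_pow_mul_inv_mem {N : Subgroup G} {a l : G} (ha : a ∈ N) (hl : l ∈ normalizer (N : Set G)) (n : ℕ) :
    (a * l) ^ n * (l ^ n)⁻¹ ∈ N := by
  induction n with
  | zero => simp
  | succ n ih =>
    rw [show (a * l) ^ (n + 1) * (l ^ (n + 1))⁻¹ = (a * l) ^ n * (l ^ n)⁻¹ * (l ^ n * a * (l ^ n)⁻¹) by
      rw [pow_succ, pow_succ]; group]
    exact mul_mem ih ((mem_normalizer_iff.1 (pow_mem hl n) a).1 ha)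

/-- An invariant cyclic subgroup of maximal order above an invariant line. -/
theorem exists_invariant_cyclic {p m : ℕ} [hp : Fact p.Prime] {L P : Subgroup G} [IsMulCommutative P]
    (hLP : L ≤ normalizer (P : Set G)) (hcop : ¬ p ∣ Nat.card L) (hexp : ∀ x ∈ P, x ^ p ^ (m + 1) = 1)
    {a c : G} (hc : c ∈ P) (hca : c ^ p ^ m = a) (ha1 : a ≠ 1) (hLa : L ≤ normalizer (zpowers a : Set G)) :
    ∃ d ∈ P, orderOf d = p ^ (m + 1) ∧ a ∈ zpowers d ∧ L ≤ normalizer (zpowers d : Set G) := by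
  classical
  have hap : a ^ p = 1 := by rw [← hca, ← pow_mul, ← pow_succ]; exact hexp c hc
  have hao : orderOf a = p := orderOf_eq_prime hap ha1
  choose u hu using fun σ : L => mem_zpowers_iff.1 ((mem_normalizer_iff.1 (hLa σ.2) a).1 (mem_zpowers a))
  have hmod : ∀ {i j : ℤ}, a ^ i = a ^ j → (p : ℤ) ∣ i - j := fun {i j} h => by
    rw [← hao, orderOf_dvd_iff_zpow_eq_one, _root_.zpow_sub, h, mul_inv_cancel]
  have hum : ∀ σ τ : L, (p : ℤ) ∣ u (σ * τ) - u σ * u τ := fun σ τ => hmod (by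
    rw [hu, zpow_mul, hu, conj_zpow, hu, Subgroup.coe_mul]
    group)
  have hu1 : (p : ℤ) ∣ u 1 - 1 := hmod (by rw [hu]; simp)
  set χ : L → ℤ := fun σ => u σ ^ p ^ m with hχ
  have hfermat : ∀ x : ℤ, (p : ℤ) ∣ x ^ p ^ m - x := fun x => by
    rw [← ZMod.intCast_zmod_eq_zero_iff_dvd]
    simp [ZMod.pow_card_pow]
  have hpowc : ∀ {v : P} {i j : ℤ}, ((p : ℤ) ^ (m + 1)) ∣ i - j → v ^ i = v ^ j := fun {v i j} hd => by
    obtain ⟨t, ht⟩ := hd
    have h1 : v ^ (p ^ (m + 1)) = 1 := Subtype.ext (by simpa using hexp v v.2)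
    rw [show i = j + ((p ^ (m + 1) : ℕ) : ℤ) * t by push_cast; linarith, _root_.zpow_add, zpow_mul, zpow_natCast,
      h1, _root_.one_zpow, mul_one]
  set φ := Coprime.conjAut hLP with hφ
  let _ : Fintype L := Fintype.ofFinite L
  set cc : P := ⟨c, hc⟩
  set T : P := ∏ σ : L, φ σ (cc ^ χ σ⁻¹) with hT
  have heig : ∀ τ : L, φ τ T = T ^ χ τ := fun τ => by
    rw [hT, map_prod, ← Finset.prod_zpow]
    refine Fintype.prod_equiv (Equiv.mulLeft τ) _ _ fun σ => ?_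
    rw [Equiv.coe_mulLeft, ← MulAut.mul_apply, ← map_mul, ← map_zpow, ← zpow_mul]
    congr 1
    refine hpowc ?_
    have h1 : (p : ℤ) ∣ u σ⁻¹ - u (τ * σ)⁻¹ * u τ := by
      have h2 := hum (τ * σ)⁻¹ τ
      rwa [mul_inv_rev, inv_mul_cancel_right, ← mul_inv_rev] at h2
    have h3 := dvd_sub_pow_of_dvd_sub h1 m
    rwa [mul_pow] at h3
  have hTpow : ((T : P) : G) ^ p ^ m = a ^ Nat.card L := by
    rw [← SubgroupClass.coe_pow, hT, ← Finset.prod_pow,
      show a ^ Nat.card L = (((⟨a, hca ▸ pow_mem hc _⟩ : P) ^ Nat.card L : P) : G) from rfl]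
    congr 1
    rw [Nat.card_eq_fintype_card, ← Finset.card_univ, ← Finset.prod_const]
    refine Finset.prod_congr rfl fun σ _ => Subtype.ext ?_
    rw [SubgroupClass.coe_pow, hφ, Coprime.coe_conjAut, SubgroupClass.coe_zpow, conj_pow]
    show (σ : G) * (c ^ χ σ⁻¹) ^ p ^ m * (σ : G)⁻¹ = a
    rw [← zpow_natCast, ← zpow_mul, mul_comm (χ σ⁻¹), zpow_mul, zpow_natCast, hca, ← conj_zpow, ← hu, ← zpow_mul]
    conv_rhs => rw [← zpow_one a]
    refine orderOf_dvd_sub_iff_zpow_eq_zpow.1 ?_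
    rw [hao]
    have h1 : (p : ℤ) ∣ u σ * χ σ⁻¹ - u σ * u σ⁻¹ := by
      rw [← mul_sub]; exact (hfermat _).mul_left _
    have h2 := hum σ σ⁻¹
    rw [mul_inv_cancel] at h2
    have := dvd_add (dvd_sub h1 h2) hu1
    rwa [show u σ * χ σ⁻¹ - u σ * u σ⁻¹ - (u 1 - u σ * u σ⁻¹) + (u 1 - 1) = u σ * χ σ⁻¹ - 1 by ring] at this
  have hap' : (orderOf a).Coprime (Nat.card L) := hao.symm ▸ (hp.out.coprime_iff_not_dvd.2 hcop)
  refine ⟨T, T.2, orderOf_eq_prime_pow ?_ (hexp _ T.2), Coprime.mem_of_pow_mem hap' ?_, fun τ hτ => ?_⟩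
  · rw [hTpow]
    exact fun h => ha1 (orderOf_eq_one_iff.1 (Nat.Coprime.eq_one_of_dvd hap' (orderOf_dvd_of_pow_eq_one h)))
  · rw [← hTpow]
    exact pow_mem (mem_zpowers _) _
  · refine mem_normalizer_zpowers.2 (eq_of_le_of_card_ge (zpowers_le.2 ?_) ?_)
    · have h := congrArg Subtype.val (heig ⟨τ, hτ⟩)
      rw [hφ, Coprime.coe_conjAut, SubgroupClass.coe_zpow] at h
      rw [h]
      exact zpow_mem (mem_zpowers _) _
    · rw [Nat.card_zpowers, Nat.card_zpowers]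
      exact (MulEquiv.orderOf_eq (MulAut.conj τ) _).ge

/-- A `p`-element of `E` is conjugate in `E` into a given Sylow subgroup. -/
theorem SylowOf.exists_conj_mem {p : ℕ} [hp : Fact p.Prime] {E S : Subgroup G} (hS : SylowOf p E S) {y : G}
    (hy : y ∈ E) {k : ℕ} (hk : orderOf y = p ^ k) : ∃ g ∈ E, g * y * g⁻¹ ∈ S := by
  obtain ⟨P, hP⟩ := OddMax.exists_sylow_eq hS.1 hS.2.1 hS.2.2
  have hy' : IsPGroup p (zpowers (⟨y, hy⟩ : E)) :=
    IsPGroup.of_card (n := k) (by rw [Nat.card_zpowers, orderOf_mk, hk])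
  obtain ⟨Q, hQ⟩ := hy'.exists_le_sylow
  obtain ⟨g, hg⟩ := MulAction.exists_smul_eq E Q P
  refine ⟨g, g.2, ?_⟩
  rw [← hP]
  refine ⟨g * ⟨y, hy⟩ * g⁻¹, ?_, rfl⟩
  rw [← hg, Sylow.coe_subgroup_smul]
  exact ⟨_, hQ (mem_zpowers _), rfl⟩

/-- `orderOf x ∣ n` from the prime-power parts of `x`. -/
theorem exponent_dvd_of_parts {E : Subgroup G} {n : ℕ}
    (h : ∀ (r k : ℕ) (y : G), r.Prime → y ∈ E → orderOf y = r ^ k → y ^ n = 1) : Monoid.exponent E ∣ n := by
  refine Monoid.exponent_dvd.2 fun x => ?_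
  rw [← Subgroup.orderOf_coe]
  refine (Nat.dvd_iff_prime_pow_dvd_dvd _ _).2 fun r k hr hd => ?_
  have hy : orderOf ((x : G) ^ (orderOf (x : G) / r ^ k)) = r ^ k :=
    orderOf_pow_orderOf_div (orderOf_pos _).ne' hd
  exact hy ▸ orderOf_dvd_of_pow_eq_one (h r k _ hr (pow_mem x.2 _) hy)

variable (U : Upstream G) {p : ℕ} [hp : Fact p.Prime] {M E A : Subgroup G} (hg : Good p M A)
  (hE : IsComplIn E (sigmaCore M) M) (hAE : A ≤ E)
include U hg hE hAE

/-- The exponent of an abelian Sylow subgroup has an invariant fixed point free root line. -/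
theorem Good.exists_top_line {P : Sylow p G} (hAP : A ≤ P) (hab : IsMulCommutative (P : Subgroup G))
    (hfix : ∀ (r : ℕ) (g : G), r.Prime → g ∈ E → orderOf g = r → r ∉ tau2 M →
      sigmaCore M ⊓ centralizer ({g} : Set G) = ⊥) :
    ∃ (m : ℕ) (a c : G), (∀ x ∈ (P : Subgroup G), x ^ p ^ (m + 1) = 1) ∧ c ∈ (P : Subgroup G) ∧ c ^ p ^ m = a ∧
      a ∈ A ∧ a ≠ 1 ∧ E ≤ normalizer (zpowers a : Set G) ∧ sigmaCore M ⊓ centralizer ({a} : Set G) = ⊥ := by
  have hM := hg.coatom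
  obtain ⟨c₀, hc₀⟩ := Monoid.exists_orderOf_eq_exponent (Monoid.ExponentExists.of_finite (G := (P : Subgroup G)))
  obtain ⟨n, hn⟩ := IsPGroup.iff_orderOf.1 P.isPGroup' c₀
  have hall : ∀ x ∈ (P : Subgroup G), x ^ p ^ n = 1 := fun x hx => by
    have h := Monoid.pow_exponent_eq_one (⟨x, hx⟩ : (P : Subgroup G))
    rw [← hc₀, hn] at h
    exact congrArg Subtype.val h
  obtain ⟨m, rfl⟩ : ∃ m, n = m + 1 := ⟨n - 1, by
    rcases Nat.eq_zero_or_pos n with rfl | h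
    · refine absurd ((eq_bot_iff_forall _).2 fun x hx => ?_) (hg.max U).ne_bot
      simpa using hall x (hAP hx)
    · omega⟩
  have hA' : ∀ x ∈ (P : Subgroup G), x ^ p ^ m ∈ A := fun x hx => hg.mem_of_pow_sylow U hAP hab (pow_mem hx _)
    (by rw [← pow_mul, ← pow_succ]; exact hall x hx)
  set a₁ := (c₀ : G) ^ p ^ m with ha₁
  have ha₁1 : a₁ ≠ 1 := fun h => by
    have h1 := orderOf_dvd_of_pow_eq_one h
    rw [Subgroup.orderOf_coe, hn] at h1
    have := (Nat.pow_dvd_pow_iff_le_right hp.out.one_lt).1 h1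
    omega
  have ha₁A := hA' _ c₀.2
  by_cases hY : ∀ x ∈ (P : Subgroup G), x ^ p ^ m ∈ zpowers a₁
  · have hn' : normalizer (A : Set G) ≤ normalizer (zpowers a₁ : Set G) := fun g hg' => by
      refine mem_normalizer_zpowers.2 (line_eq (card_line hg.elem ha₁A ha₁1) ?_ fun h => ha₁1 (by simpa using h))
      rw [ha₁, ← conj_pow]
      exact hY _ ((mem_normalizer_iff.1 (hg.normalizer_le_sylow U hE hAE hAP hab hg') _).1 c₀.2)
    exact ⟨m, a₁, c₀, hall, c₀.2, rfl, ha₁A, ha₁1, (hg.le_normalizer_compl U hM hE hAE).1.trans hn',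
      hg.fixed_of_normal_line U hE hAE hAP hab ha₁A ha₁1 hn'⟩
  push Not at hY
  obtain ⟨x, hx, hxa⟩ := hY
  obtain ⟨a, ha, ha1, hEa, hfa⟩ := hg.exists_invariant_line U hE hAE hAP hab hfix
  have h := ha
  rw [← sup_line hg.elem hg.card ha₁A ha₁1 (hA' x hx) hxa, ← SetLike.mem_coe,
    coe_mul_of_right_le_normalizer_left _ _ (zpowers_le.2 (centralizer_le_normalizer_line a₁
      (mem_centralizer_singleton_iff.2 (OddSigma.elem_comm hg.elem (hA' x hx) ha₁A))))] at h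
  obtain ⟨-, ⟨i, rfl⟩, -, ⟨j, rfl⟩, he⟩ := h
  refine ⟨m, a, (c₀ : G) ^ i * x ^ j, hall, mul_mem (zpow_mem c₀.2 i) (zpow_mem hx j), ?_, ha, ha1, hEa, hfa⟩
  have hcomm : Commute ((c₀ : G) ^ i) (x ^ j) := congrArg (fun z : (P : Subgroup G) => (z : G))
    (hab.is_comm.comm ⟨_, zpow_mem c₀.2 i⟩ ⟨_, zpow_mem hx j⟩)
  rw [← he, hcomm.mul_pow]
  simp only [ha₁, ← zpow_natCast, ← zpow_mul]
  rw [mul_comm i, mul_comm j]

/-- In the non-abelian case no element of order `p ^ 2` powers into `A ∩ C(M_σ)`. -/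
theorem Good.no_root (hS : ∀ S : Sylow p G, ¬ IsMulCommutative (S : Subgroup G)) {y : G} (hy : y ∈ E)
    (hyA : y ^ p ∈ A ⊓ centralizer (sigmaCore M : Set G)) (hy1 : y ^ p ≠ 1) : False := by
  have hM := hg.coatom
  obtain ⟨P, S, u, a₀, z, hAP, hSM, hAS, hSP, huP, huS, huA, huM, huC, ha₀, ha₀1, ha₀M, -, -, -, -, hK, -⟩ :=
    hg.nonabelian_line U hS
  obtain ⟨hcard, -⟩ := (s1419 U hg hS hE hAE).2.1
  have hA₀ : A ⊓ centralizer (sigmaCore M : Set G) = zpowers a₀ := (line_eq hcard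
    (mem_inf.2 ⟨ha₀, fun k hk => mem_centralizer_singleton_iff.1 (hK hk)⟩) ha₀1).symm
  have hSC := hg.sylow_centralizes U hSM hAS
  have hSE : SylowOf p E S := by
    have hle : S ≤ E := (le_inf (hSC.trans (hg.cent_le U)) (hSC.trans (centralizer_le_normalizer _))).trans
      (hg.inf_normalizer_eq U hM hE hAE).le
    exact ⟨hSM.1, hle, fun h => hSM.2.2 (h.trans ⟨_, (relIndex_mul_relIndex S E M hle hE.1).symm⟩)⟩
  have hyo : orderOf y = p ^ 2 := orderOf_eq_prime_pow (n := 1) (by simpa using hy1) (by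
    rw [pow_two, pow_mul]
    exact hg.elem.2 _ hyA.1)
  obtain ⟨g, hgE, hgS⟩ := hSE.exists_conj_mem hy hyo
  set y' := g * y * g⁻¹ with hy'
  have hy'p : y' ^ p ∈ A ⊓ centralizer (sigmaCore M : Set G) := by
    rw [hy', conj_pow]
    exact (mem_normalizer_iff.1 (Signalizer.le_normalizer_inf (hg.le_normalizer_compl U hM hE hAE).1
      (Signalizer.le_normalizer_centralizer (hE.1.trans (OddMax.le_normalizer_sigmaCore M))) hgE) _).1 hyA
  have hy'1 : y' ^ p ≠ 1 := fun h => hy1 (by rw [hy', conj_pow] at h; simpa using h)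
  rw [hA₀] at hy'p
  obtain ⟨C, hCc, hC⟩ := hg.exists_cyclic_pow U hS hAP
  have hu' : u * y' * u⁻¹ ∈ S := (mem_normalizer_iff.1 huS y').1 hgS
  have hC1 : y' ^ p ∈ C := hC y' (hSP hgS) (hSC hgS)
  have hC2 : (u * y' * u⁻¹) ^ p ∈ C := hC _ (hSP hu') (hSC hu')
  rw [conj_pow] at hC2
  have heq : zpowers (y' ^ p) = zpowers (u * y' ^ p * u⁻¹) := by
    refine TIHall.eq_of_card_eq_cyclic (C := C) (zpowers_le.2 hC1) (zpowers_le.2 hC2) ?_
    rw [Nat.card_zpowers, Nat.card_zpowers]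
    exact (MulEquiv.orderOf_eq (MulAut.conj u) (y' ^ p)).symm
  refine huM (ha₀M ?_)
  rw [← line_eq (card_line hg.elem ha₀ ha₀1) hy'p hy'1]
  exact mem_normalizer_zpowers.2 heq.symm

omit hg hAE in
/-- The Frobenius-type data when a Sylow subgroup at a prime of `τ₂(M)` is non-abelian. -/
theorem frobenius_nonabelian (hgA : Good p M A) (hAE' : A ≤ E)
    (hS : ∀ S : Sylow p G, ¬ IsMulCommutative (S : Subgroup G))
    (hfix : ∀ (r : ℕ) (g : G), r.Prime → g ∈ E → orderOf g = r → r ∉ tau2 M →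
      sigmaCore M ⊓ centralizer ({g} : Set G) = ⊥) :
    (∃ A₀ : Subgroup G, A₀ ≤ E ∧ E ≤ normalizer (A₀ : Set G) ∧ IsMulCommutative A₀ ∧
        ∀ x ∈ sigmaCore M, x ≠ 1 → E ⊓ centralizer ({x} : Set G) ≤ A₀) ∧
      ∃ E₀ : Subgroup G, E₀ ≤ E ∧ Monoid.exponent E₀ = Monoid.exponent E ∧
        ∀ e ∈ E₀, e ≠ 1 → sigmaCore M ⊓ centralizer ({e} : Set G) = ⊥ := by
  have hM := hgA.coatom
  obtain ⟨hτ, ⟨hcard, -⟩, hlines⟩ := s1419 U hgA hS hE hAE'
  have hEA := (hgA.le_normalizer_compl U hM hE hAE').1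
  set A₀ := A ⊓ centralizer (sigmaCore M : Set G) with hA₀
  have hA₀E : A₀ ≤ E := inf_le_left.trans hAE'
  have hEA₀ : E ≤ normalizer (A₀ : Set G) := Signalizer.le_normalizer_inf hEA
    (Signalizer.le_normalizer_centralizer (hE.1.trans (OddMax.le_normalizer_sigmaCore M)))
  have hA₀c : IsMulCommutative A₀ := (OddSigma.isElementary_mono hgA.elem inf_le_left).1
  have hcent : ∀ x ∈ sigmaCore M, x ≠ 1 → E ⊓ centralizer ({x} : Set G) ≤ A₀ := by
    rintro x hx hx1 e ⟨he, hex⟩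
    have hfx : ∀ g ∈ zpowers e, g ≠ 1 → sigmaCore M ⊓ centralizer ({g} : Set G) ≠ ⊥ := fun g hg' hg1 h => by
      refine hx1 (mem_bot.1 ?_)
      rw [← h]
      obtain ⟨i, rfl⟩ := hg'
      exact ⟨hx, mem_centralizer_singleton_iff.2
        (Commute.zpow_right (mem_centralizer_singleton_iff.1 hex).symm i).eq⟩
    refine Transfer.mem_of_forall_primePow fun q hq y hy ⟨k, hk⟩ => ?_
    by_cases hy1 : y = 1
    · exact hy1 ▸ one_mem _
    have hyE : y ∈ E := zpowers_le.2 he hy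
    have hk0 : k ≠ 0 := fun h0 => hy1 (orderOf_eq_one_iff.1 (by rw [hk, h0, pow_zero]))
    set w := y ^ q ^ (k - 1) with hw
    have hwo : orderOf w = q := by
      rw [hw, orderOf_pow_of_dvd (pow_ne_zero _ hq.ne_zero) (hk ▸ pow_dvd_pow q (Nat.sub_le k 1)), hk,
        Nat.pow_div (Nat.sub_le k 1) hq.pos, show k - (k - 1) = 1 by omega, pow_one]
    have hw1 : w ≠ 1 := fun h => hq.one_lt.ne (by rw [← hwo, h, orderOf_one])
    have hwfix := hfx w (pow_mem hy _) hw1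
    obtain rfl : q = p := by
      by_contra hqp
      exact hwfix (hfix q w hq (pow_mem hyE _) hwo fun h => hqp (Set.mem_singleton_iff.1 (hτ ▸ h)))
    have hwA : w ∈ A₀ := by
      have hc : Nat.card (zpowers w) = q := by rw [Nat.card_zpowers, hwo]
      by_contra h
      refine hwfix ?_
      rw [← centralizer_line]
      exact (hlines (zpowers w) (zpowers_le.2 (pow_mem hyE _)) hc fun he' => h (he' ▸ mem_zpowers w)).1
    rcases Nat.eq_or_lt_of_le (Nat.one_le_iff_ne_zero.2 hk0) with h1 | h1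
    · rw [hw, ← h1] at hwA
      simpa using hwA
    · refine (hgA.no_root U hE hAE' hS (y := y ^ q ^ (k - 2)) (pow_mem hyE _) ?_ ?_).elim <;>
        rw [← pow_mul, ← pow_succ, show k - 2 + 1 = k - 1 by omega]
      · exact hwA
      · exact hw1
  refine ⟨⟨A₀, hA₀E, hEA₀, hA₀c, hcent⟩, ?_⟩
  obtain ⟨T, hT, hAT⟩ := exists_sylowOf_ge (M := E) (Signalizer.isPGroup_of_elemAb hgA.elem) hAE'
  have hTM := sylowOf_compl U hM hE hgA.notSigma hT
  have hTc : IsMulCommutative T := hgA.sylow_commutative U hTM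
  have hTC := hgA.sylow_centralizes U hTM hAT
  have hA₀T : A₀ ≤ T := inf_le_left.trans hAT
  obtain ⟨a₀, ha₀, ha₀1, hgen⟩ := exists_gen hcard
  -- a complement of `A₀` in `T`
  obtain ⟨X, hXT, hX0, hXsup⟩ : ∃ X ≤ T, a₀ ∉ X ∧ T ≤ A₀ ⊔ X := by
    set X₀ := ((powMonoidHom p : T →* T).range).map T.subtype with hX₀
    have ha₀X₀ : a₀ ∉ X₀ := by
      rintro ⟨_, ⟨y, rfl⟩, hy⟩
      replace hy : (y : G) ^ p = a₀ := hy
      exact hgA.no_root U hE hAE' hS (hT.2.1 y.2) (hy.symm ▸ ha₀) (hy.symm ▸ ha₀1)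
    obtain ⟨X, hX₀X, ⟨hXT, hX0⟩, hmax⟩ :=
      Finite.exists_le_maximal (p := fun X : Subgroup G => X ≤ T ∧ a₀ ∉ X) ⟨map_subtype_le _, ha₀X₀⟩
    refine ⟨X, hXT, hX0, fun y hy => ?_⟩
    by_contra hyX
    have hyX' : ¬ (X ⊔ zpowers y) ≤ X := fun h => hyX (mem_sup_right (h (mem_sup_right (mem_zpowers y))))
    have hmem : a₀ ∈ X ⊔ zpowers y := by
      by_contra h
      exact hyX' (hmax ⟨sup_le hXT (zpowers_le.2 hy), h⟩ le_sup_left)
    have hcomm : ∀ a ∈ T, ∀ b ∈ T, a * b = b * a := fun a ha b hb =>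
      congrArg (fun z : T => (z : G)) (hTc.is_comm.comm ⟨a, ha⟩ ⟨b, hb⟩)
    have hn : zpowers y ≤ normalizer (X : Set G) := zpowers_le.2 (centralizer_le_normalizer _
      fun a ha => hcomm a (hXT ha) y hy)
    rw [← SetLike.mem_coe, coe_mul_of_right_le_normalizer_left _ _ hn] at hmem
    obtain ⟨x, hx, -, ⟨j, rfl⟩, hxy⟩ := hmem
    simp only at hxy
    have hyp : y ^ p ∈ X := hX₀X ⟨_, ⟨⟨y, hy⟩, rfl⟩, rfl⟩
    by_cases hj : (p : ℤ) ∣ j
    · obtain ⟨t, rfl⟩ := hj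
      refine hX0 (hxy ▸ mul_mem hx ?_)
      rw [zpow_mul, zpow_natCast]
      exact zpow_mem hyp t
    · refine hyX ?_
      have hj1 : y ^ j ∈ A₀ ⊔ X := by
        rw [show y ^ j = x⁻¹ * a₀ by rw [← hxy, inv_mul_cancel_left]]
        exact mul_mem (inv_mem (mem_sup_right hx)) (mem_sup_left ha₀)
      obtain ⟨s, t, hst⟩ := ((Int.prime_iff_natAbs_prime.2 (by simpa using hp.out) : Prime (p : ℤ)).coprime_iff_not_dvd).2 hj
      rw [← zpow_one y, ← hst, _root_.zpow_add, mul_comm s, mul_comm t, zpow_mul, zpow_mul, zpow_natCast]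
      exact mul_mem (zpow_mem (mem_sup_right hyp) s) (zpow_mem hj1 t)
  have hAX : X ⊓ A₀ = ⊥ := (eq_bot_iff_forall _).2 fun w hw => by
    by_contra hw1
    exact hX0 (zpowers_le.2 hw.1 ((line_eq hcard hw.2 hw1).symm ▸ ha₀))
  -- Gaschuetz
  have : (A₀.subgroupOf E).Normal := normal_subgroupOf_of_le_normalizer hEA₀
  have hTcop : (Nat.card (A₀.subgroupOf E)).Coprime (T.subgroupOf E).index := by
    rw [Cores.card_subgroupOf hA₀E, hcard]
    exact hp.out.coprime_iff_not_dvd.2 hT.2.2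
  obtain ⟨H, hH⟩ := gaschutz_exists (K := A₀.subgroupOf E) (U := T.subgroupOf E)
    (A := X.subgroupOf E) (Subgroup.comap_mono hA₀T) hTcop
    (by rw [subgroupOf, subgroupOf, ← comap_inf, hAX, MonoidHom.comap_bot, ker_subtype]) (by
      rw [← subgroupOf_sup hA₀E (hXT.trans hT.2.1)]
      exact congrArg (fun Y : Subgroup G => Y.subgroupOf E) (le_antisymm (sup_le hA₀T hXT) hXsup))
  set E₀ := H.map E.subtype with hE₀
  have hE₀E : E₀ ≤ E := map_subtype_le _
  have hfree : ∀ e ∈ E₀, e ∈ A₀ → e = 1 := by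
    rintro _ ⟨h, hh, rfl⟩ hhA
    have h1 : h ∈ A₀.subgroupOf E ⊓ H := ⟨hhA, hh⟩
    rw [hH.disjoint.eq_bot, mem_bot] at h1
    rw [h1, map_one]
  refine ⟨E₀, hE₀E, ?_, fun e he he1 => ?_⟩
  swap
  · refine (eq_bot_iff_forall _).2 fun x hx => ?_
    by_contra hx1
    refine he1 (hfree e he (hcent x hx.1 hx1 ⟨hE₀E he, ?_⟩))
    exact mem_centralizer_singleton_iff.2 (mem_centralizer_singleton_iff.1 hx.2).symm
  set n := Monoid.exponent E₀ with hn
  have hpn : p ∣ n := by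
    have h1 := hH.card_mul
    rw [Cores.card_subgroupOf hA₀E, hcard] at h1
    have h2 : p * p ∣ p * Nat.card H := h1.symm ▸ by
      rw [← pow_two, ← hgA.card]; exact card_dvd_of_le hAE'
    have h3 : p ∣ Nat.card E₀ := by
      rw [hE₀, card_map_of_injective E.subtype_injective]
      exact (Nat.mul_dvd_mul_iff_left hp.out.pos).1 h2
    obtain ⟨x, hx⟩ := exists_prime_orderOf_dvd_card' p h3
    exact hx ▸ Monoid.order_dvd_exponent x
  refine dvd_antisymm (Monoid.exponent_dvd_of_monoidHom (Subgroup.inclusion hE₀E) (inclusion_injective hE₀E))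
    (exponent_dvd_of_parts fun r k y hr hy hyo => ?_)
  obtain ⟨a, h, ha, hh, rfl⟩ : ∃ a h, a ∈ A₀ ∧ h ∈ E₀ ∧ y = a * h := by
    obtain ⟨⟨a, b⟩, hab⟩ := hH.2 ⟨y, hy⟩
    exact ⟨((a : E) : G), ((b : E) : G), a.2, mem_map_of_mem _ b.2, (congrArg (fun z : E => (z : G)) hab).symm⟩
  have hhn : h ^ n = 1 := by
    have := Monoid.pow_exponent_eq_one (⟨h, hh⟩ : E₀)
    exact congrArg Subtype.val this
  by_cases hrp : r = p
  · subst hrp
    obtain ⟨g, hgE, hgT⟩ := hT.exists_conj_mem hy hyo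
    have hyC : a * h ∈ centralizer (A : Set G) := by
      have h1 := hTC hgT
      exact (mem_normalizer_iff.1 (Signalizer.le_normalizer_centralizer hEA hgE) _).2 h1
    have hah : Commute a h := by
      have h1 : a ∈ centralizer (A : Set G) := fun b hb => OddSigma.elem_comm hgA.elem hb ha.1
      have h2 : h ∈ centralizer (A : Set G) := by
        simpa using mul_mem (inv_mem h1) hyC
      exact h2 a ha.1
    rw [hah.mul_pow, hhn, mul_one]
    obtain ⟨t, ht⟩ := hpn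
    rw [ht, pow_mul, hgA.elem.2 a ha.1, one_pow]
  · have h1 := mul_pow_mul_inv_mem ha (hEA₀ (hE₀E hh)) n
    rw [hhn, inv_one, mul_one] at h1
    refine orderOf_eq_one_iff.1 ?_
    have h2 : orderOf ((a * h) ^ n) ∣ p := hcard ▸ Subgroup.orderOf_dvd_natCard _ h1
    refine Nat.eq_one_of_dvd_coprimes ?_ (hyo ▸ orderOf_pow_dvd n) h2
    exact Nat.Coprime.pow_left k ((Nat.coprime_primes hr hp.out).2 hrp)

omit hg hAE hp in
/-- Statement 1421 from the inputs of section 10. -/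
theorem s1421 (hM : IsCoatom M)
    (h : ∀ e ∈ E, e ≠ 1 → (∀ p : ℕ, p.Prime → p ∣ orderOf e → p ∈ tau1 M ∪ tau3 M) →
      sigmaCore M ⊓ centralizer ({e} : Set G) = ⊥) :
    (∃ A₀ : Subgroup G, A₀ ≤ E ∧ E ≤ normalizer (A₀ : Set G) ∧ IsMulCommutative A₀ ∧
        ∀ x ∈ sigmaCore M, x ≠ 1 → E ⊓ centralizer ({x} : Set G) ≤ A₀) ∧
      ∃ E₀ : Subgroup G, E₀ ≤ E ∧ Monoid.exponent E₀ = Monoid.exponent E ∧
        ∀ e ∈ E₀, e ≠ 1 → sigmaCore M ⊓ centralizer ({e} : Set G) = ⊥ := by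
  have hfix : ∀ (r : ℕ) (g : G), r.Prime → g ∈ E → orderOf g = r → r ∉ tau2 M →
      sigmaCore M ⊓ centralizer ({g} : Set G) = ⊥ := fun r g hr hgE hgo hrτ => by
    have hrE : r ∣ Nat.card E := hgo ▸ Subgroup.orderOf_dvd_natCard _ hgE
    have hrσ := compl_pi (base U) hM hE hr hrE
    have hr1 : PRankLE r 1 M := by
      by_contra h1
      exact hrτ ⟨hr, hrσ, not_not.1 fun h => hrσ (OddSigma.alpha_subset_sigma U.hG U.hU hM ⟨hr, h⟩), h1⟩
    refine h g hgE (fun h1 => hr.one_lt.ne (by rw [← hgo, h1, orderOf_one])) fun q hq hd => ?_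
    rw [hgo, Nat.prime_dvd_prime_iff_eq hq hr] at hd
    subst hd
    by_cases hM' : q ∣ Nat.card ↥⁅M, M⁆
    · exact Or.inr ⟨hr, hrσ, hM', hr1⟩
    · exact Or.inl ⟨hr, hrσ, hrE.trans (card_dvd_of_le hE.1), hM', hr1⟩
  by_cases hna : ∃ q ∈ tau2 M, ∀ S : Sylow q G, ¬ IsMulCommutative (S : Subgroup G)
  · obtain ⟨q, hq, hS⟩ := hna
    have := Fact.mk hq.1
    obtain ⟨B, hgB, hBE⟩ := exists_good_in_compl U hM hE hq.2.1 hq.2.2.2
    exact frobenius_nonabelian U hE hgB hBE hS hfix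
  push Not at hna
  -- the normal abelian Sylow subgroups of `E` at the primes of `τ₂(M)`
  have hsyl : ∀ q ∈ tau2 M, ∃ P : Subgroup G, IsMulCommutative P ∧ P ≤ E ∧ E ≤ normalizer (P : Set G) ∧
      ¬ q ∣ P.relIndex E ∧ (∀ x ∈ E, ∀ k, orderOf x = q ^ k → x ∈ P) ∧ IsPGroup q P ∧
      ∃ (m : ℕ) (a c : G), (∀ x ∈ P, x ^ q ^ (m + 1) = 1) ∧ c ∈ P ∧ c ^ q ^ m = a ∧
        a ≠ 1 ∧ E ≤ normalizer (zpowers a : Set G) ∧ sigmaCore M ⊓ centralizer ({a} : Set G) = ⊥ := by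
    intro q hq
    have := Fact.mk hq.1
    obtain ⟨B, hgB, hBE⟩ := exists_good_in_compl U hM hE hq.2.1 hq.2.2.2
    obtain ⟨P, hBP⟩ := (Signalizer.isPGroup_of_elemAb hgB.elem).exists_le_sylow
    obtain ⟨S, hSc⟩ := hna q hq
    have hab : IsMulCommutative (P : Subgroup G) := by
      obtain ⟨x, hx⟩ := MulAction.exists_smul_eq G S P
      rw [← hx, Sylow.coe_subgroup_smul, Solvable.conj_eq_map]
      infer_instance
    have hPE := hgB.abelian_sylowOf U hE hBE hBP hab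
    have hEP : E ≤ normalizer ((P : Subgroup G) : Set G) :=
      (hgB.le_normalizer_compl U hM hE hBE).1.trans (hgB.normalizer_le_sylow U hE hBE hBP hab)
    obtain ⟨m, a, c, h1, h2, h3, -, h4, h5, h6⟩ := hgB.exists_top_line U hE hBE hBP hab hfix
    refine ⟨P, hab, hPE.2.1, hEP, hPE.2.2, fun x hx k hk => ?_, P.2, m, a, c, h1, h2, h3, h4, h5, h6⟩
    have hxp : IsPGroup q (zpowers x) := IsPGroup.of_card (n := k) (by rw [Nat.card_zpowers, hk])
    exact (P.is_maximal' (hxp.to_sup_of_normal_right' P.2 ((zpowers_le.2 hx).trans hEP)) le_sup_right).le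
      (mem_sup_left (mem_zpowers x))
  choose P hPc hPE hEP hPi hPmem hPp hPtop using hsyl
  set gens := {x : G | x ∈ E ∧ ∃ q ∈ tau2 M, ∃ k, orderOf x = q ^ k} with hgens
  set A₀ := closure gens with hA₀
  have hA₀E : A₀ ≤ E := (closure_le _).2 fun x hx => hx.1
  have hcomm : ∀ x ∈ gens, ∀ y ∈ gens, x * y = y * x := by
    rintro x ⟨hx, q, hq, k, hk⟩ y ⟨hy, r, hr, l, hl⟩
    have hxP := hPmem q hq x hx k hk
    have hyP := hPmem r hr y hy l hl
    by_cases hqr : q = r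
    · subst hqr
      exact congrArg (fun z : P q hq => (z : G)) ((hPc q hq).is_comm.comm ⟨x, hxP⟩ ⟨y, hyP⟩)
    · have := Fact.mk hq.1
      have := Fact.mk hr.1
      have hbot : P q hq ⊓ P r hr = ⊥ := (IsPGroup.disjoint_of_ne q r hqr (P q hq) (P r hr) (hPp q hq) (hPp r hr)).eq_bot
      have h1 : ⁅P q hq, P r hr⁆ ≤ ⊥ := hbot ▸ le_inf
        (le_normalizer_iff_commutator_le_left.1 ((hPE r hr).trans (hEP q hq)))
        (le_normalizer_iff_commutator_le_right.1 ((hPE q hq).trans (hEP r hr)))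
      exact (commutator_eq_bot_iff_le_centralizer.1 (le_bot_iff.1 h1) hxP y hyP).symm
  have hA₀c : IsMulCommutative A₀ := Subgroup.isMulCommutative_closure hcomm
  have hA₀comm : ∀ x ∈ A₀, ∀ y ∈ A₀, Commute x y := fun x hx y hy =>
    congrArg (fun z : A₀ => (z : G)) (hA₀c.is_comm.comm ⟨x, hx⟩ ⟨y, hy⟩)
  have hA₀π : ∀ x ∈ A₀, ∀ r : ℕ, r.Prime → r ∣ orderOf x → r ∈ tau2 M := by
    intro x hx
    induction hx using closure_induction with
    | mem x hx =>
      obtain ⟨-, q, hq, k, hk⟩ := hx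
      intro r hr hd
      rw [hk] at hd
      exact ((Nat.prime_dvd_prime_iff_eq hr hq.1).1 (hr.dvd_of_dvd_pow hd)).symm ▸ hq
    | one =>
      intro r hr hd
      rw [orderOf_one] at hd
      exact absurd hd hr.not_dvd_one
    | mul x y hx hy ihx ihy =>
      intro r hr hd
      rcases hr.dvd_mul.1 (hd.trans ((hA₀comm x hx y hy).orderOf_mul_dvd_mul_orderOf)) with h | h
      · exact ihx r hr h
      · exact ihy r hr h
    | inv x hx ih => simpa using ih
  have hEA₀ : E ≤ normalizer (A₀ : Set G) := fun e he => Signalizer.mem_normalizer_of_conj_mem fun x hx => by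
    induction hx using closure_induction with
    | mem x hx =>
      obtain ⟨hx, q, hq, k, hk⟩ := hx
      exact subset_closure ⟨mul_mem (mul_mem he hx) (inv_mem he), q, hq, k, by
        rw [← hk]; exact MulEquiv.orderOf_eq (MulAut.conj e) x⟩
    | one => simp
    | mul x y _ _ ihx ihy =>
      rw [show e * (x * y) * e⁻¹ = e * x * e⁻¹ * (e * y * e⁻¹) by group]
      exact mul_mem ihx ihy
    | inv x _ ih =>
      rw [← conj_inv]
      exact inv_mem ih
  have hcent : ∀ x ∈ sigmaCore M, x ≠ 1 → E ⊓ centralizer ({x} : Set G) ≤ A₀ := by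
    rintro x hx hx1 e ⟨he, hex⟩
    refine Transfer.mem_of_forall_primePow fun q hq y hy ⟨k, hk⟩ => ?_
    by_cases hy1 : y = 1
    · exact hy1 ▸ one_mem _
    have hyE : y ∈ E := zpowers_le.2 he hy
    refine subset_closure ⟨hyE, q, ?_, k, hk⟩
    by_contra hqτ
    have hk0 : k ≠ 0 := fun h0 => hy1 (orderOf_eq_one_iff.1 (by rw [hk, h0, pow_zero]))
    have hwo : orderOf (y ^ q ^ (k - 1)) = q := by
      rw [orderOf_pow_of_dvd (pow_ne_zero _ hq.ne_zero) (hk ▸ pow_dvd_pow q (Nat.sub_le k 1)), hk,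
        Nat.pow_div (Nat.sub_le k 1) hq.pos, show k - (k - 1) = 1 by omega, pow_one]
    refine hx1 (mem_bot.1 ?_)
    rw [← hfix q _ hq (pow_mem hyE _) hwo hqτ]
    obtain ⟨i, rfl⟩ := hy
    exact ⟨hx, mem_centralizer_singleton_iff.2
      ((Commute.zpow_right (show Commute x e from (mem_centralizer_singleton_iff.1 hex).symm) i).pow_right _).eq⟩
  refine ⟨⟨A₀, hA₀E, hEA₀, hA₀c, hcent⟩, ?_⟩
  have hPA₀ : ∀ q hq, P q hq ≤ A₀ := fun q hq x hx => by
    have := Fact.mk hq.1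
    obtain ⟨k, hk⟩ := IsPGroup.iff_orderOf.1 (hPp q hq) ⟨x, hx⟩
    rw [orderOf_mk] at hk
    exact subset_closure ⟨hPE q hq hx, q, hq, k, hk⟩
  have hA₀card : ∀ r : ℕ, r.Prime → r ∣ Nat.card A₀ → r ∈ tau2 M := fun r hr hd => by
    have := Fact.mk hr
    obtain ⟨x, hx⟩ := exists_prime_orderOf_dvd_card' r hd
    refine hA₀π x x.2 r hr ?_
    rw [Subgroup.orderOf_coe, hx]
  have := compl_solvable (base U) hM hE
  obtain ⟨L, hL⟩ := OddMax.exists_compl (M := E) hA₀E hEA₀ (Nat.coprime_of_dvd fun r hr h1 h2 => by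
    have hrτ := hA₀card r hr h1
    exact hPi r hrτ (h2.trans (relIndex_dvd_of_le_left E (hPA₀ r hrτ))))
  have hLE : L ≤ E := hL.1
  have hLA₀ : ∀ l ∈ L, l ∈ A₀ → l = 1 := fun l hl hlA => by
    have h1 : l ∈ L ⊓ A₀ := ⟨hl, hlA⟩
    rwa [hL.2.2.1, mem_bot] at h1
  have hLq : ∀ q ∈ tau2 M, ¬ q ∣ Nat.card L := fun q hq hd => by
    rw [← OddMax.compl_relIndex_left hL] at hd
    exact hPi q hq (hd.trans (relIndex_dvd_of_le_left E (hPA₀ q hq)))
  -- the cyclic fixed point free pieces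
  have hd : ∀ q (hq : q ∈ tau2 M), ∃ d, d ∈ P q hq ∧ L ≤ normalizer (zpowers d : Set G) ∧
      (∀ x ∈ P q hq, x ^ orderOf d = 1) ∧
      ∀ y ∈ zpowers d, y ≠ 1 → sigmaCore M ⊓ centralizer ({y} : Set G) = ⊥ := by
    intro q hq
    have := Fact.mk hq.1
    have := hPc q hq
    obtain ⟨m, a, c, hexp, hc, hca, ha1, hEa, hfa⟩ := hPtop q hq
    obtain ⟨d, hd, hdo, had, hLd⟩ := exists_invariant_cyclic ((hLE.trans (hEP q hq))) (hLq q hq) hexp hc hca ha1
      (hLE.trans hEa)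
    refine ⟨d, hd, hLd, fun x hx => hdo.symm ▸ hexp x hx, fun y hy hy1 => ?_⟩
    have hap : a ^ q = 1 := by rw [← hca, ← pow_mul, ← pow_succ]; exact hexp c hc
    obtain ⟨w, hwy, hwo⟩ : ∃ w ∈ zpowers y, orderOf w = q := by
      obtain ⟨k, hk⟩ := IsPGroup.iff_orderOf.1 (hPp q hq) ⟨y, zpowers_le.2 hd hy⟩
      rw [orderOf_mk] at hk
      have hdvd : q ∣ Nat.card (zpowers y) := by
        rw [Nat.card_zpowers, hk]
        exact dvd_pow_self q fun h0 => hy1 (orderOf_eq_one_iff.1 (by rw [hk, h0, pow_zero]))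
      obtain ⟨w, hw⟩ := exists_prime_orderOf_dvd_card' q hdvd
      exact ⟨w, w.2, by rw [Subgroup.orderOf_coe, hw]⟩
    have heq : zpowers w = zpowers a := TIHall.eq_of_card_eq_cyclic (C := zpowers d)
      ((zpowers_le.2 hwy).trans (zpowers_le.2 hy)) (zpowers_le.2 had)
      (by rw [Nat.card_zpowers, Nat.card_zpowers, hwo, orderOf_eq_prime hap ha1])
    refine le_bot_iff.1 (le_trans (inf_le_inf_left _ ?_) hfa.le)
    rw [← centralizer_line a, ← heq, ← centralizer_line y]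
    exact centralizer_le (zpowers_le.2 hwy)
  choose d hdP hLd hdexp hdfix using hd
  set gD := {y : G | ∃ q, ∃ hq : q ∈ tau2 M, y ∈ zpowers (d q hq)} with hgD
  set D := closure gD with hD
  have hDA : D ≤ A₀ := (closure_le _).2 fun y ⟨q, hq, hy⟩ => hPA₀ q hq (zpowers_le.2 (hdP q hq) hy)
  have hLD : L ≤ normalizer (D : Set G) := fun l hl => Signalizer.mem_normalizer_of_conj_mem fun x hx => by
    induction hx using closure_induction with
    | mem x hx =>
      obtain ⟨q, hq, hx⟩ := hx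
      exact subset_closure ⟨q, hq, (mem_normalizer_iff.1 (hLd q hq hl) x).1 hx⟩
    | one => simp
    | mul x y _ _ ihx ihy =>
      rw [show l * (x * y) * l⁻¹ = l * x * l⁻¹ * (l * y * l⁻¹) by group]
      exact mul_mem ihx ihy
    | inv x _ ih =>
      rw [← conj_inv]
      exact inv_mem ih
  set E₀ := D ⊔ L with hE₀
  have hE₀E : E₀ ≤ E := sup_le (hDA.trans hA₀E) hLE
  refine ⟨E₀, hE₀E, ?_, fun e he he1 => ?_⟩
  swap
  · refine (eq_bot_iff_forall _).2 fun x hx => ?_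
    by_contra hx1
    have heA := hcent x hx.1 hx1 ⟨hE₀E he, mem_centralizer_singleton_iff.2 (mem_centralizer_singleton_iff.1 hx.2).symm⟩
    rw [hE₀, ← SetLike.mem_coe, coe_mul_of_right_le_normalizer_left _ _ hLD] at he
    obtain ⟨δ, hδ, l, hl, rfl⟩ := he
    simp only at heA he1 hx
    obtain rfl : l = 1 := hLA₀ l hl (by simpa using mul_mem (inv_mem (hDA hδ)) heA)
    rw [mul_one] at he1 hx heA
    obtain ⟨q, hq, hqd⟩ := Nat.exists_prime_and_dvd (mt orderOf_eq_one_iff.1 he1)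
    have hqτ := hA₀π δ heA q hq hqd
    set g := δ ^ (orderOf δ / q) with hg'
    have hgo : orderOf g = q := orderOf_pow_orderOf_div (orderOf_pos δ).ne' hqd
    have hdec : ∀ w ∈ D, ∃ c ∈ zpowers (d q hqτ), ∃ y ∈ A₀, ¬ q ∣ orderOf y ∧ w = c * y := by
      intro w hw
      induction hw using closure_induction with
      | mem w hw =>
        obtain ⟨r, hr, hw⟩ := hw
        by_cases hrq : r = q
        · subst hrq
          exact ⟨w, hw, 1, one_mem _, by simpa using hq.ne_one, (mul_one w).symm⟩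
        · refine ⟨1, one_mem _, w, hPA₀ r hr (zpowers_le.2 (hdP r hr) hw), fun hdw => hrq ?_, (one_mul w).symm⟩
          have := Fact.mk hr.1
          exact (Set.mem_singleton_iff.1 (OddTrans.pi_of_isPGroup (hPp r hr) q hq
            (hdw.trans (Subgroup.orderOf_dvd_natCard _ (zpowers_le.2 (hdP r hr) hw))))).symm
      | one => exact ⟨1, one_mem _, 1, one_mem _, by simpa using hq.ne_one, (mul_one 1).symm⟩
      | mul v w _ _ ihv ihw =>
        obtain ⟨c, hc, y, hy, hyq, rfl⟩ := ihv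
        obtain ⟨c', hc', y', hy', hyq', rfl⟩ := ihw
        refine ⟨c * c', mul_mem hc hc', y * y', mul_mem hy hy', fun hd' => ?_, ?_⟩
        · rcases hq.dvd_mul.1 (hd'.trans (hA₀comm y hy y' hy').orderOf_mul_dvd_mul_orderOf) with h | h
          · exact hyq h
          · exact hyq' h
        · exact Commute.mul_mul_mul_comm (hA₀comm y hy c' (hPA₀ q hqτ (zpowers_le.2 (hdP q hqτ) hc'))) c y'
      | inv v _ ih =>
        obtain ⟨c, hc, y, hy, hyq, rfl⟩ := ih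
        refine ⟨c⁻¹, inv_mem hc, y⁻¹, inv_mem hy, by simpa using hyq, ?_⟩
        rw [mul_inv_rev]
        exact (hA₀comm _ (inv_mem hy) _ (inv_mem (hPA₀ q hqτ (zpowers_le.2 (hdP q hqτ) hc)))).eq
    obtain ⟨c, hc, y, hy, hyq, hgcy⟩ := hdec g (pow_mem hδ _)
    have hcA := hPA₀ q hqτ (zpowers_le.2 (hdP q hqτ) hc)
    have hy1 : y = 1 := by
      have := Fact.mk hq
      obtain ⟨k, hk⟩ := IsPGroup.iff_orderOf.1 (hPp q hqτ) ⟨c, zpowers_le.2 (hdP q hqτ) hc⟩
      rw [orderOf_mk] at hk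
      have h1 : orderOf y ∣ q ^ (k + 1) := by
        rw [show y = c⁻¹ * g by rw [hgcy, inv_mul_cancel_left], pow_succ]
        refine ((hA₀comm _ (inv_mem hcA) g (hDA (pow_mem hδ _))).orderOf_mul_dvd_mul_orderOf).trans ?_
        rw [orderOf_inv, hk, hgo]
      exact orderOf_eq_one_iff.1 (Nat.eq_one_of_dvd_coprimes
        (Nat.Coprime.pow_left (k + 1) (hq.coprime_iff_not_dvd.2 hyq)) h1 dvd_rfl)
    rw [hy1, mul_one] at hgcy
    refine hx1 (mem_bot.1 ?_)
    rw [← hdfix q hqτ g (hgcy ▸ hc) fun h1 => hq.one_lt.ne (by rw [← hgo, h1, orderOf_one])]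
    exact ⟨hx.1, mem_centralizer_singleton_iff.2
      (Commute.pow_right (show Commute x δ from mem_centralizer_singleton_iff.1 hx.2) _).eq⟩
  refine dvd_antisymm (Monoid.exponent_dvd_of_monoidHom (Subgroup.inclusion hE₀E) (inclusion_injective hE₀E))
    (exponent_dvd_of_parts fun r k y hr hy hyo => ?_)
  have hpow : ∀ w ∈ E₀, w ^ Monoid.exponent E₀ = 1 := fun w hw =>
    congrArg Subtype.val (Monoid.pow_exponent_eq_one (⟨w, hw⟩ : E₀))
  by_cases hrτ : r ∈ tau2 M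
  · have hdd : orderOf (d r hrτ) ∣ Monoid.exponent E₀ :=
      orderOf_dvd_of_pow_eq_one (hpow _ (mem_sup_left (subset_closure ⟨r, hrτ, mem_zpowers _⟩)))
    obtain ⟨t, ht⟩ := hdd
    rw [ht, pow_mul, hdexp r hrτ y (hPmem r hrτ y hy k hyo), one_pow]
  · obtain ⟨a, ha, l, hl, rfl⟩ : ∃ a ∈ A₀, ∃ l ∈ L, y = a * l := by
      have h := hy
      rw [← OddMax.compl_eq_sup hL, sup_comm, ← SetLike.mem_coe,
        coe_mul_of_right_le_normalizer_left _ _ (hLE.trans hEA₀)] at h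
      obtain ⟨a, ha, l, hl, rfl⟩ := h
      exact ⟨a, ha, l, hl, rfl⟩
    have h1 := mul_pow_mul_inv_mem ha (hEA₀ (hLE hl)) (Monoid.exponent E₀)
    rw [hpow l (mem_sup_right hl), inv_one, mul_one] at h1
    refine orderOf_eq_one_iff.1 ?_
    by_contra hne
    obtain ⟨s, hs, hsd⟩ := Nat.exists_prime_and_dvd hne
    refine hrτ ?_
    rw [← (Nat.prime_dvd_prime_iff_eq hs hr).1 (hs.dvd_of_dvd_pow (hyo ▸ hsd.trans (orderOf_pow_dvd _)))]
    exact hA₀π _ h1 s hs hsd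

end Cfsg.Agent.OddTau2
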