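import Cfsg.Agent.Lib.OddOrder.TypeGeneral
import Cfsg.Agent.Lib.OddOrder.Sec15
import Cfsg.Agent.Lib.OddOrder.Sec16Facts
import Cfsg.Agent.Lib.FpfAction.Basic

/-!
Bender-Glauberman 16: maximal subgroups with `κ(M) = ∅` are of Type I, modulo `Sec16Facts`.
* `mem_pCore_of_nilpotent`, `mem_pPrimeCore_of_nilpotent`
* `typeOne_basic`, `isOfTypeF_of_kappa_empty`, `isCyclic_pPrimeCore_of_not_ti`,
  `isOfTypeI_of_kappa_empty`
-/

set_option autoImplicit false

namespace Cfsg.Agent.OddMax

open scoped Pointwise commutatorElement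

section General

variable {G : Type*} [Group G] [Finite G]

theorem mem_pCore_of_nilpotent {H : Subgroup G} (hn : Group.IsNilpotent H) {p : ℕ} [Fact p.Prime]
    {y : G} (hy : y ∈ H) (hp : IsPGroup p (Subgroup.zpowers y)) :
    y ∈ (pCore p H).map H.subtype := by
  have := hn
  refine ⟨⟨y, hy⟩, Cores.le_pCore_of_isSubnormal (Cores.isSubnormal_of_nilpotent _) ?_
    (Subgroup.mem_zpowers (⟨y, hy⟩ : H)), rfl⟩
  obtain ⟨n, hn'⟩ := hp.exists_card_eq
  exact IsPGroup.of_card (n := n) (by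
    rw [Nat.card_zpowers, Subgroup.orderOf_mk, ← Nat.card_zpowers, hn'])

theorem mem_pPrimeCore_of_nilpotent {H : Subgroup G} (hn : Group.IsNilpotent H) {p : ℕ}
    {y : G} (hy : y ∈ H) (hp : (orderOf y).Coprime p) :
    y ∈ (pPrimeCore p H).map H.subtype := by
  have := hn
  exact ⟨⟨y, hy⟩, Cores.le_pPrimeCore_of_isSubnormal (Cores.isSubnormal_of_nilpotent _)
    (by rwa [Nat.card_zpowers, Subgroup.orderOf_mk]) (Subgroup.mem_zpowers (⟨y, hy⟩ : H)), rfl⟩

theorem isPGroup_zpowers_of_pi {p : ℕ} [Fact p.Prime] {a : G}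
    (h : ∀ q : ℕ, q.Prime → q ∣ orderOf a → q ∈ ({p} : Set ℕ)) :
    IsPGroup p (Subgroup.zpowers a) :=
  IsPGroup.of_card (n := (orderOf a).primeFactorsList.length)
    ((Nat.card_zpowers a).trans (pow_of_unique_prime (orderOf_pos a).ne' h))

theorem prime_of_dvd_pGroup {p q : ℕ} [hp : Fact p.Prime] {S : Subgroup G} (hS : IsPGroup p S)
    (hq : q.Prime) (hd : q ∣ Nat.card S) : q = p := by
  obtain ⟨n, hn⟩ := hS.exists_card_eq
  exact (Nat.prime_dvd_prime_iff_eq hq hp.out).1 (hq.dvd_of_dvd_pow (hn ▸ hd))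

end General

universe u

variable {G : Type u} [Group G] [Finite G] (hG : IsMinSimpleOddOrder G) (F : Sec16Facts G)
  {M U : Subgroup G} (hM : IsCoatom M) (hKU : IsSigmaDecomposition M ⊥ U)
include hG F hM hKU

omit hG F hM in
theorem compl_of_kappa_empty : IsComplIn U (sigmaCore M) M := by
  have h := decomp_compl hKU
  rwa [sup_bot_eq] at h

theorem typeOne_basic : U ≠ ⊥ ∧ Group.IsNilpotent (sigmaCore M) ∧
    fittingHallOf M = sigmaCore M := by
  have hU : U ≠ ⊥ := by
    intro h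
    have hc := compl_eq_sup (compl_of_kappa_empty hKU)
    rw [h, bot_sup_eq] at hc
    exact (commutator_lt hG hM).not_ge
      (hc.symm.le.trans (sigmaCore_le_commutator F.toSec15Facts hM))
  have hn := (nilpotent_and_centralizer_of_U_ne F.toSec15Facts hM hKU hU).1
  exact ⟨hU, hn, fittingHallOf_eq_of_nilpotent hG hM (F.s1350 M hM).1 hn⟩

theorem isOfTypeF_of_kappa_empty : IsOfTypeF M := by
  obtain ⟨hU, -, hH⟩ := typeOne_basic hG F hM hKU
  obtain ⟨U₀, hU₀, hexp, hfree⟩ := F.s1360 M hM ⊥ U hKU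
  have hUM : U ≤ M := U_le hKU
  refine isOfTypeF_mk (OddSigma.proper_solvable hG hM.1) (OddSigma.odd_card hG M) hH
    (sigmaCore_ne_bot F.toSec15Facts hM hKU) hU (compl_symm (compl_of_kappa_empty hKU))
    (U₁ := Subgroup.closure ((U : Set G) ∩ sigmaHat M)) ((Subgroup.closure_le _).2 fun z hz => hz.1)
    ?_ (F.s1359 M hM ⊥ U hKU) (fun x hx hx1 z hz => ?_) hU₀ hexp fun u hu hu1 x hx hc => ?_
  · intro v hv
    refine Coprime.mem_normalizer_of_forall fun z hz => ?_
    induction hz using Subgroup.closure_induction with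
    | mem z hz =>
      refine Subgroup.subset_closure ⟨U.mul_mem (U.mul_mem hv hz.1) (U.inv_mem hv), ?_⟩
      obtain ⟨hzM, y, hy, hy1, hc⟩ := hz.2
      refine ⟨M.mul_mem (M.mul_mem (hUM hv) hzM) (M.inv_mem (hUM hv)), v * y * v⁻¹,
        (Subgroup.mem_normalizer_iff.1 (le_normalizer_sigmaCore M (hUM hv)) y).1 hy,
        fun e => hy1 (conj_eq_one_iff.1 e), ?_⟩
      calc v * z * v⁻¹ * (v * y * v⁻¹) = v * (z * y) * v⁻¹ := by group
        _ = v * (y * z) * v⁻¹ := by rw [hc]
        _ = v * y * v⁻¹ * (v * z * v⁻¹) := by group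
    | one => simp
    | mul a b _ _ ha hb =>
      rw [show v * (a * b) * v⁻¹ = v * a * v⁻¹ * (v * b * v⁻¹) by group]
      exact mul_mem ha hb
    | inv a _ ha =>
      rw [show v * a⁻¹ * v⁻¹ = (v * a * v⁻¹)⁻¹ by group]
      exact inv_mem ha
  · exact Subgroup.subset_closure ⟨hz.1, hUM hz.1, x, hx, hx1,
      Subgroup.mem_centralizer_singleton_iff.1 hz.2⟩
  · by_contra hx1
    exact hu1 (hfree u hu ⟨hUM (hU₀ hu), x, hx, hx1, hc⟩)

theorem isCyclic_pPrimeCore_of_not_ti {p : ℕ} [hp : Fact p.Prime] {g : G} (hg : g ∉ M)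
    (hMF : ⁅M, M⁆ = fittingOf M)
    (hXH : fittingOf M ⊓ (fittingOf M).map (MulAut.conj g).toMonoidHom ≤ fittingHallOf M)
    (hXc : Nat.card ↥(fittingOf M ⊓ (fittingOf M).map (MulAut.conj g).toMonoidHom) = p)
    (hcyc : IsCyclic (pPrimeCore p ↥(fittingHallOf M))) :
    p ∣ Nat.card (fittingHallOf M) ∧ IsCyclic (pPrimeCore p M) := by
  refine ⟨hXc ▸ Subgroup.card_dvd_of_le hXH, ?_⟩
  obtain ⟨hU, hHn, hH⟩ := typeOne_basic hG F hM hKU
  have hκ : kappa M = ∅ := (kappa_empty_iff hKU).2 rfl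
  set H := sigmaCore M with hHdef
  rw [hH] at hcyc hXH
  have hHM : H ≤ M := sigmaCore_le M
  have hMH : M ≤ Subgroup.normalizer (H : Set G) := le_normalizer_sigmaCore M
  have hHF : H ≤ fittingOf M := hH ▸ fittingHallOf_le_fittingOf M
  have hFn := fittingOf_nilpotent M
  set P := (pCore p H).map H.subtype with hPdef
  set R := (pPrimeCore p H).map H.subtype with hRdef
  have hPp : IsPGroup p P := (Cores.isPGroup_pCore p H).map _
  have hMP : M ≤ Subgroup.normalizer (P : Set G) :=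
    hMH.trans (Cores.normalizer_le_normalizer_map (pCore p H))
  have hMR : M ≤ Subgroup.normalizer (R : Set G) :=
    hMH.trans (Cores.normalizer_le_normalizer_map (pPrimeCore p H))
  have hPH : P ≤ H := Subgroup.map_subtype_le _
  have hRH : R ≤ H := Subgroup.map_subtype_le _
  have hRc : IsCyclic R :=
    (Subgroup.equivMapOfInjective _ H.subtype H.subtype_injective).isCyclic.1 hcyc
  have hRp : (Nat.card R).Coprime p := by
    rw [hRdef, Subgroup.card_map_of_injective H.subtype_injective]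
    exact Cores.coprime_card_pPrimeCore p
  -- the element `y`
  obtain ⟨⟨y, hy⟩, hyo⟩ := exists_prime_orderOf_dvd_card' p (dvd_of_eq hXc.symm)
  rw [Subgroup.orderOf_mk] at hyo
  have hy1 : y ≠ 1 := fun e => hp.out.one_lt.ne (by rw [← hyo, e, orderOf_one])
  have hyH : y ∈ H := hXH hy
  have hyP : y ∈ P := mem_pCore_of_nilpotent hHn hyH
    (IsPGroup.of_card (n := 1) (by rw [Nat.card_zpowers, hyo, pow_one]))
  have hP1 : P ≠ ⊥ := fun h => hy1 (by rwa [h, Subgroup.mem_bot] at hyP)
  have hyM : ¬ Subgroup.centralizer ({y} : Set G) ≤ M := fun h =>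
    hg (mem_of_centralizer_le hG F.toSigFacts hM hyH hy1 h
      ((conj_le_conj g).2 (fittingOf_le M) hy.2))
  obtain ⟨N, hN⟩ := exists_signalizer hG F.toSigFacts hM hyH hy1 hyM
  have hPhall : (Nat.card P).Coprime (P.relIndex H) := by
    obtain ⟨S⟩ : Nonempty (Sylow p H) := inferInstance
    have := (Group.isNilpotent_of_finite_tfae.out 0 3 rfl rfl).1 hHn p inferInstance S
    rw [hPdef, Cores.pCore_eq_sylow S, relIndex_eq_index,
      Subgroup.card_map_of_injective H.subtype_injective, S.card_eq_multiplicity]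
    exact (hp.out.coprime_iff_not_dvd.2 S.not_dvd_index).pow_left _
  obtain ⟨X₀, hX₀c, -, hX₀C, hCP⟩ := hall_centralizer hG F.toSec15Facts hM hPH hP1 hPhall
  rw [← hHdef] at hCP
  set N₀ := H ⊓ Subgroup.centralizer (P : Set G) with hN₀
  have hX₀N : X₀ ≤ Subgroup.normalizer (N₀ : Set G) := by
    intro x hx
    refine Coprime.mem_normalizer_of_forall fun z hz =>
      ⟨(Subgroup.mem_normalizer_iff.1 (hMH (hX₀C hx).1) z).1 hz.1, ?_⟩
    exact Subgroup.mul_mem _ (Subgroup.mul_mem _ (hX₀C hx).2 hz.2) (inv_mem (hX₀C hx).2)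
  have hcyc' : ∀ T : Subgroup G, T ≤ M → T ≤ Subgroup.centralizer (P : Set G) →
      (Nat.card T).Coprime (Nat.card H) → IsCyclic T := fun T hTM hTP hcop =>
    isCyclic_of_inf_eq_bot hX₀c hX₀N (hCP ▸ le_inf hTM hTP) (Coprime.inf_eq_bot
      (hcop.coprime_dvd_right (Subgroup.card_dvd_of_le inf_le_left)))
  -- `L = O_{p'}(M)`
  set L := (pPrimeCore p M).map M.subtype with hLdef
  have hLM : L ≤ M := Subgroup.map_subtype_le _
  have hML : M ≤ Subgroup.normalizer (L : Set G) := le_normalizer_map_of_normal _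
  have hLp : (Nat.card L).Coprime p := by
    rw [hLdef, Subgroup.card_map_of_injective M.subtype_injective]
    exact Cores.coprime_card_pPrimeCore p
  have hLP : L ≤ Subgroup.centralizer (P : Set G) := by
    intro l hl
    refine Subgroup.mem_centralizer_iff.2 fun z hz => ?_
    have h1 : l * z * l⁻¹ * z⁻¹ ∈ L ⊓ P := by
      refine ⟨?_, P.mul_mem ((Subgroup.mem_normalizer_iff.1 (hMP (hLM hl)) z).1 hz) (P.inv_mem hz)⟩
      rw [show l * z * l⁻¹ * z⁻¹ = l * (z * l⁻¹ * z⁻¹) by group]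
      exact L.mul_mem hl ((Subgroup.mem_normalizer_iff.1 (hML (hHM (hPH hz))) _).1 (L.inv_mem hl))
    rw [Coprime.inf_eq_bot (Nat.coprime_of_dvd fun q hq h2 h3 => hq.not_dvd_one
      (hLp ▸ Nat.dvd_gcd h2 (prime_of_dvd_pGroup hPp hq h3 ▸ dvd_rfl))), Subgroup.mem_bot,
      mul_inv_eq_one] at h1
    calc z * l = l * z * l⁻¹ * l := by rw [h1]
      _ = l * z := by group
  have hσ : ∀ {r : ℕ}, r.Prime → r ∉ sigma M → ¬ r ∣ Nat.card H :=
    fun hr h hd => h (sigmaCore_pi M _ hr hd)
  -- `σ'`-elements of prime power order in `L` lie in `F(M)`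
  have hstep : ∀ (r : ℕ), r.Prime → r ∉ sigma M → ∀ t ∈ L,
      IsPGroup r (Subgroup.zpowers t) → t ∈ fittingOf M := by
    intro r hr hrσ t ht htp
    have := Fact.mk hr
    by_contra htF
    have ht1 : t ≠ 1 := fun e => htF (e ▸ one_mem _)
    obtain ⟨q, hq, hqd, x₁, hx₁t, hx₁o⟩ := exists_prime_part ht1
    obtain rfl : q = r := prime_of_dvd_pGroup htp hq (by rwa [Nat.card_zpowers])
    have hx₁L : x₁ ∈ L := Subgroup.zpowers_le.2 ht hx₁t
    have hx₁M := hLM hx₁L
    have hx₁1 : x₁ ≠ 1 := fun e => hr.one_lt.ne (by rw [← hx₁o, e, orderOf_one])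
    have hx₁y : x₁ * y = y * x₁ := (Subgroup.mem_centralizer_iff.1 (hLP hx₁L) y hyP).symm
    have hx₁σ : ∀ s : ℕ, s.Prime → s ∣ orderOf x₁ → s ∉ sigma M := fun s hs hd => by
      rw [hx₁o] at hd
      rwa [(Nat.prime_dvd_prime_iff_eq hs hr).1 hd]
    have hτ : q ∈ tau2 M := by
      rcases F.s1432 M hM y hyH hy1 x₁
        ⟨hx₁M, Subgroup.mem_centralizer_singleton_iff.2 hx₁y⟩ hx₁1 hx₁σ with ⟨hk, -⟩ | ⟨h, -⟩
      · exact absurd (hk q hr (dvd_of_eq hx₁o.symm)) (by rw [hκ]; exact Set.notMem_empty q)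
      · exact h q hr (dvd_of_eq hx₁o.symm)
    by_cases hcase : ∃ z ∈ fittingOf M, z ≠ 1 ∧ IsPGroup q (Subgroup.zpowers z)
    · -- `O_q(F(M)) ≠ 1`
      obtain ⟨A, hAM, hA, hAc⟩ := OddSigma.exists_elementary (k := 1) hτ.2.2.2
      have hAc2 : Nat.card A = q ^ 2 := le_antisymm
        (not_lt.1 fun h' => OddSigma.not_prankLE_of_le hAM hA h' hτ.2.2.1) hAc
      have hab : ∀ S : Sylow q M, IsMulCommutative (S : Subgroup M) := fun S =>
        ((F.s1417 M hM q hτ A ⟨hAM, hA, hAc2⟩).2.1 S).1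
      set Fr := (pCore q (fittingOf M)).map (fittingOf M).subtype with hFr
      have hFrF : Fr ≤ fittingOf M := Subgroup.map_subtype_le _
      have hFrp : IsPGroup q Fr := (Cores.isPGroup_pCore q (fittingOf M)).map _
      have hMFr : M ≤ Subgroup.normalizer (Fr : Set G) := (le_normalizer_fittingOf M).trans
        (Cores.normalizer_le_normalizer_map (pCore q (fittingOf M)))
      have hFrP : Fr ≤ Subgroup.centralizer (P : Set G) := fun z hz =>
        Subgroup.mem_centralizer_iff.2 fun h hh => OddSigma.commute_in_nilpotent hFn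
          (hHF (hPH hh)) (hFrF hz) (Nat.coprime_of_dvd fun s hs h2 h3 => by
            have e := prime_of_dvd_pGroup hFrp hs (h3.trans (Subgroup.orderOf_dvd_natCard _ hz))
            exact hσ hs (e ▸ hrσ) (h2.trans (Subgroup.orderOf_dvd_natCard _ (hPH hh))))
      set U' := Fr ⊔ Subgroup.zpowers t with hU'
      have htM : Subgroup.zpowers t ≤ M := Subgroup.zpowers_le.2 (hLM ht)
      have hU'p : IsPGroup q U' := hFrp.to_sup_of_normal_left' htp (htM.trans hMFr)
      have hU'M : U' ≤ M := sup_le (hFrF.trans (fittingOf_le M)) htM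
      have hU'c : IsCyclic U' := hcyc' U' hU'M
        (sup_le hFrP (Subgroup.zpowers_le.2 (hLP ht)))
        (Nat.coprime_of_dvd fun s hs h2 h3 =>
          hσ hs (prime_of_dvd_pGroup hU'p hs h2 ▸ hrσ) h3)
      have hle := le_commutator_of_cyclic (hMF ▸ hFn) hab hU'M hU'p hU'c
        (fun z hz hzp => Subgroup.mem_sup_left (mem_pCore_of_nilpotent hFn (hMF ▸ hz) hzp))
        (hMF.symm ▸ hcase)
      exact htF (hMF ▸ hle (Subgroup.mem_sup_right (Subgroup.mem_zpowers t)))
    · push Not at hcase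
      have hx₁F : x₁ ∉ fittingOf M := fun h =>
        hcase x₁ h hx₁1 (IsPGroup.of_card (n := 1) (by rw [Nat.card_zpowers, hx₁o, pow_one]))
      set A := Subgroup.zpowers x₁ with hA
      have hAR : A ≤ Subgroup.normalizer (R : Set G) := Subgroup.zpowers_le.2 (hMR hx₁M)
      have hAcard : Nat.card A = q := by rw [hA, Nat.card_zpowers, hx₁o]
      have hcopAR : (Nat.card A).Coprime (Nat.card R) := by
        rw [hAcard]
        exact hr.coprime_iff_not_dvd.2 fun h => hσ hr hrσ (h.trans (Subgroup.card_dvd_of_le hRH))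
      have hRab : IsMulCommutative R := ⟨⟨hRc.commGroup.mul_comm⟩⟩
      have hne : ¬ A ≤ Subgroup.centralizer (R : Set G) := by
        intro h
        apply hx₁F
        rw [fitting_eq hG F.toSec15Facts hM, hH]
        refine Subgroup.mem_sup_left ⟨hx₁M, Subgroup.mem_centralizer_iff.2 fun z hz => ?_⟩
        obtain ⟨a, b, ha, hb, hab', haπ, hbπ⟩ := exists_pi_parts {p} z
        have haP : a ∈ P := mem_pCore_of_nilpotent hHn (Subgroup.zpowers_le.2 hz ha)
          (isPGroup_zpowers_of_pi haπ)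
        have hbR : b ∈ R := mem_pPrimeCore_of_nilpotent hHn (Subgroup.zpowers_le.2 hz hb)
          ((hp.out.coprime_iff_not_dvd.2 fun h' => hbπ p hp.out h' rfl).symm)
        have h1 : Commute a x₁ := Subgroup.mem_centralizer_iff.1 (hLP hx₁L) a haP
        have h2 : Commute b x₁ :=
          Subgroup.mem_centralizer_iff.1 (h (Subgroup.mem_zpowers x₁)) b hbR
        rw [← hab']
        exact (h1.mul_left h2).eq
      obtain ⟨w, hwR, hwo, hwx⟩ : ∃ w ∈ R, (orderOf w).Prime ∧ x₁ * w ≠ w * x₁ := by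
        by_contra hc
        push Not at hc
        refine hne (Coprime.abelian_trivial_of_prime_order hAR hcopAR fun v hv hvo a ha => ?_)
        obtain ⟨i, rfl⟩ := Subgroup.mem_zpowers_iff.1 ha
        exact ((show Commute x₁ v from hc v hv hvo).zpow_left i).eq
      set W := Subgroup.zpowers w with hW
      have hw1 : w ≠ 1 := fun e => hwx (by simp [e])
      have hwM : w ∈ M := hHM (hRH hwR)
      have hMW : M ≤ Subgroup.normalizer (W : Set G) := by
        intro m hm
        refine Coprime.mem_normalizer_of_forall fun z hz => ?_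
        obtain ⟨i, hi⟩ := MonoidHom.map_cyclic
          ((R.normalizerMonoidHom ⟨m, hMR hm⟩).toMonoidHom : R →* R)
        have h1 := congrArg Subtype.val (hi ⟨z, Subgroup.zpowers_le.2 hwR hz⟩)
        have h2 : m * z * m⁻¹ = z ^ i := h1
        rw [h2]
        exact W.zpow_mem hz i
      have hCw : Subgroup.centralizer ({w} : Set G) ≤ M := by
        rw [← centralizer_zpowers]
        refine (Subgroup.centralizer_le_normalizer _).trans (le_of_eq ?_)
        exact normalizer_eq hG hM (mt Subgroup.zpowers_eq_bot.1 hw1)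
          (Subgroup.zpowers_le.2 hwM) hMW
      have hCx : Subgroup.centralizer ({x₁} : Set G) ≤ M := by
        obtain ⟨E, hE⟩ := exists_compl_sigmaCore hG F.toSigFacts hM
        refine ((F.s1420 M hM E hE).2.2.2 x₁ hx₁M hx₁1 (fun s hs hd => ?_)
          ⟨hx₁M, y, hyH, hy1, hx₁y⟩).1
        rw [hx₁o] at hd
        rwa [(Nat.prime_dvd_prime_iff_eq hs hr).1 hd]
      have hwy : w * y = y * w := OddSigma.commute_in_nilpotent hHn (hRH hwR) hyH (by
        rw [hyo]; exact hRp.coprime_dvd_left (Subgroup.orderOf_dvd_natCard _ hwR))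
      have hwN : w ∈ N := hN.le (Subgroup.mem_centralizer_singleton_iff.2 hwy)
      have hxN : x₁ ∈ N := hN.le (Subgroup.mem_centralizer_singleton_iff.2 hx₁y)
      set Ns := sigmaCore N with hNs
      have hNsn : Group.IsNilpotent Ns := by
        rw [hNs, hN.fitting_eq]
        exact fittingHallOf_nilpotent N
      have hNs1 : Ns ≠ ⊥ := fun h => hN.ne_bot (by rw [← hNs, h, bot_inf_eq])
      have : Nontrivial Ns := (Subgroup.nontrivial_iff_ne_bot Ns).2 hNs1
      have := hNsn
      set V := (Subgroup.center Ns).map Ns.subtype with hVdef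
      have hNV : N ≤ Subgroup.normalizer (V : Set G) := (le_normalizer_sigmaCore N).trans
        (Cores.normalizer_le_normalizer_map (Subgroup.center Ns))
      have hVs : V ≤ Ns := Subgroup.map_subtype_le _
      have hVab : IsMulCommutative V := ⟨⟨fun a b => Subtype.ext (by
        obtain ⟨a', ha', ea⟩ := a.2
        show (a : G) * b = b * a
        rw [← ea]
        exact (congrArg Subtype.val
          (Subgroup.mem_center_iff.1 ha' ⟨b, hVs b.2⟩)).symm)⟩⟩
      have hVfix : ∀ C : Subgroup G, Subgroup.centralizer (C : Set G) ≤ M →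
          V ⊓ Subgroup.centralizer (C : Set G) = ⊥ := by
        intro C hC
        rw [eq_bot_iff, ← hN.compl.2.2.1]
        exact fun v hv => ⟨⟨hC hv.2, sigmaCore_le N (hVs hv.1)⟩, hVs hv.1⟩
      have hWp : (Nat.card W).Prime := by rw [hW, Nat.card_zpowers]; exact hwo
      have hfree : ∀ x ∈ A, x ≠ 1 → W ⊓ Subgroup.centralizer ({x} : Set G) = ⊥ := by
        intro x hx hxne
        have hgen : x₁ ∈ Subgroup.zpowers x := by
          have h2 : Subgroup.zpowers x = A := Subgroup.eq_of_le_of_card_ge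
            (Subgroup.zpowers_le.2 hx) (by
              rw [hAcard, Nat.card_zpowers]
              exact (((Nat.dvd_prime hr).1 (hAcard ▸ Subgroup.orderOf_dvd_natCard A hx)).resolve_left
                (mt orderOf_eq_one_iff.1 hxne)).ge)
          rw [h2]
          exact Subgroup.mem_zpowers x₁
        rw [Subgroup.eq_bot_iff_forall]
        rintro v ⟨hv, hvx⟩
        by_contra hv1
        have h2 : Subgroup.zpowers v = W := Subgroup.eq_of_le_of_card_ge
          (Subgroup.zpowers_le.2 hv) (by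
            rw [Nat.card_zpowers v]
            exact (((Nat.dvd_prime hWp).1 (Subgroup.orderOf_dvd_natCard W hv)).resolve_left
              (mt orderOf_eq_one_iff.1 hv1)).ge)
        refine hwx ?_
        have hwv : w ∈ Subgroup.zpowers v := h2 ▸ Subgroup.mem_zpowers w
        obtain ⟨i, rfl⟩ := Subgroup.mem_zpowers_iff.1 hgen
        obtain ⟨j, rfl⟩ := Subgroup.mem_zpowers_iff.1 hwv
        exact (((show Commute v x from
          Subgroup.mem_centralizer_singleton_iff.1 hvx).zpow_left j).zpow_right i).eq.symm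
      have hkey := FpfAction.pow_card_eq_one (Q := W) (X := A) (V := V)
        (Subgroup.zpowers_le.2 (hMW hx₁M)) (Subgroup.zpowers_le.2 (hNV hwN))
        (Subgroup.zpowers_le.2 (hNV hxN)) hfree
        (hVfix W ((centralizer_zpowers w).le.trans hCw))
        (hVfix A ((centralizer_zpowers x₁).le.trans hCx))
      have hVne : V ≠ ⊥ := fun h => Group.IsNilpotent.center_ne_bot (G := Ns)
        ((Subgroup.map_eq_bot_iff_of_injective _ Ns.subtype_injective).1 h)
      obtain ⟨v, hv1⟩ := Subgroup.ne_bot_iff_exists_ne_one.1 hVne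
      refine hv1 (orderOf_eq_one_iff.1 (Nat.eq_one_of_dvd_coprimes
        ((sigmaCore_coprime F.toSigFacts hN.coatom).coprime_dvd_right ?_)
        ((orderOf_dvd_natCard v).trans (Subgroup.card_dvd_of_le hVs))
        (orderOf_dvd_of_pow_eq_one (hkey v))))
      rw [compl_relIndex_left hN.compl, hW]
      exact Subgroup.card_dvd_of_le (Subgroup.zpowers_le.2 ⟨hwM, hwN⟩)
  -- `L ≤ F(M)`
  have hLF : L ≤ fittingOf M := by
    rw [← Subgroup.relIndex_eq_one]
    by_contra hne
    obtain ⟨r, hr, hrd⟩ := Nat.exists_prime_and_dvd hne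
    have := Fact.mk hr
    obtain ⟨S⟩ : Nonempty (Sylow r L) := inferInstance
    refine S.not_dvd_index (hrd.trans (Subgroup.index_dvd_of_le ?_))
    intro s hs
    show (s : G) ∈ fittingOf M
    have hsp : IsPGroup r (Subgroup.zpowers (s : G)) :=
      isPGroup_zpowers (S.2.map L.subtype) ⟨s, hs, rfl⟩
    by_cases hrσ : r ∈ sigma M
    · refine hHF (mem_sigmaCore_of_sigma F.toSigFacts hM (hLM s.2) fun q hq hd => ?_)
      rwa [prime_of_dvd_pGroup hsp hq (by rwa [Nat.card_zpowers])]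
    · exact hstep r hr hrσ s s.2 hsp
  have hLc : IsCyclic L := by
    refine isCyclic_of_sylows (Cores.isNilpotent_of_le hLF hFn) fun r hr S hSL hSp => ?_
    have := Fact.mk hr
    by_cases hrσ : r ∈ sigma M
    · have hSR : S ≤ R := fun s hs => by
        refine mem_pPrimeCore_of_nilpotent hHn ?_
          (hLp.coprime_dvd_left (Subgroup.orderOf_dvd_natCard _ (hSL hs)))
        refine mem_sigmaCore_of_sigma F.toSigFacts hM (hLM (hSL hs)) fun q hq hd => ?_
        rwa [prime_of_dvd_pGroup hSp hq (hd.trans (Subgroup.orderOf_dvd_natCard _ hs))]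
      exact isCyclic_of_injective (Subgroup.inclusion hSR) (Subgroup.inclusion_injective hSR)
    · refine hcyc' S (hSL.trans hLM) (hSL.trans hLP) (Nat.coprime_of_dvd fun q hq h1 h2 => ?_)
      exact hσ hq (prime_of_dvd_pGroup hSp hq h1 ▸ hrσ) h2
  exact (Subgroup.equivMapOfInjective _ M.subtype M.subtype_injective).isCyclic.2 hLc

/-- BG Theorem I: `κ(M) = ∅` gives Type I, given `M' = F(M)` when `F(M)` is not TI. (Local analysis
gives `M' ≤ F(M)` only, and `O_{p'}(M_F)` cyclic in place of `O_{p'}(M)`.) -/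
theorem isOfTypeI_of_kappa_empty (hEq : ∀ g : G, g ∉ M →
    fittingOf M ⊓ (fittingOf M).map (MulAut.conj g).toMonoidHom ≠ ⊥ → ⁅M, M⁆ = fittingOf M) :
    IsOfTypeI M := by
  refine ⟨isOfTypeF_of_kappa_empty hG F hM hKU, ?_⟩
  by_cases hTI : IsTISubset (fittingHallOf M : Set G)
  · exact Or.inl hTI
  unfold IsTISubset at hTI
  push Not at hTI
  obtain ⟨g, hg, x, hx, hgx, hx1⟩ := hTI
  have hgM : g ∉ M := fun h => hg (le_normalizer_fittingHallOf M h)
  have hne : fittingOf M ⊓ (fittingOf M).map (MulAut.conj g).toMonoidHom ≠ ⊥ := fun h => hx1 (by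
    have h1 : g * x * g⁻¹ ∈ fittingOf M ⊓ (fittingOf M).map (MulAut.conj g).toMonoidHom :=
      ⟨fittingHallOf_le_fittingOf M hgx, x, fittingHallOf_le_fittingOf M hx, rfl⟩
    rw [h, Subgroup.mem_bot] at h1
    exact conj_eq_one_iff.1 h1)
  obtain ⟨⟨hXH, -⟩, -, hcases⟩ := F.s1440 M hM ⊥ U hKU g hgM hne
  have hMF := hEq g hgM hne
  rcases hcases with ⟨-, h1, h2, h3⟩ | ⟨p, hp, hXc, -, -, -, hcyc, hexp⟩ |
    ⟨p, -, -, -, -, -, -, -, h, -⟩
  · exact Or.inr (Or.inl ⟨h1, h2, h3⟩)
  · have := Fact.mk hp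
    exact Or.inr (Or.inr ⟨hexp, p, hp,
      isCyclic_pPrimeCore_of_not_ti hG F hM hKU hgM hMF hXH hXc hcyc⟩)
  · exact absurd rfl h

end Cfsg.Agent.OddMax
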