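import Cfsg.Agent.Lib.OddOrder.TypeOne

/-!
Bender-Glauberman 16: the types of maximal subgroups, modulo `Sec16Facts`.
* `isTypePWith_mk`, `exists_typeP_compl`, `kappa_nonempty_of_typeP`
* `typeI_iff` (statement 1380), `typeII_iff` (1381), `typeIII_IV_iff` (1382), `typeV_iff` (1383)
* `typeCore_eq`
-/

set_option autoImplicit false

namespace Cfsg.Agent.OddMax

open scoped Pointwise commutatorElement

universe u

/-- "`κ(M) = ∅` implies Type I", with Type I as defined in the Prelude. -/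
def TypeOneFact (G : Type u) [Group G] [Finite G] : Prop :=
  ∀ M : Subgroup G, IsCoatom M → kappa M = ∅ → IsOfTypeI M

variable {G : Type u} [Group G] [Finite G] (hG : IsMinSimpleOddOrder G) (F : Sec16Facts G)
  {M K U : Subgroup G} (hM : IsCoatom M) (hKU : IsSigmaDecomposition M K U)

theorem U_normalizes_hat_closure (hUM : U ≤ M) :
    U ≤ Subgroup.normalizer (Subgroup.closure ((U : Set G) ∩ sigmaHat M) : Set G) := by
  intro v hv
  refine Coprime.mem_normalizer_of_forall fun z hz => ?_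
  induction hz using Subgroup.closure_induction with
  | mem z hz =>
    refine Subgroup.subset_closure ⟨U.mul_mem (U.mul_mem hv hz.1) (U.inv_mem hv), ?_⟩
    obtain ⟨hzM, y, hy, hy1, hc⟩ := hz.2
    refine ⟨M.mul_mem (M.mul_mem (hUM hv) hzM) (M.inv_mem (hUM hv)), v * y * v⁻¹,
      (Subgroup.mem_normalizer_iff.1 (le_normalizer_sigmaCore M (hUM hv)) y).1 hy,
      fun e => hy1 (conj_eq_one_iff.1 e), ?_⟩
    calc v * z * v⁻¹ * (v * y * v⁻¹) = v * (z * y) * v⁻¹ := by group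
      _ = v * (y * z) * v⁻¹ := by rw [hc]
      _ = v * y * v⁻¹ * (v * z * v⁻¹) := by group
  | one => simp
  | mul a b _ _ ha hb =>
    rw [show v * (a * b) * v⁻¹ = v * a * v⁻¹ * (v * b * v⁻¹) by group]
    exact mul_mem ha hb
  | inv a _ ha =>
    rw [show v * a⁻¹ * v⁻¹ = (v * a * v⁻¹)⁻¹ by group]
    exact inv_mem ha

include hG F hM hKU

omit hG in
theorem U_sigmaCore_coprime : (Nat.card (sigmaCore M)).Coprime (Nat.card U) :=
  Nat.coprime_of_dvd fun p hp h1 h2 =>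
    (U_primes F.toSec15Facts hM hKU hp h2).1 (sigmaCore_pi M p hp h1)

omit hG in
theorem U_compl_sup : IsComplIn U (sigmaCore M) (U ⊔ sigmaCore M) := by
  refine ⟨le_sup_left, le_sup_right, Coprime.inf_eq_bot (U_sigmaCore_coprime F hM hKU).symm,
    fun m hm => ?_⟩
  rw [sup_comm, Coprime.mem_sup_iff ((U_le hKU).trans (le_normalizer_sigmaCore M))] at hm
  obtain ⟨n, hn, u, hu, rfl⟩ := hm
  exact ⟨u, hu, u⁻¹ * n * u,
    (Subgroup.mem_normalizer_iff''.1 (le_normalizer_sigmaCore M (U_le hKU hu)) n).1 hn, by group⟩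

theorem kappa_basic (hK : K ≠ ⊥) :
    ⁅M, M⁆ = U ⊔ sigmaCore M ∧ IsComplIn ⁅M, M⁆ K M ∧
      (Nat.card ↥⁅M, M⁆).Coprime (Nat.card K) := by
  have h1 := (F.s1365 M hM K U hKU hK).1
  have hle : ⁅M, M⁆ ≤ M := (commutator_lt hG hM).le
  have hcop : (Nat.card ↥⁅M, M⁆).Coprime (Nat.card K) := by
    rw [h1, ← compl_card (U_compl_sup F hM hKU)]
    refine Nat.coprime_of_dvd fun p hp h2 h3 => ?_
    have hk := hKU.hall.2.1 p hp h3
    rcases hp.dvd_mul.1 h2 with h4 | h4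
    · exact (U_primes F.toSec15Facts hM hKU hp h4).2.1 hk
    · exact hk.2.2.1 (sigmaCore_pi M p hp h4)
  have hidx : ⁅M, M⁆.relIndex M = Nat.card K := by rw [h1]; exact U_relIndex hKU
  refine ⟨h1, compl_symm (isComplIn_of_card hle (K_le hKU) ?_
    (le_normalizer_commutator_self M) hidx.symm), hcop⟩
  rwa [hidx]

omit hG in
theorem hall_K : (Nat.card K).Coprime (K.relIndex M) :=
  Nat.coprime_of_dvd fun p hp h1 h2 => hKU.hall.2.2 p hp (hKU.hall.2.1 p hp h1) h2

theorem isTypePWith_mk (hK : K ≠ ⊥) {U' : Subgroup G} (hn : Group.IsNilpotent U')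
    (hKn : K ≤ Subgroup.normalizer (U' : Set G))
    (hc : IsComplIn (fittingHallOf M) U' ⁅M, M⁆) :
    IsTypePWith M K U' (sigmaCore M ⊓ Subgroup.centralizer (K : Set G)) := by
  obtain ⟨hM', hcompl, hcop⟩ := kappa_basic hG F hM hKU hK
  obtain ⟨hKsc, hKsF, hHnc⟩ := F.s1364 M hM K U hKU hK
  set Ks := sigmaCore M ⊓ Subgroup.centralizer (K : Set G) with hKs
  have hκ : (kappa M).Nonempty := (kappa_nonempty_iff hKU).2 hK
  have hfe := fitting_eq hG F.toSec15Facts hM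
  have hKs' : Ks ≤ ⁅⁅M, M⁆, ⁅M, M⁆⁆ := (F.s1365 M hM K U hKU hK).2
  refine ⟨hK, hKU.cyclic, hall_K F hM hKU, hcompl, hn, hKn, hc, hHnc, ?_, ?_,
    fitting_le_commutator hG F.toSec15Facts hM hκ, le_inf hKsF hKs', fun x hx hx1 => ?_, ?_⟩
  · rw [sup_comm, ← hfe]
    exact second_derived_le_fitting hG F.toSec15Facts hM
  · rw [sup_comm, hfe]
  · have h := F.s1354_second M hM K hKU.cyclic hKU.hall hK x hx hx1
    refine le_antisymm (fun y hy => ?_) (fun y hy => ⟨?_, ?_⟩)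
    · have hy' : y ∈ M ⊓ Subgroup.centralizer ({x} : Set G) := ⟨hcompl.1 hy.1, hy.2⟩
      rw [h, sup_comm] at hy'
      have hKKs : K ≤ Subgroup.normalizer (Ks : Set G) := fun k hk =>
        Coprime.mem_normalizer_of_forall fun z hz => by
          have e : k * z = z * k := Subgroup.mem_centralizer_iff.1 hz.2 k hk
          rwa [e, mul_inv_cancel_right]
      obtain ⟨z, hz, k, hk, rfl⟩ := (Coprime.mem_sup_iff hKKs).1 hy'
      have hk' : k ∈ ⁅M, M⁆ ⊓ K := by
        refine ⟨?_, hk⟩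
        have h2 : z ∈ ⁅M, M⁆ := by
          rw [hM']
          exact Subgroup.mem_sup_right hz.1
        simpa using (⁅M, M⁆).mul_mem ((⁅M, M⁆).inv_mem h2) hy.1
      rw [hcompl.2.2.1, Subgroup.mem_bot] at hk'
      simpa [hk'] using hz
    · rw [hM']
      exact Subgroup.mem_sup_right hy.1
    · exact Subgroup.mem_centralizer_singleton_iff.2
        (Subgroup.mem_centralizer_iff.1 hy.2 x hx).symm
  · obtain ⟨Ms, hMs, hKst, hKstH⟩ := F.s1366 M hM K U hKU hK
    obtain ⟨-, hZc⟩ := F.s1368 M hM K U hKU hK Ms hMs hKst hKstH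
    obtain ⟨hTI, hN⟩ := F.s1370 M hM K U hKU hK
    refine ⟨hK, F.s1354 M hM K hKU.cyclic hKU.hall, ?_, fun a ha b hb =>
      Subgroup.mem_centralizer_iff.1 hb.2 a ha, hZc, fun X hX hXne => ?_⟩
    · rw [eq_bot_iff, ← K_inf_sigmaCore hKU]
      exact inf_le_inf_left _ inf_le_left
    refine le_antisymm (fun g hg => ?_) (fun g hg => ?_)
    · obtain ⟨x, hx⟩ := hXne
      have hgx : g * x * g⁻¹ ∈ X := (Subgroup.mem_set_normalizer_iff.1 hg x).1 hx
      rw [← hN]
      by_contra hg'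
      have h1 := hTI g hg' x (hX hx) (hX hgx)
      exact (hX hx).2 (Or.inl (h1 ▸ one_mem K))
    · have hab : IsMulCommutative ↥(K ⊔ Ks) := ⟨⟨hZc.commGroup.mul_comm⟩⟩
      refine Subgroup.mem_set_normalizer_iff.2 fun x => ?_
      have key : ∀ y ∈ X, g * y * g⁻¹ = y := fun y hy => by
        have h := congrArg Subtype.val
          (mul_comm' (⟨g, hg⟩ : ↥(K ⊔ Ks)) ⟨y, (hX hy).1⟩)
        change g * y = y * g at h
        rw [h, mul_inv_cancel_right]
      constructor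
      · exact fun hx => by rwa [key x hx]
      · intro hx
        have h2 : x = g * x * g⁻¹ := by
          have h3 := key _ hx
          exact (MulAut.conj g).injective (by simpa using h3.symm)
        rwa [h2]

/-- For `M_F ≠ M_σ`, a nilpotent complement of `M_F` in `M'` is not normalised outside `M`. -/
theorem normalizer_le_of_ne (hne : fittingHallOf M ≠ sigmaCore M) {U' : Subgroup G}
    (hn : Group.IsNilpotent U') (hc : IsComplIn (fittingHallOf M) U' ⁅M, M⁆) :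
    U' ≠ ⊥ ∧ Subgroup.normalizer (U' : Set G) ≤ M := by
  obtain ⟨hU, hK, hMs, hKc, -⟩ := fcore_ne_basic hG F.toSec15Facts hM hKU hne
  have hU'1 : U' ≠ ⊥ := fun h => hne (by
    have e := compl_eq_sup hc
    rw [h, sup_bot_eq] at e
    rw [e, hMs])
  refine ⟨hU'1, ?_⟩
  obtain ⟨r, hr, hrd⟩ := Nat.exists_prime_and_dvd (mt Subgroup.card_eq_one.1 hU'1)
  have := Fact.mk hr
  obtain ⟨S⟩ : Nonempty (Sylow r U') := inferInstance
  have hU's : U' ≤ sigmaCore M := hMs ▸ hc.2.1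
  have hrσ : r ∈ sigma M :=
    sigmaCore_pi M r hr (hrd.trans (Subgroup.card_dvd_of_le hU's))
  refine (normalizer_le_normalizer_sylow hn S).trans
    (normalizer_le_of_mem_sigma hrσ (S.2.map U'.subtype)
      ((Subgroup.map_subtype_le _).trans (hU's.trans (sigmaCore_le M))) ?_)
  rw [← Subgroup.relIndex_mul_relIndex _ U' M (Subgroup.map_subtype_le _)
    (hU's.trans (sigmaCore_le M))]
  refine hr.not_dvd_mul (sylow_relIndex S) ?_
  rw [← Subgroup.relIndex_mul_relIndex U' (sigmaCore M) M hU's (sigmaCore_le M)]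
  refine hr.not_dvd_mul ?_ ((F.s1350 M hM).1.2.2 r hr hrσ)
  rw [hMs, compl_relIndex_left hc]
  exact fun h => hr.not_dvd_one
    ((OddTypeP.card_complement_coprime (hU's.trans (sigmaCore_le M)) hc.2.2.1) ▸ Nat.dvd_gcd h hrd)

theorem exists_typeP_compl (hK : K ≠ ⊥) :
    ∃ U' : Subgroup G, Group.IsNilpotent U' ∧ K ≤ Subgroup.normalizer (U' : Set G) ∧
      IsComplIn (fittingHallOf M) U' ⁅M, M⁆ ∧
      (fittingHallOf M = sigmaCore M → U' = U) := by
  obtain ⟨hM', -, -⟩ := kappa_basic hG F hM hKU hK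
  by_cases heq : fittingHallOf M = sigmaCore M
  · have := (F.s1363 M hM K U hKU hK).1
    refine ⟨U, Cores.isNilpotent_of_isMulCommutative U, hKU.normal, ?_, fun _ => rfl⟩
    rw [heq, hM']
    exact compl_symm (U_compl_sup F hM hKU)
  · obtain ⟨-, -, hMs, -⟩ := fcore_ne_basic hG F.toSec15Facts hM hKU heq
    obtain ⟨Q, -, hq, -, -, hQp, hQF, hQs, hMQ, hQidx, -, hall⟩ :=
      fcore_ne_structure hG F.toSec15Facts hM hKU heq
    have hsol : Group.IsSolvable (sigmaCore M) :=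
      Coprime.isSolvable_of_le (sigmaCore_le M) (OddSigma.proper_solvable hG hM.1)
    have hHs : fittingHallOf M ≤ sigmaCore M := fittingHallOf_le_sigmaCore hG hM
    have hHn := le_normalizer_fittingHallOf M
    have hcopH : (Nat.card (fittingHallOf M)).Coprime
        ((fittingHallOf M).relIndex (sigmaCore M)) :=
      (fittingHallOf_coprime M).coprime_dvd_right (Dvd.intro _
        (Subgroup.relIndex_mul_relIndex _ _ M hHs (sigmaCore_le M)))
    obtain ⟨D, hD, hKD⟩ := exists_invariant_compl (A := K) hHs ((sigmaCore_le M).trans hHn)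
      ((K_le hKU).trans (le_normalizer_sigmaCore M)) hcopH
      (Nat.coprime_of_dvd fun p hp h1 h2 =>
        (hKU.hall.2.1 p hp h1).2.2.1 (sigmaCore_pi M p hp h2)) hsol
    refine ⟨D, ?_, hKD, hMs ▸ compl_symm hD, fun h => absurd h heq⟩
    have hQcop : (Nat.card Q).Coprime (Q.relIndex (sigmaCore M)) := by
      have := Fact.mk hq
      obtain ⟨i, hi⟩ := hQp.exists_card_eq
      rw [hi]
      exact ((hq.coprime_iff_not_dvd).2 hQidx).pow_left _
    have hcopD : (Nat.card D).Coprime (Nat.card Q) := by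
      refine ((OddTypeP.card_complement_coprime (hD.1.trans (sigmaCore_le M)) ?_).symm).coprime_dvd_right
        (Subgroup.card_dvd_of_le hQF)
      rw [inf_comm]; exact hD.2.2.1
    obtain ⟨D₁, hD₁, hDD₁⟩ := exists_compl_ge hQs ((sigmaCore_le M).trans hMQ) hQcop hD.1 hcopD
    exact Cores.isNilpotent_of_le hDD₁ (hall D₁ (compl_symm hD₁)).1

theorem fittingHallOf_commutator_eq (hK : K ≠ ⊥) (hU : U ≠ ⊥) :
    fittingHallOf M = sigmaCore M ∧ fittingHallOf ⁅M, M⁆ = fittingHallOf M := by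
  have heq : fittingHallOf M = sigmaCore M := by
    by_contra h
    exact hU (fcore_ne_basic hG F.toSec15Facts hM hKU h).1
  obtain ⟨hM', hcompl, hcop⟩ := kappa_basic hG F hM hKU hK
  refine ⟨heq, le_antisymm ?_ ?_⟩
  · have hle : fittingHallOf ⁅M, M⁆ ≤ ⁅M, M⁆ := OddTypeP.fittingHallOf_le _
    refine le_fittingHallOf (hle.trans hcompl.1) (fittingHallOf_commutator_invariant M)
      (fittingHallOf_nilpotent _) ?_
    rw [← Subgroup.relIndex_mul_relIndex _ ⁅M, M⁆ M hle hcompl.1, compl_relIndex_right hcompl]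
    exact Nat.Coprime.mul_right (fittingHallOf_coprime _)
      (hcop.coprime_dvd_left (Subgroup.card_dvd_of_le hle))
  · rw [heq]
    have hsM' : sigmaCore M ≤ ⁅M, M⁆ := hM' ▸ le_sup_right
    refine le_fittingHallOf hsM' ((commutator_lt hG hM).le.trans (le_normalizer_sigmaCore M))
      (nilpotent_and_centralizer_of_U_ne F.toSec15Facts hM hKU hU).1 ?_
    rw [hM', compl_relIndex_left (U_compl_sup F hM hKU)]
    exact U_sigmaCore_coprime F hM hKU

/-- BG Theorem II. -/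
theorem isOfTypeII_of (hK : K ≠ ⊥) (hU : U ≠ ⊥) : IsOfTypeII M := by
  obtain ⟨hM', -, -⟩ := kappa_basic hG F hM hKU hK
  obtain ⟨heq, hF'⟩ := fittingHallOf_commutator_eq hG F hM hKU hK hU
  obtain ⟨hKp, hTI, -⟩ := type_p2_facts hG F.toSec15Facts hM F.fittingTI hKU hK hU
  obtain ⟨hab, hN⟩ := F.s1363 M hM K U hKU hK
  have hc : IsComplIn (fittingHallOf M) U ⁅M, M⁆ := by
    rw [heq, hM']
    exact compl_symm (U_compl_sup F hM hKU)
  refine ⟨K, U, _, isTypePWith_mk hG F hM hKU hK (Cores.isNilpotent_of_isMulCommutative U)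
    hKU.normal hc, hU, hKp, hTI, hab, hN, ?_, hF'⟩
  obtain ⟨U₀, hU₀, hexp, hfree⟩ := F.s1360 M hM K U hKU
  have hUM : U ≤ M := U_le hKU
  refine isOfTypeF_mk (H := fittingHallOf M) (U := U) (U₀ := U₀)
    (U₁ := Subgroup.closure ((U : Set G) ∩ sigmaHat M))
    (Coprime.isSolvable_of_le (commutator_lt hG hM).le (OddSigma.proper_solvable hG hM.1))
    (OddSigma.odd_card hG _) hF' (fittingHallOf_ne_bot hG F.toSec15Facts hM) hU hc
    ((Subgroup.closure_le _).2 fun z hz => hz.1) (U_normalizes_hat_closure hUM)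
    (F.s1359 M hM K U hKU) (fun x hx hx1 z hz => ?_) hU₀ hexp fun u hu hu1 x hx h => ?_
  · exact Subgroup.subset_closure ⟨hz.1, hUM hz.1, x, heq ▸ hx, hx1,
      Subgroup.mem_centralizer_singleton_iff.1 hz.2⟩
  · by_contra hx1
    exact hu1 (hfree u hu ⟨hUM (hU₀ hu), x, heq ▸ hx, hx1, h⟩)

/-- BG Theorems III and IV. -/
theorem isOfTypeIII_or_IV_of (hne : fittingHallOf M ≠ sigmaCore M) :
    IsOfTypeIII M ∨ IsOfTypeIV M := by
  obtain ⟨hU, hK, -, -⟩ := fcore_ne_basic hG F.toSec15Facts hM hKU hne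
  obtain ⟨-, hTI, hKp⟩ := fcore_ne_ti hG F.toSec15Facts hM F.fittingTI hKU hne
  obtain ⟨U', hn, hKn, hc, -⟩ := exists_typeP_compl hG F hM hKU hK
  obtain ⟨h1, h2⟩ := normalizer_le_of_ne hG F hM hKU hne hn hc
  have hP := isTypePWith_mk hG F hM hKU hK hn hKn hc
  by_cases hab : IsMulCommutative U'
  · exact Or.inl ⟨K, U', _, hP, h1, hKp, hTI, hab, h2⟩
  · exact Or.inr ⟨K, U', _, hP, h1, hKp, hTI, hab, h2⟩

omit hG hM in
theorem card_K_dvd_exponent (heq : fittingHallOf M = sigmaCore M) :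
    Nat.card K ∣ Monoid.exponent (M ⧸ fittingHall M) := by
  obtain ⟨⟨k, hk⟩, hgen⟩ := hKU.cyclic.exists_generator
  have hKc : orderOf k = Nat.card K := by
    rw [← orderOf_eq_card_of_forall_mem_zpowers hgen, Subgroup.orderOf_mk]
  have hkM : k ∈ M := K_le hKU hk
  set x : M ⧸ fittingHall M := QuotientGroup.mk' _ ⟨k, hkM⟩ with hx
  refine dvd_trans ?_ (Monoid.order_dvd_exponent x)
  rw [← hKc]
  refine orderOf_dvd_of_pow_eq_one ?_
  have h1 : (⟨k, hkM⟩ : M) ^ orderOf x ∈ fittingHall M := by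
    refine (QuotientGroup.eq_one_iff (N := fittingHall M) _).1 ?_
    show QuotientGroup.mk' (fittingHall M) ((⟨k, hkM⟩ : M) ^ orderOf x) = 1
    rw [map_pow, ← hx, pow_orderOf_eq_one]
  have h2 : k ^ orderOf x ∈ K ⊓ sigmaCore M := by
    refine ⟨K.pow_mem hk _, heq ▸ ?_⟩
    exact ⟨_, h1, rfl⟩
  rwa [K_inf_sigmaCore hKU, Subgroup.mem_bot] at h2

/-- BG Theorem V. -/
theorem isOfTypeV_of (hK : K ≠ ⊥) (hU : U = ⊥) (heq : fittingHallOf M = sigmaCore M) :
    IsOfTypeV M := by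
  obtain ⟨hM', hcompl, -⟩ := kappa_basic hG F hM hKU hK
  obtain ⟨U', hn, hKn, hc, hU'⟩ := exists_typeP_compl hG F hM hKU hK
  refine ⟨K, U', _, isTypePWith_mk hG F hM hKU hK hn hKn hc, (hU' heq).trans hU, ?_⟩
  by_cases hTI : IsTISubset (fittingHallOf M : Set G)
  · exact Or.inl hTI
  unfold IsTISubset at hTI
  push Not at hTI
  obtain ⟨g, hg, x, hx, hgx, hx1⟩ := hTI
  have hgM : g ∉ M := fun h => hg (le_normalizer_fittingHallOf M h)
  have hne : fittingOf M ⊓ (fittingOf M).map (MulAut.conj g).toMonoidHom ≠ ⊥ := fun h => hx1 (by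
    have h1 : g * x * g⁻¹ ∈ fittingOf M ⊓ (fittingOf M).map (MulAut.conj g).toMonoidHom :=
      ⟨fittingHallOf_le_fittingOf M hgx, x, fittingHallOf_le_fittingOf M hx, rfl⟩
    rw [h, Subgroup.mem_bot] at h1
    exact conj_eq_one_iff.1 h1)
  obtain ⟨⟨hXH, -⟩, -, hcases⟩ := F.s1440 M hM K U hKU g hgM hne
  rcases hcases with ⟨h, -⟩ | ⟨p, hp, hXc, -, -, -, hcyc, hexp⟩ |
    ⟨p, hp, hXc, -, -, hcyc, hc3, -, -, -, hidx⟩
  · exact absurd h hK
  · exact Or.inr (Or.inl ⟨p, hp, hXc ▸ Subgroup.card_dvd_of_le hXH,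
      (card_K_dvd_exponent F hKU heq).trans (hexp p hp (hXc ▸ Subgroup.card_dvd_of_le hXH)),
      hcyc⟩)
  · refine Or.inr (Or.inr ⟨p, hp, hXc ▸ Subgroup.card_dvd_of_le hXH, hc3, ?_, hcyc⟩)
    have h1 : (fittingHallOf M).relIndex M = Nat.card K := by
      rw [heq, ← U_relIndex hKU, hU, bot_sup_eq]
    rwa [← h1]

omit K U hKU in
/-- Type-P data force `κ(M) ≠ ∅`. -/
theorem kappa_nonempty_of_typeP {W₁ U' W₂ : Subgroup G} (h : IsTypePWith M W₁ U' W₂) :
    (kappa M).Nonempty := by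
  obtain ⟨p, hp, hd⟩ := Nat.exists_prime_and_dvd (mt Subgroup.card_eq_one.1 h.W₁_ne)
  have := Fact.mk hp
  have hWM : W₁ ≤ M := h.W₁_compl.2.1
  have hpM : p ∣ Nat.card M := hd.trans (Subgroup.card_dvd_of_le hWM)
  have hpM' : ¬ p ∣ Nat.card ↥⁅M, M⁆ := by
    rw [← compl_relIndex_left h.W₁_compl]
    exact fun h' => hp.not_dvd_one (h.W₁_hall ▸ Nat.dvd_gcd hd h')
  have hsM' := sigmaCore_le_commutator F.toSec15Facts hM
  have hσ : p ∉ sigma M := fun hs => by
    have h2 : p ∣ Nat.card (sigmaCore M) := by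
      have h1 := card_mul_relIndex (sigmaCore_le M)
      rw [← h1] at hpM
      exact (hp.dvd_mul.1 hpM).resolve_right ((F.s1350 M hM).1.2.2 p hp hs)
    exact hpM' (h2.trans (Subgroup.card_dvd_of_le hsM'))
  refine ⟨p, hp, hpM, hσ, fun P => ?_⟩
  obtain ⟨T⟩ : Nonempty (Sylow p W₁) := inferInstance
  have hidx : ¬ p ∣ ((T : Subgroup W₁).map W₁.subtype).relIndex M := by
    rw [← Subgroup.relIndex_mul_relIndex _ W₁ M (Subgroup.map_subtype_le _) hWM]
    exact hp.not_dvd_mul (sylow_relIndex T) fun h' =>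
      hp.not_dvd_one (h.W₁_hall ▸ Nat.dvd_gcd hd h')
  obtain ⟨P₀, hP₀⟩ := exists_sylow_eq (T.2.map _) ((Subgroup.map_subtype_le _).trans hWM) hidx
  obtain ⟨m, rfl⟩ := MulAction.exists_smul_eq M P₀ P
  refine ⟨?_, ?_⟩
  · have := h.W₁_cyclic
    have h2 : IsCyclic ↥((P₀ : Subgroup M).map M.subtype) := by
      rw [hP₀]
      exact isCyclic_of_injective (Subgroup.inclusion (Subgroup.map_subtype_le _))
        (Subgroup.inclusion_injective _)
    have h3 : IsCyclic (P₀ : Subgroup M) :=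
      (Subgroup.equivMapOfInjective _ M.subtype M.subtype_injective).isCyclic.2 h2
    exact (Sylow.equiv P₀ (m • P₀)).isCyclic.1 h3
  · have hT1 : (T : Subgroup W₁) ≠ ⊥ := by
      intro hb
      have h2 := T.card_eq_multiplicity
      rw [hb, Subgroup.card_bot] at h2
      exact (hp.factorization_pos_of_dvd Nat.card_pos.ne' hd).ne'
        ((Nat.pow_eq_one.1 h2.symm).resolve_left hp.one_lt.ne')
    obtain ⟨⟨⟨t, ht⟩, htT⟩, htne⟩ := Subgroup.ne_bot_iff_exists_ne_one.1 hT1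
    have ht1 : t ≠ 1 := fun e => htne (Subtype.ext (Subtype.ext e))
    have htP : t ∈ (P₀ : Subgroup M).map M.subtype := hP₀ ▸ ⟨_, htT, rfl⟩
    obtain ⟨x, hx, hxt⟩ := htP
    obtain ⟨⟨w, hw⟩, hw1⟩ := Subgroup.ne_bot_iff_exists_ne_one.1 h.selfNormalizing.2.1
    have hws : w ∈ sigmaCore M := fittingHallOf_le_sigmaCore hG hM (h.W₂_le hw).1
    have hwt : t * w = w * t := h.selfNormalizing.2.2.2.1 t ht w hw
    refine ⟨m * x * m⁻¹, ?_, ?_, (m : G) * w * (m : G)⁻¹, ?_, ?_, ?_⟩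
    · show m * x * m⁻¹ ∈ ((m • P₀ : Sylow p M) : Subgroup M)
      exact ⟨x, hx, rfl⟩
    · intro e
      rw [conj_eq_one_iff] at e
      exact ht1 (by rw [← hxt, e]; rfl)
    · exact (Subgroup.mem_normalizer_iff.1 (le_normalizer_sigmaCore M m.2) w).1 hws
    · exact fun e => hw1 (Subtype.ext (conj_eq_one_iff.1 e))
    · change M.subtype x = t at hxt
      show ((m : G) * (x : G) * (m : G)⁻¹) * ((m : G) * w * (m : G)⁻¹) = _
      rw [show (x : G) = t from hxt]
      calc (m : G) * t * (m : G)⁻¹ * ((m : G) * w * (m : G)⁻¹)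
          = (m : G) * (t * w) * (m : G)⁻¹ := by group
        _ = (m : G) * (w * t) * (m : G)⁻¹ := by rw [hwt]
        _ = _ := by
          rw [show ((m * x * m⁻¹ : M) : G) = (m : G) * (x : G) * (m : G)⁻¹ from rfl,
            show (x : G) = t from hxt]
          group

theorem K_ne_of_typeP {W₁ U' W₂ : Subgroup G} (h : IsTypePWith M W₁ U' W₂) : K ≠ ⊥ :=
  (kappa_nonempty_iff hKU).1 (kappa_nonempty_of_typeP hG F hM h)

/-- A subgroup of Type I has `κ(M) = ∅`. -/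
theorem K_eq_bot_of_typeI (h : IsOfTypeI M) : K = ⊥ := by
  by_contra hK
  obtain ⟨-, -, -, -, U'', -, hc, -, U₀, hU₀, hexp, hfree⟩ := h.1
  obtain ⟨-, hKsH, -⟩ := F.s1364 M hM K U hKU hK
  obtain ⟨p, hp, hd⟩ := Nat.exists_prime_and_dvd (mt Subgroup.card_eq_one.1 hK)
  have := Fact.mk hp
  have hκ := hKU.hall.2.1 p hp hd
  have hHp : ¬ p ∣ Nat.card (fittingHall M) := fun h' => hκ.2.2.1 (mem_sigma_of_dvd_fittingHallOf
    hG hM (by rwa [fittingHallOf, Subgroup.card_map_of_injective M.subtype_injective]))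
  have hU'' : p ∣ Nat.card U'' := by
    have h1 := hκ.2.1
    rw [← hc.card_mul] at h1
    exact (hp.dvd_mul.1 h1).resolve_left hHp
  obtain ⟨a, ha⟩ := exists_prime_orderOf_dvd_card' p hU''
  have hpexp : p ∣ Monoid.exponent U₀ := by
    rw [hexp, ← ha]
    exact Monoid.order_dvd_exponent a
  obtain ⟨⟨v, hv⟩, hvo⟩ :=
    exists_prime_orderOf_dvd_card' p (hpexp.trans (Monoid.exponent_dvd.2 fun g => orderOf_dvd_natCard g))
  rw [Subgroup.orderOf_mk] at hvo
  have hv1 : v ≠ 1 := fun e => hp.one_lt.ne (by rw [← hvo, e, orderOf_one])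
  have : Group.IsSolvable M := OddSigma.proper_solvable hG hM.1
  obtain ⟨m, hm⟩ := Solvable.exists_conj_ge_of_solvable (Solvable.isPiHall_subgroupOf hKU.hall)
    (U := Subgroup.zpowers v) (fun q hq hqd => by
      rw [Nat.card_zpowers, hvo] at hqd
      rwa [(Nat.prime_dvd_prime_iff_eq hq hp).1 hqd])
  set k : G := ((m⁻¹ * v * m : M) : G) with hk
  have hkK : k ∈ K := by
    have h0 := Coprime.mem_conj.1 (hm (Subgroup.mem_zpowers v))
    exact h0
  obtain ⟨⟨z, hz⟩, hz1⟩ := Subgroup.ne_bot_iff_exists_ne_one.1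
    (F.s1354 M hM K hKU.cyclic hKU.hall)
  have hzH : (m : G) * z * (m : G)⁻¹ ∈ fittingHallOf M :=
    (Subgroup.mem_normalizer_iff.1 (le_normalizer_fittingHallOf M m.2) z).1 (hKsH hz)
  obtain ⟨z', hz', hze⟩ := hzH
  have hzk : k * z = z * k := Subgroup.mem_centralizer_iff.1 hz.2 k hkK
  have hgoal : (m : G) * z * (m : G)⁻¹ = 1 → False := fun h =>
    hz1 (Subtype.ext (conj_eq_one_iff.1 h))
  apply hgoal
  rw [← hze, hfree v hv hv1 z' hz' (Subtype.ext ?_)]
  · rfl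
  · change M.subtype z' = (m : G) * z * (m : G)⁻¹ at hze
    show (v : G) * (z' : G) = (z' : G) * (v : G)
    rw [show (z' : G) = _ from hze]
    have hvk : (v : G) = (m : G) * k * (m : G)⁻¹ := by
      rw [hk]
      show (v : G) = (m : G) * ((m : G)⁻¹ * (v : G) * (m : G)) * (m : G)⁻¹
      group
    calc (v : G) * ((m : G) * z * (m : G)⁻¹) = (m : G) * (k * z) * (m : G)⁻¹ := by
          rw [hvk]; group
      _ = (m : G) * (z * k) * (m : G)⁻¹ := by rw [hzk]
      _ = _ := by rw [hvk]; group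

theorem decomp_of_typeI (h : IsOfTypeI M) : K = ⊥ ∧ U ≠ ⊥ := by
  have hK := K_eq_bot_of_typeI hG F hM hKU h
  subst hK
  exact ⟨rfl, (typeOne_basic hG F hM hKU).1⟩

/-- Statement 1380, given Type I for `κ(M) = ∅`. -/
theorem typeI_iff (hI : TypeOneFact G) : IsOfTypeI M ↔ K = ⊥ ∧ U ≠ ⊥ :=
  ⟨fun h => decomp_of_typeI hG F hM hKU h,
    fun ⟨hK, _⟩ => hI M hM ((kappa_empty_iff hKU).2 hK)⟩

theorem compl_bot_of_eq {U' : Subgroup G} (hU : U = ⊥) (hK : K ≠ ⊥)
    (heq : fittingHallOf M = sigmaCore M) (hc : IsComplIn (fittingHallOf M) U' ⁅M, M⁆) :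
    U' = ⊥ := by
  rw [heq, (kappa_basic hG F hM hKU hK).1, hU, bot_sup_eq] at hc
  rw [← le_bot_iff, ← hc.2.2.1]
  exact le_inf hc.2.1 le_rfl

theorem U_eq_bot_of_normalizer_le {W₁ U' W₂ : Subgroup G} (h : IsTypePWith M W₁ U' W₂)
    (hU'1 : U' ≠ ⊥) (hN : Subgroup.normalizer (U' : Set G) ≤ M) :
    U = ⊥ ∧ fittingHallOf M ≠ sigmaCore M := by
  have hK := K_ne_of_typeP hG F hM hKU h
  by_cases heq : fittingHallOf M = sigmaCore M
  · exfalso
    by_cases hU : U = ⊥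
    · exact hU'1 (compl_bot_of_eq hG F hM hKU hU hK heq h.U_compl)
    have hc := h.U_compl
    rw [heq, (kappa_basic hG F hM hKU hK).1] at hc
    obtain ⟨n, hn, hne⟩ := Coprime.exists_conj_eq_of_le_sup (N := sigmaCore M) (H := U) (L := U')
      ((U_le hKU).trans (le_normalizer_sigmaCore M)) (U_sigmaCore_coprime F hM hKU).symm
      (Or.inr (Coprime.isSolvable_of_le (sigmaCore_le M) (OddSigma.proper_solvable hG hM.1)))
      (sup_comm U (sigmaCore M) ▸ hc.2.1)
      (Nat.eq_of_mul_eq_mul_left Nat.card_pos ((compl_card hc).trans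
        (((compl_card (U_compl_sup F hM hKU)).symm).trans (mul_comm _ _))))
    refine (F.s1363 M hM K U hKU hK).2 ?_
    rw [← hne, normalizer_conj, ← Solvable.conj_eq_self (sigmaCore_le M hn)] at hN
    exact (conj_le_conj n).1 hN
  · exact ⟨(fcore_ne_basic hG F.toSec15Facts hM hKU heq).1, heq⟩

/-- Statement 1381. -/
theorem typeII_iff : IsOfTypeII M ↔ K ≠ ⊥ ∧ U ≠ ⊥ := by
  refine ⟨fun h => ?_, fun ⟨hK, hU⟩ => isOfTypeII_of hG F hM hKU hK hU⟩
  obtain ⟨W₁, U', W₂, hP, hU'1, -, -, -, hN, -⟩ := h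
  have hK := K_ne_of_typeP hG F hM hKU hP
  refine ⟨hK, fun hU => ?_⟩
  by_cases heq : fittingHallOf M = sigmaCore M
  · exact hU'1 (compl_bot_of_eq hG F hM hKU hU hK heq hP.U_compl)
  · exact hN (normalizer_le_of_ne hG F hM hKU heq hP.U_nilpotent hP.U_compl).2

/-- Statement 1382. -/
theorem typeIII_IV_iff : (IsOfTypeIII M ∨ IsOfTypeIV M) ↔
    (K ≠ ⊥ ∧ U = ⊥ ∧ fittingHallOf M ≠ sigmaCore M) := by
  refine ⟨fun h => ?_, fun h => isOfTypeIII_or_IV_of hG F hM hKU h.2.2⟩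
  rcases h with ⟨W₁, U', W₂, hP, h1, -, -, -, hN⟩ | ⟨W₁, U', W₂, hP, h1, -, -, -, hN⟩ <;>
    exact ⟨K_ne_of_typeP hG F hM hKU hP, U_eq_bot_of_normalizer_le hG F hM hKU hP h1 hN⟩

/-- Statement 1383. -/
theorem typeV_iff : IsOfTypeV M ↔ (K ≠ ⊥ ∧ U = ⊥ ∧ fittingHallOf M = sigmaCore M) := by
  refine ⟨fun h => ?_, fun h => isOfTypeV_of hG F hM hKU h.1 h.2.1 h.2.2⟩
  obtain ⟨W₁, U', W₂, hP, hU', -⟩ := h
  have hK := K_ne_of_typeP hG F hM hKU hP
  have hc := compl_eq_sup hP.U_compl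
  rw [hU', sup_bot_eq] at hc
  have heq : fittingHallOf M = sigmaCore M := le_antisymm (fittingHallOf_le_sigmaCore hG hM)
    ((sigmaCore_le_commutator F.toSec15Facts hM).trans hc.ge)
  refine ⟨hK, ?_, heq⟩
  have h1 := (kappa_basic hG F hM hKU hK).1
  rw [← hc, heq] at h1
  rw [← le_bot_iff, ← (U_compl_sup F hM hKU).2.2.1]
  exact le_inf le_rfl (h1.symm ▸ le_sup_left)

omit K U hKU in
/-- `M_s = M_σ` in all cases. -/
theorem typeCore_eq : typeCore M = sigmaCore M := by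
  obtain ⟨K, U, hKU⟩ := exists_decomp F.toSec15Facts hM
  unfold typeCore
  split_ifs with h
  · exact ((fcore_ne_basic hG F.toSec15Facts hM hKU
      ((typeIII_IV_iff hG F hM hKU).1 h).2.2).2.2.1).symm
  · by_contra hne
    exact h (isOfTypeIII_or_IV_of hG F hM hKU hne)

end Cfsg.Agent.OddMax
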