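import Cfsg.Agent.Lib.OddOrder.Criterion
import Cfsg.Agent.Lib.PNormal.RankTwo
import Cfsg.Agent.Lib.PGroup.UniqueOrderP

/-!
The uniqueness theorem (Bender-Glauberman section 9), relative to the deep facts in `Facts`.
* `fitting_uniqueness_a`, `fitting_uniqueness_b` (S1397)
* `elementary_criterion` (S1398), `unique_of_centralizes` (S1399), `unique_of_rank_three` (S1400)
* `unique_of_fitting_rank_three` (S1401), `unique_of_scn_three` (S1402), `uniqueness` (S1403)
-/

set_option autoImplicit false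

namespace Cfsg.Agent.OddUniq

open scoped Pointwise commutatorElement
open OddTrans

variable {G : Type*} [Group G]

/-- Standing hypotheses: the group is minimal simple of odd order, and the facts of local
analysis that are used. -/
structure Facts (G : Type*) [Group G] : Prop where
  hs : IsSimpleGroup G
  hna : ¬ IsMulCommutative G
  hsol : ∀ X : Subgroup G, X ≠ ⊤ → Group.IsSolvable X
  hodd : Odd (Nat.card G)
  zl : ∀ (p : ℕ) [Fact p.Prime], ZLFact p G
  rankTwo : ∀ (p : ℕ) [Fact p.Prime], RankTwoFact p G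
  scnTrans : ∀ (p : ℕ) [Fact p.Prime], SCNTransFact p G
  scn : ∀ (p : ℕ) [Fact p.Prime], SCNFact p G

/-- The signalizer functor theorem for `a ↦ O_{p'}(C(a))`. -/
def SignalizerFact (p : ℕ) (G : Type*) [Group G] : Prop :=
  ∀ E : Subgroup G, IsElementaryAbelian p E → p ^ 3 ≤ Nat.card E →
    (∀ a ∈ E, a ≠ 1 → Group.IsSolvable ↥(Subgroup.centralizer ({a} : Set G))) →
    ¬ p ∣ Nat.card ↥(⨆ a : {a : G // a ∈ E ∧ a ≠ 1}, centralizerPPrimeCore p (a : G))

variable [Finite G] {p : ℕ}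

theorem ne_two_of_pow_le (hodd : Odd (Nat.card G)) [hp : Fact p.Prime] {k : ℕ} (hk : k ≠ 0)
    {E : Subgroup G} (hE : IsElementaryAbelian p E) (hEc : p ^ k ≤ Nat.card E) : p ≠ 2 := by
  rintro rfl
  exact (Nat.not_even_iff_odd.2 hodd) (even_iff_two_dvd.2
    ((dvd_card_of_le (Signalizer.ne_bot_of_pow_le hk hEc) (Signalizer.isPGroup_of_elemAb hE)
      le_rfl).trans (Subgroup.card_subgroup_dvd_card E)))

omit [Finite G] in
theorem not_pRankLE_of_le [hp : Fact p.Prime] {k : ℕ} {X E : Subgroup G} (hEX : E ≤ X)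
    (hE : IsElementaryAbelian p E) (hEc : p ^ (k + 1) ≤ Nat.card E) : ¬ PRankLE p k X := fun h =>
  absurd (hEc.trans (card_le_of_pRankLE h hEX hE))
    (not_le_of_gt (Nat.pow_lt_pow_right hp.out.one_lt (Nat.lt_succ_self k)))

omit [Finite G] in
theorem not_rankLE_of_le [hp : Fact p.Prime] {k : ℕ} {X E : Subgroup G} (hEX : E ≤ X)
    (hE : IsElementaryAbelian p E) (hEc : p ^ (k + 1) ≤ Nat.card E) : ¬ RankLE k X := fun h =>
  not_pRankLE_of_le hEX hE hEc (h p hp.out)

theorem not_isCyclic_of_sq_le [hp : Fact p.Prime] {B E : Subgroup G} (hEB : E ≤ B)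
    (hE : IsElementaryAbelian p E) (hEc : p ^ 2 ≤ Nat.card E) : ¬ IsCyclic B := by
  intro h
  have : IsCyclic E := Subgroup.isCyclic_of_le hEB
  obtain ⟨g, hg⟩ := IsCyclic.exists_generator (α := E)
  have h1 : Nat.card E ≤ p := by
    rw [← orderOf_eq_card_of_forall_mem_zpowers hg]
    exact Nat.le_of_dvd hp.out.pos (orderOf_dvd_of_pow_eq_one (Subtype.ext (hE.2 g g.2)))
  have h2 : p < p ^ 2 := by
    rw [pow_two]; exact lt_mul_of_one_lt_left hp.out.pos hp.out.one_lt
  omega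

theorem sq_le_of_not_isCyclic [hp : Fact p.Prime] {B : Subgroup G} (hB : IsElementaryAbelian p B)
    (hnc : ¬ IsCyclic B) : p ^ 2 ≤ Nat.card B := by
  obtain ⟨j, hj⟩ := (Signalizer.isPGroup_of_elemAb hB).exists_card_eq
  rw [hj]
  refine Nat.pow_le_pow_right hp.out.pos ?_
  by_contra hlt
  have : j = 0 ∨ j = 1 := by omega
  rcases this with rfl | rfl
  · have : Subsingleton B := (Nat.card_eq_one_iff_unique.1 (by simpa using hj)).1
    exact hnc inferInstance
  · exact hnc (isCyclic_of_prime_card (p := p) (by simpa using hj))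

omit [Finite G] in
theorem elem_map {H : Type*} [Group H] (f : H →* G) {E : Subgroup H}
    (hE : IsElementaryAbelian p E) : IsElementaryAbelian p (E.map f) := by
  have := hE.1
  refine ⟨inferInstance, ?_⟩
  rintro _ ⟨a, ha, rfl⟩
  rw [← map_pow, hE.2 a ha, map_one]

omit [Finite G] in
theorem elem_subgroupOf {E X : Subgroup G} (hE : IsElementaryAbelian p E) :
    IsElementaryAbelian p (E.subgroupOf X) :=
  ⟨⟨⟨fun a b => Subtype.ext (Subtype.ext
    (Signalizer.commute_of_isMulCommutative hE.1 a.2 b.2))⟩⟩, fun a ha => Subtype.ext (hE.2 _ ha)⟩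

omit [Finite G] in
theorem elem_mono {E E' : Subgroup G} (hE : IsElementaryAbelian p E) (h : E' ≤ E) :
    IsElementaryAbelian p E' :=
  ⟨⟨⟨fun a b => Subtype.ext (Signalizer.commute_of_isMulCommutative hE.1 (h a.2) (h b.2))⟩⟩,
    fun a ha => hE.2 a (h ha)⟩

theorem exists_elem_sq_of_not_isCyclic [hp : Fact p.Prime] (hp2 : p ≠ 2) {B : Subgroup G}
    (hB : IsPGroup p B) (hnc : ¬ IsCyclic B) :
    ∃ U : Subgroup G, U ≤ B ∧ IsElementaryAbelian p U ∧ p ^ 2 ≤ Nat.card U := by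
  obtain ⟨A, -, -, hA, hc⟩ := PGroup.exists_normal_elementary_sq hp2 hB (S := (⊤ : Subgroup B))
    (fun h => hnc ((MulEquiv.isCyclic (Subgroup.topEquiv (G := B))).1 h))
  exact ⟨A.map B.subtype, Subgroup.map_subtype_le A, elem_map _ hA,
    by rw [Cores.card_map_subtype, hc]⟩

theorem sq_le_inf_centralizer [hp : Fact p.Prime] {P U E : Subgroup G} (hP : IsPGroup p P)
    (hUP : U ≤ P) (hUn : P ≤ Subgroup.normalizer (U : Set G)) (hU : IsElementaryAbelian p U)
    (hUc : Nat.card U = p ^ 2) (hEP : E ≤ P) (hE3 : p ^ 3 ≤ Nat.card E) :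
    p ^ 2 ≤ Nat.card ↥(E ⊓ Subgroup.centralizer (U : Set G)) := by
  have : (U.subgroupOf P).Normal := Subgroup.normal_subgroupOf_of_le_normalizer hUn
  have h := PNormal.card_le_mul_centralizer hP (elem_subgroupOf hU)
    (by rw [Cores.card_subgroupOf hUP, hUc]) (E.subgroupOf P)
  rw [Cores.card_subgroupOf hEP] at h
  refine le_trans ?_ (Subgroup.card_le_of_le
    (H := (E.subgroupOf P ⊓ Subgroup.centralizer (U.subgroupOf P : Set P)).map P.subtype) ?_)
  · rw [Cores.card_map_subtype]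
    refine Nat.le_of_mul_le_mul_left ?_ hp.out.pos
    rw [← pow_succ']
    exact hE3.trans h
  · rintro _ ⟨x, ⟨hxE, hxC⟩, rfl⟩
    exact ⟨hxE, Subgroup.mem_centralizer_iff.2 fun u hu =>
      congrArg Subtype.val (Subgroup.mem_centralizer_iff.1 hxC ⟨u, hUP hu⟩ hu)⟩

/-! ### S1398 -/

theorem elementary_criterion (hF : Facts G) [Fact p.Prime] {M B : Subgroup G} (hM : IsCoatom M)
    (hBM : B ≤ M) (hBe : IsElementaryAbelian p B) (hBnc : ¬ IsCyclic B)
    (h : (∀ b ∈ B, b ≠ 1 → Subgroup.centralizer ({b} : Set G) ≤ M) ∨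
      ∀ Y : Subgroup G, IsPi (primesNotDvd p) Y → B ≤ Subgroup.normalizer (Y : Set G) → Y ≤ M) :
    InUniqueMaximal B := by
  refine criterion hF.hs hF.hna hF.hsol hF.hodd (hF.zl p) (hF.rankTwo p) (hF.scnTrans p)
    (hF.scn p) hM hBM (Signalizer.isPGroup_of_elemAb hBe) (fun h0 => hBnc ?_) ?_
  · subst h0; infer_instance
  rcases h with h | h
  · intro Y hY hBY
    refine Signalizer.le_of_elements hBe (sq_le_of_not_isCyclic hBe hBnc) M Y
      (fun hd => (hY p Fact.out hd).2 dvd_rfl) hBY fun b hb hb1 => inf_le_right.trans (h b hb hb1)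
  · exact h

/-! ### S1399 -/

theorem unique_of_centralizes (hF : Facts G) {L K : Subgroup G} (hL : InUniqueMaximal L)
    (hK : K ≤ Subgroup.centralizer (L : Set G)) (hKr : ¬ RankLE 1 K) : InUniqueMaximal K := by
  obtain ⟨p, B, hp, hB, hBK, hBc⟩ := exists_elementary_of_not_rankLE hKr
  have : Fact p.Prime := ⟨hp⟩
  obtain ⟨l, hl, hl1⟩ := (Subgroup.bot_or_exists_ne_one L).resolve_left
    (unique_ne_bot hF.hs hF.hna hL)
  have hKtop : K ≠ ⊤ := fun h => centralizer_ne_top hF.hs hF.hna (S := (L : Set G)) hl hl1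
    (top_le_iff.1 (h ▸ hK))
  obtain ⟨M, ⟨hM, hLM⟩, -⟩ := id hL
  have hCb : ∀ b ∈ B, b ≠ 1 → Subgroup.centralizer ({b} : Set G) ≤ M := by
    intro b hb hb1
    obtain ⟨N, hN, hCN⟩ := exists_coatom_ge
      (centralizer_ne_top hF.hs hF.hna (Set.mem_singleton b) hb1)
    refine hCN.trans (le_of_eq (unique_eq hL hN ?_ hM hLM))
    exact fun x hx => hCN (Subgroup.mem_centralizer_singleton_iff.2
      (Subgroup.mem_centralizer_iff.1 (hK (hBK hb)) x hx))
  have hBM : B ≤ M := fun b hb => by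
    by_cases hb1 : b = 1
    · subst hb1; exact one_mem M
    · exact hCb b hb hb1 (Subgroup.mem_centralizer_singleton_iff.2 rfl)
  exact unique_mono (elementary_criterion hF hM hBM hB (not_isCyclic_of_sq_le le_rfl hB hBc)
    (Or.inl hCb)) hBK hKtop

/-! ### S1397 -/

theorem fitting_uniqueness_a (hF : Facts G) [Fact p.Prime] {M A₀ : Subgroup G} (hM : IsCoatom M)
    (hA₀ : A₀ ≤ fittingOf M) (hA₀e : IsElementaryAbelian p A₀) (hA₀3 : p ^ 3 ≤ Nat.card A₀)
    (hnp : ¬ IsPGroup p (fittingOf M)) :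
    InUniqueMaximal (fittingOf M ⊓ Subgroup.centralizer (A₀ : Set G)) := by
  set F := fittingOf M with hFdef
  set A := F ⊓ Subgroup.centralizer (A₀ : Set G) with hAdef
  have hA₀1 : A₀ ≠ ⊥ := Signalizer.ne_bot_of_pow_le three_ne_zero hA₀3
  have hA₀A : A₀ ≤ A :=
    le_inf hA₀ (Subgroup.le_centralizer_iff_isMulCommutative.2 hA₀e.1)
  have hA₀C : A₀ ≤ Subgroup.centralizer (A : Set G) :=
    Subgroup.le_centralizer_iff.1 inf_le_right
  have hZA : F ⊓ Subgroup.centralizer (F : Set G) ≤ A :=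
    inf_le_inf_left _ (Subgroup.centralizer_le hA₀)
  have hCA : F ⊓ Subgroup.centralizer (A : Set G) ≤ A :=
    inf_le_inf_left _ (Subgroup.centralizer_le hA₀A)
  have hπ : ∀ r : ℕ, r.Prime → r ∣ Nat.card F → r ∣ Nat.card A := fun r hr hd => by
    have : Fact r.Prime := ⟨hr⟩
    exact dvd_card_of_le (zc_ne_bot (isNilpotent_fittingOf M) hd) (isPGroup_zc F)
      ((zc_le r F).trans hZA)
  have hpF : p ∣ Nat.card F :=
    dvd_card_of_le hA₀1 (Signalizer.isPGroup_of_elemAb hA₀e) hA₀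
  have hF2 : 2 ≤ (Nat.card F).primeFactors.card := by
    obtain ⟨q, hq, hqF, hqp⟩ : ∃ q : ℕ, q.Prime ∧ q ∣ Nat.card F ∧ q ≠ p := by
      by_contra hcon
      push Not at hcon
      exact hnp (isPGroup_of_pi Fact.out fun q hq hd => hcon q hq hd)
    exact Finset.one_lt_card.2 ⟨q, Nat.mem_primeFactors.2 ⟨hq, hqF, Nat.card_pos.ne'⟩, p,
      Nat.mem_primeFactors.2 ⟨Fact.out, hpF, Nat.card_pos.ne'⟩, hqp⟩
  have hAM : A ≤ M := inf_le_left.trans (fittingOf_le M)
  have hsolM := hF.hsol M hM.1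
  have hP0 : ∀ Y : Subgroup G, Y ≤ M → IsPi (primesNotDvd (Nat.card F)) Y →
      A ≤ Subgroup.normalizer (Y : Set G) → Y = ⊥ := fun Y h1 h2 h3 =>
    inv_eq_bot_of_centralizer_le hsolM inf_le_left hCA h1 h2 h3
  have hTH : TransitivityHypothesis A := by
    refine ⟨ne_bot_of_le_ne_bot hA₀1 hA₀A, fun h => hM.1 (top_le_iff.1 (h ▸ hAM)), ?_⟩
    intro X hX hAX
    rw [pi'_congr inf_le_left hπ]
    refine le_antisymm (sSup_le fun Y hY => ?_) (le_sSup ⟨piCoreOf_le _ _, piCoreOf_pi _ _,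
      hAX.trans (le_normalizer_piCoreOf _ _)⟩)
    exact bender hF.hs hM hF2 inf_le_left hZA hP0 (hF.hsol X hX) hAX hY.1 hY.2.1 hY.2.2
  have hCAM : Subgroup.centralizer (A : Set G) ≤ M :=
    (Subgroup.centralizer_le ((zc_le p F).trans hZA)).trans (centralizer_zc_le hF.hs hM hpF)
  refine unique_intro hM hAM fun L hL hAL =>
    eq_of_no_invariant hF.hs hF.hna hF.hsol hF.hodd hM hL hF2 hZA (fun Y hY hAY => ?_) hAL
  exact no_invariant hF.hs hF.hna hF.hsol hM inf_le_left hTH hπ hA₀e hA₀3 (le_inf hA₀A hA₀C)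
    hCAM hP0 hY hAY

theorem fitting_uniqueness_b (hF : Facts G) [hp : Fact p.Prime] {M : Subgroup G} (hM : IsCoatom M)
    (hFp : IsPGroup p (fittingOf M)) (P : Sylow p M) :
    ¬ p ∣ ((P : Subgroup M).map M.subtype).index ∧
      ∀ A : Subgroup G, IsSCN ((P : Subgroup M).map M.subtype) A → ¬ PRankLE p 2 A →
        A ≤ fittingOf M ∧ InUniqueMaximal A := by
  set F := fittingOf M with hFdef
  set R := (P : Subgroup M).map M.subtype with hRdef
  have hRM : R ≤ M := Subgroup.map_subtype_le _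
  have hRp : IsPGroup p R := P.2.map _
  have hsolM := hF.hsol M hM.1
  have hF1 : F ≠ ⊥ := fittingOf_ne_bot hsolM (coatom_ne_bot hF.hna hM)
  have hFR : F ≤ R := (le_pCoreOf_of_le_fittingOf le_rfl hFp).trans
    (Subgroup.map_mono (Cores.pCore_le_sylow P))
  have hR1 : R ≠ ⊥ := ne_bot_of_le_ne_bot hF1 hFR
  have hπF := primesNotDvd_card_of_isPGroup hFp hF1
  have hU : piCoreOf (primesNotDvd p) M = ⊥ := by
    set U := piCoreOf (primesNotDvd p) M
    have hcop : (Nat.card U).Coprime (Nat.card F) :=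
      (coprime_of_primesNotDvd (hπF.symm ▸ piCoreOf_pi _ _)).symm
    have h1 : U ≤ Subgroup.centralizer (F : Set G) := by
      rw [← Subgroup.commutator_eq_bot_iff_le_centralizer, eq_bot_iff, ← Coprime.inf_eq_bot hcop]
      exact le_inf (Subgroup.le_normalizer_iff_commutator_le_left.1
          ((fittingOf_le M).trans (le_normalizer_piCoreOf _ _)))
        (Subgroup.le_normalizer_iff_commutator_le_right.1
          ((piCoreOf_le _ _).trans (le_normalizer_fittingOf M)))
    rw [eq_bot_iff, ← Coprime.inf_eq_bot hcop]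
    exact le_inf le_rfl ((le_inf (piCoreOf_le _ _) h1).trans (inf_centralizer_fittingOf_le hsolM))
  have hMz : M ≤ Subgroup.normalizer (zl R : Set G) := by
    have h := hF.zl p M P hsolM
    rw [hU, bot_sup_eq] at h
    exact h.trans inf_le_right
  have hNR : Subgroup.normalizer (R : Set G) ≤ M :=
    (normalizer_le_normalizer_zl R).trans (normalizer_eq_of_coatom hF.hs hM (zl_ne_bot hRp hR1)
      ((zl_le R).trans hRM) hMz).le
  obtain ⟨SG, hSG⟩ := hRp.exists_le_sylow
  have hSGeq : (SG : Subgroup G) = R := by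
    by_contra hne
    have hlt := lt_inf_normalizer SG.2 (lt_of_le_of_ne hSG (Ne.symm hne))
    obtain ⟨x, hx, hxR⟩ := SetLike.exists_of_lt hlt
    have hmem := P.3 ((SG.2.to_le inf_le_left).comap_subtype
      (H := (SG : Subgroup G) ⊓ Subgroup.normalizer (R : Set G))) (fun y hy =>
        hlt.le (⟨y, hy, rfl⟩ : (y : G) ∈ R))
    exact hxR ⟨⟨x, hNR hx.2⟩, hmem.le hx, rfl⟩
  refine ⟨hSGeq ▸ SG.not_dvd_index, fun A hA hA3 => ?_⟩
  have hAR : A ≤ R := hA.1
  have hAp := hRp.to_le hAR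
  have hAc := scn_isMulCommutative hA
  obtain ⟨E, hEA, hE, hE3⟩ := exists_elem_of_not_pRankLE hA3
  have hp2 : p ≠ 2 := ne_two_of_pow_le hF.hodd (by omega) hE hE3
  have := hsolM
  have hAF : A ≤ F := by
    have h1 : A.subgroupOf M ≤ (P : Subgroup M) := fun x hx => by
      obtain ⟨y, hy, e⟩ := hAR hx
      exact Subtype.ext e ▸ hy
    have h2 := le_pPrimePCore_of_abelian_normal
      (hF.hodd.of_dvd_nat (Subgroup.card_subgroup_dvd_card M)) hp2 P h1
      ⟨⟨fun a b => Subtype.ext (Subtype.ext (Signalizer.commute_of_isMulCommutative hAc a.2 b.2))⟩⟩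
      (fun x hx => Coprime.mem_normalizer_of_forall fun y hy =>
        (Subgroup.mem_normalizer_iff.1 (hA.2.1 ⟨x, hx, rfl⟩) _).1 hy)
    have hbot : pPrimeCore p M = ⊥ := by
      rw [← Subgroup.map_eq_bot_iff_of_injective _ M.subtype_injective,
        ← piCoreOf_primesNotDvd_prime]
      exact hU
    have hn : (pCore p (↥M ⧸ pPrimeCore p M)).Normal := Subgroup.sSup_normal _ fun _ h => h.1
    have h3 : pPrimePCore p M ≤ pCore p M := by
      refine Cores.le_pCore (hn.comap _) ((Cores.isPGroup_pCore p _).comap_of_ker_isPGroup _ ?_)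
      rw [QuotientGroup.ker_mk', hbot]
      exact IsPGroup.of_bot
    exact fun a ha => pCoreOf_le_fittingOf p M ⟨⟨a, hRM (hAR ha)⟩, h3 (h2 ha), rfl⟩
  refine ⟨hAF, ?_⟩
  have hTH : TransitivityHypothesis A :=
    hF.scnTrans p SG A (by rw [hSGeq]; exact hA) (not_pRankLE_mono one_le_two hA3)
  have hA1 : A ≠ ⊥ := hTH.1
  have hpF : p ∣ Nat.card F := dvd_card_of_le hF1 hFp le_rfl
  have hπ : ∀ r : ℕ, r.Prime → r ∣ Nat.card F → r ∣ Nat.card A := fun r hr hd => by
    rw [Set.mem_singleton_iff.1 (pi_of_isPGroup hFp r hr hd)]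
    exact dvd_card_of_le hA1 hAp le_rfl
  have hzA : zc p F ≤ A := by
    refine le_trans (le_inf (((zc_le p F).trans inf_le_left).trans hFR) ?_) hA.2.2.le
    exact ((zc_le p F).trans inf_le_right).trans (Subgroup.centralizer_le hAF)
  have hCAM : Subgroup.centralizer (A : Set G) ≤ M :=
    (Subgroup.centralizer_le hzA).trans (centralizer_zc_le hF.hs hM hpF)
  have hEZ : E ≤ A ⊓ Subgroup.centralizer (A : Set G) :=
    le_inf hEA (hEA.trans (scn_le_centralizer hA))
  have hP0 : ∀ Y : Subgroup G, Y ≤ M → IsPi (primesNotDvd (Nat.card F)) Y →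
      A ≤ Subgroup.normalizer (Y : Set G) → Y = ⊥ := fun Y h1 h2 h3 =>
    inv_eq_bot_of_centralizer_le hsolM hAF ((inf_le_inf_right _ hFR).trans hA.2.2.le) h1 h2 h3
  refine criterion hF.hs hF.hna hF.hsol hF.hodd (hF.zl p) (hF.rankTwo p) (hF.scnTrans p)
    (hF.scn p) hM (hAR.trans hRM) hAp hA1 fun Y hY hAY => ?_
  rw [no_invariant hF.hs hF.hna hF.hsol hM hAF hTH hπ hE hE3 hEZ hCAM hP0 (hπF.symm ▸ hY) hAY]
  exact bot_le

/-! ### S1400 -/

theorem unique_of_rank_three (hF : Facts G) [hp : Fact p.Prime] {A B : Subgroup G}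
    (hAc : IsMulCommutative A) (hA3 : ¬ PRankLE p 2 A)
    (hAU : InUniqueMaximal A) (hBp : IsPGroup p B) (hBnc : ¬ IsCyclic B)
    (hB3 : ¬ PRankLE p 2 (Subgroup.centralizer (B : Set G))) : InUniqueMaximal B := by
  obtain ⟨E, hEA, hE, hE3⟩ := exists_elem_of_not_pRankLE hA3
  obtain ⟨D, hDB, hD, hD3⟩ := exists_elem_of_not_pRankLE hB3
  have hp2 : p ≠ 2 := ne_two_of_pow_le hF.hodd (by omega) hE hE3
  have h23 : p ^ 2 ≤ p ^ (2 + 1) := Nat.pow_le_pow_right hp.out.pos (by omega)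
  have hEU : InUniqueMaximal E := unique_of_centralizes hF hAU
    (hEA.trans (Subgroup.le_centralizer_iff_isMulCommutative.2 hAc))
    (not_rankLE_of_le (k := 1) le_rfl hE (h23.trans hE3))
  obtain ⟨P, hP⟩ := ((Signalizer.isPGroup_of_elemAb hD).to_sup_of_normal_right' hBp
    (hDB.trans (Subgroup.centralizer_le_normalizer _))).exists_le_sylow
  obtain ⟨PE, hPE⟩ := (Signalizer.isPGroup_of_elemAb hE).exists_le_sylow
  obtain ⟨g, hg⟩ := MulAction.exists_smul_eq G PE P
  set E' := MulAut.conj g • E with hE'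
  have hE'P : E' ≤ P := by
    rw [← hg]
    exact Subgroup.pointwise_smul_le_pointwise_smul_iff.2 hPE
  have hE'e : IsElementaryAbelian p E' := elem_map (MulAut.conj g).toMonoidHom hE
  have hE'3 : p ^ 3 ≤ Nat.card E' := by rw [hE', Coprime.card_conj]; exact hE3
  have hE'U : InUniqueMaximal E' := unique_conj hEU g
  obtain ⟨U', hU'n, hU'e, hU'c⟩ := PNormal.exists_normal_card_sq P.2 (W := E'.subgroupOf P)
    (elem_subgroupOf hE'e) (by rw [Cores.card_subgroupOf hE'P]; exact hE'3)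
  set U := U'.map (P : Subgroup G).subtype with hU
  have hUe : IsElementaryAbelian p U := elem_map _ hU'e
  have hUP : U ≤ P := Subgroup.map_subtype_le _
  have hUc : Nat.card U = p ^ 2 := by rw [hU, Cores.card_map_subtype, hU'c]
  have hUn : (P : Subgroup G) ≤ Subgroup.normalizer (U : Set G) :=
    have := hU'n
    le_normalizer_map_subtype _ U'
  have hsq := fun {X : Subgroup G} (hXP : X ≤ P) (hX3 : p ^ 3 ≤ Nat.card X) =>
    sq_le_inf_centralizer P.2 hUP hUn hUe hUc hXP hX3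
  -- `E' ∩ C(U)`, then `U`
  have h1 : InUniqueMaximal (E' ⊓ Subgroup.centralizer (U : Set G)) :=
    unique_of_centralizes hF hE'U
      (inf_le_left.trans (Subgroup.le_centralizer_iff_isMulCommutative.2 hE'e.1))
      (not_rankLE_of_le (k := 1) le_rfl (elem_mono hE'e inf_le_left) (hsq hE'P hE'3))
  have h2 : InUniqueMaximal U := unique_of_centralizes hF h1
    (Subgroup.le_centralizer_iff.1 inf_le_right)
    (not_rankLE_of_le (k := 1) le_rfl hUe hUc.ge)
  -- `D ∩ C(U)`, then `D`, then `B`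
  have hDP : D ≤ P := le_sup_left.trans hP
  have h3 : InUniqueMaximal (D ⊓ Subgroup.centralizer (U : Set G)) :=
    unique_of_centralizes hF h2 inf_le_right
      (not_rankLE_of_le (k := 1) le_rfl (elem_mono hD inf_le_left) (hsq hDP hD3))
  have h4 : InUniqueMaximal D := unique_of_centralizes hF h3
    ((Subgroup.le_centralizer_iff_isMulCommutative.2 hD.1).trans
      (Subgroup.centralizer_le inf_le_left))
    (not_rankLE_of_le (k := 1) le_rfl hD (h23.trans hD3))
  obtain ⟨B₂, hB₂, hB₂e, hB₂c⟩ := exists_elem_sq_of_not_isCyclic hp2 hBp hBnc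
  exact unique_of_centralizes hF h4 (Subgroup.le_centralizer_iff.1 hDB)
    (not_rankLE_of_le (k := 1) hB₂ hB₂e hB₂c)

/-! ### S1401 -/

theorem unique_of_fitting_rank_three (hF : Facts G) [hp : Fact p.Prime] {M : Subgroup G}
    (hM : IsCoatom M) (hFr : ¬ PRankLE p 2 (fittingOf M)) {A : Subgroup G} (hAp : IsPGroup p A)
    (hAc : IsMulCommutative A) (hA3 : ¬ PRankLE p 2 A) : InUniqueMaximal A := by
  obtain ⟨E, hEF, hE, hE3⟩ := exists_elem_of_not_pRankLE hFr
  have h23 : p ^ 2 ≤ p ^ (2 + 1) := Nat.pow_le_pow_right hp.out.pos (by omega)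
  obtain ⟨E₁, hE₁A, hE₁, hE₁3⟩ := exists_elem_of_not_pRankLE hA3
  suffices h : ∃ A' : Subgroup G, IsMulCommutative A' ∧ ¬ PRankLE p 2 A' ∧ InUniqueMaximal A' by
    obtain ⟨A', hA'c, hA'3, hA'U⟩ := h
    exact unique_of_rank_three hF hA'c hA'3 hA'U hAp
      (not_isCyclic_of_sq_le hE₁A hE₁ (h23.trans hE₁3))
      (not_pRankLE_of_le (hE₁A.trans (Subgroup.le_centralizer_iff_isMulCommutative.2 hAc))
        hE₁ hE₁3)
  by_cases hFp : IsPGroup p (fittingOf M)
  · obtain ⟨P⟩ := (inferInstance : Nonempty (Sylow p M))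
    have hFR : fittingOf M ≤ (P : Subgroup M).map M.subtype :=
      (le_pCoreOf_of_le_fittingOf le_rfl hFp).trans
        (Subgroup.map_mono (Cores.pCore_le_sylow P))
    obtain ⟨A', hA', hA'3⟩ := hF.scn p _ (P.2.map M.subtype)
      (not_pRankLE_of_le (hEF.trans hFR) hE hE3)
    exact ⟨A', scn_isMulCommutative hA', hA'3,
      ((fitting_uniqueness_b hF hM hFp P).2 A' hA' hA'3).2⟩
  · have hEC : E ≤ Subgroup.centralizer
        ((fittingOf M ⊓ Subgroup.centralizer (E : Set G) : Subgroup G) : Set G) :=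
      Subgroup.le_centralizer_iff.1 inf_le_right
    exact ⟨E, hE.1, not_pRankLE_of_le le_rfl hE hE3,
      unique_of_centralizes hF (fitting_uniqueness_a hF hM hEF hE hE3 hFp) hEC
        (not_rankLE_of_le (k := 1) le_rfl hE (h23.trans hE3))⟩

/-! ### S1402 -/

theorem unique_of_scn_three (hF : Facts G) [hp : Fact p.Prime] (hSig : SignalizerFact p G)
    (P : Sylow p G) {A : Subgroup G} (hA : IsSCN (P : Subgroup G) A) (hA3 : ¬ PRankLE p 2 A) :
    InUniqueMaximal A := by
  have hAp : IsPGroup p A := P.2.to_le hA.1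
  have hAc := scn_isMulCommutative hA
  have hTH := hF.scnTrans p P A hA (not_pRankLE_mono one_le_two hA3)
  have hπA := primesNotDvd_card_of_isPGroup hAp hTH.1
  obtain ⟨E, hEA, hE, hE3⟩ := exists_elem_of_not_pRankLE hA3
  have hCtop : ∀ a ∈ E, a ≠ 1 → Subgroup.centralizer ({a} : Set G) ≠ ⊤ := fun a _ ha1 =>
    centralizer_ne_top hF.hs hF.hna (Set.mem_singleton a) ha1
  have hAC : ∀ a ∈ E, A ≤ Subgroup.centralizer ({a} : Set G) := fun a ha x hx =>
    Subgroup.mem_centralizer_singleton_iff.2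
      (Signalizer.commute_of_isMulCommutative hAc hx (hEA ha))
  have hθ : ∀ a : G, centralizerPPrimeCore p a =
      piCoreOf (primesNotDvd p) (Subgroup.centralizer ({a} : Set G)) := fun a =>
    (piCoreOf_primesNotDvd_prime p _).symm
  set W := ⨆ a : {a : G // a ∈ E ∧ a ≠ 1}, centralizerPPrimeCore p (a : G) with hW
  have hWp : ¬ p ∣ Nat.card W := hSig E hE hE3 fun a ha ha1 => hF.hsol _ (hCtop a ha ha1)
  have hAW : A ≤ Subgroup.normalizer (W : Set G) := by
    refine Signalizer.le_normalizer_iSup fun a => ?_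
    rw [hθ]
    exact (hAC a a.2.1).trans (le_normalizer_piCoreOf _ _)
  have hY : ∀ Y : Subgroup G, IsPi (primesNotDvd p) Y → A ≤ Subgroup.normalizer (Y : Set G) →
      Y ≤ W := by
    intro Y hY hAY
    refine Signalizer.le_of_elements hE
      ((Nat.pow_le_pow_right hp.out.pos (by omega)).trans hE3) W Y
      (fun hd => (hY p hp.out hd).2 dvd_rfl) (hEA.trans hAY) fun a ha ha1 => ?_
    refine le_trans ?_ (le_iSup (fun a : {a : G // a ∈ E ∧ a ≠ 1} =>
      centralizerPPrimeCore p (a : G)) ⟨a, ha, ha1⟩)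
    show _ ≤ centralizerPPrimeCore p a
    rw [hθ, ← hπA, ← hTH.2.2 _ (hCtop a ha ha1) (hAC a ha)]
    refine le_sSup ⟨inf_le_right, fun q hq hd =>
      hπA.symm ▸ hY q hq (hd.trans (Subgroup.card_dvd_of_le inf_le_left)), ?_⟩
    exact Signalizer.le_normalizer_inf hAY ((hAC a ha).trans Subgroup.le_normalizer)
  obtain ⟨M, hM, hAM, hWM⟩ : ∃ M : Subgroup G, IsCoatom M ∧ A ≤ M ∧ W ≤ M := by
    by_cases hW1 : W = ⊥
    · obtain ⟨M, hM, hAM⟩ := exists_coatom_ge hTH.2.1
      exact ⟨M, hM, hAM, hW1 ▸ bot_le⟩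
    · have hWtop : W ≠ ⊤ := fun h => hWp (h ▸ (dvd_card_of_le hTH.1 hAp le_top))
      obtain ⟨M, hM, hNM⟩ := exists_coatom_ge (normalizer_ne_top hF.hs hW1 hWtop)
      exact ⟨M, hM, hAW.trans hNM, Subgroup.le_normalizer.trans hNM⟩
  exact criterion hF.hs hF.hna hF.hsol hF.hodd (hF.zl p) (hF.rankTwo p) (hF.scnTrans p)
    (hF.scn p) hM hAM hAp hTH.1 fun Y hY' hAY => (hY Y hY' hAY).trans hWM

/-! ### S1403 -/

theorem uniqueness (hF : Facts G) (hSig : ∀ (p : ℕ) [Fact p.Prime], SignalizerFact p G)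
    {K : Subgroup G} (hK : K ≠ ⊤) (hK2 : ¬ RankLE 1 K)
    (hK3 : ¬ RankLE 2 K ∨ ¬ RankLE 2 (Subgroup.centralizer (K : Set G))) : InUniqueMaximal K := by
  have key : ∀ X : Subgroup G, ¬ RankLE 2 X → ∃ E : Subgroup G, E ≤ X ∧ InUniqueMaximal E := by
    intro X hX
    obtain ⟨q, E, hq, hE, hEX, hE3⟩ := exists_elementary_of_not_rankLE hX
    have : Fact q.Prime := ⟨hq⟩
    obtain ⟨P, hP⟩ := (Signalizer.isPGroup_of_elemAb hE).exists_le_sylow
    obtain ⟨A, hA, hA3⟩ := hF.scn q P P.2 (not_pRankLE_of_le hP hE hE3)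
    refine ⟨E, hEX, unique_of_rank_three hF (scn_isMulCommutative hA) hA3
      (unique_of_scn_three hF (hSig q) P hA hA3) (Signalizer.isPGroup_of_elemAb hE)
      (not_isCyclic_of_sq_le le_rfl hE ((Nat.pow_le_pow_right hq.pos (by omega)).trans hE3))
      (not_pRankLE_of_le (Subgroup.le_centralizer_iff_isMulCommutative.2 hE.1) hE hE3)⟩
  rcases hK3 with h | h
  · obtain ⟨E, hEK, hEU⟩ := key K h
    exact unique_mono hEU hEK hK
  · obtain ⟨E, hEC, hEU⟩ := key _ h
    exact unique_of_centralizes hF hEU (Subgroup.le_centralizer_iff.1 hEC) hK2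

/-! ### Bridges to the statements -/

/-- `ZLFact` from the factorisation stated with the centre of the Puig subgroup. -/
theorem zlFact_of (h : ∀ (X : Subgroup G) (S : Sylow p X), Group.IsSolvable X →
    pPrimeCore p X ⊔ Subgroup.normalizer ((((Subgroup.center ↥(puigSubgroup ↥(S : Subgroup X))).map
      (puigSubgroup ↥(S : Subgroup X)).subtype).map (S : Subgroup X).subtype : Subgroup X) : Set X)
      = ⊤) [Fact p.Prime] : ZLFact p G := by
  intro X S hX x hx
  have h1 := h X S hX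
  rw [Puig.map_center_map_eq] at h1
  have h2 := Subgroup.mem_map_of_mem X.subtype (h1.ge (Subgroup.mem_top ⟨x, hx⟩))
  rw [Subgroup.map_sup] at h2
  suffices h5 : (pPrimeCore p X).map X.subtype ⊔
      (Subgroup.normalizer (zl (S : Subgroup X) : Set X)).map X.subtype ≤
      piCoreOf (primesNotDvd p) X ⊔ (X ⊓ Subgroup.normalizer
        (zl ((S : Subgroup X).map X.subtype) : Set G)) from h5 h2
  refine sup_le ?_ ?_
  · rw [piCoreOf_primesNotDvd_prime]; exact le_sup_left
  · rw [← map_zl]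
    exact le_sup_of_le_right
      (le_inf (Subgroup.map_subtype_le _) (Subgroup.le_normalizer_map _))

/-- `SCNFact` from the existence of `SCN₃` above a normal `E_{p^2}`. -/
theorem scnFact_of [hp : Fact p.Prime]
    (h : ∀ R : Subgroup G, IsPGroup p R → ¬ PRankLE p 2 R → p ≠ 2 →
      ∀ E : Subgroup R, E.Normal → IsElementaryAbelian p E → Nat.card E = p ^ 2 →
        ∃ A : Subgroup R, A.Normal ∧ Subgroup.centralizer (A : Set R) = A ∧ ¬ PRankLE p 2 A)
    (hodd : Odd (Nat.card G)) : SCNFact p G := by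
  intro P hP hP3
  obtain ⟨E, hEP, hE, hE3⟩ := exists_elem_of_not_pRankLE hP3
  obtain ⟨U, hUn, hUe, hUc⟩ := PNormal.exists_normal_card_sq hP (W := E.subgroupOf P)
    (elem_subgroupOf hE) (by rw [Cores.card_subgroupOf hEP]; exact hE3)
  obtain ⟨A, hAn, hAC, hA3⟩ := h P hP hP3 (ne_two_of_pow_le hodd (by omega) hE hE3) U hUn hUe hUc
  refine ⟨A.map P.subtype, ⟨Subgroup.map_subtype_le _, ?_, ?_⟩, fun hcon => hA3 ?_⟩
  · have := hAn
    exact le_normalizer_map_subtype P A
  · ext x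
    constructor
    · rintro ⟨hxP, hxC⟩
      refine ⟨⟨x, hxP⟩, hAC.le (Subgroup.mem_centralizer_iff.2 fun a ha => Subtype.ext ?_), rfl⟩
      exact Subgroup.mem_centralizer_iff.1 hxC (a : G) ⟨a, ha, rfl⟩
    · rintro ⟨a, ha, rfl⟩
      refine ⟨a.2, Subgroup.mem_centralizer_iff.2 ?_⟩
      rintro _ ⟨b, hb, rfl⟩
      exact congrArg Subtype.val (Subgroup.mem_centralizer_iff.1 (hAC.ge ha) b hb)
  · refine fun W hW hW' => ?_
    have h := card_le_of_pRankLE hcon (E := (W.map A.subtype).map P.subtype)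
      (Subgroup.map_mono (Subgroup.map_subtype_le W))
      (elem_map _ (elem_map _ ⟨hW, hW'⟩))
    rwa [Cores.card_map_subtype, Cores.card_map_subtype] at h

end Cfsg.Agent.OddUniq
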